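import Cfsg.Prelude.Def_OddOrderLocal
import Mathlib.GroupTheory.PGroup

/-! Puig series basics and maximal abelian normal subgroups of p-groups. -/

set_option autoImplicit false

namespace Cfsg.Agent.OddLocal

open scoped commutatorElement

variable {G : Type*} [Group G]

theorem puigStep_antitone {X Y : Subgroup G} (h : X ≤ Y) : puigStep Y ≤ puigStep X :=
  sSup_le_sSup fun _ hA => ⟨hA.1, h.trans hA.2⟩

theorem puigSeq_one : puigSeq G 1 = ⊤ := by
  rw [eq_top_iff]
  intro g _
  have h : Subgroup.zpowers g ≤ puigStep (⊥ : Subgroup G) :=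
    le_sSup ⟨inferInstance, bot_le⟩
  exact h (Subgroup.mem_zpowers g)

theorem puigSeq_succ (n : ℕ) : puigSeq G (n + 1) = puigStep (puigSeq G n) := rfl

theorem puigSeq_parity (n : ℕ) :
    puigSeq G (2 * n) ≤ puigSeq G (2 * n + 2) ∧ puigSeq G (2 * n + 3) ≤ puigSeq G (2 * n + 1) ∧
      puigSeq G (2 * n) ≤ puigSeq G (2 * n + 1) := by
  induction n with
  | zero => exact ⟨bot_le, le_top.trans_eq puigSeq_one.symm, bot_le⟩
  | succ n ih =>
    obtain ⟨h1, h2, h3⟩ := ih
    have a : puigSeq G (2 * n + 2) ≤ puigSeq G (2 * n + 4) := puigStep_antitone h2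
    refine ⟨a, puigStep_antitone a, ?_⟩
    have b : puigSeq G (2 * n + 2) ≤ puigSeq G (2 * n + 1) := puigStep_antitone h3
    exact puigStep_antitone b

theorem puigSeq_even_mono : Monotone fun n => puigSeq G (2 * n) :=
  monotone_nat_of_le_succ fun n => (puigSeq_parity n).1

theorem puigSeq_odd_anti : Antitone fun n => puigSeq G (2 * n + 1) :=
  antitone_nat_of_succ_le fun n => (puigSeq_parity n).2.1

theorem puigSeq_even_le_odd (n m : ℕ) : puigSeq G (2 * n) ≤ puigSeq G (2 * m + 1) :=
  ((puigSeq_even_mono (le_max_left n m)).trans (puigSeq_parity _).2.2).trans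
    (puigSeq_odd_anti (le_max_right n m))

theorem puigLower_le_puigSubgroup : puigLower G ≤ puigSubgroup G :=
  iSup_le fun n => le_iInf fun m => puigSeq_even_le_odd n m

theorem puig_stationary [Finite G] : ∃ k : ℕ, ∀ n : ℕ, k ≤ n →
    puigSeq G (2 * n) = puigLower G ∧ puigSeq G (2 * n + 1) = puigSubgroup G := by
  obtain ⟨k, hk⟩ := WellFoundedGT.monotone_chain_condition (⟨_, puigSeq_even_mono⟩ : ℕ →o Subgroup G)
  have hk' : ∀ n, k ≤ n → puigSeq G (2 * k) = puigSeq G (2 * n) := hk
  refine ⟨k, fun n hn => ?_⟩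
  have hev : puigSeq G (2 * n) = puigLower G := by
    refine le_antisymm (le_iSup (fun i => puigSeq G (2 * i)) n) (iSup_le fun i => ?_)
    rw [← hk' n hn, hk' (max k i) (le_max_left _ _)]
    exact puigSeq_even_mono (le_max_right _ _)
  refine ⟨hev, le_antisymm (le_iInf fun i => ?_) (iInf_le (fun i => puigSeq G (2 * i + 1)) n)⟩
  have e : ∀ j, k ≤ j → puigSeq G (2 * j + 1) = puigStep (puigSeq G (2 * k)) := fun j hj => by
    rw [puigSeq_succ, hk' j hj]
  rw [e n hn, ← e (max k i) (le_max_left _ _)]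
  exact puigSeq_odd_anti (le_max_right _ _)

theorem puigStep_puigLower [Finite G] : puigStep (puigLower G) = puigSubgroup G := by
  obtain ⟨k, hk⟩ := puig_stationary (G := G)
  rw [← (hk k le_rfl).1, ← puigSeq_succ, (hk k le_rfl).2]

theorem puigStep_puigSubgroup [Finite G] : puigStep (puigSubgroup G) = puigLower G := by
  obtain ⟨k, hk⟩ := puig_stationary (G := G)
  rw [← (hk k le_rfl).2, ← puigSeq_succ, ← (hk (k + 1) (Nat.le_succ _)).1]
  congr 1

/-- A nontrivial normal subgroup of a finite p-group contains a nontrivial central element. -/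
theorem exists_mem_center_ne_one_of_normal [Finite G] {p : ℕ} [Fact p.Prime] (hG : IsPGroup p G)
    (N : Subgroup G) [N.Normal] (hN : N ≠ ⊥) : ∃ x ∈ N, x ∈ Subgroup.center G ∧ x ≠ 1 := by
  let _ : MulAction G N := MulAction.compHom N (MulAut.conjNormal (H := N))
  have hdvd : p ∣ Nat.card N := by
    rcases (hG.to_subgroup N).card_eq_or_dvd with h | h
    · exact absurd (Subgroup.eq_bot_of_card_eq N h) hN
    · exact h
  have h1 : (1 : N) ∈ MulAction.fixedPoints G N := fun g =>
    map_one (MulAut.conjNormal (H := N) g)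
  obtain ⟨b, hb, hb1⟩ := hG.exists_fixed_point_of_prime_dvd_card_of_fixed_point N hdvd h1
  refine ⟨b, b.2, Subgroup.mem_center_iff.mpr fun g => ?_, fun h => hb1 (Subtype.ext h.symm)⟩
  have h2 := congrArg Subtype.val (hb g)
  change ((MulAut.conjNormal g b : N) : G) = b at h2
  rw [MulAut.conjNormal_apply] at h2
  exact (mul_inv_eq_iff_eq_mul).mp h2

/-- A finite p-group has a normal abelian self-centralizing subgroup. -/
theorem exists_normal_abelian_selfCentralizing [Finite G] {p : ℕ} [Fact p.Prime] (hG : IsPGroup p G) :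
    ∃ A : Subgroup G, A.Normal ∧ IsMulCommutative A ∧ Subgroup.centralizer (A : Set G) = A := by
  obtain ⟨A, ⟨hAn, hAc⟩, hmax⟩ := (Set.toFinite {A : Subgroup G | A.Normal ∧ IsMulCommutative A}).exists_maximal
    ⟨⊥, inferInstance, inferInstance⟩
  refine ⟨A, hAn, hAc, le_antisymm ?_ (Subgroup.le_centralizer_iff_isMulCommutative.mpr hAc)⟩
  by_contra hC
  let C := Subgroup.centralizer (A : Set G)
  have hne : C.map (QuotientGroup.mk' A) ≠ ⊥ := by
    rw [Ne, Subgroup.map_eq_bot_iff, QuotientGroup.ker_mk']; exact hC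
  have : (C.map (QuotientGroup.mk' A)).Normal :=
    Subgroup.Normal.map inferInstance _ (QuotientGroup.mk'_surjective A)
  obtain ⟨y, hy, hyc, hy1⟩ := exists_mem_center_ne_one_of_normal (hG.to_quotient A) _ hne
  obtain ⟨x, hx, rfl⟩ := hy
  have hxA : x ∉ A := fun h => hy1 ((QuotientGroup.eq_one_iff x).mpr h)
  let B := A ⊔ Subgroup.zpowers x
  have hBC : B ≤ Subgroup.centralizer (B : Set G) := by
    refine sup_le ?_ (Subgroup.zpowers_le.mpr ?_)
    · rw [Subgroup.le_centralizer_iff]
      exact sup_le (Subgroup.le_centralizer_iff_isMulCommutative.mpr hAc) (Subgroup.zpowers_le.mpr hx)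
    · have : B ≤ Subgroup.centralizer ({x} : Set G) := by
        refine sup_le ?_ (Subgroup.zpowers_le.mpr (Subgroup.mem_centralizer_singleton_iff.mpr rfl))
        intro a ha
        exact Subgroup.mem_centralizer_singleton_iff.mpr (Subgroup.mem_centralizer_iff.mp hx a ha)
      rw [Subgroup.mem_centralizer_iff]
      exact fun b hb => Subgroup.mem_centralizer_singleton_iff.mp (this hb)
  have hBn : B.Normal := by
    refine ⟨fun b hb g => ?_⟩
    have h : ⁅g, b⁆ ∈ A := by
      rw [← QuotientGroup.eq_one_iff, ← QuotientGroup.mk'_apply, map_commutatorElement,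
        commutatorElement_eq_one_iff_mul_comm]
      have : QuotientGroup.mk' A b ∈ Subgroup.center (G ⧸ A) := by
        have hle : B ≤ (Subgroup.center (G ⧸ A)).comap (QuotientGroup.mk' A) := by
          refine sup_le (fun a ha => ?_) (Subgroup.zpowers_le.mpr hyc)
          rw [Subgroup.mem_comap, QuotientGroup.mk'_apply, (QuotientGroup.eq_one_iff a).mpr ha]
          exact one_mem _
        exact hle hb
      exact Subgroup.mem_center_iff.mp this _
    have e : g * b * g⁻¹ = ⁅g, b⁆ * b := by rw [commutatorElement_def, inv_mul_cancel_right]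
    rw [e]
    exact B.mul_mem (Subgroup.mem_sup_left h) hb
  exact hxA (hmax ⟨hBn, Subgroup.le_centralizer_iff_isMulCommutative.mp hBC⟩ le_sup_left
    (Subgroup.mem_sup_right (Subgroup.mem_zpowers x)))

theorem le_puigStep_of_normal_abelian {A : Subgroup G} [A.Normal] (hA : IsMulCommutative A) (X : Subgroup G) :
    A ≤ puigStep X :=
  le_sSup ⟨hA, by rw [Subgroup.normalizer_eq_top]; exact le_top⟩

end Cfsg.Agent.OddLocal
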