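import Mathlib.GroupTheory.Sylow
import Mathlib.GroupTheory.Commutator.Basic
import Mathlib.GroupTheory.Subgroup.Centralizer
import Mathlib.Algebra.Group.Subgroup.Pointwise

/-! A `p`-subgroup acting by conjugation on subgroups of order prime to `p`: fixed elements,
invariant Sylow subgroups, fixed points of rank-two subgroups. -/

set_option autoImplicit false

namespace Cfsg.Agent.OddLocal

variable {G : Type*} [Group G] {p q : ℕ}

theorem mem_map_conj_iff {H : Subgroup G} {g x : G} :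
    x ∈ H.map (MulAut.conj g).toMonoidHom ↔ g⁻¹ * x * g ∈ H := by
  rw [Subgroup.mem_map_equiv, MulAut.conj_symm_apply]

/-- A `p`-group acting by conjugation on a finite set of size prime to `p` fixes one of its elements. -/
theorem exists_fixed_mem [Finite G] [Fact p.Prime] {A : Subgroup G} (hA : IsPGroup p A) (T : Set G)
    (hT : ∀ a ∈ A, ∀ t ∈ T, a * t * a⁻¹ ∈ T) (hcard : ¬ p ∣ Nat.card T) :
    ∃ t ∈ T, t ∈ Subgroup.centralizer (A : Set G) := by
  let _ : MulAction A T :=
    { smul := fun a t => ⟨a * t * (a : G)⁻¹, hT a a.2 t t.2⟩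
      one_smul := fun t => Subtype.ext (show (1 : G) * t * (1 : G)⁻¹ = t by simp)
      mul_smul := fun a b t => Subtype.ext (show ((a : G) * b) * t * ((a : G) * b)⁻¹
        = (a : G) * ((b : G) * t * (b : G)⁻¹) * (a : G)⁻¹ by group) }
  obtain ⟨t, ht⟩ := hA.nonempty_fixed_point_of_prime_not_dvd_card T hcard
  refine ⟨t, t.2, Subgroup.mem_centralizer_iff.mpr fun a ha => ?_⟩
  have h : a * (t : G) * a⁻¹ = t := congrArg Subtype.val (ht ⟨a, ha⟩)
  exact mul_inv_eq_iff_eq_mul.mp h

theorem not_dvd_card_of_le [Finite G] {H K : Subgroup G} (h : H ≤ K) (hK : ¬ p ∣ Nat.card K) :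
    ¬ p ∣ Nat.card H := fun hd => hK (hd.trans (Subgroup.card_dvd_of_le h))

/-- A fixed element of a coset `x D` of an invariant subgroup of order prime to `p`. -/
theorem exists_fixed_in_coset [Finite G] [Fact p.Prime] {A : Subgroup G} (hA : IsPGroup p A) {D : Subgroup G}
    (hAD : A ≤ Subgroup.normalizer (D : Set G)) (hD : ¬ p ∣ Nat.card D) {x : G}
    (hx : ∀ a ∈ A, x⁻¹ * (a * x * a⁻¹) ∈ D) :
    ∃ d ∈ D, x * d ∈ Subgroup.centralizer (A : Set G) := by
  obtain ⟨t, ⟨d, hd, rfl⟩, ht⟩ := exists_fixed_mem (p := p) hA ((fun d => x * d) '' (D : Set G))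
    (by
      rintro a ha _ ⟨d, hd, rfl⟩
      refine ⟨x⁻¹ * (a * x * a⁻¹) * (a * d * a⁻¹),
        D.mul_mem (hx a ha) ((Subgroup.mem_normalizer_iff.mp (hAD ha) d).mp hd), ?_⟩
      group)
    (by rwa [Nat.card_image_of_injective (mul_right_injective x)])
  exact ⟨d, hd, ht⟩

theorem normalizer_map_conj_of_commute [Finite G] {A S : Subgroup G} {c : G}
    (hc : c ∈ Subgroup.centralizer (A : Set G)) (h : A ≤ Subgroup.normalizer (S : Set G)) :
    A ≤ Subgroup.normalizer (S.map (MulAut.conj c).toMonoidHom : Set G) := by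
  intro a ha
  have e : c⁻¹ * a = a * c⁻¹ :=
    (show Commute a c⁻¹ from (show Commute a c from Subgroup.mem_centralizer_iff.mp hc a ha).inv_right).eq.symm
  have hca := Subgroup.mem_centralizer_iff.mp hc a ha
  rw [Subgroup.mem_normalizer_iff]
  intro n
  rw [mem_map_conj_iff, mem_map_conj_iff, Subgroup.mem_normalizer_iff.mp (h ha) (c⁻¹ * n * c)]
  have : c⁻¹ * (a * n * a⁻¹) * c = a * (c⁻¹ * n * c) * a⁻¹ :=
    calc c⁻¹ * (a * n * a⁻¹) * c = (c⁻¹ * a) * n * (a⁻¹ * c) := by group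
      _ = (a * c⁻¹) * n * (a⁻¹ * c) := by rw [e]
      _ = (a * c⁻¹) * n * (c * a⁻¹) := by
        have h' : a⁻¹ * c = c * a⁻¹ := (show Commute a c from hca).inv_left.eq
        rw [h']
      _ = a * (c⁻¹ * n * c) * a⁻¹ := by group
  rw [this]

/-- An invariant `q`-subgroup lies in an invariant Sylow `q`-subgroup. -/
theorem exists_invariant_sylow_ge [Finite G] [Fact p.Prime] [Fact q.Prime] {A : Subgroup G} (hA : IsPGroup p A)
    {K : Subgroup G} (hAK : A ≤ Subgroup.normalizer (K : Set G)) (hK : ¬ p ∣ Nat.card K)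
    {Y : Subgroup G} (hYK : Y ≤ K) (hY : IsPGroup q Y) (hAY : A ≤ Subgroup.normalizer (Y : Set G)) :
    ∃ S : Subgroup G, Y ≤ S ∧ S ≤ K ∧ IsPGroup q S ∧ A ≤ Subgroup.normalizer (S : Set G) ∧
      ¬ q ∣ S.relIndex K := by
  obtain ⟨S, hYS, hS⟩ := Finite.exists_le_maximal
    (p := fun S : Subgroup G => S ≤ K ∧ IsPGroup q S ∧ A ≤ Subgroup.normalizer (S : Set G)) ⟨hYK, hY, hAY⟩
  obtain ⟨hSK, hSq, hAS⟩ := hS.prop
  refine ⟨S, hYS, hSK, hSq, hAS, fun hdvd => ?_⟩
  let M := K ⊓ Subgroup.normalizer (S : Set G)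
  have hSM : S ≤ M := le_inf hSK Subgroup.le_normalizer
  have hAM : A ≤ Subgroup.normalizer (M : Set G) := by
    intro a ha
    rw [Subgroup.mem_normalizer_iff]
    intro n
    refine Subgroup.mem_inf.trans ((and_congr (Subgroup.mem_normalizer_iff.mp (hAK ha) n) ?_).trans Subgroup.mem_inf.symm)
    have han := hAS ha
    exact ⟨fun hn => mul_mem (mul_mem han hn) (inv_mem han),
      fun hn => (Subgroup.mul_mem_cancel_left _ han).mp ((Subgroup.mul_mem_cancel_right _ (inv_mem han)).mp hn)⟩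
  have hMcard : ¬ p ∣ Nat.card M := not_dvd_card_of_le inf_le_left hK
  let T : Set (Subgroup G) := {P | P ≤ M ∧ IsPGroup q P ∧ ¬ q ∣ P.relIndex M}
  have hinv : ∀ a : A, ∀ P ∈ T, P.map (MulAut.conj (a : G)).toMonoidHom ∈ T := by
    rintro a P ⟨h1, h2, h3⟩
    have hMmap : M.map (MulAut.conj (a : G)).toMonoidHom = M :=
      Subgroup.mem_normalizer_iff_map_conj_eq.mp (hAM a.2)
    refine ⟨hMmap ▸ Subgroup.map_mono h1, h2.map _, ?_⟩
    rwa [← hMmap, Subgroup.relIndex_map_map_of_injective _ _ (MulAut.conj (a : G)).injective]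
  let _ : MulAction A T :=
    { smul := fun a P => ⟨P.1.map (MulAut.conj (a : G)).toMonoidHom, hinv a P P.2⟩
      one_smul := fun P => Subtype.ext (show P.1.map (MulAut.conj ((1 : A) : G)).toMonoidHom = P.1 by
        ext x; rw [mem_map_conj_iff]; simp)
      mul_smul := fun a b P => Subtype.ext (show P.1.map (MulAut.conj ((a * b : A) : G)).toMonoidHom =
          (P.1.map (MulAut.conj (b : G)).toMonoidHom).map (MulAut.conj (a : G)).toMonoidHom by
        ext x
        simp only [mem_map_conj_iff, Subgroup.coe_mul, mul_inv_rev, mul_assoc]) }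
  have hTe : Nat.card T = Nat.card (Sylow q M) := by
    refine Nat.card_congr (Equiv.ofBijective (fun P : T => ?_) ⟨?_, ?_⟩)
    · exact IsPGroup.toSylow (P.2.2.1.comap_subtype (K := M)) (by rw [Subgroup.comap_subtype]; exact P.2.2.2)
    · rintro ⟨P, hP⟩ ⟨P', hP'⟩ h
      have h2 := congrArg (fun S : Sylow q M => (S : Subgroup M).map M.subtype) h
      change (P.comap M.subtype).map M.subtype = (P'.comap M.subtype).map M.subtype at h2
      rw [Subgroup.map_comap_eq, Subgroup.map_comap_eq, Subgroup.range_subtype, inf_of_le_right hP.1,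
        inf_of_le_right hP'.1] at h2
      exact Subtype.ext h2
    · intro S'
      refine ⟨⟨(S' : Subgroup M).map M.subtype, Subgroup.map_subtype_le _, S'.2.map _, ?_⟩, ?_⟩
      · rw [Subgroup.relIndex, ← Subgroup.comap_subtype,
          Subgroup.comap_map_eq_self_of_injective M.subtype_injective]
        exact S'.not_dvd_index
      · refine Sylow.ext ?_
        exact Subgroup.comap_map_eq_self_of_injective M.subtype_injective _
  have hTc : ¬ p ∣ Nat.card T := by
    rw [hTe]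
    exact fun h => hMcard (h.trans ((default : Sylow q M).card_dvd_index.trans (Subgroup.index_dvd_card _)))
  obtain ⟨⟨P, hPM, hPq, hPi⟩, hfix⟩ := hA.nonempty_fixed_point_of_prime_not_dvd_card T hTc
  have hAP : A ≤ Subgroup.normalizer (P : Set G) := fun a ha =>
    Subgroup.mem_normalizer_iff_map_conj_eq.mpr (congrArg Subtype.val (hfix ⟨a, ha⟩))
  have hSN : S ≤ Subgroup.normalizer (S : Set G) := Subgroup.le_normalizer
  have hPN : P ≤ Subgroup.normalizer (S : Set G) := hPM.trans inf_le_right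
  have hSP : S ≤ P := by
    have h1 : IsPGroup q ↥(P ⊔ S) := hPq.to_sup_of_normal_right' hSq hPN
    have h2 : P.relIndex (P ⊔ S) ∣ P.relIndex M :=
      Dvd.intro _ (Subgroup.relIndex_mul_relIndex _ _ _ le_sup_left (sup_le hPM hSM))
    obtain ⟨n, hn⟩ := h1.index (P.subgroupOf (P ⊔ S))
    have h3 : P.relIndex (P ⊔ S) = 1 := by
      rcases Nat.eq_zero_or_pos n with hn0 | hn0
      · rw [Subgroup.relIndex, hn, hn0, pow_zero]
      · exact absurd ((dvd_pow_self q hn0.ne').trans (hn ▸ h2)) hPi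
    exact le_sup_right.trans (Subgroup.relIndex_eq_one.mp h3)
  have hPS : P = S := (hS.eq_of_le ⟨hPM.trans inf_le_left, hPq, hAP⟩ hSP).symm
  subst hPS
  obtain ⟨n, hn⟩ := IsPGroup.iff_card.mp hSq
  have hmod := Sylow.prime_dvd_card_quotient_normalizer (G := K) (p := q) (n := n) (H := P.subgroupOf K)
  have hc : q ^ (n + 1) ∣ Nat.card K := by
    rw [← Subgroup.card_mul_index (P.subgroupOf K), pow_succ,
      Nat.card_congr (Subgroup.subgroupOfEquivOfLe hSK).toEquiv, hn]
    exact mul_dvd_mul_left _ hdvd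
  have h5 := hmod hc (by rw [Nat.card_congr (Subgroup.subgroupOfEquivOfLe hSK).toEquiv, hn])
  apply hPi
  have e : Nat.card (Subgroup.normalizer (P.subgroupOf K : Set K)) = Nat.card M := by
    rw [← Subgroup.card_map_of_injective (K := Subgroup.normalizer (P.subgroupOf K : Set K)) K.subtype_injective]
    congr 2
    ext x
    constructor
    · rintro ⟨y, hy, rfl⟩
      refine ⟨y.2, Subgroup.mem_normalizer_iff.mpr fun m => ?_⟩
      constructor
      · intro hm
        exact (Subgroup.mem_normalizer_iff.mp hy ⟨m, hSK hm⟩).mp hm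
      · intro hm
        have hmK : m ∈ K := by
          have : (y : G)⁻¹ * ((y : G) * m * (y : G)⁻¹) * y ∈ K :=
            K.mul_mem (K.mul_mem (K.inv_mem y.2) (hSK hm)) y.2
          simpa [mul_assoc] using this
        exact (Subgroup.mem_normalizer_iff.mp hy ⟨m, hmK⟩).mpr hm
    · rintro ⟨hxK, hxN⟩
      exact ⟨⟨x, hxK⟩, Subgroup.mem_normalizer_iff.mpr fun m => Subgroup.mem_normalizer_iff.mp hxN m, rfl⟩
  have h6 : P.relIndex M * Nat.card P = Nat.card M := by
    rw [← Nat.card_congr (Subgroup.subgroupOfEquivOfLe hSM).toEquiv, Subgroup.relIndex, mul_comm,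
      Subgroup.card_mul_index]
  rw [Subgroup.card_eq_card_quotient_mul_card_subgroup
    ((P.subgroupOf K).subgroupOf (Subgroup.normalizer (P.subgroupOf K : Set K))),
    Nat.card_congr (Subgroup.subgroupOfEquivOfLe Subgroup.le_normalizer).toEquiv,
    Nat.card_congr (Subgroup.subgroupOfEquivOfLe hSK).toEquiv, ← h6] at e
  rw [← Nat.eq_of_mul_eq_mul_right Nat.card_pos e]
  exact h5

/-- Invariant Sylow subgroups are conjugate by an element centralized by the acting group. -/
theorem exists_conj_invariant_sylow [Finite G] [Fact p.Prime] [Fact q.Prime] {A : Subgroup G} (hA : IsPGroup p A)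
    {K : Subgroup G} (hAK : A ≤ Subgroup.normalizer (K : Set G)) (hK : ¬ p ∣ Nat.card K)
    {S₁ S₂ : Subgroup G} (h1 : S₁ ≤ K) (h1q : IsPGroup q S₁) (h1i : ¬ q ∣ S₁.relIndex K)
    (h1A : A ≤ Subgroup.normalizer (S₁ : Set G)) (h2 : S₂ ≤ K) (h2q : IsPGroup q S₂)
    (h2i : ¬ q ∣ S₂.relIndex K) (h2A : A ≤ Subgroup.normalizer (S₂ : Set G)) :
    ∃ k ∈ K, k ∈ Subgroup.centralizer (A : Set G) ∧ S₂ = S₁.map (MulAut.conj k).toMonoidHom := by
  let P₁ : Sylow q K := IsPGroup.toSylow (h1q.comap_subtype (K := K)) h1i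
  let P₂ : Sylow q K := IsPGroup.toSylow (h2q.comap_subtype (K := K)) h2i
  obtain ⟨k₀, hk₀⟩ := MulAction.exists_smul_eq K P₁ P₂
  have hk : S₁.map (MulAut.conj (k₀ : G)).toMonoidHom = S₂ := by
    ext x
    rw [mem_map_conj_iff]
    constructor
    · intro hx
      have hxK : x ∈ K := by
        have : (k₀ : G) * ((k₀ : G)⁻¹ * x * k₀) * (k₀ : G)⁻¹ ∈ K :=
          K.mul_mem (K.mul_mem k₀.2 (h1 hx)) (K.inv_mem k₀.2)
        simpa [mul_assoc] using this
      have : (⟨x, hxK⟩ : K) ∈ (P₂ : Subgroup K) := by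
        rw [← hk₀, Sylow.coe_subgroup_smul, Subgroup.mem_pointwise_smul_iff_inv_smul_mem]
        change ((MulAut.conj k₀)⁻¹ • (⟨x, hxK⟩ : K) : K) ∈ S₁.subgroupOf K
        rw [Subgroup.mem_subgroupOf, MulAut.smul_def, MulAut.conj_inv_apply]
        exact hx
      exact this
    · intro hx
      have : (⟨x, h2 hx⟩ : K) ∈ (P₂ : Subgroup K) := hx
      rw [← hk₀, Sylow.coe_subgroup_smul, Subgroup.mem_pointwise_smul_iff_inv_smul_mem] at this
      change ((MulAut.conj k₀)⁻¹ • (⟨x, h2 hx⟩ : K) : K) ∈ S₁.subgroupOf K at this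
      rw [Subgroup.mem_subgroupOf, MulAut.smul_def, MulAut.conj_inv_apply] at this
      exact this
  let D := K ⊓ Subgroup.normalizer (S₁ : Set G)
  obtain ⟨t, ⟨d, hd, rfl⟩, ht⟩ := exists_fixed_mem (p := p) hA ((fun d => (k₀ : G) * d) '' (D : Set G))
    (by
      rintro a ha _ ⟨d, ⟨hdK, hdN⟩, rfl⟩
      refine ⟨(k₀ : G)⁻¹ * (a * ((k₀ : G) * d) * a⁻¹), ⟨?_, ?_⟩, ?_⟩
      · exact K.mul_mem (K.inv_mem k₀.2) ((Subgroup.mem_normalizer_iff.mp (hAK ha) _).mp (K.mul_mem k₀.2 hdK))
      · change _ ∈ Subgroup.normalizer (S₁ : Set G)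
        rw [Subgroup.mem_normalizer_iff]
        intro n
        have e1 : ∀ y, (y ∈ S₁ ↔ (k₀ : G) * y * (k₀ : G)⁻¹ ∈ S₂) := fun y => by
          rw [← hk, mem_map_conj_iff]; simp [mul_assoc]
        have e2 : (k₀ : G) * ((k₀ : G)⁻¹ * (a * ((k₀ : G) * d) * a⁻¹) * n *
            ((k₀ : G)⁻¹ * (a * ((k₀ : G) * d) * a⁻¹))⁻¹) * (k₀ : G)⁻¹ =
            a * ((k₀ : G) * (d * (a⁻¹ * n * a) * d⁻¹) * (k₀ : G)⁻¹) * a⁻¹ := by group
        rw [e1 ((k₀ : G)⁻¹ * _ * n * _), e2, ← Subgroup.mem_normalizer_iff.mp (h2A ha), ← e1,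
          ← Subgroup.mem_normalizer_iff.mp hdN, Subgroup.mem_normalizer_iff.mp (h1A ha) (a⁻¹ * n * a)]
        simp [mul_assoc]
      · group)
    (by
      rw [Nat.card_image_of_injective (mul_right_injective (k₀ : G))]
      exact not_dvd_card_of_le inf_le_left hK)
  refine ⟨(k₀ : G) * d, K.mul_mem k₀.2 hd.1, ht, ?_⟩
  rw [← hk]
  ext x
  rw [mem_map_conj_iff, mem_map_conj_iff, Subgroup.mem_normalizer_iff.mp (inv_mem hd.2) ((k₀ : G)⁻¹ * x * k₀)]
  simp [mul_assoc]

/-- If commuting elements `x, y` with `x^p = y^p = 1` normalize a nontrivial `q`-group, `q ≠ p`, then `y` or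
some `x * y ^ j` centralizes a nontrivial element of it. -/
theorem exists_centralized_of_rank_two [Finite G] [Fact p.Prime] [Fact q.Prime] (hqp : q ≠ p) {V : Subgroup G}
    (hV : IsPGroup q V) (hV1 : V ≠ ⊥) {x y : G} (hxy : Commute x y) (hx : x ^ p = 1) (hy : y ^ p = 1)
    (hxV : x ∈ Subgroup.normalizer (V : Set G)) (hyV : y ∈ Subgroup.normalizer (V : Set G)) :
    ∃ b : G, (b = y ∨ ∃ j < p, b = x * y ^ j) ∧ V ⊓ Subgroup.centralizer ({b} : Set G) ≠ ⊥ := by
  classical
  by_contra hcon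
  push Not at hcon
  let Z := V ⊓ Subgroup.centralizer (V : Set G)
  have hZ : Z ≠ ⊥ := by
    have : Nontrivial V := (Subgroup.nontrivial_iff_ne_bot V).mpr hV1
    intro h
    obtain ⟨c, hc, hc1⟩ := (Subgroup.bot_or_exists_ne_one (Subgroup.center ↥V)).resolve_left
      hV.bot_lt_center.ne'
    have : (c : G) ∈ Z := ⟨c.2, Subgroup.mem_centralizer_iff.mpr fun v hv =>
      congrArg Subtype.val (Subgroup.mem_center_iff.mp hc ⟨v, hv⟩)⟩
    rw [h, Subgroup.mem_bot] at this
    exact hc1 (Subtype.ext this)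
  have hnorm : ∀ g ∈ Subgroup.normalizer (V : Set G), ∀ z ∈ Z, g * z * g⁻¹ ∈ Z := by
    rintro g hg z ⟨hz1, hz2⟩
    refine ⟨(Subgroup.mem_normalizer_iff.mp hg z).mp hz1, ?_⟩
    change _ ∈ Subgroup.centralizer (V : Set G)
    rw [Subgroup.mem_centralizer_iff]
    intro v hv
    have h' : g⁻¹ * v * g ∈ V := (Subgroup.mem_normalizer_iff''.mp hg v).mp hv
    calc v * (g * z * g⁻¹) = g * ((g⁻¹ * v * g) * z) * g⁻¹ := by group
      _ = g * (z * (g⁻¹ * v * g)) * g⁻¹ := by rw [Subgroup.mem_centralizer_iff.mp hz2 _ h']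
      _ = g * z * g⁻¹ * v := by group
  have hZc : IsMulCommutative Z :=
    ⟨⟨fun a b => Subtype.ext (Subgroup.mem_centralizer_iff.mp b.2.2 a a.2.1)⟩⟩
  let _ : CommGroup Z := { (inferInstance : Group Z) with mul_comm := hZc.is_comm.comm }
  let φ : ∀ g : G, g ∈ Subgroup.normalizer (V : Set G) → Z → Z := fun g hg z =>
    ⟨g * z * g⁻¹, hnorm g hg z z.2⟩
  -- the product over a cyclic group of a conjugation orbit is fixed, hence trivial
  have key : ∀ b : G, b ^ p = 1 → (b = y ∨ ∃ j < p, b = x * y ^ j) →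
      ∀ (hb : b ∈ Subgroup.normalizer (V : Set G)) (z : Z),
        ∏ i ∈ Finset.range p, φ (b ^ i) (pow_mem hb i) z = 1 := by
    intro b hbp hbcase hb z
    set P := ∏ i ∈ Finset.range p, φ (b ^ i) (pow_mem hb i) z
    let f : Z →* Z :=
      { toFun := φ b hb
        map_one' := Subtype.ext (by simp [φ])
        map_mul' := fun u v => Subtype.ext (by simp [φ, mul_assoc]) }
    have hf : f P = P := by
      have h1 : f P = ∏ i ∈ Finset.range p, φ (b ^ (i + 1)) (pow_mem hb _) z := by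
        rw [map_prod]
        refine Finset.prod_congr rfl fun i _ => Subtype.ext ?_
        simp [f, φ, pow_succ', mul_assoc]
      have h2 := Finset.prod_range_succ' (fun i => φ (b ^ i) (pow_mem hb i) z) p
      have h3 := Finset.prod_range_succ (fun i => φ (b ^ i) (pow_mem hb i) z) p
      have h4 : φ (b ^ p) (pow_mem hb p) z = φ (b ^ 0) (pow_mem hb 0) z := Subtype.ext (by simp [φ, hbp])
      rw [h3, h4] at h2
      rw [h1]
      exact (mul_right_cancel h2).symm
    have : (P : G) ∈ V ⊓ Subgroup.centralizer ({b} : Set G) := by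
      refine ⟨P.2.1, ?_⟩
      change _ ∈ Subgroup.centralizer ({b} : Set G)
      rw [Subgroup.mem_centralizer_singleton_iff]
      have hf' : b * (P : G) * b⁻¹ = P := congrArg Subtype.val hf
      exact (mul_inv_eq_iff_eq_mul.mp hf').symm
    rw [hcon b hbcase, Subgroup.mem_bot] at this
    exact Subtype.ext this
  obtain ⟨z, hzZ, hz1⟩ := (Subgroup.bot_or_exists_ne_one Z).resolve_left hZ
  have hp : p.Prime := Fact.out
  let w : Z := ⟨z, hzZ⟩
  let xy : ∀ _ : ℕ, G := fun j => x * y ^ j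
  have hxyV : ∀ j, xy j ∈ Subgroup.normalizer (V : Set G) := fun j => mul_mem hxV (pow_mem hyV j)
  have hxyp : ∀ j, xy j ^ p = 1 := fun j => by
    rw [(hxy.pow_right j).mul_pow, hx, one_mul, ← pow_mul, mul_comm j, pow_mul, hy, one_pow]
  have hprod : ∏ i ∈ Finset.range p, ∏ j ∈ Finset.range p, φ (xy j ^ i) (pow_mem (hxyV j) i) w = 1 := by
    rw [Finset.prod_comm]
    exact Finset.prod_eq_one fun j hj => key _ (hxyp j) (Or.inr ⟨j, Finset.mem_range.mp hj, rfl⟩) (hxyV j) w
  rw [← Finset.prod_erase_mul _ _ (Finset.mem_range.mpr hp.pos)] at hprod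
  have h0 : ∏ j ∈ Finset.range p, φ (xy j ^ 0) (pow_mem (hxyV j) 0) w = w ^ p := by
    rw [Finset.prod_congr rfl (fun j _ => show φ (xy j ^ 0) (pow_mem (hxyV j) 0) w = w from
      Subtype.ext (by simp [φ])), Finset.prod_const, Finset.card_range]
  have hrest : ∏ i ∈ (Finset.range p).erase 0, ∏ j ∈ Finset.range p, φ (xy j ^ i) (pow_mem (hxyV j) i) w = 1 := by
    refine Finset.prod_eq_one fun i hi => ?_
    obtain ⟨hi0, hip⟩ := Finset.mem_erase.mp hi
    rw [Finset.mem_range] at hip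
    have hyi : (y ^ i) ^ p = 1 := by rw [← pow_mul, mul_comm, pow_mul, hy, one_pow]
    let fx : Z →* Z :=
      { toFun := φ (x ^ i) (pow_mem hxV i)
        map_one' := Subtype.ext (by simp [φ])
        map_mul' := fun u v => Subtype.ext (by simp [φ, mul_assoc]) }
    have : ∀ j, φ (xy j ^ i) (pow_mem (hxyV j) i) w = fx (φ ((y ^ i) ^ j) (pow_mem (pow_mem hyV i) j) w) := by
      intro j
      refine Subtype.ext ?_
      simp only [fx, φ, MonoidHom.coe_mk, OneHom.coe_mk, xy]
      rw [(hxy.pow_right j).mul_pow, ← pow_mul y j, mul_comm j i, pow_mul y i]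
      group
    rw [Finset.prod_congr rfl (fun j _ => this j), ← map_prod]
    have hsame : ∏ j ∈ Finset.range p, φ ((y ^ i) ^ j) (pow_mem (pow_mem hyV i) j) w =
        ∏ j ∈ Finset.range p, φ (y ^ j) (pow_mem hyV j) w := by
      have hmod : ∀ j, y ^ (j % p) = y ^ j := fun j => by
        conv_rhs => rw [← Nat.mod_add_div j p, pow_add, pow_mul, hy, one_pow, mul_one]
      have himg : (Finset.range p).image (fun j => i * j % p) = Finset.range p := by
        refine Finset.eq_of_subset_of_card_le ?_ ?_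
        · intro a ha
          obtain ⟨j, _, rfl⟩ := Finset.mem_image.mp ha
          exact Finset.mem_range.mpr (Nat.mod_lt _ hp.pos)
        · rw [Finset.card_image_of_injOn]
          intro a ha b hb hab
          have hcop : Nat.Coprime p i := hp.coprime_iff_not_dvd.mpr
            (fun h => absurd (Nat.le_of_dvd (Nat.pos_of_ne_zero hi0) h) (by omega))
          have h' : a ≡ b [MOD p] := Nat.ModEq.cancel_left_of_coprime hcop hab
          have ha' := Finset.mem_range.mp ha
          have hb' := Finset.mem_range.mp hb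
          rwa [Nat.ModEq, Nat.mod_eq_of_lt ha', Nat.mod_eq_of_lt hb'] at h'
      conv_rhs => rw [← himg]
      rw [Finset.prod_image]
      · refine Finset.prod_congr rfl fun j _ => Subtype.ext ?_
        simp only [φ]
        rw [hmod, pow_mul]
      · intro a ha b hb hab
        exact Finset.injOn_of_card_image_eq (by rw [himg]) ha hb hab
    rw [hsame, key y hy (Or.inl rfl) hyV w, map_one]
  rw [hrest, one_mul, h0] at hprod
  have hwp : z ^ p = 1 := congrArg Subtype.val hprod
  obtain ⟨k, hk⟩ := IsPGroup.iff_orderOf.mp hV ⟨z, hzZ.1⟩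
  rw [Subgroup.orderOf_mk] at hk
  have hdvd : q ^ k ∣ p := hk ▸ orderOf_dvd_of_pow_eq_one hwp
  rcases Nat.eq_zero_or_pos k with hk0 | hk0
  · rw [hk0, pow_zero, orderOf_eq_one_iff] at hk
    exact hz1 hk
  · exact hqp ((Nat.prime_dvd_prime_iff_eq Fact.out hp).mp ((dvd_pow_self q hk0.ne').trans hdvd))

end Cfsg.Agent.OddLocal
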