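import Cfsg.Agent.Lib.OddLocal.FixPointB
import Cfsg.Agent.Lib.Basics.CoprimeAction
import Cfsg.Prelude.Def_Transfer

/-! BG 3.4 for subgroups of a finite group. -/

set_option autoImplicit false
set_option maxHeartbeats 800000

namespace Cfsg.Agent.OddLocal

open scoped commutatorElement IsMulCommutative

variable {G : Type*} [Group G] [Finite G]

/-- Coercion of additive endomorphisms to `ZMod p`-linear ones. -/
def zmodEnd {N W : Type*} [Group N] [AddCommGroup W] (p : ℕ) [Module (ZMod p) W] (f : N →* AddMonoid.End W) :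
    N →* Module.End (ZMod p) W where
  toFun g := AddMonoidHom.toZModLinearMap p (f g)
  map_one' := LinearMap.ext fun v => DFunLike.congr_fun (map_one f) v
  map_mul' g h := LinearMap.ext fun v => DFunLike.congr_fun (map_mul f g h) v

theorem act_commutator_eq_one {p q r : ℕ} [hp : Fact p.Prime] [hq : Fact q.Prime] [hr : Fact r.Prime]
    (hqp : q ≠ p) (hrp : r ≠ p) (hqr : q ≠ r) (hq2 : q ≠ 2) (hr2 : r ≠ 2)
    {N : Type*} [Group N] [Finite N] {W : Type*} [AddCommGroup W] [Module (ZMod p) W] [Finite W]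
    (act : N →* Module.End (ZMod p) W) {Q : Subgroup N} (hQ : IsPGroup q Q) {t : N}
    (ht : t ∈ Subgroup.normalizer (Q : Set N)) (htr : t ^ r = 1) (hfix : ∀ w, act t w = w → w = 0) :
    ∀ a ∈ Q, act ⁅t, a⁆ = 1 := by
  classical
  have : Module.Finite (ZMod p) W := Module.Finite.of_finite
  set K := AlgebraicClosure (ZMod p)
  have : CharP K p := charP_of_injective_algebraMap (algebraMap (ZMod p) K).injective p
  let b := Module.Free.chooseBasis (ZMod p) W
  let Φ : Module.End (ZMod p) W →+* Module.End K (Module.Free.ChooseBasisIndex (ZMod p) W → K) :=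
    (Matrix.toLinAlgEquiv' (R := K)).toRingEquiv.toRingHom.comp
      ((algebraMap (ZMod p) K).mapMatrix.comp (LinearMap.toMatrixAlgEquiv b).toRingEquiv.toRingHom)
  have hΦ : Function.Injective Φ := by
    intro x y h
    have h1 := (Matrix.toLinAlgEquiv' (R := K)).injective h
    have h2 : Function.Injective (fun M : Matrix (Module.Free.ChooseBasisIndex (ZMod p) W) (Module.Free.ChooseBasisIndex (ZMod p) W) (ZMod p) => M.map (algebraMap (ZMod p) K)) :=
      Matrix.map_injective (algebraMap (ZMod p) K).injective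
    exact (LinearMap.toMatrixAlgEquiv b).injective (h2 h1)
  let ρ : N →* (Module.End K (Module.Free.ChooseBasisIndex (ZMod p) W → K))ˣ :=
    MonoidHom.toHomUnits (Φ.toMonoidHom.comp act)
  have hr0 : (r : K) ≠ 0 := fun e => hrp ((Nat.prime_dvd_prime_iff_eq hp.out hr.out).mp
    ((CharP.cast_eq_zero_iff K p r).mp e)).symm
  have hq0 : (q : K) ≠ 0 := fun e => hqp ((Nat.prime_dvd_prime_iff_eq hp.out hq.out).mp
    ((CharP.cast_eq_zero_iff K p q).mp e)).symm
  have hT : ρ t ∈ Subgroup.normalizer ((Q.map ρ : Subgroup _) : Set _) :=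
    Subgroup.le_normalizer_map ρ ⟨t, ht, rfl⟩
  have hfree : ∀ v : Module.Free.ChooseBasisIndex (ZMod p) W → K, (ρ t).val v = v → v = 0 := by
    have hsum : ∑ i ∈ Finset.range r, (act t) ^ i = 0 := by
      refine LinearMap.ext fun v => ?_
      have h1 : (act t - 1) * ∑ i ∈ Finset.range r, (act t) ^ i = 0 := by
        rw [mul_geom_sum, ← map_pow, htr, map_one, sub_self]
      have h2 : act t ((∑ i ∈ Finset.range r, (act t) ^ i) v) = (∑ i ∈ Finset.range r, (act t) ^ i) v := by
        have := LinearMap.congr_fun h1 v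
        simpa [sub_eq_zero] using this
      exact hfix _ h2
    intro v hv
    have h1 := congrArg (fun f => Φ f v) hsum
    have h2 : ∀ i : ℕ, ((ρ t).val ^ i) v = v := by
      intro i
      induction i with
      | zero => rfl
      | succ i ih => rw [pow_succ, Module.End.mul_apply, hv, ih]
    simp only [map_sum, map_pow, map_zero, LinearMap.sum_apply, LinearMap.zero_apply] at h1
    rw [Finset.sum_congr rfl fun i _ => show ((Φ (act t)) ^ i) v = v from h2 i, Finset.sum_const, Finset.card_range,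
      ← Nat.cast_smul_eq_nsmul K] at h1
    exact (smul_eq_zero.mp h1).resolve_left hr0
  intro a ha
  have : Finite (Q.map ρ) := Finite.of_surjective (fun x : Q => (⟨ρ x, ⟨x, x.2, rfl⟩⟩ : Q.map ρ))
    (fun ⟨_, x, hx, e⟩ => ⟨⟨x, hx⟩, Subtype.ext e⟩)
  have h := commute_of_fixedPointFree hqr hq2 hr2 hr0 hq0 _ _ rfl (ρ t) (Q.map ρ)
    (hQ.map ρ) hT (by rw [← map_pow, htr, map_one]) hfree (ρ a) ⟨a, ha, rfl⟩
  have h1 : ρ ⁅t, a⁆ = 1 := by
    rw [map_commutatorElement, commutatorElement_eq_one_iff_mul_comm]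
    exact h
  exact hΦ ((congrArg Units.val h1).trans (map_one Φ).symm)

/-- Conjugation on an elementary abelian subgroup. -/
def conjEnd (V : Subgroup G) [IsMulCommutative V] :
    Subgroup.normalizer (V : Set G) →* AddMonoid.End (Additive V) where
  toFun g := MonoidHom.toAdditive
    ({ toFun := fun v => ⟨g * v * (g : G)⁻¹, (Subgroup.mem_normalizer_iff.mp g.2 v).mp v.2⟩
       map_one' := Subtype.ext (by simp)
       map_mul' := fun a b => Subtype.ext (by simp [mul_assoc]) } : V →* V)
  map_one' := AddMonoidHom.ext fun v => Additive.toMul.injective (Subtype.ext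
    (show (1 : G) * ((Additive.toMul v : V) : G) * (1 : G)⁻¹ = ((Additive.toMul v : V) : G) by simp))
  map_mul' g h := AddMonoidHom.ext fun v => Additive.toMul.injective (Subtype.ext
    (show ((g : G) * h) * ((Additive.toMul v : V) : G) * ((g : G) * h)⁻¹ =
      (g : G) * ((h : G) * ((Additive.toMul v : V) : G) * (h : G)⁻¹) * (g : G)⁻¹ by group))

omit [Finite G] in
theorem coe_conjEnd_apply (V : Subgroup G) [IsMulCommutative V] (g : Subgroup.normalizer (V : Set G))
    (v : Additive V) : ((Additive.toMul (conjEnd V g v) : V) : G) =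
      g * ((Additive.toMul v : V) : G) * (g : G)⁻¹ := rfl

/-- An element of odd prime order without fixed points on an elementary abelian group centralizes, modulo the
kernel, every `q`-group of odd order normalized by it. -/
theorem commutator_mem_centralizer_of_fpf {p q r : ℕ} [hp : Fact p.Prime] [hq : Fact q.Prime] [hr : Fact r.Prime]
    (hqp : q ≠ p) (hrp : r ≠ p) (hqr : q ≠ r) (hq2 : q ≠ 2) (hr2 : r ≠ 2) {V Q : Subgroup G}
    (hV : IsElementaryAbelian p V) (hQ : IsPGroup q Q) (hQV : Q ≤ Subgroup.normalizer (V : Set G)) {t : G}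
    (htV : t ∈ Subgroup.normalizer (V : Set G)) (htQ : t ∈ Subgroup.normalizer (Q : Set G)) (htr : t ^ r = 1)
    (hfix : ∀ v ∈ V, t * v = v * t → v = 1) : ∀ a ∈ Q, ⁅t, a⁆ ∈ Subgroup.centralizer (V : Set G) := by
  have hVc : IsMulCommutative V := hV.1
  let _ : Module (ZMod p) (Additive V) := AddCommGroup.zmodModule fun x => by
    refine Additive.toMul.injective (Subtype.ext ?_)
    rw [toMul_nsmul, Subgroup.coe_pow, hV.2 _ (Additive.toMul x).2]
    rfl
  intro a ha
  set act := zmodEnd p (conjEnd V)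
  set tN : Subgroup.normalizer (V : Set G) := ⟨t, htV⟩
  set aN : Subgroup.normalizer (V : Set G) := ⟨a, hQV ha⟩
  have ht : tN ∈ Subgroup.normalizer ((Q.subgroupOf (Subgroup.normalizer (V : Set G))) : Set _) := by
    rw [← Subgroup.subgroupOf_normalizer_eq hQV, Subgroup.mem_subgroupOf]
    exact htQ
  have h := act_commutator_eq_one hqp hrp hqr hq2 hr2 act (hQ.comap_subtype) ht (Subtype.ext htr)
    (fun w hw => by
      have h3 := coe_conjEnd_apply V tN w
      rw [show conjEnd V tN w = w from hw] at h3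
      exact Additive.toMul.injective (Subtype.ext (hfix _ (Additive.toMul w).2 (mul_inv_eq_iff_eq_mul.mp h3.symm))))
    aN ha
  rw [Subgroup.mem_centralizer_iff]
  intro v hv
  have h1 := coe_conjEnd_apply V ⁅tN, aN⁆ (Additive.ofMul (⟨v, hv⟩ : V))
  rw [show conjEnd V ⁅tN, aN⁆ (Additive.ofMul (⟨v, hv⟩ : V)) = Additive.ofMul (⟨v, hv⟩ : V) from
    LinearMap.congr_fun h (Additive.ofMul (⟨v, hv⟩ : V))] at h1
  exact eq_mul_inv_iff_mul_eq.mp h1

/-- BG 3.4: a complement of odd prime order to a normal subgroup, coprime and fixed point free on an elementary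
abelian group, centralizes the normal subgroup modulo the kernel. -/
theorem commutator_le_centralizer_of_fpf {p r : ℕ} [hp : Fact p.Prime] [hr : Fact r.Prime] {V K R : Subgroup G}
    (hV : IsElementaryAbelian p V) (hR : Nat.card R = r) (hr2 : r ≠ 2) (hrp : r ≠ p) (hKodd : Odd (Nat.card K))
    (hrK : ¬ r ∣ Nat.card K) (hpK : ¬ p ∣ Nat.card K) (hRK : R ≤ Subgroup.normalizer (K : Set G))
    (hKV : K ≤ Subgroup.normalizer (V : Set G)) (hRV : R ≤ Subgroup.normalizer (V : Set G))
    (hfix : V ⊓ Subgroup.centralizer (R : Set G) = ⊥) : ⁅R, K⁆ ≤ Subgroup.centralizer (V : Set G) := by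
  rw [Subgroup.commutator_le]
  intro t ht
  rcases eq_or_ne t 1 with rfl | ht1
  · intro a _
    rw [commutatorElement_one_left]
    exact one_mem _
  have htr : t ^ r = 1 := by rw [← hR]; exact congrArg Subtype.val (pow_card_eq_one' (x := (⟨t, ht⟩ : R)))
  have hgen : Subgroup.zpowers t = R := by
    refine Subgroup.eq_of_le_of_card_ge (Subgroup.zpowers_le.mpr ht) ?_
    rw [Nat.card_zpowers, orderOf_eq_prime htr ht1, hR]
  have hfix' : ∀ v ∈ V, t * v = v * t → v = 1 := fun v hv e => by
    have h1 : v ∈ V ⊓ Subgroup.centralizer (R : Set G) := by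
      refine ⟨hv, ?_⟩
      rw [← hgen]
      rintro x ⟨n, rfl⟩
      exact ((show Commute t v from e).zpow_left n).eq
    rwa [hfix, Subgroup.mem_bot] at h1
  have hCn : ∀ g ∈ Subgroup.normalizer (V : Set G), ∀ c ∈ Subgroup.centralizer (V : Set G),
      g * c * g⁻¹ ∈ Subgroup.centralizer (V : Set G) := by
    intro g hg c hc
    rw [Subgroup.mem_centralizer_iff]
    intro v hv
    have h1 : g⁻¹ * v * g ∈ V := by
      simpa using (Subgroup.mem_normalizer_iff.mp (inv_mem hg) v).mp hv
    calc v * (g * c * g⁻¹) = g * ((g⁻¹ * v * g) * c) * g⁻¹ := by group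
      _ = g * (c * (g⁻¹ * v * g)) * g⁻¹ := by rw [Subgroup.mem_centralizer_iff.mp hc _ h1]
      _ = g * c * g⁻¹ * v := by group
  have htN := hRV ht
  let L : Subgroup K :=
    { carrier := {a | ⁅t, (a : G)⁆ ∈ Subgroup.centralizer (V : Set G)}
      one_mem' := by simp [one_mem]
      mul_mem' := fun {a b} ha hb => by
        change ⁅t, ((a * b : K) : G)⁆ ∈ Subgroup.centralizer (V : Set G)
        have e : ⁅t, (a : G) * b⁆ = ⁅t, (a : G)⁆ * ((a : G) * ⁅t, (b : G)⁆ * (a : G)⁻¹) := by
          simp only [commutatorElement_def]; group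
        rw [Subgroup.coe_mul, e]
        exact mul_mem ha (hCn _ (hKV a.2) _ hb)
      inv_mem' := fun {a} ha => by
        change ⁅t, ((a⁻¹ : K) : G)⁆ ∈ Subgroup.centralizer (V : Set G)
        have e : ⁅t, (a : G)⁻¹⁆ = (a : G)⁻¹ * (⁅t, (a : G)⁆)⁻¹ * ((a : G)⁻¹)⁻¹ := by
          simp only [commutatorElement_def]; group
        rw [Subgroup.coe_inv, e]
        exact hCn _ (inv_mem (hKV a.2)) _ (inv_mem ha) }
  suffices h : L = ⊤ by
    intro a ha
    exact (h ▸ Subgroup.mem_top (⟨a, ha⟩ : K) : (⟨a, ha⟩ : K) ∈ L)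
  refine Subgroup.eq_top_of_card_eq L (Nat.dvd_antisymm (Subgroup.card_subgroup_dvd_card L) ?_)
  rw [Nat.dvd_iff_prime_pow_dvd_dvd]
  intro q i hq hqi
  rcases Nat.eq_zero_or_pos i with rfl | hi
  · simp
  have : Fact q.Prime := ⟨hq⟩
  have hqK : q ∣ Nat.card K := (dvd_pow_self q hi.ne').trans hqi
  have hcop : (Nat.card R).Coprime (Nat.card K) := hR ▸ hr.out.coprime_iff_not_dvd.mpr hrK
  have hRs : Group.IsSolvable R := by
    have := isCyclic_of_prime_card (α := R) hR
    infer_instance
  obtain ⟨S, ⟨hSK, hScard⟩, hRS⟩ := Basics.exists_invariant_isSylowIn R K hRK hcop (Or.inl hRs) q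
  have hSL : S.subgroupOf K ≤ L := fun a ha =>
    commutator_mem_centralizer_of_fpf (q := q) (fun e => by rw [e] at hqK; exact hpK hqK) hrp (fun e => by rw [e] at hqK; exact hrK hqK)
      (fun e => by rw [e] at hqK; exact (Nat.not_even_iff_odd.mpr hKodd) (even_iff_two_dvd.mpr hqK)) hr2 hV
      (IsPGroup.of_card hScard) (hSK.trans hKV) htN (hRS ht) htr hfix' _ ha
  refine dvd_trans ?_ (Subgroup.card_dvd_of_le hSL)
  rw [Nat.card_congr (Subgroup.subgroupOfEquivOfLe hSK).toEquiv, hScard]
  exact pow_dvd_pow q ((hq.pow_dvd_iff_le_factorization Nat.card_pos.ne').mp hqi)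

end Cfsg.Agent.OddLocal
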