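import Cfsg.Agent.Lib.OddLocal.FrobeniusModule
import Cfsg.Agent.Lib.OddLocal.FixPoint
import Cfsg.Agent.Lib.Basics.CoprimeAction
import Cfsg.Agent.Lib.Basics.Tools

/-! Frobenius groups acting coprimely on solvable groups: orders of fixed point subgroups. -/

set_option autoImplicit false
set_option maxHeartbeats 1000000

namespace Cfsg.Agent.OddLocal

open Cfsg
open scoped commutatorElement IsMulCommutative TensorProduct

universe u

variable {G : Type u} [Group G] [Finite G]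

theorem normalizer_le_normalizer_map_char (K : Subgroup G) (N : Subgroup K) [N.Characteristic] :
    Subgroup.normalizer (K : Set G) ≤ Subgroup.normalizer ((N.map K.subtype : Subgroup G) : Set G) := by
  intro g hg
  rw [Subgroup.mem_normalizer_iff_map_conj_eq]
  refine Subgroup.eq_of_le_of_card_ge ?_ (Subgroup.card_map_of_injective (MulEquiv.injective _)).ge
  rintro _ ⟨_, ⟨n, hn, rfl⟩, rfl⟩
  exact ⟨K.normalizerMonoidHom ⟨g, hg⟩ n,
    (Subgroup.characteristic_iff_map_eq.mp (inferInstance : N.Characteristic) (K.normalizerMonoidHom ⟨g, hg⟩)).le ⟨n, hn, rfl⟩, rfl⟩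

theorem normalizer_le_normalizer_commutator {H K : Subgroup G} :
    Subgroup.normalizer (H : Set G) ⊓ Subgroup.normalizer (K : Set G) ≤
      Subgroup.normalizer ((⁅H, K⁆ : Subgroup G) : Set G) := by
  intro g hg
  rw [Subgroup.mem_normalizer_iff_map_conj_eq]
  change (⁅H, K⁆).map (MulAut.conj g).toMonoidHom = ⁅H, K⁆
  rw [Subgroup.map_commutator]
  exact congrArg₂ (⁅·, ·⁆) (Subgroup.mem_normalizer_iff_map_conj_eq.mp hg.1) (Subgroup.mem_normalizer_iff_map_conj_eq.mp hg.2)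

theorem normalizer_le_normalizer_inf_centralizer {H K : Subgroup G} :
    Subgroup.normalizer (H : Set G) ⊓ Subgroup.normalizer (K : Set G) ≤
      Subgroup.normalizer ((H ⊓ Subgroup.centralizer (K : Set G) : Subgroup G) : Set G) := by
  intro g hg
  refine Subgroup.mem_normalizer_iff.mpr fun v => ?_
  simp only [Subgroup.mem_inf]
  rw [← Subgroup.mem_normalizer_iff.mp hg.1 v]
  refine and_congr_right fun _ => ?_
  constructor
  · intro h
    refine Subgroup.mem_centralizer_iff.mpr fun k hk => ?_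
    have h1 : g⁻¹ * k * g ∈ K := by
      simpa using (Subgroup.mem_normalizer_iff.mp (inv_mem hg.2) k).mp hk
    calc k * (g * v * g⁻¹) = g * ((g⁻¹ * k * g) * v) * g⁻¹ := by group
      _ = g * (v * (g⁻¹ * k * g)) * g⁻¹ := by rw [Subgroup.mem_centralizer_iff.mp h _ h1]
      _ = g * v * g⁻¹ * k := by group
  · intro h
    refine Subgroup.mem_centralizer_iff.mpr fun k hk => ?_
    have h1 : g * k * g⁻¹ ∈ K := (Subgroup.mem_normalizer_iff.mp hg.2 k).mp hk
    calc k * v = g⁻¹ * ((g * k * g⁻¹) * (g * v * g⁻¹)) * g := by group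
      _ = g⁻¹ * ((g * v * g⁻¹) * (g * k * g⁻¹)) * g := by rw [Subgroup.mem_centralizer_iff.mp h _ h1]
      _ = v * k := by group

theorem opSum_map {F L W W' : Type*} [Field F] [Field L] [AddCommGroup W] [Module F W] [AddCommGroup W'] [Module L W']
    (Φ : Module.End F W →+* Module.End L W') (hΦ : Function.Injective Φ) (S : Subgroup (Module.End F W)ˣ) [Finite S]
    [Finite ↥(S.map (Units.map Φ.toMonoidHom))] :
    opSum (S.map (Units.map Φ.toMonoidHom)) = Φ (opSum S) := by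
  classical
  haveI := Fintype.ofFinite S
  haveI := Fintype.ofFinite ↥(S.map (Units.map Φ.toMonoidHom))
  rw [opSum_eq, opSum_eq, map_sum]
  have hinj : Function.Injective (Units.map Φ.toMonoidHom) := Units.map_injective hΦ
  exact (Fintype.sum_equiv (S.equivMapOfInjective (Units.map Φ.toMonoidHom) hinj).toEquiv _ _ fun x => rfl).symm

/-- The abelian case on an elementary abelian group. -/
theorem ea_abelian_case {p : ℕ} [hp : Fact p.Prime] {V A₀ R : Subgroup G} (hV : IsElementaryAbelian p V)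
    (hAV : A₀ ≤ Subgroup.normalizer (V : Set G)) (hRV : R ≤ Subgroup.normalizer (V : Set G))
    (hRA : R ≤ Subgroup.normalizer (A₀ : Set G))
    (hcomm : ⁅A₀, A₀⁆ ≤ Subgroup.centralizer (V : Set G))
    (hfree : ∀ x ∈ R, x ≠ 1 → ∀ a ∈ A₀, ⁅x, a⁆ ∈ Subgroup.centralizer (V : Set G) → a ∈ Subgroup.centralizer (V : Set G))
    (hfix : V ⊓ Subgroup.centralizer (A₀ : Set G) = ⊥)
    (hpA : ¬ p ∣ Nat.card A₀) (hpR : ¬ p ∣ Nat.card R) :
    Nat.card V = Nat.card ↥(V ⊓ Subgroup.centralizer (R : Set G)) ^ Nat.card R ∧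
      ∀ (r : ℕ) [Fact r.Prime], Nat.card R = r → Nat.card ↥(V ⊓ Subgroup.centralizer (R : Set G)) ≤ p →
        ∀ K : Subgroup G, K ≤ Subgroup.normalizer (V : Set G) → K ≤ Subgroup.normalizer (A₀ : Set G) →
          R ≤ Subgroup.normalizer (K : Set G) → ¬ r ∣ Nat.card K → ⁅K, K⁆ ≤ Subgroup.centralizer (V : Set G) := by
  classical
  rcases eq_or_ne V ⊥ with rfl | hV1
  · refine ⟨?_, fun r _ _ _ K _ _ _ _ => ?_⟩
    · rw [bot_inf_eq, Subgroup.card_bot, one_pow]
    · intro g _; exact Subgroup.mem_centralizer_iff.mpr fun v hv => by rw [Subgroup.mem_bot.mp hv, one_mul, mul_one]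
  have hVc : IsMulCommutative V := hV.1
  haveI : Module (ZMod p) (Additive V) := AddCommGroup.zmodModule fun x => by
    refine Additive.toMul.injective (Subtype.ext ?_)
    rw [toMul_nsmul, Subgroup.coe_pow, hV.2 _ (Additive.toMul x).2]
    rfl
  haveI : Module.Finite (ZMod p) (Additive V) := Module.Finite.of_finite
  set N := Subgroup.normalizer (V : Set G) with hN
  let act := zmodEnd p (conjEnd V)
  let ρ := act.toHomUnits
  have hρapply : ∀ (g : N) (w : Additive V), ((Additive.toMul ((ρ g : Module.End (ZMod p) (Additive V)) w) : V) : G) =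
      g * ((Additive.toMul w : V) : G) * (g : G)⁻¹ := fun g w => coe_conjEnd_apply V g w
  have hker : ∀ g : N, ρ g = 1 ↔ (g : G) ∈ Subgroup.centralizer (V : Set G) := by
    intro g
    constructor
    · intro h
      refine Subgroup.mem_centralizer_iff.mpr fun v hv => ?_
      have := hρapply g (Additive.ofMul (⟨v, hv⟩ : V))
      rw [h, Units.val_one, Module.End.one_apply] at this
      exact eq_mul_inv_iff_mul_eq.mp this
    · intro h
      refine Units.ext (LinearMap.ext fun w => Additive.toMul.injective (Subtype.ext ?_))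
      rw [hρapply g w, Units.val_one, Module.End.one_apply,
        ← Subgroup.mem_centralizer_iff.mp h _ (Additive.toMul w).2, mul_inv_cancel_right]
  haveI : Finite (Module.End (ZMod p) (Additive V)) := Module.finite_of_finite (ZMod p)
  haveI : Finite (Module.End (ZMod p) (Additive V))ˣ := inferInstance
  set A := (A₀.subgroupOf N).map ρ with hA
  set S := (R.subgroupOf N).map ρ with hS
  have hAcard : ¬ p ∣ Nat.card A := fun h => hpA (h.trans ((Subgroup.card_map_dvd _ ρ).trans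
    (Nat.card_congr (Subgroup.subgroupOfEquivOfLe hAV).toEquiv).dvd))
  have hfixA : ∀ w : Additive V, (∀ a ∈ A, (a : Module.End (ZMod p) (Additive V)) w = w) → w = 0 := by
    intro w hw
    have h1 : ((Additive.toMul w : V) : G) ∈ V ⊓ Subgroup.centralizer (A₀ : Set G) := by
      refine Subgroup.mem_inf.mpr ⟨(Additive.toMul w).2, Subgroup.mem_centralizer_iff.mpr fun a ha => ?_⟩
      have h := hw (ρ ⟨a, hAV ha⟩) ⟨_, ha, rfl⟩
      have h2 := hρapply ⟨a, hAV ha⟩ w
      rw [h] at h2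
      exact (eq_mul_inv_iff_mul_eq.mp h2).symm
    rw [hfix, Subgroup.mem_bot] at h1
    exact Additive.toMul.injective (Subtype.ext h1)
  have hsumA : opSum A = 0 := LinearMap.ext fun w => hfixA _ fun a ha => LinearMap.congr_fun (mul_opSum ha) w
  have hRinj : ∀ x : N, (x : G) ∈ R → ρ x = 1 → x = 1 := by
    intro x hx h
    by_contra hx1
    refine hV1 ?_
    rw [← hfix]
    refine le_antisymm (le_inf le_rfl (Subgroup.le_centralizer_iff.mp fun a ha => ?_)) inf_le_left
    refine hfree x hx (fun e => hx1 (Subtype.ext e)) a ha ?_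
    have h1 : ρ (x * ⟨a, hAV ha⟩ * x⁻¹ * (⟨a, hAV ha⟩ : N)⁻¹) = 1 := by
      rw [map_mul, map_mul, map_mul, map_inv, map_inv, h]; simp
    exact (hker _).mp h1
  have hScard : Nat.card S = Nat.card R := by
    rw [← Nat.card_congr (Subgroup.subgroupOfEquivOfLe hRV).toEquiv, hS]
    refine (Nat.card_eq_of_bijective (fun x : R.subgroupOf N => (⟨ρ x, ⟨x, x.2, rfl⟩⟩ : (R.subgroupOf N).map ρ)) ⟨?_, ?_⟩).symm
    · intro x y h
      have h1 : ρ ((x : N)⁻¹ * y) = 1 := by rw [map_mul, map_inv, show ρ x = ρ y from congrArg Subtype.val h, inv_mul_cancel]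
      exact Subtype.ext (inv_mul_eq_one.mp (hRinj _ (R.mul_mem (R.inv_mem x.2) y.2) h1))
    · rintro ⟨_, x, hx, rfl⟩; exact ⟨⟨x, hx⟩, rfl⟩
  -- pass to the algebraic closure
  let E := AlgebraicClosure (ZMod p)
  haveI : CharP E p := charP_of_injective_algebraMap (algebraMap (ZMod p) E).injective p
  let Φ : Module.End (ZMod p) (Additive V) →+* Module.End E (E ⊗[ZMod p] Additive V) :=
    (Module.End.baseChangeHom (ZMod p) E (Additive V)).toRingHom
  have hΦ : Function.Injective Φ := LinearMap.baseChangeHom_injective (ZMod p) (Additive V) E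
  let U := Units.map Φ.toMonoidHom
  have hU : Function.Injective U := Units.map_injective hΦ
  haveI : Finite ↥(A.map U) := Finite.of_equiv _ (A.equivMapOfInjective U hU).toEquiv
  haveI : Finite ↥(S.map U) := Finite.of_equiv _ (S.equivMapOfInjective U hU).toEquiv
  haveI := Fintype.ofFinite ↥(A.map U)
  haveI : IsMulCommutative ↥(A.map U) := by
    refine ⟨⟨?_⟩⟩
    rintro ⟨_, _, ⟨a, ha, rfl⟩, rfl⟩ ⟨_, _, ⟨b, hb, rfl⟩, rfl⟩
    refine Subtype.ext ?_
    change U (ρ a) * U (ρ b) = U (ρ b) * U (ρ a)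
    rw [← map_mul U, ← map_mul U, ← commutatorElement_eq_one_iff_mul_comm.mp
      ((map_commutatorElement ρ a b).symm.trans ((hker _).mpr (hcomm (Subgroup.commutator_mem_commutator ha hb))))]
  have hAU : (Fintype.card ↥(A.map U) : E) ≠ 0 := by
    rw [← Nat.card_eq_fintype_card, Subgroup.card_map_of_injective hU]
    exact fun h => hAcard ((CharP.cast_eq_zero_iff E p _).mp h)
  have hsum : opSum (A.map U) = 0 := by rw [opSum_map Φ hΦ, hsumA, map_zero]
  have hnorm : ∀ {B C : Subgroup N}, B ≤ Subgroup.normalizer (C : Set N) →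
      (B.map ρ).map U ≤ Subgroup.normalizer (((C.map ρ).map U : Subgroup _) : Set _) := by
    intro B C h
    rw [Subgroup.map_map, Subgroup.map_map]
    exact (Subgroup.map_mono h).trans (Subgroup.le_normalizer_map _)
  have hsub : ∀ {B C : Subgroup G}, B ≤ N → C ≤ N → B ≤ Subgroup.normalizer (C : Set G) →
      B.subgroupOf N ≤ Subgroup.normalizer ((C.subgroupOf N : Subgroup N) : Set N) := by
    intro B C _ hC h b hb
    rw [← Subgroup.subgroupOf_normalizer_eq hC, Subgroup.mem_subgroupOf]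
    exact h hb
  have hRA' : S.map U ≤ Subgroup.normalizer ((A.map U : Subgroup _) : Set _) := hnorm (hsub hRV hAV hRA)
  have hfree' : ∀ x ∈ S.map U, x ≠ 1 → ∀ a ∈ A.map U, x * a = a * x → a = 1 := by
    rintro _ ⟨_, ⟨x, hx, rfl⟩, rfl⟩ hx1 _ ⟨_, ⟨a, ha, rfl⟩, rfl⟩ hxa
    rw [← map_mul U, ← map_mul U] at hxa
    have h1 := hU hxa
    have hxne : (x : G) ≠ 1 := fun e => hx1 (by rw [show x = 1 from Subtype.ext e, map_one, map_one])
    have h2 : ρ (x * a * x⁻¹ * a⁻¹) = 1 := by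
      rw [map_mul, map_mul, map_mul, map_inv, map_inv, h1, mul_inv_cancel_right, mul_inv_cancel]
    rw [(hker a).mpr (hfree x hx hxne a ha ((hker _).mp h2)), map_one]
  have hdim := finrank_eq_card_mul hAU hsum hRA' hfree'
  rw [opSum_map Φ hΦ, Subgroup.card_map_of_injective hU, hScard, Module.finrank_baseChange] at hdim
  change _ = _ * Module.finrank E (LinearMap.range ((opSum S).baseChange E)) at hdim
  rw [finrank_range_baseChange] at hdim
  have hC : Nat.card (LinearMap.range (opSum S)) = Nat.card ↥(V ⊓ Subgroup.centralizer (R : Set G)) := by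
    have hmem : ∀ w : Additive V, w ∈ LinearMap.range (opSum S) ↔
        ((Additive.toMul w : V) : G) ∈ V ⊓ Subgroup.centralizer (R : Set G) := by
      intro w
      constructor
      · rintro ⟨v, rfl⟩
        refine Subgroup.mem_inf.mpr ⟨Subtype.mem _, Subgroup.mem_centralizer_iff.mpr fun x hx => ?_⟩
        have h := LinearMap.congr_fun (mul_opSum (show ρ ⟨x, hRV hx⟩ ∈ S from ⟨_, hx, rfl⟩)) v
        have h2 := hρapply ⟨x, hRV hx⟩ (opSum S v)
        rw [← Module.End.mul_apply, h] at h2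
        exact (eq_mul_inv_iff_mul_eq.mp h2).symm
      · intro hw
        haveI := Fintype.ofFinite S
        have h0 : (Fintype.card S : ZMod p) ≠ 0 := by
          rw [← Nat.card_eq_fintype_card, hScard]
          exact fun h => hpR ((CharP.cast_eq_zero_iff (ZMod p) p _).mp h)
        refine ⟨(Fintype.card S : ZMod p)⁻¹ • w, ?_⟩
        have hfix' : ∀ x : S, ((x : (Module.End (ZMod p) (Additive V))ˣ) : Module.End (ZMod p) (Additive V)) w = w := by
          rintro ⟨_, x, hx, rfl⟩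
          refine Additive.toMul.injective (Subtype.ext ?_)
          rw [hρapply x w, Subgroup.mem_centralizer_iff.mp hw.2 x hx, mul_inv_cancel_right]
        rw [map_smul, opSum_eq, LinearMap.sum_apply, Finset.sum_congr rfl (fun x _ => hfix' x), Finset.sum_const,
          Finset.card_univ, ← Nat.cast_smul_eq_nsmul (ZMod p), inv_smul_smul₀ h0]
    exact Nat.card_congr
      { toFun := fun w => ⟨((Additive.toMul (w : Additive V) : V) : G), (hmem w).mp w.2⟩
        invFun := fun v => ⟨Additive.ofMul (⟨v, v.2.1⟩ : V), (hmem _).mpr v.2⟩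
        left_inv := fun w => rfl
        right_inv := fun v => rfl }
  have hVcard : Nat.card V = p ^ Module.finrank (ZMod p) (Additive V) := by
    rw [← Nat.card_congr (Additive.ofMul (α := V)).symm, Module.natCard_eq_pow_finrank (K := ZMod p), Nat.card_zmod]
  have hCcard : Nat.card ↥(V ⊓ Subgroup.centralizer (R : Set G)) = p ^ Module.finrank (ZMod p) (LinearMap.range (opSum S)) := by
    rw [← hC, Module.natCard_eq_pow_finrank (K := ZMod p), Nat.card_zmod]
  refine ⟨by rw [hVcard, hCcard, ← pow_mul, hdim, mul_comm], ?_⟩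
  intro r hr hRr hline K hKV hKA hRK hrK
  have hline' : Module.finrank E (LinearMap.range (opSum (S.map U))) ≤ 1 := by
    rw [opSum_map Φ hΦ]
    change Module.finrank E (LinearMap.range ((opSum S).baseChange E)) ≤ 1
    rw [finrank_range_baseChange]
    rw [hCcard] at hline
    exact (Nat.pow_le_pow_iff_right hp.out.one_lt).mp (hline.trans (pow_one p).ge)
  set B := (K.subgroupOf N).map ρ with hB
  haveI : Finite ↥(B.map U) := Finite.of_equiv _ (B.equivMapOfInjective U hU).toEquiv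
  have hrB : ¬ r ∣ Nat.card ↥(B.map U) := fun h => hrK (h.trans ((Subgroup.card_map_dvd _ U).trans
    ((Subgroup.card_map_dvd _ ρ).trans (Nat.card_congr (Subgroup.subgroupOfEquivOfLe hKV).toEquiv).dvd)))
  have hcom := commute_of_finrank_le_one hAU hsum hRA' hfree'
    (by rw [Subgroup.card_map_of_injective hU, hScard, hRr]) hline' (hnorm (hsub hKV hAV hKA))
    (hnorm (hsub hRV hKV hRK)) hrB
  refine Subgroup.commutator_le.mpr fun g hg h hh => ?_
  have h1 := hcom (U (ρ ⟨g, hKV hg⟩)) ⟨_, ⟨_, hg, rfl⟩, rfl⟩ (U (ρ ⟨h, hKV hh⟩)) ⟨_, ⟨_, hh, rfl⟩, rfl⟩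
  rw [← map_mul U, ← map_mul U] at h1
  have h2 : ρ ⁅(⟨g, hKV hg⟩ : N), ⟨h, hKV hh⟩⁆ = 1 := by
    rw [map_commutatorElement, commutatorElement_eq_one_iff_mul_comm]
    exact hU h1
  exact (hker _).mp h2

theorem inf_centralizer_split {V₀ V₁ V R : Subgroup G} [IsMulCommutative V] (hsup : V₁ ⊔ V₀ = V) (hinf : V₁ ⊓ V₀ = ⊥)
    (h0R : R ≤ Subgroup.normalizer (V₀ : Set G)) (h1R : R ≤ Subgroup.normalizer (V₁ : Set G)) :
    Nat.card ↥(V ⊓ Subgroup.centralizer (R : Set G)) =
      Nat.card ↥(V₁ ⊓ Subgroup.centralizer (R : Set G)) * Nat.card ↥(V₀ ⊓ Subgroup.centralizer (R : Set G)) := by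
  have hV1 : V₁ ≤ V := hsup ▸ le_sup_left
  have hV0 : V₀ ≤ V := hsup ▸ le_sup_right
  have hn : V₀ ≤ Subgroup.normalizer (V₁ : Set G) := fun b hb =>
    Subgroup.centralizer_le_normalizer _ (Subgroup.mem_centralizer_iff.mpr fun a ha =>
      congrArg Subtype.val (mul_comm' (⟨a, hV1 ha⟩ : V) ⟨b, hV0 hb⟩))
  have hle : V₀ ⊓ Subgroup.centralizer (R : Set G) ≤
      Subgroup.normalizer ((V₁ ⊓ Subgroup.centralizer (R : Set G) : Subgroup G) : Set G) := fun b hb =>
    Subgroup.centralizer_le_normalizer _ (Subgroup.mem_centralizer_iff.mpr fun a ha =>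
      congrArg Subtype.val (mul_comm' (⟨a, hV1 ha.1⟩ : V) ⟨b, hV0 hb.1⟩))
  rw [Basics.card_mul_card_eq_card_sup_mul_card_inf hle,
    show (V₁ ⊓ Subgroup.centralizer (R : Set G)) ⊓ (V₀ ⊓ Subgroup.centralizer (R : Set G)) = ⊥ from
      le_bot_iff.mp (hinf ▸ inf_le_inf inf_le_left inf_le_left), Subgroup.card_bot, mul_one]
  congr 2
  refine le_antisymm ?_ (sup_le (inf_le_inf_right _ hV1) (inf_le_inf_right _ hV0))
  intro v hv
  obtain ⟨a, ha, b, hb, rfl⟩ := (Basics.mem_sup_of_le_normalizer hn).mp (hsup.symm ▸ hv.1 : v ∈ V₁ ⊔ V₀)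
  have hfix : ∀ x ∈ R, x * a = a * x ∧ x * b = b * x := by
    intro x hx
    have ha' : x * a * x⁻¹ ∈ V₁ := (Subgroup.mem_normalizer_iff.mp (h1R hx) a).mp ha
    have hb' : x * b * x⁻¹ ∈ V₀ := (Subgroup.mem_normalizer_iff.mp (h0R hx) b).mp hb
    have h := Subgroup.mem_centralizer_iff.mp hv.2 x hx
    have e : a⁻¹ * (x * a * x⁻¹) = b * (x * b * x⁻¹)⁻¹ := by
      calc a⁻¹ * (x * a * x⁻¹) = a⁻¹ * (x * (a * b)) * x⁻¹ * (x * b * x⁻¹)⁻¹ := by group
        _ = a⁻¹ * ((a * b) * x) * x⁻¹ * (x * b * x⁻¹)⁻¹ := by rw [h]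
        _ = b * (x * b * x⁻¹)⁻¹ := by group
    have h1 : a⁻¹ * (x * a * x⁻¹) = 1 := Subgroup.mem_bot.mp (hinf ▸ Subgroup.mem_inf.mpr
      ⟨mul_mem (inv_mem ha) ha', e ▸ mul_mem hb (inv_mem hb')⟩)
    exact ⟨mul_inv_eq_iff_eq_mul.mp (inv_mul_eq_one.mp h1).symm,
      mul_inv_eq_iff_eq_mul.mp (mul_inv_eq_one.mp (e ▸ h1)).symm⟩
  exact mul_mem (Subgroup.mem_sup_left ⟨ha, Subgroup.mem_centralizer_iff.mpr fun x hx => (hfix x hx).1⟩)
    (Subgroup.mem_sup_right ⟨hb, Subgroup.mem_centralizer_iff.mpr fun x hx => (hfix x hx).2⟩)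

theorem ea_case {p : ℕ} [hp : Fact p.Prime] {K R : Subgroup G} (hKs : Group.IsSolvable K)
    (hRK : R ≤ Subgroup.normalizer (K : Set G)) (hfrob : ∀ x ∈ R, x ≠ 1 → ∀ k ∈ K, x * k = k * x → k = 1)
    (hpK : ¬ p ∣ Nat.card K) (hpR : ¬ p ∣ Nat.card R) :
    ∀ (n : ℕ) (V : Subgroup G), Nat.card V = n → IsElementaryAbelian p V →
      K ≤ Subgroup.normalizer (V : Set G) → R ≤ Subgroup.normalizer (V : Set G) →
      V ⊓ Subgroup.centralizer (K : Set G) = ⊥ →
      Nat.card V = Nat.card ↥(V ⊓ Subgroup.centralizer (R : Set G)) ^ Nat.card R ∧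
        ∀ (r : ℕ) [Fact r.Prime], Nat.card R = r → ¬ r ∣ Nat.card K →
          Nat.card ↥(V ⊓ Subgroup.centralizer (R : Set G)) ≤ p → ⁅K, K⁆ ≤ Subgroup.centralizer (V : Set G) := by
  intro n
  induction n using Nat.strong_induction_on with
  | _ n ih =>
  intro V hn hV hKV hRV hfix
  rcases eq_or_ne V ⊥ with rfl | hV1
  · refine ⟨?_, fun r _ _ _ _ => ?_⟩
    · rw [bot_inf_eq, Subgroup.card_bot, one_pow]
    · intro g _; exact Subgroup.mem_centralizer_iff.mpr fun v hv => by rw [Subgroup.mem_bot.mp hv, one_mul, mul_one]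
  classical
  let D : ℕ → Subgroup G := fun i => (derivedSeries K i).map K.subtype
  have hD0 : D 0 = K := by
    simp only [D, derivedSeries_zero]
    rw [← MonoidHom.range_eq_map, Subgroup.range_subtype]
  have hDsucc : ∀ i, D (i + 1) = ⁅D i, D i⁆ := fun i => by
    simp only [D, derivedSeries_succ, Subgroup.map_commutator]
  have hex : ∃ i, D i ≤ Subgroup.centralizer (V : Set G) := by
    obtain ⟨i, hi⟩ := (Group.isSolvable_def K).mp hKs
    exact ⟨i, by simp only [D, hi, Subgroup.map_bot]; exact bot_le⟩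
  obtain ⟨i, hi⟩ : ∃ i, Nat.find hex = i + 1 := by
    refine Nat.exists_eq_succ_of_ne_zero fun h => hV1 ?_
    have h1 := Nat.find_spec hex
    rw [h, hD0] at h1
    rw [← hfix]
    exact le_antisymm (le_inf le_rfl (Subgroup.le_centralizer_iff.mp h1)) inf_le_left
  set A₀ := D i with hA₀
  have hA₀K : A₀ ≤ K := Subgroup.map_subtype_le _
  have hcomm : ⁅A₀, A₀⁆ ≤ Subgroup.centralizer (V : Set G) := by
    rw [hA₀, ← hDsucc, ← hi]; exact Nat.find_spec hex
  have hnA : ¬ A₀ ≤ Subgroup.centralizer (V : Set G) := Nat.find_min hex (by omega)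
  haveI : (derivedSeries K i).Characteristic := derivedSeries_characteristic K i
  have hNA : Subgroup.normalizer (K : Set G) ≤ Subgroup.normalizer (A₀ : Set G) := normalizer_le_normalizer_map_char K _
  have hKA : K ≤ Subgroup.normalizer (A₀ : Set G) := Subgroup.le_normalizer.trans hNA
  have hRA : R ≤ Subgroup.normalizer (A₀ : Set G) := hRK.trans hNA
  haveI := hV.1
  set V₀ := V ⊓ Subgroup.centralizer (A₀ : Set G) with hV₀
  set V₁ := ⁅V, A₀⁆ with hV₁
  have hA₀V := hA₀K.trans hKV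
  have hVp : IsPGroup p V := fun v => ⟨1, by rw [pow_one]; exact Subtype.ext (hV.2 v v.2)⟩
  have hcop : (Nat.card A₀).Coprime (Nat.card V) := by
    obtain ⟨k, hk⟩ := hVp.exists_card_eq
    rw [hk]
    exact (((hp.out.coprime_iff_not_dvd).mpr fun h => hpK (h.trans (Subgroup.card_dvd_of_le hA₀K))).symm).pow_right k
  have hV₁le : V₁ ≤ V := Subgroup.le_normalizer_iff_commutator_le_left.mp hA₀V
  have hsup : V₁ ⊔ V₀ = V := Basics.commutator_sup_inf_centralizer A₀ V hA₀V hcop (Or.inr inferInstance)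
  have hinf : V₁ ⊓ V₀ = ⊥ := by rw [inf_comm]; exact Basics.inf_centralizer_inf_commutator_eq_bot A₀ V hA₀V hcop
  have hn0 : ∀ {B : Subgroup G}, B ≤ Subgroup.normalizer (V : Set G) → B ≤ Subgroup.normalizer (A₀ : Set G) →
      B ≤ Subgroup.normalizer (V₀ : Set G) ∧ B ≤ Subgroup.normalizer (V₁ : Set G) := fun h1 h2 =>
    ⟨(le_inf h1 h2).trans normalizer_le_normalizer_inf_centralizer, (le_inf h1 h2).trans normalizer_le_normalizer_commutator⟩
  obtain ⟨hKV0, hKV1⟩ := hn0 hKV hKA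
  obtain ⟨hRV0, hRV1⟩ := hn0 hRV hRA
  have hsub : ∀ W : Subgroup G, W ≤ V → IsElementaryAbelian p W := fun W hW =>
    ⟨⟨⟨fun a b => Subtype.ext (congrArg Subtype.val (mul_comm' (⟨a, hW a.2⟩ : V) ⟨b, hW b.2⟩) :)⟩⟩,
      fun a ha => hV.2 a (hW ha)⟩
  have hlt : Nat.card V₀ < n := by
    rw [← hn]
    refine Basics.card_lt_of_lt (lt_of_le_of_ne inf_le_left fun e => hnA ?_)
    exact Subgroup.le_centralizer_iff.mp (e ▸ inf_le_right)
  obtain ⟨ih0, -⟩ := ih _ hlt V₀ rfl (hsub _ inf_le_left) hKV0 hRV0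
    (le_bot_iff.mp (hfix ▸ inf_le_inf_right _ inf_le_left))
  have hfix1 : V₁ ⊓ Subgroup.centralizer (A₀ : Set G) = ⊥ :=
    le_bot_iff.mp (hinf ▸ le_inf inf_le_left (inf_le_inf_right _ hV₁le))
  have hfree : ∀ x ∈ R, x ≠ 1 → ∀ a ∈ A₀, ⁅x, a⁆ ∈ Subgroup.centralizer (V₁ : Set G) →
      a ∈ Subgroup.centralizer (V₁ : Set G) := by
    intro x hx hx1 a ha hxa
    set Kn := A₀ ⊓ Subgroup.centralizer (V₁ : Set G) with hKn
    have hxKn : ∀ m ∈ Kn, ⁅x, m⁆ ∈ Kn := by
      intro m hm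
      have h1 := normalizer_le_normalizer_inf_centralizer (H := A₀) (K := V₁) ⟨hRA hx, hRV1 hx⟩
      rw [commutatorElement_def]
      exact mul_mem ((Subgroup.mem_normalizer_iff.mp h1 m).mp hm) (inv_mem hm)
    have hinj : ∀ m k : G, m ∈ K → k ∈ K → ⁅x, m⁆ = ⁅x, k⁆ → m = k := by
      intro m k hm hk h
      rw [commutatorElement_def, commutatorElement_def] at h
      have h1 : x * (k⁻¹ * m) * x⁻¹ = k⁻¹ * m := by
        calc x * (k⁻¹ * m) * x⁻¹ = x * k⁻¹ * x⁻¹ * (x * m * x⁻¹ * m⁻¹) * m := by group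
          _ = x * k⁻¹ * x⁻¹ * (x * k * x⁻¹ * k⁻¹) * m := by rw [h]
          _ = k⁻¹ * m := by group
      exact (inv_mul_eq_one.mp (hfrob x hx hx1 _ (mul_mem (inv_mem hk) hm) (mul_inv_eq_iff_eq_mul.mp h1))).symm
    have hsur : Function.Surjective (fun m : Kn => (⟨⁅x, (m : G)⁆, hxKn m m.2⟩ : Kn)) :=
      Finite.injective_iff_surjective.mp fun m k h =>
        Subtype.ext (hinj m k (hA₀K m.2.1) (hA₀K k.2.1) (congrArg Subtype.val h))
    have hxaA : ⁅x, a⁆ ∈ A₀ := by
      rw [commutatorElement_def]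
      exact mul_mem ((Subgroup.mem_normalizer_iff.mp (hRA hx) a).mp ha) (inv_mem ha)
    obtain ⟨m, hm⟩ := hsur ⟨⁅x, a⁆, Subgroup.mem_inf.mpr ⟨hxaA, hxa⟩⟩
    rw [← hinj m a (hA₀K m.2.1) (hA₀K ha) (congrArg Subtype.val hm)]
    exact m.2.2
  obtain ⟨h1, h1b⟩ := ea_abelian_case (hsub _ hV₁le) (hA₀K.trans hKV1) hRV1 hRA
    (hcomm.trans (Subgroup.centralizer_le (SetLike.coe_subset_coe.mpr hV₁le))) hfree hfix1
    (fun h => hpK (h.trans (Subgroup.card_dvd_of_le hA₀K))) hpR
  have hn01 : V₀ ≤ Subgroup.normalizer (V₁ : Set G) := fun b hb =>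
    Subgroup.centralizer_le_normalizer _ (Subgroup.mem_centralizer_iff.mpr fun a ha =>
      congrArg Subtype.val (mul_comm' (⟨a, hV₁le ha⟩ : V) ⟨b, hb.1⟩))
  have hcardV : Nat.card V = Nat.card V₁ * Nat.card V₀ := by
    have h := Basics.card_mul_card_eq_card_sup_mul_card_inf hn01
    rw [hsup, hinf, Subgroup.card_bot, mul_one] at h
    exact h.symm
  have hsplit := inf_centralizer_split hsup hinf hRV0 hRV1
  refine ⟨by rw [hcardV, h1, ih0, hsplit, mul_pow], ?_⟩
  intro r hr hRr hrK hline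
  -- the centralized part is trivial
  have hc1 : p ≤ Nat.card ↥(V₁ ⊓ Subgroup.centralizer (R : Set G)) := by
    obtain ⟨k, hk⟩ := (hVp.to_le (inf_le_left.trans hV₁le : V₁ ⊓ Subgroup.centralizer (R : Set G) ≤ V)).exists_card_eq
    rw [hk]
    rcases Nat.eq_zero_or_pos k with rfl | hk0
    · exfalso
      rw [pow_zero] at hk
      rw [hk, one_pow] at h1
      have hV1b : V₁ = ⊥ := Subgroup.card_eq_one.mp h1
      rw [hV1b, bot_sup_eq] at hsup
      exact hnA (Subgroup.le_centralizer_iff.mp (hsup ▸ inf_le_right))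
    · exact Nat.le_self_pow hk0.ne' p
  have hc0 : Nat.card ↥(V₀ ⊓ Subgroup.centralizer (R : Set G)) = 1 := by
    have h2 : 0 < Nat.card ↥(V₀ ⊓ Subgroup.centralizer (R : Set G)) := Nat.card_pos
    rw [hsplit] at hline
    nlinarith [hp.out.one_lt]
  rw [hc0, one_pow] at ih0
  rw [Subgroup.card_eq_one.mp ih0, sup_bot_eq] at hsup
  rw [← hsup] at hline ⊢
  exact h1b r hRr hline K hKV1 hKA hRK hrK

theorem card_eq_card_inf_mul_card_map {X Y : Type*} [Group X] [Group Y] [Finite X] (f : X →* Y) (S : Subgroup X) :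
    Nat.card S = Nat.card ↥(S ⊓ f.ker) * Nat.card (S.map f) := by
  have h := Subgroup.card_mul_index ((f.comp S.subtype).ker)
  rw [Subgroup.index_ker, MonoidHom.range_comp, Subgroup.range_subtype] at h
  rw [← h]
  congr 1
  exact Nat.card_congr
    { toFun := fun x => ⟨((x : S) : X), Subgroup.mem_inf.mpr ⟨(x : S).2, x.2⟩⟩
      invFun := fun x => ⟨⟨x, x.2.1⟩, x.2.2⟩
      left_inv := fun x => rfl
      right_inv := fun x => rfl }

/-- An elementary abelian invariant subgroup of a solvable group. -/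
theorem exists_ea_invariant {M : Subgroup G} (hMs : Group.IsSolvable M) (hM1 : M ≠ ⊥) :
    ∃ (p : ℕ) (E : Subgroup G), p.Prime ∧ p ∣ Nat.card M ∧ E ≠ ⊥ ∧ E ≤ M ∧ IsElementaryAbelian p E ∧
      Subgroup.normalizer (M : Set G) ≤ Subgroup.normalizer (E : Set G) := by
  classical
  obtain ⟨i, hi⟩ := (Group.isSolvable_def M).mp hMs
  have hex : ∃ i, derivedSeries M i = ⊥ := ⟨i, hi⟩
  obtain ⟨j, hj⟩ : ∃ j, Nat.find hex = j + 1 := by
    refine Nat.exists_eq_succ_of_ne_zero fun h => hM1 ?_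
    have h1 := Nat.find_spec hex
    rw [h, derivedSeries_zero] at h1
    refine (Subgroup.eq_bot_iff_forall M).mpr fun x hx => ?_
    have h2 : (⟨x, hx⟩ : M) ∈ (⊥ : Subgroup M) := h1 ▸ Subgroup.mem_top _
    exact congrArg Subtype.val (Subgroup.mem_bot.mp h2)
  have hD : derivedSeries M (j + 1) = ⊥ := hj ▸ Nat.find_spec hex
  have hne : derivedSeries M j ≠ ⊥ := Nat.find_min hex (by omega)
  haveI : (derivedSeries M j).Characteristic := derivedSeries_characteristic M j
  set D := (derivedSeries M j).map M.subtype with hDdef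
  have hDc : ∀ a ∈ D, ∀ b ∈ D, a * b = b * a := by
    intro a ha b hb
    rw [← commutatorElement_eq_one_iff_mul_comm, ← Subgroup.mem_bot]
    have h := Subgroup.commutator_mem_commutator ha hb
    rwa [hDdef, ← Subgroup.map_commutator, ← derivedSeries_succ, hD, Subgroup.map_bot] at h
  have hDne : D ≠ ⊥ := fun h => hne ((Subgroup.map_eq_bot_iff_of_injective _ M.subtype_injective).mp h)
  obtain ⟨p, hp, hpd⟩ := Nat.exists_prime_and_dvd (fun h => hDne (Subgroup.card_eq_one.mp h) : Nat.card D ≠ 1)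
  haveI := Fact.mk hp
  let E : Subgroup G :=
    { carrier := {x | x ∈ D ∧ x ^ p = 1}
      one_mem' := ⟨one_mem D, one_pow p⟩
      mul_mem' := fun {a b} ha hb => ⟨mul_mem ha.1 hb.1, by
        rw [(show Commute a b from hDc a ha.1 b hb.1).mul_pow, ha.2, hb.2, one_mul]⟩
      inv_mem' := fun {a} ha => ⟨inv_mem ha.1, by rw [inv_pow, ha.2, inv_one]⟩ }
  refine ⟨p, E, hp, hpd.trans (Subgroup.card_dvd_of_le (Subgroup.map_subtype_le _)), fun h => ?_,
    fun x hx => Subgroup.map_subtype_le _ hx.1, ⟨⟨⟨fun a b => Subtype.ext (hDc a a.2.1 b b.2.1)⟩⟩, fun a ha => ha.2⟩, ?_⟩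
  · obtain ⟨x, hx⟩ := exists_prime_orderOf_dvd_card' (G := D) p hpd
    rw [← Subgroup.orderOf_coe] at hx
    have hxE : (x : G) ∈ E := ⟨x.2, by rw [← hx]; exact pow_orderOf_eq_one _⟩
    rw [h, Subgroup.mem_bot] at hxE
    exact hp.one_lt.ne (by rw [← hx, hxE, orderOf_one])
  · intro g hg
    rw [Subgroup.mem_normalizer_iff_map_conj_eq]
    refine Subgroup.eq_of_le_of_card_ge ?_ (Subgroup.card_map_of_injective (MulEquiv.injective _)).ge
    rintro _ ⟨x, hx, rfl⟩
    refine ⟨(Subgroup.mem_normalizer_iff.mp (normalizer_le_normalizer_map_char M _ hg) x).mp hx.1, ?_⟩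
    change (g * x * g⁻¹) ^ p = 1
    rw [conj_pow, hx.2, mul_one, mul_inv_cancel]

theorem frobenius_card_fixed : ∀ (n : ℕ) {X : Type u} [Group X] [Finite X] (K R M : Subgroup X), Nat.card M = n →
    Group.IsSolvable K → Group.IsSolvable M → R ≤ Subgroup.normalizer (K : Set X) →
    (∀ x ∈ R, x ≠ 1 → ∀ k ∈ K, x * k = k * x → k = 1) →
    (Nat.card K).Coprime (Nat.card M) → (Nat.card R).Coprime (Nat.card M) →
    K ≤ Subgroup.normalizer (M : Set X) → R ≤ Subgroup.normalizer (M : Set X) →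
    M ⊓ Subgroup.centralizer (K : Set X) = ⊥ →
    Nat.card M = Nat.card ↥(M ⊓ Subgroup.centralizer (R : Set X)) ^ Nat.card R ∧
      ∀ (r : ℕ) [Fact r.Prime], Nat.card R = r → ¬ r ∣ Nat.card K → IsCyclic ↥(M ⊓ Subgroup.centralizer (R : Set X)) →
        ⁅K, K⁆ ≤ Subgroup.centralizer (M : Set X) := by
  intro n
  induction n using Nat.strong_induction_on with
  | _ n ih =>
  intro X _ _ K R M hn hKs hMs hRK hfrob hKM hRM hKN hRN hfix
  rcases eq_or_ne M ⊥ with rfl | hM1
  · refine ⟨?_, fun r _ _ _ _ => ?_⟩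
    · rw [bot_inf_eq, Subgroup.card_bot, one_pow]
    · intro g _; exact Subgroup.mem_centralizer_iff.mpr fun v hv => by rw [Subgroup.mem_bot.mp hv, one_mul, mul_one]
  obtain ⟨p, E, hp, hpM, hE1, hEM, hE, hNE⟩ := exists_ea_invariant hMs hM1
  haveI := Fact.mk hp
  have hnd : ∀ {B : Subgroup X}, (Nat.card B).Coprime (Nat.card M) → ¬ p ∣ Nat.card B := fun h hd =>
    hp.one_lt.ne' (Nat.eq_one_of_dvd_coprimes h hd hpM)
  obtain ⟨hEcard, hEb⟩ := ea_case hKs hRK hfrob (hnd hKM) (hnd hRM) _ E rfl hE (hKN.trans hNE) (hRN.trans hNE)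
    (le_bot_iff.mp (hfix ▸ inf_le_inf_right _ hEM))
  set Γ := Subgroup.normalizer (E : Set X) with hΓ
  have hMΓ : M ≤ Γ := Subgroup.le_normalizer.trans hNE
  have hKΓ : K ≤ Γ := hKN.trans hNE
  have hRΓ : R ≤ Γ := hRN.trans hNE
  haveI : (E.subgroupOf Γ).Normal := Subgroup.normal_subgroupOf_iff_le_normalizer Subgroup.le_normalizer |>.mpr le_rfl
  let f := QuotientGroup.mk' (E.subgroupOf Γ)
  have hfker : ∀ (x : Γ), f x = 1 ↔ (x : X) ∈ E := fun x => (QuotientGroup.eq_one_iff x).trans Iff.rfl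
  have hinj : ∀ {B : Subgroup X}, (Nat.card B).Coprime (Nat.card M) → ∀ x : Γ, (x : X) ∈ B → f x = 1 → x = 1 := by
    intro B hB x hx h
    refine Subtype.ext (orderOf_eq_one_iff.mp (Nat.eq_one_of_dvd_coprimes hB (Subgroup.orderOf_dvd_natCard B hx)
      ((Subgroup.orderOf_dvd_natCard E ((hfker x).mp h)).trans (Subgroup.card_dvd_of_le hEM))))
  have hcd : ∀ {B : Subgroup X}, B ≤ Γ → Nat.card ((B.subgroupOf Γ).map f) ∣ Nat.card B := fun hB =>
    (Subgroup.card_map_dvd _ f).trans (Nat.card_congr (Subgroup.subgroupOfEquivOfLe hB).toEquiv).dvd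
  have hcardeq : ∀ {B : Subgroup X}, B ≤ Γ → Nat.card B = Nat.card ↥(B ⊓ E) * Nat.card ((B.subgroupOf Γ).map f) := by
    intro B hB
    rw [← Nat.card_congr (Subgroup.subgroupOfEquivOfLe hB).toEquiv, card_eq_card_inf_mul_card_map f (B.subgroupOf Γ)]
    congr 1
    rw [QuotientGroup.ker_mk', show B.subgroupOf Γ ⊓ E.subgroupOf Γ = (B ⊓ E).subgroupOf Γ from (Subgroup.comap_inf B E Γ.subtype).symm, Nat.card_congr (Subgroup.subgroupOfEquivOfLe (inf_le_left.trans hB)).toEquiv]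
  set Mb := (M.subgroupOf Γ).map f with hMb
  set Kb := (K.subgroupOf Γ).map f with hKb
  set Rb := (R.subgroupOf Γ).map f with hRb
  have hRcard : Nat.card Rb = Nat.card R := by
    have h := hcardeq hRΓ
    rw [show R ⊓ E = ⊥ from (Subgroup.disjoint_of_coprime_natCard
      (hRM.coprime_dvd_right (Subgroup.card_dvd_of_le hEM))).eq_bot, Subgroup.card_bot, one_mul] at h
    exact h.symm
  have hMcard : Nat.card M = Nat.card E * Nat.card Mb := by
    have h := hcardeq hMΓ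
    rwa [inf_eq_right.mpr hEM] at h
  have hlt : Nat.card Mb < n := by
    rw [← hn, hMcard]
    exact lt_mul_left Nat.card_pos ((Subgroup.one_lt_card_iff_ne_bot E).mpr hE1)
  have hnorm : ∀ {B C : Subgroup X}, B ≤ Γ → C ≤ Γ → B ≤ Subgroup.normalizer (C : Set X) →
      (B.subgroupOf Γ).map f ≤ Subgroup.normalizer (((C.subgroupOf Γ).map f : Subgroup _) : Set _) := by
    intro B C _ hC h
    refine (Subgroup.map_mono ?_).trans (Subgroup.le_normalizer_map _)
    intro b hb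
    rw [← Subgroup.subgroupOf_normalizer_eq hC, Subgroup.mem_subgroupOf]
    exact h hb
  -- fixed points lift
  have hlift : ∀ {B : Subgroup X}, B ≤ Γ → B ≤ Subgroup.normalizer (M : Set X) → (Nat.card B).Coprime (Nat.card M) →
      Mb ⊓ Subgroup.centralizer (((B.subgroupOf Γ).map f : Subgroup _) : Set _) =
        (((M ⊓ Subgroup.centralizer (B : Set X)).subgroupOf Γ).map f) := by
    intro B hBΓ hBN hBM
    refine le_antisymm ?_ ?_
    · rintro _ ⟨⟨m, hm, rfl⟩, hc⟩
      obtain ⟨c, hc', hcm⟩ := Basics.exists_inf_centralizer_mem_coset B M E hEM hMΓ hBΓ hBM (Or.inr hMs) (m : X) hm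
        (fun b hb => by
          refine (hfker (⟨b, hBΓ hb⟩ * m * (⟨b, hBΓ hb⟩ : Γ)⁻¹ * m⁻¹)).mp ?_
          rw [map_mul, map_mul, map_mul, map_inv, map_inv,
            Subgroup.mem_centralizer_iff.mp hc (f ⟨b, hBΓ hb⟩) ⟨_, hb, rfl⟩, mul_inv_cancel_right, mul_inv_cancel])
      exact ⟨⟨c, hMΓ hc'.1⟩, hc', (QuotientGroup.eq.mpr (show m⁻¹ * ⟨c, hMΓ hc'.1⟩ ∈ E.subgroupOf Γ from hcm)).symm⟩
    · rintro _ ⟨m, hm, rfl⟩
      refine Subgroup.mem_inf.mpr ⟨⟨m, hm.1, rfl⟩, Subgroup.mem_centralizer_iff.mpr ?_⟩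
      rintro _ ⟨b, hb, rfl⟩
      rw [← map_mul, ← map_mul]
      exact congrArg f (Subtype.ext (Subgroup.mem_centralizer_iff.mp hm.2 b hb))
  haveI hKbs : Group.IsSolvable Kb := Basics.isSolvable_map f (Basics.isSolvable_subgroupOf hKΓ hKs)
  obtain ⟨hMbcard, hMbb⟩ := ih _ hlt Kb Rb Mb rfl hKbs (Basics.isSolvable_map f (Basics.isSolvable_subgroupOf hMΓ hMs))
    (hnorm hRΓ hKΓ hRK) (by
      rintro _ ⟨x, hx, rfl⟩ hx1 _ ⟨k, hk, rfl⟩ hxk
      have h1 : f (x * k * x⁻¹ * k⁻¹) = 1 := by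
        rw [map_mul, map_mul, map_mul, map_inv, map_inv, hxk, mul_inv_cancel_right, mul_inv_cancel]
      have h2 := hinj hKM (x * k * x⁻¹ * k⁻¹) (K.mul_mem ((Subgroup.mem_normalizer_iff.mp (hRK hx) _).mp hk) (K.inv_mem hk)) h1
      have hxne : (x : X) ≠ 1 := fun e => hx1 (by rw [show x = 1 from Subtype.ext e, map_one])
      rw [show k = 1 from Subtype.ext (hfrob x hx hxne k hk
        (mul_inv_eq_iff_eq_mul.mp (mul_inv_eq_one.mp (congrArg Subtype.val h2)))), map_one])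
    ((hKM.coprime_dvd_left (hcd hKΓ)).coprime_dvd_right (hcd hMΓ))
    ((hRM.coprime_dvd_left (hcd hRΓ)).coprime_dvd_right (hcd hMΓ))
    (hnorm hKΓ hMΓ hKN) (hnorm hRΓ hMΓ hRN) (by rw [hlift hKΓ hKN hKM, hfix]; simp)
  have hCR := hlift hRΓ hRN hRM
  rw [hRcard, hCR] at hMbcard
  have hC : Nat.card ↥(M ⊓ Subgroup.centralizer (R : Set X)) = Nat.card ↥(E ⊓ Subgroup.centralizer (R : Set X)) *
      Nat.card (((M ⊓ Subgroup.centralizer (R : Set X)).subgroupOf Γ).map f) := by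
    rw [hcardeq (inf_le_left.trans hMΓ)]
    congr 2
    · rw [inf_right_comm, inf_eq_right.mpr hEM]
  refine ⟨by rw [hMcard, hEcard, hMbcard, hC, mul_pow], ?_⟩
  intro r hr hRr hrK hcyc
  haveI := hcyc
  have hcE : IsCyclic ↥(E ⊓ Subgroup.centralizer (R : Set X)) :=
    isCyclic_of_injective (Subgroup.inclusion (inf_le_inf_right _ hEM)) (Subgroup.inclusion_injective _)
  have hline : Nat.card ↥(E ⊓ Subgroup.centralizer (R : Set X)) ≤ p := by
    rw [← IsCyclic.exponent_eq_card]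
    exact Nat.le_of_dvd hp.pos (Monoid.exponent_dvd_of_forall_pow_eq_one fun a => Subtype.ext (hE.2 a a.2.1))
  have h1 : ⁅K, K⁆ ≤ Subgroup.centralizer (E : Set X) := hEb r hRr hrK hline
  have hcyc2 : IsCyclic (((M ⊓ Subgroup.centralizer (R : Set X)).subgroupOf Γ).map f) :=
    haveI : IsCyclic ((M ⊓ Subgroup.centralizer (R : Set X)).subgroupOf Γ) :=
      isCyclic_of_surjective (Subgroup.subgroupOfEquivOfLe (inf_le_left.trans hMΓ)).symm.toMonoidHom
        (MulEquiv.surjective _)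
    isCyclic_of_surjective (f.subgroupMap _) (f.subgroupMap_surjective _)
  have h2 := hMbb r (hRcard.trans hRr) (fun h => hrK (h.trans (hcd hKΓ))) (hCR ▸ hcyc2)
  have hKK : ⁅K, K⁆ ≤ K := K.commutator_le_self
  have h3 : ⁅M, ⁅K, K⁆⁆ ≤ E := by
    refine Subgroup.commutator_le.mpr fun m hm c hc => ?_
    have hcΓ : c ∈ Γ := hKΓ (hKK hc)
    have hcmap : f ⟨c, hcΓ⟩ ∈ ⁅Kb, Kb⁆ := by
      rw [hKb, ← Subgroup.map_commutator]
      refine ⟨⟨c, hcΓ⟩, ?_, rfl⟩
      have h : c ∈ (⁅K.subgroupOf Γ, K.subgroupOf Γ⁆).map Γ.subtype := by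
        rw [Subgroup.map_commutator, Subgroup.map_subgroupOf_eq_of_le hKΓ]; exact hc
      obtain ⟨d, hd, e⟩ := h
      rwa [show (⟨c, hcΓ⟩ : Γ) = d from Subtype.ext e.symm]
    refine (hfker ⁅(⟨m, hMΓ hm⟩ : Γ), ⟨c, hcΓ⟩⁆).mp ?_
    rw [map_commutatorElement, commutatorElement_eq_one_iff_mul_comm]
    exact Subgroup.mem_centralizer_iff.mp (h2 hcmap) _ ⟨_, hm, rfl⟩
  refine Basics.le_centralizer_of_commutator_commutator_eq_bot ⁅K, K⁆ M (hKK.trans hKN)
    (hKM.coprime_dvd_left (Subgroup.card_dvd_of_le hKK)) (Or.inr hMs) ?_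
  exact le_bot_iff.mp ((Subgroup.commutator_mono h3 le_rfl).trans
    (Subgroup.commutator_eq_bot_iff_le_centralizer.mpr (Subgroup.le_centralizer_iff.mp h1)).le)

end Cfsg.Agent.OddLocal
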