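import Cfsg.Agent.Lib.OddLocal.BlackburnRankTwo
import Cfsg.Agent.Lib.OddLocal.FrobeniusAction

/-! The structure theorem for rank two `p`-groups equal to their commutator with an odd coprime group. -/

set_option autoImplicit false
set_option maxHeartbeats 1000000

namespace Cfsg.Agent.OddLocal

open scoped commutatorElement
open Cfsg

universe u

variable {G : Type u} [Group G] [Finite G] {p : ℕ} [hp : Fact p.Prime]

omit [Finite G] in
theorem commutator_zpow_zpow {a b : G} (ha : Commute ⁅a, b⁆ a) (hb : Commute ⁅a, b⁆ b) (i j : ℤ) :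
    ⁅a ^ i, b ^ j⁆ = ⁅a, b⁆ ^ (i * j) := by
  set c := ⁅a, b⁆ with hc
  have e : a * b * a⁻¹ = c * b := by rw [hc, commutatorElement_def]; group
  have h1 : a * b ^ j * a⁻¹ = c ^ j * b ^ j := by rw [← conj_zpow, e, hb.mul_zpow]
  have h2 : b ^ j * a * (b ^ j)⁻¹ = (c ^ j)⁻¹ * a := by
    calc b ^ j * a * (b ^ j)⁻¹ = (a * b ^ j * a⁻¹ * (b ^ j)⁻¹)⁻¹ * a := by group
      _ = (c ^ j)⁻¹ * a := by rw [h1, mul_inv_cancel_right]
  have h3 : b ^ j * a ^ i * (b ^ j)⁻¹ = (c ^ j)⁻¹ ^ i * a ^ i := by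
    rw [← conj_zpow, h2, ((ha.zpow_left j).inv_left).mul_zpow]
  calc ⁅a ^ i, b ^ j⁆ = a ^ i * (b ^ j * a ^ i * (b ^ j)⁻¹)⁻¹ := by rw [commutatorElement_def]; group
    _ = a ^ i * ((c ^ j)⁻¹ ^ i * a ^ i)⁻¹ := by rw [h3]
    _ = c ^ (i * j) := by
      rw [mul_inv_rev, ← mul_assoc, mul_inv_cancel, one_mul, inv_zpow, inv_inv, ← zpow_mul, mul_comm]

/-- With subgroups of exponent `p` of order at most `p ^ 2`, the group is abelian. -/
theorem commutative_of_smallExponent (hp3 : 3 < p) {R A : Subgroup G} (hR : IsPGroup p R)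
    (hA : A ≤ Subgroup.normalizer (R : Set G)) (hcop : (Nat.card A).Coprime p) (hRA : ⁅R, A⁆ = R)
    (hs : SmallExponent p R) : ⁅R, R⁆ = ⊥ := by
  by_contra hne
  set D := ⁅R, R⁆ with hD
  set N := ⁅D, R⁆ ⊔ Subgroup.closure {v | ∃ c ∈ D, c ^ p = v} with hN
  have hDR : D ≤ R := R.commutator_le_self
  have hNle : Subgroup.normalizer (R : Set G) ≤ Subgroup.normalizer (N : Set G) := by
    intro g hg
    have hgR := Subgroup.mem_normalizer_iff_map_conj_eq.mp hg
    change R.map (MulAut.conj g).toMonoidHom = R at hgR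
    have hgD : D.map (MulAut.conj g).toMonoidHom = D := by rw [hD, Subgroup.map_commutator, hgR]
    rw [Subgroup.mem_normalizer_iff_map_conj_eq]
    change N.map (MulAut.conj g).toMonoidHom = N
    rw [hN, Subgroup.map_sup, Subgroup.map_commutator, hgD, hgR, MonoidHom.map_closure]
    congr 2
    ext v
    constructor
    · rintro ⟨_, ⟨c, hc, rfl⟩, rfl⟩
      refine ⟨g * c * g⁻¹, hgD.le ⟨c, hc, rfl⟩, ?_⟩
      change (g * c * g⁻¹) ^ p = g * c ^ p * g⁻¹
      exact conj_pow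
    · rintro ⟨c, hc, rfl⟩
      obtain ⟨c', hc', e⟩ := hgD.ge hc
      refine ⟨c' ^ p, ⟨c', hc', rfl⟩, ?_⟩
      rw [map_pow, e]
  set Γ := Subgroup.normalizer (N : Set G)
  have hRΓ : R ≤ Γ := Subgroup.le_normalizer.trans hNle
  have hAΓ : A ≤ Γ := hA.trans hNle
  haveI : (N.subgroupOf Γ).Normal := (Subgroup.normal_subgroupOf_iff_le_normalizer Subgroup.le_normalizer).mpr le_rfl
  let f := QuotientGroup.mk' (N.subgroupOf Γ)
  set Rb := (R.subgroupOf Γ).map f with hRb
  set Ab := (A.subgroupOf Γ).map f with hAb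
  have hmapc : ∀ {S T : Subgroup G}, S ≤ Γ → T ≤ Γ →
      (⁅S, T⁆.subgroupOf Γ).map f = ⁅(S.subgroupOf Γ).map f, (T.subgroupOf Γ).map f⁆ := by
    intro S T hS hT
    rw [← Subgroup.map_commutator]
    congr 1
    refine Subgroup.map_injective Γ.subtype_injective ?_
    rw [Subgroup.map_commutator, Subgroup.map_subgroupOf_eq_of_le hS, Subgroup.map_subgroupOf_eq_of_le hT,
      Subgroup.map_subgroupOf_eq_of_le ((Subgroup.commutator_mono hS hT).trans Γ.commutator_le_self)]
  let ψ : R →* Rb :=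
    { toFun := fun r => ⟨f ⟨r, hRΓ r.2⟩, ⟨_, r.2, rfl⟩⟩
      map_one' := Subtype.ext (map_one f)
      map_mul' := fun a b => Subtype.ext (map_mul f ⟨_, hRΓ a.2⟩ ⟨_, hRΓ b.2⟩) }
  have hψ : Function.Surjective ψ := by rintro ⟨_, r, hr, rfl⟩; exact ⟨⟨r, hr⟩, rfl⟩
  have hsb : SmallExponent p Rb :=
    (smallExponent_quotient hp3 _ R rfl hR hs ψ.ker).of_injective
      (QuotientGroup.quotientKerEquivOfSurjective ψ hψ).symm.toMonoidHom (MulEquiv.injective _)
  refine not_class_two hp3 ((hR.comap_subtype (K := Γ)).map f) ?_ ?_ ?_ hsb ?_ ?_ ?_ (R := Rb) (A := Ab)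
  · refine (Subgroup.map_mono ?_).trans (Subgroup.le_normalizer_map _)
    intro b hb
    rw [← Subgroup.subgroupOf_normalizer_eq hRΓ, Subgroup.mem_subgroupOf]
    exact hA hb
  · exact hcop.coprime_dvd_left ((Subgroup.card_map_dvd _ f).trans
      (Nat.card_congr (Subgroup.subgroupOfEquivOfLe hAΓ).toEquiv).dvd)
  · rw [← hmapc hRΓ hAΓ, hRA]
  · rw [← hmapc hRΓ hRΓ, ← hD, Ne, Subgroup.map_eq_bot_iff, QuotientGroup.ker_mk']
    intro h
    have hDN : D ≤ N := fun d hd => h (show (⟨d, (hDR.trans hRΓ) hd⟩ : Γ) ∈ D.subgroupOf Γ from hd)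
    have hDp : IsPGroup p D := hR.to_le hDR
    have hNR : ⁅D, R⁆ ≤ D :=
      (Subgroup.commutator_mono hDR le_rfl).trans le_rfl
    have hsup : (⁅D, R⁆.subgroupOf D) ⊔ frattini D = ⊤ := by
      refine Subgroup.map_injective D.subtype_injective (le_antisymm ?_ ?_)
      · rw [← MonoidHom.range_eq_map, Subgroup.range_subtype]; exact Subgroup.map_subtype_le _
      · rw [← MonoidHom.range_eq_map, Subgroup.range_subtype, Subgroup.map_sup, Subgroup.map_subgroupOf_eq_of_le hNR]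
        refine hDN.trans (sup_le_sup_left ((Subgroup.closure_le _).mpr ?_) _)
        rintro _ ⟨c, hc, rfl⟩
        exact ⟨(⟨c, hc⟩ : D) ^ p, Basics.pow_mem_frattini hDp _, rfl⟩
    have h1 : D ≤ ⁅D, R⁆ := Subgroup.subgroupOf_eq_top.mp (frattini_nongenerating hsup)
    have h2 : ∀ i, D ≤ R.lowerCentralSeries i := by
      intro i
      induction i with
      | zero => simpa using hDR
      | succ i ih => rw [Subgroup.lowerCentralSeries_succ]; exact h1.trans (Subgroup.commutator_mono ih le_rfl)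
    obtain ⟨n, hn⟩ := (Subgroup.isNilpotent_iff_lowerCentralSeries R).mp hR.isNilpotent
    exact hne (le_bot_iff.mp (hn ▸ h2 n))
  · rw [← hmapc hRΓ hRΓ, ← hmapc (R.commutator_le_self.trans hRΓ) hRΓ, Subgroup.map_eq_bot_iff, QuotientGroup.ker_mk']
    exact fun d hd => (le_sup_left (b := Subgroup.closure {v | ∃ c ∈ D, c ^ p = v})) hd
  · rw [← hmapc hRΓ hRΓ, ← hD]
    rintro _ ⟨d, hd, rfl⟩
    rw [← map_pow]
    exact (QuotientGroup.eq_one_iff _).mpr (Subgroup.mem_sup_right (Subgroup.subset_closure ⟨d, hd, rfl⟩))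

/-- Elements of order prime to six centralize a rank two `3`-group. -/
theorem three_case {R A : Subgroup G} (hR : IsPGroup 3 R) (hR1 : R ≠ ⊥) (hr : Cfsg.PRankLE 3 2 R)
    (hA : A ≤ Subgroup.normalizer (R : Set G)) (hcop : (Nat.card A).Coprime 3) (hAodd : Odd (Nat.card A)) :
    ⁅R, A⁆ ≠ R := by
  intro hRA
  refine hR1 ?_
  suffices hc : A ≤ Subgroup.centralizer (R : Set G) by
    rw [← hRA, Subgroup.commutator_eq_bot_iff_le_centralizer]
    exact Subgroup.le_centralizer_iff.mp hc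
  haveI : Fact (Nat.Prime 3) := ⟨by norm_num⟩
  set Γ := Subgroup.normalizer (R : Set G)
  haveI : (R.subgroupOf Γ).Normal := (Subgroup.normal_subgroupOf_iff_le_normalizer Subgroup.le_normalizer).mpr le_rfl
  have key : ∀ q : ℕ, q.Prime → q ∣ Nat.card A → ∀ a ∈ A, (∃ j, a ^ q ^ j = 1) →
      a ∈ Subgroup.centralizer (R : Set G) := by
    intro q hq hqd a ha hj
    haveI := Fact.mk hq
    have hq3 : 3 < q := by
      have h2 : q ≠ 2 := fun h => (Nat.not_even_iff_odd.mpr hAodd) (even_iff_two_dvd.mpr (h ▸ hqd))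
      have h3 : q ≠ 3 := fun h => by
        subst h
        exact absurd (Nat.eq_one_of_dvd_coprimes hcop hqd dvd_rfl) (by norm_num)
      have := hq.two_le
      omega
    have h := large_prime_centralizes (G := Γ) (T := R.subgroupOf Γ) (by norm_num : (3 : ℕ) ≠ 2) hq3
      (hR.comap_subtype) (fun X hX => by
        rw [← Subgroup.card_map_of_injective
          (f := (Subgroup.subgroupOfEquivOfLe (Subgroup.le_normalizer : R ≤ Γ)).toMonoidHom) (MulEquiv.injective _)]
        have h2 := Transfer.ea_map hX (Subgroup.subgroupOfEquivOfLe (Subgroup.le_normalizer : R ≤ Γ)).toMonoidHom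
        exact hr _ h2.1 h2.2)
      (x := ⟨a, hA ha⟩) (by obtain ⟨j, hj⟩ := hj; exact ⟨j, Subtype.ext hj⟩)
    refine Subgroup.mem_centralizer_iff.mpr fun r hr' => ?_
    exact congrArg Subtype.val (Subgroup.mem_centralizer_iff.mp h ⟨r, Subgroup.le_normalizer hr'⟩ hr')
  rw [← Subgroup.relIndex_eq_one]
  refine Nat.eq_one_iff_not_exists_prime_dvd.mpr fun q hq hd => ?_
  haveI := Fact.mk hq
  have hqA : q ∣ Nat.card A := hd.trans (Subgroup.relIndex_dvd_card _ _)
  obtain ⟨S⟩ : Nonempty (Sylow q A) := inferInstance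
  have hSle : (S : Subgroup A) ≤ (Subgroup.centralizer (R : Set G)).subgroupOf A := by
    intro s hs
    obtain ⟨j, hj⟩ := S.2 ⟨s, hs⟩
    exact key q hq hqA s s.2 ⟨j, congrArg (fun v : (S : Subgroup A) => ((v : A) : G)) hj⟩
  exact S.not_dvd_index (hd.trans (Subgroup.index_dvd_of_le hSle))

theorem blackburn (hp2 : p ≠ 2) {R A : Subgroup G} (hR : IsPGroup p R) (hR1 : R ≠ ⊥) (hr : Cfsg.PRankLE p 2 R)
    (hA : A ≤ Subgroup.normalizer (R : Set G)) (hcop : (Nat.card A).Coprime p) (hAodd : Odd (Nat.card A))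
    (hRA : ⁅R, A⁆ = R) :
    3 < p ∧ (IsMulCommutative R ∨ ∃ R₁ R₂ : Subgroup G, R₁ ⊔ R₂ = R ∧ (∀ a ∈ R₁, ∀ b ∈ R₂, a * b = b * a) ∧
      ¬ IsMulCommutative R₁ ∧ Nat.card R₁ = p ^ 3 ∧ Monoid.exponent R₁ = p ∧ IsCyclic R₂ ∧
      Subgroup.closure {x : G | x ∈ R₂ ∧ x ^ p = 1} = ⁅R₁, R₁⁆ ∧ ⁅R₁, R₁⁆ = R₁ ⊓ Subgroup.centralizer (R₁ : Set G)) := by
  classical
  have hp3 : 3 < p := by
    rcases Nat.lt_or_ge 3 p with h | h
    · exact h
    · exfalso
      have := hp.out.two_le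
      obtain rfl : p = 3 := by omega
      exact three_case hR hR1 hr hA hcop hAodd hRA
  refine ⟨hp3, ?_⟩
  have hrk : ∀ E : Subgroup R, IsElementaryAbelian p E → Nat.card E ≤ p ^ 2 := fun E hE => hr E hE.1 hE.2
  set D := (Subgroup.closure {x : R | x ^ p = 1}).map R.subtype with hDdef
  have hDexp : ∀ d ∈ D, d ^ p = 1 := by
    rintro _ ⟨d, hd, rfl⟩
    exact congrArg Subtype.val (omega_exponent hp3 _ R rfl hR hrk d hd)
  have hDR : D ≤ R := Subgroup.map_subtype_le _
  have hmemD : ∀ v ∈ R, v ^ p = 1 → v ∈ D := fun v hv h =>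
    ⟨⟨v, hv⟩, Subgroup.subset_closure (Subtype.ext h), rfl⟩
  haveI hDchar : (Subgroup.closure {x : R | x ^ p = 1}).Characteristic := by
    rw [Subgroup.characteristic_iff_map_le]
    intro φ
    rw [MonoidHom.map_closure, Subgroup.closure_le]
    rintro _ ⟨y, hy, rfl⟩
    refine Subgroup.subset_closure ?_
    change φ y ^ p = 1
    rw [← map_pow, show y ^ p = 1 from hy, map_one]
  have hND : Subgroup.normalizer (R : Set G) ≤ Subgroup.normalizer (D : Set G) := normalizer_le_normalizer_map_char R _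
  have hRD : R ≤ Subgroup.normalizer (D : Set G) := Subgroup.le_normalizer.trans hND
  by_cases hDsmall : Nat.card D ≤ p ^ 2
  · left
    have hs : SmallExponent p R := fun Q hQ => by
      rw [← Subgroup.card_map_of_injective R.subtype_injective]
      refine le_trans (Subgroup.card_le_of_le ?_) hDsmall
      rintro _ ⟨v, hv, rfl⟩
      exact hmemD v v.2 (congrArg Subtype.val (hQ v hv))
    have h := commutative_of_smallExponent hp3 hR hA hcop hRA hs
    exact ⟨⟨fun a b => Subtype.ext (commutatorElement_eq_one_iff_mul_comm.mp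
      (Subgroup.mem_bot.mp (h ▸ Subgroup.commutator_mem_commutator a.2 b.2)))⟩⟩
  right
  have hDp : IsPGroup p D := hR.to_le hDR
  have hD3 : Nat.card D = p ^ 3 := by
    have h1 := card_le_cube_of_exponent hp2 (R := D) (fun v => Subtype.ext (hDexp v v.2)) (fun E hE => by
      rw [← Subgroup.card_map_of_injective (Subgroup.inclusion_injective hDR)]
      exact hrk _ (Transfer.ea_map hE _))
    obtain ⟨n, hn⟩ := hDp.exists_card_eq
    rw [hn, Nat.pow_le_pow_iff_right hp.out.one_lt] at h1 hDsmall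
    rw [hn]; congr 1; omega
  have hDnab : ¬ IsMulCommutative D := by
    intro h
    refine hDsmall ?_
    rw [← Basics.card_subgroupOf hDR]
    refine hrk _ ⟨⟨⟨fun a b => ?_⟩⟩, fun a ha => Subtype.ext (hDexp _ ha)⟩
    exact Subtype.ext (Subtype.ext (congrArg Subtype.val (h.is_comm.comm ⟨_, a.2⟩ ⟨_, b.2⟩) :))
  set Z := D ⊓ Subgroup.centralizer (D : Set G) with hZdef
  set C := R ⊓ Subgroup.centralizer (D : Set G) with hCdef
  have hDC : D ⊓ C = Z := by rw [hCdef, ← inf_assoc, inf_eq_left.mpr hDR]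
  have hZp : Nat.card Z = p := by
    haveI : Nontrivial D := (Subgroup.nontrivial_iff_ne_bot _).mpr (fun h => by
      rw [h, Subgroup.card_bot] at hD3
      exact absurd hD3 (ne_of_lt (Nat.one_lt_pow (by norm_num) hp.out.one_lt)))
    have hZc : Nat.card Z = Nat.card (Subgroup.center D) := by
      rw [← Subgroup.card_map_of_injective (K := Subgroup.center D) D.subtype_injective]
      congr 2
      ext v
      constructor
      · intro hv
        exact ⟨⟨v, hv.1⟩, Subgroup.mem_center_iff.mpr fun w => Subtype.ext (Subgroup.mem_centralizer_iff.mp hv.2 w w.2), rfl⟩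
      · rintro ⟨w, hw, rfl⟩
        exact Subgroup.mem_inf.mpr ⟨w.2, Subgroup.mem_centralizer_iff.mpr fun v hv =>
          congrArg Subtype.val (Subgroup.mem_center_iff.mp hw ⟨v, hv⟩)⟩
    haveI := hDp.center_nontrivial
    obtain ⟨k, hk⟩ := (hDp.to_subgroup (Subgroup.center D)).exists_card_eq
    have hk1 : 1 ≤ k := Nat.pos_of_ne_zero fun h => by
      rw [h, pow_zero] at hk
      exact absurd hk (Finite.one_lt_card (α := Subgroup.center D)).ne'
    have hk2 : k < 2 := by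
      by_contra hge
      push Not at hge
      suffices hq : IsCyclic (D ⧸ Subgroup.center D) from
        hDnab ⟨⟨(isMulCommutative_of_isCyclic_quotient_center_self D).is_comm.comm⟩⟩
      have h := Subgroup.card_mul_index (Subgroup.center D)
      rw [hk, hD3] at h
      have hidx : (Subgroup.center D).index ∣ p := by
        obtain ⟨i, hi⟩ := hDp.index (Subgroup.center D)
        rw [hi, ← pow_add] at h
        have := Nat.pow_right_injective hp.out.two_le h
        rw [hi]; exact (Nat.pow_dvd_pow p (by omega : i ≤ 1)).trans (pow_one p).dvd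
      rw [Subgroup.index_eq_card] at hidx
      rcases (Nat.dvd_prime hp.out).mp hidx with h1 | h1
      · haveI : Subsingleton (D ⧸ Subgroup.center D) := (Nat.card_eq_one_iff_unique.mp h1).1
        infer_instance
      · exact isCyclic_of_prime_card h1
    rw [hZc, hk, show k = 1 by omega, pow_one]
  have hZexp : ∀ v ∈ Z, v ^ p = 1 := fun v hv => hDexp v hv.1
  have hNC : Subgroup.normalizer (R : Set G) ≤ Subgroup.normalizer (C : Set G) :=
    (le_inf le_rfl hND).trans normalizer_le_normalizer_inf_centralizer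
  have hNZ : Subgroup.normalizer (R : Set G) ≤ Subgroup.normalizer (Z : Set G) :=
    (le_inf hND hND).trans normalizer_le_normalizer_inf_centralizer
  -- `C` is cyclic and central
  have hCcyc : IsCyclic C := by
    by_contra h
    obtain ⟨E, -, hE, -, hEp⟩ := PGroup23.exists_normal_elementary_sq hp2 (hR.to_le inf_le_left) h
    have h1 : E.map C.subtype ≤ Z := by
      rintro _ ⟨e, he, rfl⟩
      rw [← hDC]
      exact Subgroup.mem_inf.mpr ⟨hmemD _ e.2.1 (congrArg Subtype.val (hEp e he)), e.2⟩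
    have h2 := Subgroup.card_le_of_le h1
    rw [Subgroup.card_map_of_injective C.subtype_injective, hE, hZp] at h2
    nlinarith [hp.out.two_le]
  have hCcent : ∀ r ∈ R, ∀ c ∈ C, Commute r c := by
    have hAut : ∀ g ∈ Subgroup.normalizer (R : Set G), ∀ h ∈ Subgroup.normalizer (R : Set G), ∀ c ∈ C,
        g * (h * c * h⁻¹) * g⁻¹ = h * (g * c * g⁻¹) * h⁻¹ := by
      intro g hg h hh c hc
      obtain ⟨w, hw⟩ := hCcyc.exists_generator
      obtain ⟨n, hn⟩ := hw ⟨c, hc⟩
      have hn' : (w : G) ^ n = c := congrArg Subtype.val hn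
      obtain ⟨i, hi⟩ := hw ⟨g * w * g⁻¹, (Subgroup.mem_normalizer_iff.mp (hNC hg) w).mp w.2⟩
      obtain ⟨j, hj⟩ := hw ⟨h * w * h⁻¹, (Subgroup.mem_normalizer_iff.mp (hNC hh) w).mp w.2⟩
      have hi' : g * w * g⁻¹ = (w : G) ^ i := (congrArg Subtype.val hi).symm
      have hj' : h * w * h⁻¹ = (w : G) ^ j := (congrArg Subtype.val hj).symm
      rw [← hn', ← conj_zpow, ← conj_zpow, ← conj_zpow, ← conj_zpow, hi', hj', ← conj_zpow, hi', ← conj_zpow, hj',
        ← zpow_mul, ← zpow_mul, ← zpow_mul, ← zpow_mul]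
      ring_nf
    have hle : R ≤ Subgroup.centralizer (C : Set G) := by
      rw [← hRA]
      refine Subgroup.commutator_le.mpr fun r hr a ha => Subgroup.mem_centralizer_iff.mpr fun c hc => ?_
      have hrN : r ∈ Subgroup.normalizer (R : Set G) := Subgroup.le_normalizer hr
      have hc' : (a * r)⁻¹ * c * (a * r) ∈ C := by
        simpa using (Subgroup.mem_normalizer_iff.mp (hNC (inv_mem (mul_mem (hA ha) hrN))) c).mp hc
      have h := hAut r hrN a (hA ha) _ hc'
      have e1 : a * (r * ((a * r)⁻¹ * c * (a * r)) * r⁻¹) * a⁻¹ = c := by group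
      rw [e1] at h
      rw [commutatorElement_def]
      have e2 : r * (a * ((a * r)⁻¹ * c * (a * r)) * a⁻¹) * r⁻¹ = (r * a * r⁻¹ * a⁻¹) * c * (r * a * r⁻¹ * a⁻¹)⁻¹ := by group
      rw [e2] at h
      exact (mul_inv_eq_iff_eq_mul.mp h).symm
    exact fun r hr c hc => (Subgroup.mem_centralizer_iff.mp (hle hr) c hc).symm
  have hZC : Z ≤ C := hDC ▸ inf_le_right
  have hZcent : ∀ r ∈ R, ∀ z ∈ Z, Commute r z := fun r hr z hz => hCcent r hr z (hZC hz)
  -- the commutator of `D`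
  have hDD : ∀ a ∈ D, ∀ b ∈ D, ⁅a, b⁆ ∈ Z := by
    intro a ha b hb
    haveI : IsMulCommutative (D ⧸ Subgroup.center D) := by
      have hZc : Nat.card (Subgroup.center D) = p := by
        rw [← hZp, ← Subgroup.card_map_of_injective (K := Subgroup.center D) D.subtype_injective]
        congr 2
        ext v
        constructor
        · rintro ⟨w, hw, rfl⟩
          exact Subgroup.mem_inf.mpr ⟨w.2, Subgroup.mem_centralizer_iff.mpr fun v hv =>
            congrArg Subtype.val (Subgroup.mem_center_iff.mp hw ⟨v, hv⟩)⟩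
        · intro hv
          exact ⟨⟨v, hv.1⟩, Subgroup.mem_center_iff.mpr fun w => Subtype.ext (Subgroup.mem_centralizer_iff.mp hv.2 w w.2), rfl⟩
      refine IsPGroup.isMulCommutative_of_card_eq_prime_sq (p := p) ?_
      have h := Subgroup.card_mul_index (Subgroup.center D)
      rw [hZc, hD3, Subgroup.index_eq_card] at h
      exact Nat.eq_of_mul_eq_mul_left hp.out.pos (h.trans (by ring))
    have h1 : ⁅(⟨a, ha⟩ : D), ⟨b, hb⟩⁆ ∈ Subgroup.center D := by
      rw [← QuotientGroup.eq_one_iff]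
      change QuotientGroup.mk' _ _ = 1
      rw [map_commutatorElement, commutatorElement_eq_one_iff_mul_comm]
      exact IsMulCommutative.is_comm.comm _ _
    exact Subgroup.mem_inf.mpr ⟨D.mul_mem (D.mul_mem (D.mul_mem ha hb) (D.inv_mem ha)) (D.inv_mem hb),
      Subgroup.mem_centralizer_iff.mpr fun w hw => congrArg Subtype.val (Subgroup.mem_center_iff.mp h1 ⟨w, hw⟩)⟩
  have hD' : ⁅D, D⁆ = Z := by
    refine Subgroup.eq_of_le_of_card_ge (Subgroup.commutator_le.mpr hDD) ?_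
    obtain ⟨k, hk⟩ := (hDp.to_le D.commutator_le_self).exists_card_eq
    rcases Nat.eq_zero_or_pos k with rfl | hk0
    · exfalso
      refine hDnab ⟨⟨fun a b => Subtype.ext (commutatorElement_eq_one_iff_mul_comm.mp (Subgroup.mem_bot.mp ?_))⟩⟩
      rw [← Subgroup.card_eq_one.mp (hk.trans (pow_zero p))]
      exact Subgroup.commutator_mem_commutator a.2 b.2
    · rw [hk, hZp]; exact Nat.le_self_pow hk0.ne' p
  -- the elements acting trivially on `D / Z` form `D C`
  have hK0 : ∀ r ∈ R, (∀ d ∈ D, ⁅r, d⁆ ∈ Z) → r ∈ D ⊔ C := by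
    let K0 : Subgroup G :=
      { carrier := {r | r ∈ R ∧ ∀ d ∈ D, ⁅r, d⁆ ∈ Z}
        one_mem' := ⟨one_mem R, fun d _ => by rw [commutatorElement_one_left]; exact one_mem _⟩
        mul_mem' := fun {r s} hr hs => ⟨mul_mem hr.1 hs.1, fun d hd => by
          rw [show ⁅r * s, d⁆ = r * ⁅s, d⁆ * r⁻¹ * ⁅r, d⁆ by simp only [commutatorElement_def]; group]
          refine mul_mem ?_ (hr.2 d hd)
          rw [(hZcent r hr.1 _ (hs.2 d hd)).eq, mul_inv_cancel_right]
          exact hs.2 d hd⟩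
        inv_mem' := fun {r} hr => ⟨inv_mem hr.1, fun d hd => by
          rw [show ⁅r⁻¹, d⁆ = r⁻¹ * ⁅r, d⁆⁻¹ * r by simp only [commutatorElement_def]; group,
            (hZcent r⁻¹ (inv_mem hr.1) _ (inv_mem (hr.2 d hd))).eq, inv_mul_cancel_right]
          exact inv_mem (hr.2 d hd)⟩ }
    intro r hr hrd
    suffices hle : K0 ≤ D ⊔ C from hle ⟨hr, hrd⟩
    have hDK : D ≤ K0 := fun d hd => ⟨hDR hd, fun e he => hDD d hd e he⟩
    have hCK : C ≤ K0 := fun c hc => ⟨hc.1, fun d hd => by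
      rw [commutatorElement_eq_one_iff_mul_comm.mpr (Subgroup.mem_centralizer_iff.mp hc.2 d hd).symm]
      exact one_mem _⟩
    refine (Subgroup.eq_of_le_of_card_ge (sup_le hDK hCK) ?_).ge
    -- generators of `D`
    obtain ⟨x, hx, hxZ⟩ : ∃ x ∈ D, x ∉ Z := by
      by_contra h
      push Not at h
      have := Subgroup.card_le_of_le (h : D ≤ Z)
      rw [hD3, hZp] at this
      nlinarith [hp.out.two_le, Nat.le_self_pow (n := 2) (by norm_num) p]
    obtain ⟨y, hy, hxy⟩ : ∃ y ∈ D, ¬ Commute x y := by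
      by_contra h
      push Not at h
      exact hxZ (Subgroup.mem_inf.mpr ⟨hx, Subgroup.mem_centralizer_iff.mpr fun w hw => (h w hw).symm.eq⟩)
    have hgen : Subgroup.zpowers x ⊔ Subgroup.zpowers y ⊔ Z = D := by
      refine Subgroup.eq_of_le_of_card_ge (sup_le (sup_le (Subgroup.zpowers_le.mpr hx) (Subgroup.zpowers_le.mpr hy)) inf_le_left) ?_
      set W := Subgroup.zpowers x ⊔ Subgroup.zpowers y ⊔ Z
      have hWD : W ≤ D := sup_le (sup_le (Subgroup.zpowers_le.mpr hx) (Subgroup.zpowers_le.mpr hy)) inf_le_left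
      set W1 := Subgroup.zpowers x ⊔ Z
      have h1 : Z < W1 := lt_of_le_of_ne le_sup_right fun e =>
        hxZ (e.ge (Subgroup.mem_sup_left (Subgroup.mem_zpowers x)))
      have h2 : W1 < W := by
        refine lt_of_le_of_ne (sup_le (le_sup_left.trans le_sup_left) le_sup_right) fun e => hxy ?_
        have hyW : y ∈ W1 := e.ge (Subgroup.mem_sup_left (Subgroup.mem_sup_right (Subgroup.mem_zpowers y)))
        have hW1 : W1 ≤ Subgroup.centralizer ({x} : Set G) :=
          sup_le (Subgroup.zpowers_le.mpr (Subgroup.mem_centralizer_singleton_iff.mpr rfl))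
            (fun z hz => Subgroup.mem_centralizer_singleton_iff.mpr (Subgroup.mem_centralizer_iff.mp hz.2 x hx).symm)
        exact (Subgroup.mem_centralizer_singleton_iff.mp (hW1 hyW)).symm
      obtain ⟨a, ha⟩ := (hDp.to_le ((le_sup_right.trans h2.le : Z ≤ W).trans hWD)).exists_card_eq
      obtain ⟨b, hb⟩ := (hDp.to_le (h2.le.trans hWD)).exists_card_eq
      obtain ⟨c, hc⟩ := (hDp.to_le hWD).exists_card_eq
      have h1' := Basics.card_lt_of_lt h1
      have h2' := Basics.card_lt_of_lt h2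
      rw [ha, hb, Nat.pow_lt_pow_iff_right hp.out.one_lt] at h1'
      rw [hb, hc, Nat.pow_lt_pow_iff_right hp.out.one_lt] at h2'
      have ha1 : a = 1 := Nat.pow_right_injective hp.out.two_le (by simp only; rw [← ha, hZp, pow_one])
      rw [hD3, hc]
      exact Nat.pow_le_pow_right hp.out.pos (by omega)
    let g : K0 → Z × Z := fun r => (⟨⁅(r : G), x⁆, r.2.2 x hx⟩, ⟨⁅(r : G), y⁆, r.2.2 y hy⟩)
    have hfib : ∀ r s : K0, g r = g s → (r : G)⁻¹ * s ∈ C := by
      intro r s h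
      refine Subgroup.mem_inf.mpr ⟨mul_mem (inv_mem r.2.1) s.2.1, ?_⟩
      have hcom : ∀ v : G, ⁅(r : G), v⁆ = ⁅(s : G), v⁆ → v ∈ Subgroup.centralizer ({(r : G)⁻¹ * s} : Set G) := by
        intro v hv
        refine Subgroup.mem_centralizer_singleton_iff.mpr ?_
        rw [commutatorElement_def, commutatorElement_def, mul_left_inj] at hv
        calc v * ((r : G)⁻¹ * s) = (r : G)⁻¹ * ((r : G) * v * (r : G)⁻¹) * s := by group
          _ = (r : G)⁻¹ * ((s : G) * v * (s : G)⁻¹) * s := by rw [hv]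
          _ = (r : G)⁻¹ * s * v := by group
      have hle : D ≤ Subgroup.centralizer ({(r : G)⁻¹ * s} : Set G) := by
        rw [← hgen]
        refine sup_le (sup_le (Subgroup.zpowers_le.mpr ?_) (Subgroup.zpowers_le.mpr ?_)) ?_
        · exact hcom x (congrArg (fun v : Z × Z => (v.1 : G)) h)
        · exact hcom y (congrArg (fun v : Z × Z => (v.2 : G)) h)
        · exact fun z hz => Subgroup.mem_centralizer_singleton_iff.mpr
            (hZcent _ (mul_mem (inv_mem r.2.1) s.2.1) z hz).eq.symm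
      exact Subgroup.mem_centralizer_iff.mpr fun d hd => Subgroup.mem_centralizer_singleton_iff.mp (hle hd)
    let g' : K0 ⧸ C.subgroupOf K0 → Z × Z := fun q => g q.out
    have hg' : Function.Injective g' := by
      intro a b h
      rw [← QuotientGroup.out_eq' a, ← QuotientGroup.out_eq' b, QuotientGroup.eq]
      exact hfib _ _ h
    have h1 : Nat.card (K0 ⧸ C.subgroupOf K0) ≤ p * p := by
      have := Nat.card_le_card_of_injective g' hg'
      rwa [Nat.card_prod, hZp] at this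
    have h2 : Nat.card K0 ≤ Nat.card C * (p * p) := by
      rw [← Subgroup.card_mul_index (C.subgroupOf K0), Basics.card_subgroupOf hCK, Subgroup.index_eq_card]
      exact Nat.mul_le_mul_left _ h1
    have h3 := Basics.card_mul_card_eq_card_sup_mul_card_inf (N := D) (H := C) (inf_le_left.trans hRD)
    rw [hDC, hZp, hD3] at h3
    refine h2.trans (Nat.le_of_mul_le_mul_right ?_ hp.out.pos)
    rw [← h3]; exact le_of_eq (by ring)
  by_cases hall : ∀ r ∈ R, ∀ d ∈ D, ⁅r, d⁆ ∈ Z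
  · refine ⟨D, C, le_antisymm (sup_le hDR inf_le_left) fun r hr => hK0 r hr (hall r hr), fun a ha b hb =>
      Subgroup.mem_centralizer_iff.mp hb.2 a ha, hDnab, hD3, ?_, hCcyc, ?_, hD'⟩
    · refine ((Nat.dvd_prime hp.out).mp (Monoid.exponent_dvd_of_forall_pow_eq_one fun v : D =>
        Subtype.ext (hDexp v v.2))).resolve_left fun h => ?_
      haveI := Monoid.exp_eq_one_iff.mp h
      exact hDnab ⟨⟨fun a b => Subsingleton.elim _ _⟩⟩
    · rw [hD']
      refine le_antisymm ((Subgroup.closure_le _).mpr ?_) fun z hz => Subgroup.subset_closure ⟨hZC hz, hZexp z hz⟩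
      rintro v ⟨hv, hvp⟩
      rw [← hDC]
      exact Subgroup.mem_inf.mpr ⟨hmemD v hv.1 hvp, hv⟩
  exfalso
  push Not at hall
  obtain ⟨u0, hu0, d0, hd0, hud⟩ := hall
  -- the fixed line
  haveI hZn : (Z.subgroupOf R).Normal :=
    (Subgroup.normal_subgroupOf_iff_le_normalizer (inf_le_left.trans hDR)).mpr (Subgroup.le_normalizer.trans hNZ)
  haveI hDn : (D.subgroupOf R).Normal := (Subgroup.normal_subgroupOf_iff_le_normalizer hDR).mpr hRD
  haveI : ((D.subgroupOf R).map (QuotientGroup.mk' (Z.subgroupOf R))).Normal := hDn.map _ (QuotientGroup.mk'_surjective _)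
  obtain ⟨_, ⟨x', hx', rfl⟩, hxc, hx1⟩ := exists_mem_center_ne_one_of_normal (hR.to_quotient (Z.subgroupOf R))
    ((D.subgroupOf R).map (QuotientGroup.mk' (Z.subgroupOf R))) (by
      rw [Ne, Subgroup.map_eq_bot_iff, QuotientGroup.ker_mk']
      intro h
      have := Subgroup.card_le_of_le h
      rw [Basics.card_subgroupOf hDR, Basics.card_subgroupOf (inf_le_left.trans hDR), hD3, hZp] at this
      nlinarith [hp.out.two_le, Nat.le_self_pow (n := 2) (by norm_num) p])
  let M : Subgroup G :=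
    { carrier := {d | d ∈ D ∧ ∀ r ∈ R, ⁅r, d⁆ ∈ Z}
      one_mem' := ⟨one_mem D, fun r _ => by rw [commutatorElement_one_right]; exact one_mem _⟩
      mul_mem' := fun {a b} ha hb => ⟨mul_mem ha.1 hb.1, fun r hr => by
        rw [show ⁅r, a * b⁆ = ⁅r, a⁆ * (a * ⁅r, b⁆ * a⁻¹) by simp only [commutatorElement_def]; group,
          (hZcent a (hDR ha.1) _ (hb.2 r hr)).eq, mul_inv_cancel_right]
        exact mul_mem (ha.2 r hr) (hb.2 r hr)⟩
      inv_mem' := fun {a} ha => ⟨inv_mem ha.1, fun r hr => by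
        rw [show ⁅r, a⁻¹⁆ = a⁻¹ * ⁅r, a⁆⁻¹ * a by simp only [commutatorElement_def]; group,
          (hZcent a⁻¹ (inv_mem (hDR ha.1)) _ (inv_mem (ha.2 r hr))).eq, inv_mul_cancel_right]
        exact inv_mem (ha.2 r hr)⟩ }
  have hMD : M ≤ D := fun d hd => hd.1
  have hZM : Z ≤ M := fun z hz => ⟨hz.1, fun r hr => by
    rw [commutatorElement_eq_one_iff_mul_comm.mpr (hZcent r hr z hz).eq]; exact one_mem _⟩
  set x : G := (x' : G) with hxdef
  have hxZ : x ∉ Z := fun h => hx1 ((QuotientGroup.eq_one_iff x').mpr h)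
  have hxM : x ∈ M := ⟨hx', fun r hr => by
    have h := (QuotientGroup.eq_one_iff (N := Z.subgroupOf R) ⁅(⟨r, hr⟩ : R), x'⁆).mp (by
      change QuotientGroup.mk' _ _ = 1
      rw [map_commutatorElement, commutatorElement_eq_one_iff_mul_comm]
      exact Subgroup.mem_center_iff.mp hxc _)
    exact h⟩
  have hNM : Subgroup.normalizer (R : Set G) ≤ Subgroup.normalizer (M : Set G) := by
    intro g hg
    rw [Subgroup.mem_normalizer_iff_map_conj_eq]
    refine Subgroup.eq_of_le_of_card_ge ?_ (Subgroup.card_map_of_injective (MulEquiv.injective _)).ge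
    rintro _ ⟨d, hd, rfl⟩
    refine ⟨(Subgroup.mem_normalizer_iff.mp (hND hg) d).mp hd.1, fun r hr => ?_⟩
    change ⁅r, g * d * g⁻¹⁆ ∈ Z
    rw [show ⁅r, g * d * g⁻¹⁆ = g * ⁅g⁻¹ * r * g, d⁆ * g⁻¹ by simp only [commutatorElement_def]; group]
    refine (Subgroup.mem_normalizer_iff.mp (hNZ hg) _).mp (hd.2 _ ?_)
    simpa using (Subgroup.mem_normalizer_iff.mp (inv_mem hg) r).mp hr
  have hd0M : d0 ∉ M := fun h => hud (h.2 u0 hu0)
  have hMcard : Nat.card M = p ^ 2 := by
    obtain ⟨k, hk⟩ := (hDp.to_le hMD).exists_card_eq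
    have h1 := Basics.card_lt_of_lt (lt_of_le_of_ne hZM fun e => hxZ (e.ge hxM))
    have h2 := Basics.card_lt_of_lt (lt_of_le_of_ne hMD fun e => hd0M (e.ge hd0))
    rw [hZp, hk] at h1
    rw [hk, hD3, Nat.pow_lt_pow_iff_right hp.out.one_lt] at h2
    have h1' : 1 < k := (Nat.pow_lt_pow_iff_right hp.out.one_lt).mp (by rwa [pow_one])
    rw [hk, show k = 2 by omega]
  set y := d0 with hydef
  have hy : y ∈ D := hd0
  have hMgen : ∀ d ∈ D, ∃ (j : ℤ) (w : G), w ∈ M ∧ d = y ^ j * w := by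
    have hU : Subgroup.zpowers y ⊔ M = D := by
      refine Subgroup.eq_of_le_of_card_ge (sup_le (Subgroup.zpowers_le.mpr hy) hMD) ?_
      obtain ⟨k, hk⟩ := (hDp.to_le (sup_le (Subgroup.zpowers_le.mpr hy) hMD)).exists_card_eq
      have h1 := Basics.card_lt_of_lt (lt_of_le_of_ne (le_sup_right (a := Subgroup.zpowers y) (b := M)) fun e =>
        hd0M (e.ge (Subgroup.mem_sup_left (Subgroup.mem_zpowers y))))
      rw [hMcard, hk, Nat.pow_lt_pow_iff_right hp.out.one_lt] at h1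
      rw [hD3, hk]
      exact Nat.pow_le_pow_right hp.out.pos (by omega)
    intro d hd
    exact (mem_zpowers_sup_iff (hNM (Subgroup.le_normalizer (hDR hy)))).mp (hU.symm ▸ hd)
  have hMgen2 : ∀ d ∈ M, ∃ (i : ℤ) (w : G), w ∈ Z ∧ d = x ^ i * w := by
    have hU : Subgroup.zpowers x ⊔ Z = M := by
      refine Subgroup.eq_of_le_of_card_ge (sup_le (Subgroup.zpowers_le.mpr hxM) hZM) ?_
      obtain ⟨k, hk⟩ := (hDp.to_le ((sup_le (Subgroup.zpowers_le.mpr hxM) hZM).trans hMD)).exists_card_eq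
      have h1 := Basics.card_lt_of_lt (lt_of_le_of_ne (le_sup_right (a := Subgroup.zpowers x) (b := Z)) fun e =>
        hxZ (e.ge (Subgroup.mem_sup_left (Subgroup.mem_zpowers x))))
      rw [hZp, hk] at h1
      have h1' : 1 < k := (Nat.pow_lt_pow_iff_right hp.out.one_lt).mp (by rwa [pow_one])
      rw [hMcard, hk]
      exact Nat.pow_le_pow_right hp.out.pos h1'
    intro d hd
    exact (mem_zpowers_sup_iff (hNZ (Subgroup.le_normalizer (hDR (hMD hxM))))).mp (hU.symm ▸ hd)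
  -- `[R, D] ≤ M`
  haveI hMn : (M.subgroupOf R).Normal :=
    (Subgroup.normal_subgroupOf_iff_le_normalizer (hMD.trans hDR)).mpr (Subgroup.le_normalizer.trans hNM)
  let fM := QuotientGroup.mk' (M.subgroupOf R)
  have hDcentM : ∀ r ∈ R, ∀ d ∈ D, ⁅r, d⁆ ∈ M := by
    haveI : ((D.subgroupOf R).map fM).Normal := hDn.map _ (QuotientGroup.mk'_surjective _)
    obtain ⟨_, ⟨d1, hd1, rfl⟩, hd1c, hd11⟩ := exists_mem_center_ne_one_of_normal (hR.to_quotient (M.subgroupOf R))
      ((D.subgroupOf R).map fM) (fun h => hd0M (by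
        have h1 : fM ⟨d0, hDR hd0⟩ ∈ (D.subgroupOf R).map fM := ⟨_, hd0, rfl⟩
        rw [h, Subgroup.mem_bot] at h1
        exact (QuotientGroup.eq_one_iff (N := M.subgroupOf R) _).mp h1))
    intro r hr d hd
    have hD1 : Subgroup.zpowers (d1 : G) ⊔ M = D := by
      refine Subgroup.eq_of_le_of_card_ge (sup_le (Subgroup.zpowers_le.mpr hd1) hMD) ?_
      obtain ⟨k, hk⟩ : ∃ k, Nat.card ↥(Subgroup.zpowers (d1 : G) ⊔ M) = p ^ k :=
        (hDp.to_le (sup_le (Subgroup.zpowers_le.mpr hd1) hMD)).exists_card_eq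
      have h1 := Basics.card_lt_of_lt (lt_of_le_of_ne (le_sup_right (a := Subgroup.zpowers (d1 : G)) (b := M)) fun e =>
        hd11 ((QuotientGroup.eq_one_iff d1).mpr (e.ge (Subgroup.mem_sup_left (Subgroup.mem_zpowers _)))))
      rw [hMcard, hk, Nat.pow_lt_pow_iff_right hp.out.one_lt] at h1
      rw [hD3, hk]
      exact Nat.pow_le_pow_right hp.out.pos (by omega)
    obtain ⟨j, w, hw, rfl⟩ := (mem_zpowers_sup_iff (hNM (Subgroup.le_normalizer (hDR hd1)))).mp (hD1.symm ▸ hd)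
    refine (QuotientGroup.eq_one_iff (N := M.subgroupOf R) ⁅(⟨r, hr⟩ : R), d1 ^ j * ⟨w, hDR (hMD hw)⟩⁆).mp ?_
    change fM _ = 1
    rw [map_commutatorElement, map_mul, show fM ⟨w, hDR (hMD hw)⟩ = 1 from (QuotientGroup.eq_one_iff _).mpr hw, mul_one,
      commutatorElement_eq_one_iff_mul_comm, map_zpow]
    exact Subgroup.mem_center_iff.mp ((Subgroup.center _).zpow_mem hd1c j) _
  have hRM : ⁅R, R⁆ ≤ M := by
    have hcen : ∀ k ∈ D ⊔ C, ∀ (hk : k ∈ R), fM ⟨k, hk⟩ ∈ Subgroup.center (R ⧸ M.subgroupOf R) := by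
      intro k hk hkR
      obtain ⟨d, hd, c, hc, rfl⟩ := (Basics.mem_sup_of_le_normalizer (inf_le_left.trans hRD)).mp hk
      rw [show (⟨d * c, hkR⟩ : R) = ⟨d, hDR hd⟩ * ⟨c, hc.1⟩ from rfl, map_mul]
      refine mul_mem (Subgroup.mem_center_iff.mpr fun q => ?_) (Subgroup.mem_center_iff.mpr fun q => ?_)
      · obtain ⟨r, rfl⟩ := QuotientGroup.mk'_surjective _ q
        rw [← commutatorElement_eq_one_iff_mul_comm, ← map_commutatorElement]
        exact (QuotientGroup.eq_one_iff _).mpr (hDcentM r r.2 d hd)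
      · obtain ⟨r, rfl⟩ := QuotientGroup.mk'_surjective _ q
        rw [← map_mul, ← map_mul]
        exact congrArg fM (Subtype.ext (hCcent r r.2 c hc).eq)
    have hu0y : ⁅u0, y⁆ ∉ Z := hud
    have hdecomp : ∀ r ∈ R, ∃ n : ℤ, r * (u0 ^ n)⁻¹ ∈ D ⊔ C := by
      intro r hr
      obtain ⟨i, w, hw, hi⟩ := hMgen2 _ (hDcentM u0 hu0 y hy)
      obtain ⟨i', w', hw', hi'⟩ := hMgen2 _ (hDcentM r hr y hy)
      have hpi : ¬ (p : ℤ) ∣ i := by
        rintro ⟨t, rfl⟩
        refine hu0y ?_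
        rw [hi, zpow_mul, zpow_natCast, hDexp x (hMD hxM), one_zpow, one_mul]
        exact hw
      obtain ⟨a, b, hab⟩ := ((Prime.coprime_iff_not_dvd (Nat.prime_iff_prime_int.mp hp.out)).mpr hpi)
      -- powers of `u0`
      have hfin : ∀ n : ℤ, ∃ w'' ∈ Z, ⁅u0 ^ n, y⁆ = x ^ (i * n) * w'' := by
        let fZ := QuotientGroup.mk' (Z.subgroupOf R)
        intro n
        set U : R := ⟨u0, hu0⟩
        set Y : R := ⟨y, hDR hy⟩
        set X : R := ⟨x, hDR (hMD hxM)⟩
        have hxcen : ∀ q, Commute (fZ X) q := fun q => (Subgroup.mem_center_iff.mp hxc q).symm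
        have hUY : ⁅fZ U, fZ Y⁆ = fZ X ^ i := by
          rw [← map_commutatorElement, ← map_zpow]
          refine (QuotientGroup.eq (s := Z.subgroupOf R)).mpr ?_
          change ⁅u0, y⁆⁻¹ * x ^ i ∈ Z
          rw [hi, mul_inv_rev, inv_mul_cancel_right]
          exact inv_mem hw
        have h1 := commutator_zpow_zpow (a := fZ U) (b := fZ Y) (by rw [hUY]; exact (hxcen _).zpow_left i)
          (by rw [hUY]; exact (hxcen _).zpow_left i) n 1
        rw [zpow_one, mul_one, hUY, ← zpow_mul, ← map_zpow, ← map_zpow, ← map_commutatorElement] at h1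
        have h2 := (QuotientGroup.eq (s := Z.subgroupOf R)).mp h1.symm
        exact ⟨_, h2, by change ⁅u0 ^ n, y⁆ = x ^ (i * n) * ((x ^ (i * n))⁻¹ * ⁅u0 ^ n, y⁆); group⟩
      refine ⟨b * i', hK0 _ (mul_mem hr (inv_mem (zpow_mem hu0 _))) fun d hd => ?_⟩
      have hy' : ⁅r * (u0 ^ (b * i'))⁻¹, y⁆ ∈ Z := by
        obtain ⟨w2, hw2, e2⟩ := hfin (-(b * i'))
        rw [← zpow_neg, show ⁅r * u0 ^ (-(b * i')), y⁆ = r * ⁅u0 ^ (-(b * i')), y⁆ * r⁻¹ * ⁅r, y⁆ by
          simp only [commutatorElement_def]; group, e2, hi']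
        have hxr : r * x ^ (i * -(b * i')) * r⁻¹ * (x ^ (i * -(b * i')))⁻¹ ∈ Z :=
          (show x ^ (i * -(b * i')) ∈ M from zpow_mem hxM _).2 r hr
        have hxp : x ^ (i * -(b * i') + i') = 1 := by
          rw [show i * -(b * i') + i' = i' * a * p by linear_combination (-i') * hab, zpow_mul, zpow_natCast,
            hDexp _ (zpow_mem (hMD hxM) _)]
        rw [show r * (x ^ (i * -(b * i')) * w2) * r⁻¹ * (x ^ i' * w') =
          (r * x ^ (i * -(b * i')) * r⁻¹ * (x ^ (i * -(b * i')))⁻¹) * x ^ (i * -(b * i')) * (r * w2 * r⁻¹) * x ^ i' * w' by group,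
          (hZcent r hr w2 hw2).eq, mul_inv_cancel_right, mul_assoc _ w2 (x ^ i'),
          (hZcent _ (hDR (hMD (zpow_mem hxM i'))) w2 hw2).symm.eq, ← mul_assoc, mul_assoc _ (x ^ (i * -(b * i'))) (x ^ i'),
          ← zpow_add, hxp, mul_one]
        exact mul_mem (mul_mem hxr hw2) hw'
      obtain ⟨j, v, hv, rfl⟩ := hMgen d hd
      have hr' : r * (u0 ^ (b * i'))⁻¹ ∈ R := mul_mem hr (inv_mem (zpow_mem hu0 _))
      have hyj : ∀ j : ℤ, ⁅r * (u0 ^ (b * i'))⁻¹, y ^ j⁆ ∈ Z := by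
        intro j
        have h1 := commutator_zpow_zpow (a := r * (u0 ^ (b * i'))⁻¹) (b := y) ((hZcent _ hr' _ hy').symm)
          ((hZcent y (hDR hy) _ hy').symm) 1 j
        rw [zpow_one, one_mul] at h1
        rw [h1]; exact Subgroup.zpow_mem _ hy' j
      rw [show ⁅r * (u0 ^ (b * i'))⁻¹, y ^ j * v⁆ = ⁅r * (u0 ^ (b * i'))⁻¹, y ^ j⁆ * (y ^ j * ⁅r * (u0 ^ (b * i'))⁻¹, v⁆ * (y ^ j)⁻¹) by
        simp only [commutatorElement_def]; group,
        (hZcent _ (zpow_mem (hDR hy) j) _ (hv.2 _ hr')).eq, mul_inv_cancel_right]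
      exact mul_mem (hyj j) (hv.2 _ hr')
    refine Subgroup.commutator_le.mpr fun r hr s hs => ?_
    refine (QuotientGroup.eq_one_iff (N := M.subgroupOf R) ⁅(⟨r, hr⟩ : R), ⟨s, hs⟩⁆).mp ?_
    change fM _ = 1
    obtain ⟨n, hn⟩ := hdecomp r hr
    obtain ⟨n', hn'⟩ := hdecomp s hs
    have e1 : fM ⟨r, hr⟩ = fM ⟨r * (u0 ^ n)⁻¹, mul_mem hr (inv_mem (zpow_mem hu0 n))⟩ * fM ⟨u0, hu0⟩ ^ n := by
      rw [← map_zpow, ← map_mul]; exact congrArg fM (Subtype.ext (by simp))
    have e2 : fM ⟨s, hs⟩ = fM ⟨s * (u0 ^ n')⁻¹, mul_mem hs (inv_mem (zpow_mem hu0 n'))⟩ * fM ⟨u0, hu0⟩ ^ n' := by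
      rw [← map_zpow, ← map_mul]; exact congrArg fM (Subtype.ext (by simp))
    rw [map_commutatorElement, commutatorElement_eq_one_iff_commute, e1, e2]
    have c1 := hcen _ hn (mul_mem hr (inv_mem (zpow_mem hu0 n)))
    have c2 := hcen _ hn' (mul_mem hs (inv_mem (zpow_mem hu0 n')))
    exact (Commute.mul_right (Subgroup.mem_center_iff.mp c1 _).symm (Subgroup.mem_center_iff.mp c1 _).symm).mul_left
      ((show Commute (fM ⟨u0, hu0⟩ ^ n) _ from Subgroup.mem_center_iff.mp c2 _).mul_right ((Commute.refl _).zpow_zpow n n'))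
  -- the power map
  have hlcs : (⊤ : Subgroup R).lowerCentralSeries (p - 1) = ⊥ := by
    refine Invol.SmallClassPow.lcs_eq_bot (Or.inr ⟨hp3, ?_⟩)
    rw [eq_bot_iff, ← Subgroup.map_le_map_iff_of_injective R.subtype_injective, Subgroup.map_bot,
      Subgroup.map_commutator, Subgroup.map_commutator, R.map_subtype_commutator, ← MonoidHom.range_eq_map, Subgroup.range_subtype]
    refine (Subgroup.commutator_mono (Subgroup.commutator_le.mpr (?_ : ∀ a ∈ ⁅R, R⁆, ∀ b ∈ R, ⁅a, b⁆ ∈ Z)) le_rfl).trans ?_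
    · intro a ha b hb
      rw [← commutatorElement_inv]
      exact inv_mem ((hRM ha).2 b hb)
    · rw [le_bot_iff, Subgroup.commutator_eq_bot_iff_le_centralizer]
      exact fun z hz => Subgroup.mem_centralizer_iff.mpr fun r hr => (hZcent r hr z hz).eq
  have hder : commutator R ≤ Subgroup.closure {v : R | v ^ p = 1} := by
    intro v hv
    refine Subgroup.subset_closure (Subtype.ext ?_)
    exact hDexp _ (hMD (hRM (by rw [← R.map_subtype_commutator]; exact ⟨v, hv, rfl⟩)))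
  have hmulp : ∀ r ∈ R, ∀ s ∈ R, (r * s) ^ p = r ^ p * s ^ p := fun r hr s hs =>
    congrArg Subtype.val (Invol.SmallClassPow.mul_pow hR hlcs hder ⟨r, hr⟩ ⟨s, hs⟩)
  have hpC : ∀ r ∈ R, r ^ p ∈ C := by
    intro r hr
    refine Subgroup.mem_inf.mpr ⟨pow_mem hr p, Subgroup.mem_centralizer_iff.mpr fun d hd => ?_⟩
    have h : (d * r * d⁻¹) ^ p = r ^ p := by
      rw [show d * r * d⁻¹ = ⁅d, r⁆ * r by rw [commutatorElement_def]; group,
        hmulp _ (R.commutator_le_self (Subgroup.commutator_mem_commutator (hDR hd) hr)) _ hr,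
        hDexp _ (hMD (hRM (Subgroup.commutator_mem_commutator (hDR hd) hr))), one_mul]
    rw [conj_pow] at h
    exact mul_inv_eq_iff_eq_mul.mp h
  let φ : R →* C :=
    { toFun := fun r => ⟨(r : G) ^ p, hpC r r.2⟩
      map_one' := Subtype.ext (one_pow p)
      map_mul' := fun r s => Subtype.ext (hmulp r r.2 s s.2) }
  haveI := hCcyc
  obtain ⟨⟨w, u', hu'⟩, hw⟩ := (inferInstance : IsCyclic φ.range).exists_generator
  set u : G := (u' : G) with hudef
  have huR : u ∈ R := u'.2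
  have hwu : (w : G) = u ^ p := (congrArg Subtype.val hu').symm
  have hRu : ∀ r ∈ R, ∃ (n : ℤ) (d : G), d ∈ D ∧ r = d * u ^ n := by
    intro r hr
    obtain ⟨n, hn⟩ := hw ⟨φ ⟨r, hr⟩, ⟨_, rfl⟩⟩
    have hn' : (u ^ p) ^ n = r ^ p := by rw [← hwu]; exact congrArg (fun v : φ.range => ((v : C) : G)) hn
    refine ⟨n, r * (u ^ n)⁻¹, hmemD _ (mul_mem hr (inv_mem (zpow_mem huR n))) ?_, (inv_mul_cancel_right _ _).symm⟩
    have h1 : (u ^ n) ^ p = (u ^ p) ^ n := by
      rw [← zpow_natCast, ← zpow_natCast, ← zpow_mul, ← zpow_mul, mul_comm]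
    rw [hmulp r hr _ (inv_mem (zpow_mem huR n)), inv_pow, h1, hn', mul_inv_cancel]
  -- `u` moves `y`
  have huy : ⁅u, y⁆ ∉ Z := by
    intro h
    refine hud ?_
    obtain ⟨n, d, hd, hd'⟩ := hRu u0 hu0
    have hu_n : ⁅u ^ n, y⁆ ∈ Z := by
      have h1 := commutator_zpow_zpow (a := u) (b := y) ((hZcent u huR _ h).symm) ((hZcent y (hDR hy) _ h).symm) n 1
      rw [zpow_one, mul_one] at h1
      rw [h1]; exact Subgroup.zpow_mem _ h n
    rw [hd', show ⁅d * u ^ n, y⁆ = d * ⁅u ^ n, y⁆ * d⁻¹ * ⁅d, y⁆ by simp only [commutatorElement_def]; group,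
      (hZcent d (hDR hd) _ hu_n).eq, mul_inv_cancel_right]
    exact mul_mem hu_n (hDD d hd y hy)
  have hup : u ^ p ≠ 1 := by
    intro h
    exact huy (hDD u (hmemD u huR h) y hy)
  -- the commutator `z = [x, y]` generates `Z` and is a power of `u ^ p`
  set z := ⁅x, y⁆ with hz
  have hzZ : z ∈ Z := hDD x (hMD hxM) y hy
  have hz1 : z ≠ 1 := by
    intro h
    refine hxZ (Subgroup.mem_inf.mpr ⟨hMD hxM, Subgroup.mem_centralizer_iff.mpr fun d hd => ?_⟩)
    obtain ⟨j, v, hv, rfl⟩ := hMgen d hd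
    obtain ⟨i, w', hw', rfl⟩ := hMgen2 v hv
    have hxy : Commute x y := commutatorElement_eq_one_iff_mul_comm.mp h
    exact ((hxy.zpow_right j).mul_right (((Commute.refl x).zpow_right i).mul_right
      (hZcent x (hDR (hMD hxM)) w' hw'))).eq.symm
  obtain ⟨f, hf⟩ : ∃ f : ℤ, z = (u ^ p) ^ f := by
    have hwp : IsPGroup p (Subgroup.zpowers (u ^ p)) := hR.to_le (Subgroup.zpowers_le.mpr (pow_mem huR p))
    obtain ⟨k, hk⟩ := hwp.exists_card_eq
    have hk0 : k ≠ 0 := by
      rintro rfl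
      rw [pow_zero, Nat.card_zpowers, orderOf_eq_one_iff] at hk
      exact hup hk
    obtain ⟨t, ht⟩ := exists_prime_orderOf_dvd_card' (G := Subgroup.zpowers (u ^ p)) p (hk ▸ dvd_pow_self p hk0)
    rw [← Subgroup.orderOf_coe] at ht
    have htC : (t : G) ∈ C := Subgroup.zpowers_le.mpr (hpC u huR) t.2
    have htZ : (t : G) ∈ Z := by
      rw [← hDC]
      exact Subgroup.mem_inf.mpr ⟨hmemD _ htC.1 (orderOf_dvd_iff_pow_eq_one.mp ht.dvd), htC⟩
    have heq : Subgroup.zpowers (t : G) = Z :=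
      Subgroup.eq_of_le_of_card_ge (Subgroup.zpowers_le.mpr htZ) (by rw [Nat.card_zpowers, ht, hZp])
    have hzt : z ∈ Subgroup.zpowers (u ^ p) :=
      (Subgroup.zpowers_le.mpr t.2 : Subgroup.zpowers (t : G) ≤ _) (heq.symm ▸ hzZ)
    obtain ⟨f, hf⟩ := hzt
    exact ⟨f, hf.symm⟩
  obtain ⟨e, w2, hw2, he⟩ := hMgen2 _ (hDcentM u huR y hy)
  have hpe : ¬ (p : ℤ) ∣ e := by
    rintro ⟨t, rfl⟩
    refine huy ?_
    rw [he, zpow_mul, zpow_natCast, hDexp x (hMD hxM), one_zpow, one_mul]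
    exact hw2
  have hzp : z ^ p = 1 := hZexp z hzZ
  have hy_M : y ∈ M := by
    refine mem_of_fixed_coset hR hA (hA.trans hNM) (Subgroup.le_normalizer.trans hNM) hcop hRA hRM (hDR hy) fun a ha => ?_
    have haN := hA ha
    have hact : ∀ v ∈ R, a * v * a⁻¹ ∈ R := fun v hv => (Subgroup.mem_normalizer_iff.mp haN v).mp hv
    obtain ⟨i, z1, hz1', ex⟩ := hMgen2 (a * x * a⁻¹) ((Subgroup.mem_normalizer_iff.mp (hNM haN) x).mp hxM)
    obtain ⟨j, m, hm, ey⟩ := hMgen (a * y * a⁻¹) ((Subgroup.mem_normalizer_iff.mp (hND haN) y).mp hy)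
    obtain ⟨k, d, hd, eu⟩ := hRu _ (hact u huR)
    have hpi : ¬ (p : ℤ) ∣ i := by
      rintro ⟨t, rfl⟩
      refine hxZ ?_
      have h1 : a * x * a⁻¹ ∈ Z := by
        rw [ex, zpow_mul, zpow_natCast, hDexp x (hMD hxM), one_zpow, one_mul]; exact hz1'
      exact (Subgroup.mem_normalizer_iff.mp (hNZ haN) x).mpr h1
    let fZ := QuotientGroup.mk' (Z.subgroupOf R)
    set X : R := ⟨x, hDR (hMD hxM)⟩
    set Y : R := ⟨y, hDR hy⟩
    set U : R := ⟨u, huR⟩
    have hMc : ∀ (v : R), (v : G) ∈ M → ∀ q, Commute (fZ v) q := by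
      intro v hv q
      obtain ⟨r, rfl⟩ := QuotientGroup.mk'_surjective _ q
      refine Commute.symm (commutatorElement_eq_one_iff_mul_comm.mp ?_)
      rw [← map_commutatorElement]
      exact (QuotientGroup.eq_one_iff _).mpr (hv.2 r r.2)
    -- first congruence, on the centre
    have hα : (p : ℤ) ∣ i * j - k := by
      obtain ⟨m', w', hw', hm'⟩ := hMgen2 m hm
      have hcomm : a * z * a⁻¹ = z ^ (i * j) := by
        rw [hz, show a * ⁅x, y⁆ * a⁻¹ = ⁅a * x * a⁻¹, a * y * a⁻¹⁆ by simp only [commutatorElement_def]; group, ex, ey]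
        have hc1 : ∀ (v q : G) (z' : G), z' ∈ Z → q ∈ R → ⁅v * z', q⁆ = ⁅v, q⁆ := fun v q z' hz' hq => by
          rw [commutatorElement_def, commutatorElement_def, mul_inv_rev, mul_assoc v z' q, (hZcent q hq z' hz').symm.eq]
          group
        rw [hc1 _ _ z1 hz1' (mul_mem (zpow_mem (hDR hy) j) (hDR (hMD hm)))]
        have hmx : Commute (x ^ i) m := by
          rw [hm']
          exact (((Commute.refl x).zpow_zpow i m')).mul_right (hZcent _ (zpow_mem (hDR (hMD hxM)) i) w' hw')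
        rw [show ⁅x ^ i, y ^ j * m⁆ = ⁅x ^ i, y ^ j⁆ * (y ^ j * ⁅x ^ i, m⁆ * (y ^ j)⁻¹) by
          simp only [commutatorElement_def]; group,
          commutatorElement_eq_one_iff_mul_comm.mpr hmx.eq, mul_one, mul_inv_cancel, mul_one,
          commutator_zpow_zpow ((hZcent x (hDR (hMD hxM)) _ hzZ).symm) ((hZcent y (hDR hy) _ hzZ).symm)]
      have hk : a * z * a⁻¹ = z ^ k := by
        have h1 : a * u ^ p * a⁻¹ = (u ^ p) ^ k := by
          rw [← conj_pow, eu, hmulp d (hDR hd) _ (zpow_mem huR k), hDexp d hd, one_mul,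
            ← zpow_natCast, ← zpow_natCast, ← zpow_mul, ← zpow_mul, mul_comm]
        rw [hf, ← conj_zpow, h1, ← zpow_mul, ← zpow_mul, mul_comm]
      refine zpow_p_dvd hz1 hzp ?_
      rw [zpow_sub, ← hcomm, hk, mul_inv_cancel]
    -- second congruence, modulo the centre
    have hβ : (p : ℤ) ∣ k * j - i := by
      have hDY : ∀ (v : R), (v : G) ∈ D → Commute (fZ v) (fZ Y) := fun v hv =>
        commutatorElement_eq_one_iff_mul_comm.mp (by
          rw [← map_commutatorElement]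
          exact (QuotientGroup.eq_one_iff _).mpr (hDD v hv y hy))
      have hUY : ⁅fZ U, fZ Y⁆ = fZ X ^ e := by
        rw [← map_commutatorElement, ← map_zpow]
        refine (QuotientGroup.eq (s := Z.subgroupOf R)).mpr ?_
        change ⁅u, y⁆⁻¹ * x ^ e ∈ Z
        rw [he, mul_inv_rev, inv_mul_cancel_right]
        exact inv_mem hw2
      set m' : R := ⟨m, hDR (hMD hm)⟩
      set d' : R := ⟨d, hDR hd⟩
      have hxe : fZ ⁅d' * U ^ k, Y ^ j * m'⁆ = fZ X ^ (e * (k * j)) := by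
        rw [map_commutatorElement, map_mul, map_mul, map_zpow, map_zpow]
        have hmc : ∀ P Q : R ⧸ Z.subgroupOf R, ⁅P, Q * fZ m'⁆ = ⁅P, Q⁆ := fun P Q => by
          rw [show ⁅P, Q * fZ m'⁆ = ⁅P, Q⁆ * (Q * ⁅P, fZ m'⁆ * Q⁻¹) by simp only [commutatorElement_def]; group,
            commutatorElement_eq_one_iff_mul_comm.mpr ((hMc m' hm) P).symm.eq, mul_one, mul_inv_cancel, mul_one]
        rw [hmc, show ⁅fZ d' * fZ U ^ k, fZ Y ^ j⁆ = fZ d' * ⁅fZ U ^ k, fZ Y ^ j⁆ * (fZ d')⁻¹ * ⁅fZ d', fZ Y ^ j⁆ by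
          simp only [commutatorElement_def]; group,
          commutatorElement_eq_one_iff_mul_comm.mpr (((hDY d' hd).zpow_right j)).eq, mul_one,
          commutator_zpow_zpow (by rw [hUY]; exact ((hMc X hxM) _).zpow_left e)
            (by rw [hUY]; exact ((hMc X hxM) _).zpow_left e), hUY, ← zpow_mul, ← (((hMc X hxM) _).zpow_left _).eq,
          mul_inv_cancel_right]
      have hxi : fZ ⁅d' * U ^ k, Y ^ j * m'⁆ = fZ X ^ (i * e) := by
        rw [← map_zpow]
        refine (QuotientGroup.eq (s := Z.subgroupOf R)).mpr ?_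
        change ⁅d * u ^ k, y ^ j * m⁆⁻¹ * x ^ (i * e) ∈ Z
        rw [← eu, ← ey, show ⁅a * u * a⁻¹, a * y * a⁻¹⁆ = a * ⁅u, y⁆ * a⁻¹ by simp only [commutatorElement_def]; group, he,
          show a * (x ^ e * w2) * a⁻¹ = (a * x * a⁻¹) ^ e * (a * w2 * a⁻¹) by rw [conj_zpow]; group, ex,
          ((hZcent _ (zpow_mem (hDR (hMD hxM)) i) z1 hz1')).mul_zpow, ← zpow_mul]
        have hv : a * w2 * a⁻¹ ∈ Z := (Subgroup.mem_normalizer_iff.mp (hNZ haN) w2).mp hw2
        generalize a * w2 * a⁻¹ = v at hv ⊢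
        rw [mul_inv_rev, mul_inv_rev, mul_assoc, mul_assoc, inv_mul_cancel, mul_one]
        exact mul_mem (inv_mem hv) (inv_mem (Subgroup.zpow_mem _ hz1' e))
      rw [hxe] at hxi
      have hX1 : fZ X ≠ 1 := fun h => hxZ ((QuotientGroup.eq_one_iff X).mp h)
      have hXp : fZ X ^ p = 1 := by
        rw [← map_pow, show X ^ p = 1 from Subtype.ext (hDexp x (hMD hxM)), map_one]
      have h := zpow_p_dvd hX1 hXp (n := e * (k * j - i))
        (by rw [show e * (k * j - i) = e * (k * j) - i * e by ring, zpow_sub, hxi, mul_inv_cancel])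
      exact ((Nat.prime_iff_prime_int.mp hp.out).dvd_mul.mp h).resolve_left hpe
    have hsq : (p : ℤ) ∣ i * ((j - 1) * (j + 1)) := by
      rw [show i * ((j - 1) * (j + 1)) = (i * j - k) * j + (k * j - i) by ring]
      exact dvd_add (hα.mul_right j) hβ
    have hyp : ∀ n : ℤ, (p : ℤ) ∣ n → y ^ n = 1 := by
      rintro _ ⟨t, rfl⟩
      rw [zpow_mul, zpow_natCast, hDexp y hy, one_zpow]
    rcases (Nat.prime_iff_prime_int.mp hp.out).dvd_mul.mp
      (((Nat.prime_iff_prime_int.mp hp.out).dvd_mul.mp hsq).resolve_left hpi) with h1 | h1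
    · have hyj : y ^ j = y := by
        calc y ^ j = y ^ (j - 1) * y := by rw [← zpow_add_one, sub_add_cancel]
          _ = y := by rw [hyp _ h1, one_mul]
      rw [ey, hyj]
      exact (Subgroup.mem_normalizer_iff.mp (hNM (Subgroup.le_normalizer (hDR hy))) m).mp hm
    · -- `a` inverts `y` modulo `M`
      exfalso
      refine hd0M (mem_of_inverted (hNM haN) ?_ ?_ (hNM (Subgroup.le_normalizer (hDR hy))) ?_)
      · exact hAodd.of_dvd_nat (Subgroup.orderOf_dvd_natCard A ha)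
      · have hyj : y ^ j = y⁻¹ := by
          calc y ^ j = y ^ (j + 1) * y⁻¹ := by rw [zpow_add_one, mul_inv_cancel_right]
            _ = y⁻¹ := by rw [hyp _ h1, one_mul]
        rw [ey, hyj]
        simpa using (Subgroup.mem_normalizer_iff.mp (hNM (Subgroup.le_normalizer (hDR (inv_mem hy)))) m).mp hm
      · exact (hp.out.odd_of_ne_two hp2).of_dvd_nat (orderOf_dvd_of_pow_eq_one (hDexp y hy))
  exact hd0M hy_M

end Cfsg.Agent.OddLocal
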