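import Mathlib.GroupTheory.Sylow
import Mathlib.GroupTheory.Nilpotent
import Mathlib.GroupTheory.Commutator.Basic
import Mathlib.GroupTheory.Subgroup.Centralizer
import Cfsg.Agent.Lib.OddLocal.PAction

/-! When does a `p'`-group `Q` centralize a `p`-group `R`, given that a `p`-group `A` normalizes both
and `Q` centralizes the fixed points of `A` on `R`?  (A variant of Thompson's `P × Q` lemma.) -/

set_option autoImplicit false

namespace Cfsg.Agent.OddLocal

open scoped commutatorElement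

variable {G : Type*} [Group G] {p : ℕ}

/-- The abelian case, for abstract actions. -/
theorem trivial_action_of_fixed_fixed {M Q A : Type*} [CommGroup M] [Finite M] [Group Q] [Fintype Q]
    [Group A] [Finite A] [Fact p.Prime] (hM : IsPGroup p M) (hA : IsPGroup p A) (hQ : ¬ p ∣ Fintype.card Q)
    (f : Q →* MulAut M) (g : A →* MulAut M) (σ : A → Q ≃ Q)
    (hcompat : ∀ a q x, g a (f q x) = f (σ a q) (g a x))
    (hfix : ∀ x, (∀ a, g a x = x) → x ^ p = 1 → ∀ q, f q x = x) :
    ∀ q x, f q x = x := by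
  have hp : p.Prime := Fact.out
  let e : M →* M := ∏ q : Q, (f q).toMonoidHom
  have he : ∀ x, e x = ∏ q : Q, f q x := fun x => MonoidHom.finsetProd_apply _ _ x
  have heA : ∀ a x, e (g a x) = g a (e x) := by
    intro a x
    rw [he, he, map_prod]
    exact (Fintype.prod_equiv (σ a) _ _ (fun q => hcompat a q x)).symm
  have hcop : (Nat.card M).Coprime (Fintype.card Q) := by
    obtain ⟨n, hn⟩ := IsPGroup.iff_card.mp hM
    rw [hn]
    exact Nat.Coprime.pow_left _ (hp.coprime_iff_not_dvd.mpr hQ)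
  have hker : e.ker = ⊥ := by
    by_contra hne
    let _ : MulAction A e.ker :=
      { smul := fun a x => ⟨g a x, by rw [MonoidHom.mem_ker, heA, MonoidHom.mem_ker.mp x.2, map_one]⟩
        one_smul := fun x => Subtype.ext (show g 1 (x : M) = x by simp)
        mul_smul := fun a b x => Subtype.ext (show g (a * b) (x : M) = g a (g b x) by simp) }
    have hdvd : p ∣ Nat.card e.ker := by
      rcases (hM.to_subgroup e.ker).card_eq_or_dvd with h | h
      · exact absurd (Subgroup.eq_bot_of_card_eq _ h) hne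
      · exact h
    obtain ⟨y, hy, hy1⟩ := hA.exists_fixed_point_of_prime_dvd_card_of_fixed_point e.ker hdvd
      (a := 1) (fun a => Subtype.ext (map_one (g a)))
    obtain ⟨k, hk⟩ := IsPGroup.iff_orderOf.mp hM (y : M)
    rcases Nat.eq_zero_or_pos k with h0 | h0
    · rw [h0, pow_zero, orderOf_eq_one_iff] at hk
      exact hy1 (Subtype.ext hk.symm)
    · obtain ⟨j, rfl⟩ : ∃ j, k = j + 1 := ⟨k - 1, by omega⟩
      have hzp : ((y : M) ^ p ^ j) ^ p = 1 := by rw [← pow_mul, ← pow_succ, ← hk, pow_orderOf_eq_one]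
      have hz : ∀ q, f q ((y : M) ^ p ^ j) = (y : M) ^ p ^ j := by
        refine hfix _ (fun a => ?_) hzp
        rw [map_pow]
        exact congrArg (· ^ p ^ j) (congrArg Subtype.val (hy a))
      have h1 : e ((y : M) ^ p ^ j) = 1 := by rw [map_pow, MonoidHom.mem_ker.mp y.2, one_pow]
      rw [he, Finset.prod_congr rfl (fun q _ => hz q), Finset.prod_const, Finset.card_univ] at h1
      have h2 : ((y : M) ^ p ^ j) ^ Nat.gcd (Nat.card M) (Fintype.card Q) = 1 :=
        pow_gcd_eq_one.mpr ⟨pow_card_eq_one', h1⟩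
      rw [hcop.gcd_eq_one, pow_one] at h2
      have h3 := orderOf_dvd_of_pow_eq_one h2
      rw [hk, Nat.pow_dvd_pow_iff_le_right hp.one_lt] at h3
      omega
  intro q x
  have h : e (f q x) = e x := by
    rw [he, he]
    exact Fintype.prod_equiv (Equiv.mulRight q) _ _ (fun r => by simp)
  exact (e.ker_eq_bot_iff.mp hker) h

/-- A wrapper carrying Baer's abelian group law on a group of class two and odd order. -/
structure Baer (R : Type*) where
  /-- the underlying element -/
  val : R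

theorem comm_mul_right {R : Type*} [Group R] (hc : ∀ x y : R, ⁅x, y⁆ ∈ Subgroup.center R) (x y z : R) :
    ⁅x, y * z⁆ = ⁅x, y⁆ * ⁅x, z⁆ := by
  rw [commutatorElement_mul_right_eq_mul_conj]
  have h := (Subgroup.mem_center_iff.mp (hc x z)) y
  rw [mul_assoc ⁅x, y⁆ y, h]; group

theorem comm_mul_left {R : Type*} [Group R] (hc : ∀ x y : R, ⁅x, y⁆ ∈ Subgroup.center R) (x y z : R) :
    ⁅x * y, z⁆ = ⁅x, z⁆ * ⁅y, z⁆ := by
  have h := comm_mul_right hc z x y
  rw [← commutatorElement_inv z (x * y), h, mul_inv_rev, commutatorElement_inv, commutatorElement_inv]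
  exact ((Subgroup.mem_center_iff.mp (hc x z)) _)

theorem comm_central_right {R : Type*} [Group R] (x : R) {z : R} (hz : z ∈ Subgroup.center R) :
    ⁅x, z⁆ = 1 :=
  commutatorElement_eq_one_iff_mul_comm.mpr (Subgroup.mem_center_iff.mp hz x)

theorem comm_central_left {R : Type*} [Group R] (x : R) {z : R} (hz : z ∈ Subgroup.center R) :
    ⁅z, x⁆ = 1 :=
  commutatorElement_eq_one_iff_mul_comm.mpr (Subgroup.mem_center_iff.mp hz x).symm

/-- Baer's trick: a finite group of class two and odd order is an abelian group with the same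
automorphisms and powers. -/
theorem baer_trick {R : Type*} [Group R] [Finite R] (hc : ∀ x y : R, ⁅x, y⁆ ∈ Subgroup.center R)
    (hodd : Odd (Nat.card R)) :
    ∃ (_ : CommGroup (Baer R)), (∀ φ : MulAut R, ∀ a b : Baer R,
        (⟨φ (a * b).val⟩ : Baer R) = ⟨φ a.val⟩ * ⟨φ b.val⟩) ∧
      (∀ (a : Baer R) (n : ℕ), (a ^ n).val = a.val ^ n) ∧ (1 : Baer R).val = 1 := by
  obtain ⟨m, hm⟩ := hodd
  let c : R → R → R := fun x y => ⁅y, x⁆ ^ (m + 1)
  have hcc : ∀ x y, c x y ∈ Subgroup.center R := fun x y => pow_mem (hc y x) _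
  have hsq : ∀ x y : R, ⁅x, y⁆ ^ (2 * (m + 1)) = ⁅x, y⁆ := by
    intro x y
    rw [show 2 * (m + 1) = Nat.card R + 1 by omega, pow_succ, pow_card_eq_one', one_mul]
  let _ : Mul (Baer R) := ⟨fun a b => ⟨a.val * b.val * c a.val b.val⟩⟩
  let _ : One (Baer R) := ⟨⟨1⟩⟩
  let _ : Inv (Baer R) := ⟨fun a => ⟨a.val⁻¹⟩⟩
  have hmul : ∀ a b : Baer R, (a * b).val = a.val * b.val * c a.val b.val := fun _ _ => rfl
  have hone : (1 : Baer R).val = 1 := rfl
  have cl : ∀ x y z, c (x * y) z = c x z * c y z := by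
    intro x y z
    simp only [c]
    rw [comm_mul_right hc, (show Commute ⁅z, x⁆ ⁅z, y⁆ from (Subgroup.mem_center_iff.mp (hc z y) _)).mul_pow]
  have cr : ∀ x y z, c x (y * z) = c x y * c x z := by
    intro x y z
    simp only [c]
    rw [comm_mul_left hc, (show Commute ⁅y, x⁆ ⁅z, x⁆ from (Subgroup.mem_center_iff.mp (hc z x) _)).mul_pow]
  have cz : ∀ x z, z ∈ Subgroup.center R → c x z = 1 ∧ c z x = 1 := by
    intro x z hz
    simp only [c]
    rw [comm_central_left x hz, comm_central_right x hz, one_pow]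
    exact ⟨rfl, rfl⟩
  have hassoc : ∀ a b d : Baer R, a * b * d = a * (b * d) := by
    rintro ⟨x⟩ ⟨y⟩ ⟨z⟩
    refine congrArg Baer.mk ?_
    change x * y * c x y * z * c (x * y * c x y) z = x * (y * z * c y z) * c x (y * z * c y z)
    rw [cl, cl, (cz z _ (hcc x y)).2, cr, cr, (cz x _ (hcc y z)).1, mul_one, mul_one]
    have h1 := Subgroup.mem_center_iff.mp (hcc x y)
    have h2 := Subgroup.mem_center_iff.mp (hcc y z)
    calc x * y * c x y * z * (c x z * c y z)
        = x * y * (c x y * z) * (c x z * c y z) := by group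
      _ = x * y * (z * c x y) * (c x z * c y z) := by rw [← h1 z]
      _ = x * y * z * ((c x y * c x z) * c y z) := by group
      _ = x * y * z * (c y z * (c x y * c x z)) := by rw [h2 (c x y * c x z)]
      _ = x * (y * z * c y z) * (c x y * c x z) := by group
  let grp : CommGroup (Baer R) :=
    { mul := (· * ·)
      one := 1
      inv := (·⁻¹)
      mul_assoc := hassoc
      one_mul := fun a => congrArg Baer.mk (show 1 * a.val * c 1 a.val = a.val by
        rw [(cz a.val 1 (one_mem _)).2, one_mul, mul_one])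
      mul_one := fun a => congrArg Baer.mk (show a.val * 1 * c a.val 1 = a.val by
        rw [(cz a.val 1 (one_mem _)).1, mul_one, mul_one])
      inv_mul_cancel := fun a => congrArg Baer.mk (show a.val⁻¹ * a.val * c a.val⁻¹ a.val = 1 by
        have : ⁅a.val, a.val⁻¹⁆ = 1 := commutatorElement_eq_one_iff_mul_comm.mpr (by group)
        simp only [c, this, one_pow, inv_mul_cancel, mul_one])
      mul_comm := by
        rintro ⟨x⟩ ⟨y⟩
        refine congrArg Baer.mk ?_
        change x * y * ⁅y, x⁆ ^ (m + 1) = y * x * ⁅x, y⁆ ^ (m + 1)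
        have hxy : x * y = y * x * ⁅x, y⁆ := by
          rw [Subgroup.mem_center_iff.mp (hc x y) (y * x), commutatorElement_def]; group
        rw [hxy, mul_assoc (y * x), ← commutatorElement_inv x y, inv_pow]
        congr 1
        rw [mul_inv_eq_iff_eq_mul, ← pow_add, ← two_mul, hsq] }
  refine ⟨grp, ?_, ?_, rfl⟩
  · intro φ a b
    refine congrArg Baer.mk ?_
    change φ (a.val * b.val * c a.val b.val) = φ a.val * φ b.val * c (φ a.val) (φ b.val)
    simp only [c]
    rw [map_mul, map_mul, map_pow, map_commutatorElement]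
  · intro a n
    induction n with
    | zero => rw [pow_zero, pow_zero]; rfl
    | succ n ih =>
      rw [pow_succ, pow_succ]
      change (a ^ n).val * a.val * c (a ^ n).val a.val = _
      have : c (a ^ n).val a.val = 1 := by
        simp only [c]
        rw [ih, commutatorElement_eq_one_iff_mul_comm.mpr ((Commute.refl a.val).pow_right n).eq, one_pow]
      rw [this, mul_one, ih]

/-- If `q` normalizes the finite `p`-group `R` modulo elements it fixes, and has order prime to `p`,
then it fixes `R`. -/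
theorem commute_of_fixed_commutator [Finite G] [Fact p.Prime] {R : Subgroup G} (hR : IsPGroup p R) {q x : G}
    (hq : (orderOf q).Coprime p) (hxR : ⁅q, x⁆ ∈ R) (hfix : Commute q ⁅q, x⁆) : Commute q x := by
  set c := ⁅q, x⁆ with hc
  have hstep : ∀ n : ℕ, q ^ n * x * (q ^ n)⁻¹ = c ^ n * x := by
    intro n
    induction n with
    | zero => simp
    | succ n ih =>
      calc q ^ (n + 1) * x * (q ^ (n + 1))⁻¹ = q * (q ^ n * x * (q ^ n)⁻¹) * q⁻¹ := by rw [pow_succ']; group
        _ = q * (c ^ n * x) * q⁻¹ := by rw [ih]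
        _ = (q * c ^ n * q⁻¹) * (q * x * q⁻¹) := by group
        _ = c ^ n * (c * x) := by
          rw [(hfix.pow_right n).eq, mul_inv_cancel_right, hc, commutatorElement_def, inv_mul_cancel_right]
        _ = c ^ (n + 1) * x := by rw [pow_succ]; group
  have h1 := hstep (orderOf q)
  rw [pow_orderOf_eq_one] at h1
  simp at h1
  obtain ⟨k, hk⟩ := IsPGroup.iff_orderOf.mp hR ⟨c, hxR⟩
  rw [Subgroup.orderOf_mk] at hk
  have h2 := pow_gcd_eq_one.mpr ⟨(hk ▸ pow_orderOf_eq_one c : c ^ p ^ k = 1), h1⟩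
  rw [((hq.symm).pow_left k).gcd_eq_one, pow_one] at h2
  exact commutatorElement_eq_one_iff_commute.mp (hc ▸ h2)

theorem le_normalizer_commutator {H K L : Subgroup G} (h1 : H ≤ Subgroup.normalizer (K : Set G))
    (h2 : H ≤ Subgroup.normalizer (L : Set G)) : H ≤ Subgroup.normalizer (⁅K, L⁆ : Subgroup G) := by
  intro h hh
  rw [Subgroup.mem_normalizer_iff_map_conj_eq, Subgroup.map_commutator,
    Subgroup.mem_normalizer_iff_map_conj_eq.mp (h1 hh), Subgroup.mem_normalizer_iff_map_conj_eq.mp (h2 hh)]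

/-- The class two case. -/
theorem centralizes_of_class_two [Finite G] [Fact p.Prime] (hp : p ≠ 2) {R Q A : Subgroup G} (hR : IsPGroup p R)
    (hQ : ¬ p ∣ Nat.card Q) (hA : IsPGroup p A) (hAQ : A ≤ Subgroup.normalizer (Q : Set G))
    (hAR : A ≤ Subgroup.normalizer (R : Set G)) (hQR : Q ≤ Subgroup.normalizer (R : Set G))
    (hclass : ⁅⁅R, R⁆, R⁆ = ⊥)
    (hfix : ∀ x ∈ R, x ∈ Subgroup.centralizer (A : Set G) → x ^ p = 1 → x ∈ Subgroup.centralizer (Q : Set G)) :
    Q ≤ Subgroup.centralizer (R : Set G) := by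
  classical
  have : Fintype Q := Fintype.ofFinite Q
  have hc : ∀ x y : R, ⁅x, y⁆ ∈ Subgroup.center R := by
    intro x y
    rw [Subgroup.mem_center_iff]
    intro z
    refine Subtype.ext ?_
    have := (Subgroup.commutator_eq_bot_iff_le_centralizer.mp hclass)
      (Subgroup.commutator_mem_commutator x.2 y.2)
    exact Subgroup.mem_centralizer_iff.mp this z z.2
  have hodd : Odd (Nat.card R) := by
    obtain ⟨n, hn⟩ := IsPGroup.iff_card.mp hR
    rw [hn]
    exact ((Fact.out : p.Prime).odd_of_ne_two hp).pow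
  obtain ⟨grp, hφ, hpow, hone⟩ := baer_trick hc hodd
  have : Finite (Baer R) := Finite.of_equiv R ⟨Baer.mk, Baer.val, fun _ => rfl, fun _ => rfl⟩
  let lift : MulAut R →* MulAut (Baer R) :=
    { toFun := fun φ =>
        { toFun := fun a => ⟨φ a.val⟩
          invFun := fun a => ⟨φ.symm a.val⟩
          left_inv := fun a => congrArg Baer.mk (φ.symm_apply_apply a.val)
          right_inv := fun a => congrArg Baer.mk (φ.apply_symm_apply a.val)
          map_mul' := fun a b => hφ φ a b }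
      map_one' := by ext a; rfl
      map_mul' := fun φ ψ => by ext a; rfl }
  let act : ↥(Subgroup.normalizer (R : Set G)) →* MulAut (Baer R) :=
    lift.comp R.normalizerMonoidHom
  let f : Q →* MulAut (Baer R) := act.comp (Subgroup.inclusion hQR)
  let g : A →* MulAut (Baer R) := act.comp (Subgroup.inclusion hAR)
  let σ : A → Q ≃ Q := fun a =>
    { toFun := fun q => ⟨a * q * (a : G)⁻¹, (Subgroup.mem_normalizer_iff.mp (hAQ a.2) q).mp q.2⟩
      invFun := fun q => ⟨(a : G)⁻¹ * q * a, (Subgroup.mem_normalizer_iff''.mp (hAQ a.2) q).mp q.2⟩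
      left_inv := fun q => Subtype.ext (by simp [mul_assoc])
      right_inv := fun q => Subtype.ext (by simp [mul_assoc]) }
  have key := trivial_action_of_fixed_fixed (p := p)
    (M := Baer R) (fun a => by
      obtain ⟨k, hk⟩ := hR a.val
      refine ⟨k, ?_⟩
      rcases a with ⟨x⟩
      have h := hpow ⟨x⟩ (p ^ k)
      rcases hres : (⟨x⟩ : Baer R) ^ p ^ k with ⟨y⟩
      rw [hres] at h
      rcases hone' : (1 : Baer R) with ⟨u⟩
      rw [hone'] at hone
      simp only at h hone hk
      rw [h, hk, hone])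
    hA (by rwa [← Nat.card_eq_fintype_card]) f g σ
    (fun a q x => by
      refine congrArg Baer.mk (Subtype.ext ?_)
      change (a : G) * ((q : G) * (x.val : G) * (q : G)⁻¹) * (a : G)⁻¹ =
        ((a : G) * q * (a : G)⁻¹) * ((a : G) * (x.val : G) * (a : G)⁻¹) * ((a : G) * q * (a : G)⁻¹)⁻¹
      group)
    (fun x hx hxp q => by
      refine congrArg Baer.mk (Subtype.ext ?_)
      change (q : G) * (x.val : G) * (q : G)⁻¹ = (x.val : G)
      have h1 : (x.val : G) ∈ Subgroup.centralizer (Q : Set G) := by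
        refine hfix _ x.val.2 (Subgroup.mem_centralizer_iff.mpr fun a ha => ?_) ?_
        · have := congrArg (fun b : Baer R => (b.val : G)) (hx ⟨a, ha⟩)
          exact mul_inv_eq_iff_eq_mul.mp this
        · have := congrArg (fun b : Baer R => (b.val : G)) hxp
          rw [hpow, hone] at this
          exact this
      exact mul_inv_eq_iff_eq_mul.mpr (Subgroup.mem_centralizer_iff.mp h1 q q.2))
  intro q hq
  rw [Subgroup.mem_centralizer_iff]
  intro x hx
  have := congrArg (fun b : Baer R => (b.val : G)) (key ⟨q, hq⟩ ⟨⟨x, hx⟩⟩)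
  exact (mul_inv_eq_iff_eq_mul.mp this).symm

/-- For odd `p`: `Q` centralizes `R` as soon as it centralizes the elements of order `p` of `C_R(A)`. -/
theorem centralizes_of_fixed_odd [Finite G] [Fact p.Prime] (hp : p ≠ 2) {R Q A : Subgroup G} (hR : IsPGroup p R)
    (hQ : ¬ p ∣ Nat.card Q) (hA : IsPGroup p A) (hAQ : A ≤ Subgroup.normalizer (Q : Set G))
    (hAR : A ≤ Subgroup.normalizer (R : Set G)) (hQR : Q ≤ Subgroup.normalizer (R : Set G))
    (hfix : ∀ x ∈ R, x ∈ Subgroup.centralizer (A : Set G) → x ^ p = 1 → x ∈ Subgroup.centralizer (Q : Set G)) :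
    Q ≤ Subgroup.centralizer (R : Set G) := by
  induction hn : Nat.card R using Nat.strong_induction_on generalizing R with
  | _ n ih =>
    subst hn
    have IH : ∀ S : Subgroup G, S < R → A ≤ Subgroup.normalizer (S : Set G) →
        Q ≤ Subgroup.normalizer (S : Set G) → Q ≤ Subgroup.centralizer (S : Set G) := by
      intro S hS h1 h2
      refine ih (Nat.card S) ?_ (hR.to_le hS.le) h1 h2 (fun x hx => hfix x (hS.le hx)) rfl
      exact lt_of_le_of_ne (Nat.le_of_dvd Nat.card_pos (Subgroup.card_dvd_of_le hS.le))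
        (fun e => hS.ne (Subgroup.eq_of_le_of_card_ge hS.le e.ge))
    by_cases hR1 : R = ⊥
    · subst hR1
      intro q _
      rw [Subgroup.mem_centralizer_iff]
      intro x hx
      rw [Subgroup.coe_bot, Set.mem_singleton_iff] at hx
      simp [hx]
    have hR' : ⁅R, R⁆ < R := by
      refine lt_of_le_of_ne (Subgroup.commutator_le_self R) fun e => hR1 ?_
      have := hR.isNilpotent
      have : Group.IsSolvable R := inferInstance
      by_contra hne
      have : Nontrivial R := (Subgroup.nontrivial_iff_ne_bot R).mpr hne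
      have hlt := Group.IsSolvable.commutator_lt_top_of_nontrivial (G := R)
      refine hlt.ne ?_
      apply Subgroup.map_injective R.subtype_injective
      rw [R.map_subtype_commutator, e, ← MonoidHom.range_eq_map, Subgroup.range_subtype]
    have hQR' : Q ≤ Subgroup.centralizer (⁅R, R⁆ : Subgroup G) :=
      IH _ hR' (le_normalizer_commutator hAR hAR) (le_normalizer_commutator hQR hQR)
    have hle : ⁅Q, R⁆ ≤ R := Subgroup.le_normalizer_iff_commutator_le_right.mp hQR
    by_cases hR1' : ⁅Q, R⁆ = R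
    · refine centralizes_of_class_two hp hR hQ hA hAQ hAR hQR ?_ hfix
      have h1 : ⁅⁅R, ⁅R, R⁆⁆, Q⁆ = ⊥ :=
        Subgroup.commutator_eq_bot_iff_le_centralizer.mpr
          (le_trans (Subgroup.commutator_le.mpr (fun a ha b hb =>
            Subgroup.commutator_mem_commutator ha (Subgroup.commutator_le_self R hb)))
            (Subgroup.le_centralizer_iff.mp hQR'))
      have h2 : ⁅⁅⁅R, R⁆, Q⁆, R⁆ = ⊥ := by
        rw [Subgroup.commutator_eq_bot_iff_le_centralizer.mpr (Subgroup.le_centralizer_iff.mp hQR'),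
          Subgroup.commutator_bot_left]
      have h3 := Subgroup.commutator_commutator_eq_bot_of_rotate h1 h2
      rw [hR1', Subgroup.commutator_comm] at h3
      exact h3
    · have hlt : ⁅Q, R⁆ < R := lt_of_le_of_ne hle hR1'
      have hc : Q ≤ Subgroup.centralizer (⁅Q, R⁆ : Subgroup G) :=
        IH _ hlt (le_normalizer_commutator hAQ hAR) (le_normalizer_commutator Subgroup.le_normalizer hQR)
      intro q hq
      rw [Subgroup.mem_centralizer_iff]
      intro x hx
      have hqc : (orderOf q).Coprime p := by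
        refine Nat.Coprime.symm ((Fact.out : p.Prime).coprime_iff_not_dvd.mpr fun h => hQ (h.trans ?_))
        exact Subgroup.orderOf_dvd_natCard Q hq
      have hmem : ⁅q, x⁆ ∈ ⁅Q, R⁆ := Subgroup.commutator_mem_commutator hq hx
      exact (commute_of_fixed_commutator hR hqc (hle hmem)
        (Subgroup.mem_centralizer_iff.mp (hc hq) _ hmem).symm).eq.symm

/-- For any `p`: the case in which `[A, R]` commutes with `A` and `R`. -/
theorem centralizes_of_fixed_central [Finite G] [Fact p.Prime] {R Q A : Subgroup G} (hR : IsPGroup p R)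
    (hQ : ¬ p ∣ Nat.card Q) (hAQ : A ≤ Subgroup.normalizer (Q : Set G))
    (hAR : A ≤ Subgroup.normalizer (R : Set G)) (hQR : Q ≤ Subgroup.normalizer (R : Set G))
    (hcA : ∀ a ∈ A, ∀ r ∈ R, ⁅a, r⁆ ∈ Subgroup.centralizer (A : Set G))
    (hcR : ∀ a ∈ A, ∀ r ∈ R, ⁅a, r⁆ ∈ Subgroup.centralizer (R : Set G))
    (hfix : ∀ x ∈ R, x ∈ Subgroup.centralizer (A : Set G) → x ∈ Subgroup.centralizer (Q : Set G)) :
    Q ≤ Subgroup.centralizer (R : Set G) := by
  have hcq : ∀ q ∈ Q, (orderOf q).Coprime p := fun q hq =>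
    Nat.Coprime.symm ((Fact.out : p.Prime).coprime_iff_not_dvd.mpr fun h =>
      hQ (h.trans (Subgroup.orderOf_dvd_natCard Q hq)))
  have hmemR : ∀ a ∈ A, ∀ r ∈ R, ⁅a, r⁆ ∈ R := fun a ha r hr =>
    (Subgroup.le_normalizer_iff_commutator_le_right.mp hAR) (Subgroup.commutator_mem_commutator ha hr)
  -- `Q` fixes every `[a, r]`
  have hQc : ∀ a ∈ A, ∀ r ∈ R, ∀ q ∈ Q, q * ⁅a, r⁆ = ⁅a, r⁆ * q := fun a ha r hr q hq =>
    Subgroup.mem_centralizer_iff.mp (hfix _ (hmemR a ha r hr) (hcA a ha r hr)) q hq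
  -- `[a, q]` centralizes `R`
  have hD : ∀ a ∈ A, ∀ q ∈ Q, ∀ r ∈ R, Commute ⁅a, q⁆ r := by
    intro a ha q hq r hr
    have hqr : q⁻¹ * r * q ∈ R := (Subgroup.mem_normalizer_iff''.mp (hQR hq) r).mp hr
    have ht : ⁅a, q⁆ ∈ Q :=
      (Subgroup.le_normalizer_iff_commutator_le_right.mp hAQ) (Subgroup.commutator_mem_commutator ha hq)
    set c := ⁅a, q⁻¹ * r * q⁆ with hcdef
    set d := ⁅a⁻¹, r⁆ with hddef
    have hca : c ∈ Subgroup.centralizer (A : Set G) := hcA a ha _ hqr
    have hda : d ∈ Subgroup.centralizer (A : Set G) := hcA _ (inv_mem ha) _ hr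
    -- q a q⁻¹ acts as r ↦ c r, and a⁻¹ as r ↦ d r
    have e1 : q * a * q⁻¹ * r * (q * a * q⁻¹)⁻¹ = c * r := by
      calc q * a * q⁻¹ * r * (q * a * q⁻¹)⁻¹ = (q * c * q⁻¹) * r := by
            rw [hcdef, commutatorElement_def]; group
        _ = c * r := by rw [hQc a ha _ hqr q hq, mul_inv_cancel_right]
    have e3 : q * a⁻¹ * q⁻¹ * r * (q * a⁻¹ * q⁻¹)⁻¹ = ⁅a⁻¹, q⁻¹ * r * q⁆ * r := by
      calc q * a⁻¹ * q⁻¹ * r * (q * a⁻¹ * q⁻¹)⁻¹ = (q * ⁅a⁻¹, q⁻¹ * r * q⁆ * q⁻¹) * r := by
            rw [commutatorElement_def]; group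
        _ = _ := by rw [hQc _ (inv_mem ha) _ hqr q hq, mul_inv_cancel_right]
    set c' := ⁅a⁻¹, q⁻¹ * r * q⁆
    have hc'a : c' ∈ Subgroup.centralizer (A : Set G) := hcA _ (inv_mem ha) _ hqr
    have hc'R : c' ∈ R := hmemR _ (inv_mem ha) _ hqr
    have e4 : ⁅a, q⁆ * r * ⁅a, q⁆⁻¹ = (c' * ⁅a, r⁆) * r := by
      calc ⁅a, q⁆ * r * ⁅a, q⁆⁻¹ = a * (q * a⁻¹ * q⁻¹ * r * (q * a⁻¹ * q⁻¹)⁻¹) * a⁻¹ := by
            rw [commutatorElement_def]; group
        _ = a * (c' * r) * a⁻¹ := by rw [e3]
        _ = (a * c') * (r * a⁻¹) := by group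
        _ = (c' * a) * (r * a⁻¹) := by rw [Subgroup.mem_centralizer_iff.mp hc'a a ha]
        _ = (c' * ⁅a, r⁆) * r := by rw [commutatorElement_def]; group
    have e5 : ⁅⁅a, q⁆, r⁆ = c' * ⁅a, r⁆ := by
      rw [commutatorElement_def ⁅a, q⁆ r, e4, mul_inv_cancel_right]
    refine commute_of_fixed_commutator hR (hcq _ ht) ?_ ?_
    · rw [e5]; exact R.mul_mem hc'R (hmemR a ha r hr)
    · rw [e5]
      exact (show Commute ⁅a, q⁆ c' from hQc _ (inv_mem ha) _ hqr _ ht).mul_right (hQc a ha r hr _ ht)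
  intro q hq
  rw [Subgroup.mem_centralizer_iff]
  intro r hr
  have hqr : q * r * q⁻¹ ∈ R := (Subgroup.mem_normalizer_iff.mp (hQR hq) r).mp hr
  have hd : ⁅q, r⁆ ∈ R := by rw [commutatorElement_def]; exact R.mul_mem hqr (R.inv_mem hr)
  have hdA : ⁅q, r⁆ ∈ Subgroup.centralizer (A : Set G) := by
    rw [Subgroup.mem_centralizer_iff]
    intro a ha
    set c := ⁅a, r⁆ with hcdef
    have hcd : Commute c ⁅q, r⁆ := (Subgroup.mem_centralizer_iff.mp (hcR a ha r hr) _ hd).symm
    have hD' : Commute ⁅a, q⁆ (q * r * q⁻¹) := hD a ha q hq _ hqr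
    have hDc : Commute ⁅a, q⁆ c := hQc a ha r hr _
      ((Subgroup.le_normalizer_iff_commutator_le_right.mp hAQ) (Subgroup.commutator_mem_commutator ha hq))
    have e : a * ⁅q, r⁆ * a⁻¹ = ⁅q, r⁆ := by
      calc a * ⁅q, r⁆ * a⁻¹
          = ⁅a, q⁆ * (q * (a * r * a⁻¹) * q⁻¹) * ⁅a, q⁆⁻¹ * (a * r * a⁻¹)⁻¹ := by
            simp only [commutatorElement_def]; group
        _ = ⁅a, q⁆ * ((q * c * q⁻¹) * (q * r * q⁻¹)) * ⁅a, q⁆⁻¹ * (a * r * a⁻¹)⁻¹ := by
            rw [hcdef]; simp only [commutatorElement_def]; group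
        _ = ⁅a, q⁆ * (c * (q * r * q⁻¹)) * ⁅a, q⁆⁻¹ * (a * r * a⁻¹)⁻¹ := by
            rw [hQc a ha r hr q hq, mul_inv_cancel_right]
        _ = (c * (q * r * q⁻¹)) * (a * r * a⁻¹)⁻¹ := by
            rw [(hDc.mul_right hD').eq, mul_inv_cancel_right]
        _ = c * ⁅q, r⁆ * c⁻¹ := by rw [hcdef]; simp only [commutatorElement_def]; group
        _ = ⁅q, r⁆ := by rw [hcd.eq, mul_inv_cancel_right]
    exact mul_inv_eq_iff_eq_mul.mp e
  exact (commute_of_fixed_commutator hR (hcq q hq) hd
    (Subgroup.mem_centralizer_iff.mp (hfix _ hd hdA) q hq)).eq.symm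

end Cfsg.Agent.OddLocal
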