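import Cfsg.Agent.Lib.OddLocal.Stability
import Cfsg.Agent.Lib.OddLocal.Centralize
import Cfsg.Agent.Lib.Transfer.ClassTwo
import Cfsg.Agent.Lib.Basics.CoprimeGen
import Cfsg.Agent.Lib.Basics.Frattini

/-! Elementary abelian normal subgroups of odd `p`-groups, and groups of `p`-rank at most two. -/

set_option autoImplicit false
set_option maxHeartbeats 800000

namespace Cfsg.Agent.OddLocal

open scoped commutatorElement

variable {G : Type*} [Group G] {p : ℕ}

/-- A maximal normal elementary abelian subgroup. -/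
def IsMaxNormalEA (p : ℕ) (E : Subgroup G) : Prop :=
  E.Normal ∧ IsElementaryAbelian p E ∧ ∀ F : Subgroup G, F.Normal → IsElementaryAbelian p F → E ≤ F → F = E

theorem isElementaryAbelian_bot : IsElementaryAbelian p (⊥ : Subgroup G) :=
  ⟨inferInstance, fun a ha => by rw [Subgroup.mem_bot.mp ha, one_pow]⟩

theorem exists_isMaxNormalEA [Finite G] (p : ℕ) {E₀ : Subgroup G} [E₀.Normal] (hE₀ : IsElementaryAbelian p E₀) :
    ∃ E : Subgroup G, E₀ ≤ E ∧ IsMaxNormalEA p E := by
  obtain ⟨E, hle, ⟨hn, he⟩, hmax⟩ := Finite.exists_le_maximal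
    (p := fun F : Subgroup G => F.Normal ∧ IsElementaryAbelian p F) (a := E₀) ⟨inferInstance, hE₀⟩
  exact ⟨E, hle, hn, he, fun F hF hFe hEF => le_antisymm (hmax ⟨hF, hFe⟩ hEF) hEF⟩

theorem ea_commute {E : Subgroup G} (hE : IsElementaryAbelian p E) {a b : G} (ha : a ∈ E) (hb : b ∈ E) :
    Commute a b := congrArg Subtype.val (hE.1.is_comm.comm ⟨a, ha⟩ ⟨b, hb⟩)

theorem ea_sup_zpowers {E : Subgroup G} (hE : IsElementaryAbelian p E) {v : G}
    (hv : v ∈ Subgroup.centralizer (E : Set G)) (hvp : v ^ p = 1) :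
    IsElementaryAbelian p (E ⊔ Subgroup.zpowers v) := by
  set F := E ⊔ Subgroup.zpowers v with hF
  have hFc : F ≤ Subgroup.centralizer (F : Set G) := by
    refine sup_le ?_ (Subgroup.zpowers_le.mpr ?_)
    · rw [Subgroup.le_centralizer_iff]
      exact sup_le (Subgroup.le_centralizer_iff_isMulCommutative.mpr hE.1) (Subgroup.zpowers_le.mpr hv)
    · have : F ≤ Subgroup.centralizer ({v} : Set G) := sup_le
        (fun a ha => Subgroup.mem_centralizer_singleton_iff.mpr (Subgroup.mem_centralizer_iff.mp hv a ha))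
        (Subgroup.zpowers_le.mpr (Subgroup.mem_centralizer_singleton_iff.mpr rfl))
      rw [Subgroup.mem_centralizer_iff]
      exact fun a ha => Subgroup.mem_centralizer_singleton_iff.mp (this ha)
  refine ⟨Subgroup.le_centralizer_iff_isMulCommutative.mp hFc, ?_⟩
  let P : Subgroup G :=
    { carrier := {a | a ∈ F ∧ a ^ p = 1}
      one_mem' := ⟨one_mem _, one_pow _⟩
      mul_mem' := fun {a b} ha hb => ⟨mul_mem ha.1 hb.1, by
        rw [(show Commute a b from Subgroup.mem_centralizer_iff.mp (hFc hb.1) a ha.1).mul_pow, ha.2, hb.2, one_mul]⟩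
      inv_mem' := fun {a} ha => ⟨inv_mem ha.1, by rw [inv_pow, ha.2, inv_one]⟩ }
  have : F ≤ P := sup_le (fun a ha => ⟨Subgroup.mem_sup_left ha, hE.2 a ha⟩)
    (Subgroup.zpowers_le.mpr ⟨Subgroup.mem_sup_right (Subgroup.mem_zpowers v), hvp⟩)
  exact fun a ha => (this ha).2

/-- A normal subgroup of order at most `p` of a `p`-group is central. -/
theorem le_center_of_card_le [Finite G] [hp : Fact p.Prime] (hG : IsPGroup p G) (N : Subgroup G) [N.Normal]
    (h : Nat.card N ≤ p) : N ≤ Subgroup.center G := by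
  by_cases hN : N = ⊥
  · rw [hN]; exact bot_le
  obtain ⟨x, hxN, hxZ, hx1⟩ := exists_mem_center_ne_one_of_normal hG N hN
  have hle : Subgroup.zpowers x ≤ N := Subgroup.zpowers_le.mpr hxN
  obtain ⟨j, hj⟩ := hG x
  obtain ⟨i, -, hi⟩ := (Nat.dvd_prime_pow hp.out).mp (orderOf_dvd_of_pow_eq_one hj)
  have hi0 : i ≠ 0 := fun h0 => hx1 (orderOf_eq_one_iff.mp (by rw [hi, h0, pow_zero]))
  have hcard : Nat.card N ≤ Nat.card (Subgroup.zpowers x) := by
    rw [Nat.card_zpowers, hi]
    exact h.trans (Nat.le_self_pow hi0 p)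
  rw [← Subgroup.eq_of_le_of_card_ge hle hcard]
  exact Subgroup.zpowers_le.mpr hxZ

theorem commutator_top_le_center [Finite G] [hp : Fact p.Prime] (hG : IsPGroup p G) (E : Subgroup G) [E.Normal]
    (h : Nat.card E ≤ p ^ 2) : ⁅E, (⊤ : Subgroup G)⁆ ≤ E ⊓ Subgroup.center G := by
  refine le_inf (Subgroup.commutator_le_left _ _) ?_
  by_cases hE : E = ⊥
  · simp [hE]
  have := hG.isNilpotent
  have hlt := Basics.commutator_top_lt_of_isNilpotent (N := E) hE
  obtain ⟨n, hn⟩ := IsPGroup.iff_card.mp (hG.to_subgroup ⁅E, (⊤ : Subgroup G)⁆)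
  obtain ⟨m, hm⟩ := IsPGroup.iff_card.mp (hG.to_subgroup E)
  have h1 := Basics.card_lt_of_lt hlt
  rw [hn, hm, Nat.pow_lt_pow_iff_right hp.out.one_lt] at h1
  rw [hm, Nat.pow_le_pow_iff_right hp.out.one_lt] at h
  refine le_center_of_card_le hG _ ?_
  rw [hn]
  calc p ^ n ≤ p ^ 1 := Nat.pow_le_pow_right hp.out.pos (by omega)
    _ = p := pow_one p

/-- The centralizer of a small normal elementary abelian subgroup has index at most `p`. -/
theorem index_centralizer_le [Finite G] [hp : Fact p.Prime] (hG : IsPGroup p G) (E : Subgroup G) [E.Normal]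
    (hE : IsElementaryAbelian p E) (h : Nat.card E ≤ p ^ 2) :
    (Subgroup.centralizer (E : Set G)).index ≤ p := by
  by_cases hc : E ≤ Subgroup.center G
  · have htop : Subgroup.centralizer (E : Set G) = ⊤ := Subgroup.centralizer_eq_top_iff_subset.mpr hc
    rw [htop, Subgroup.index_top]
    exact hp.out.one_lt.le
  obtain ⟨e, he, hec⟩ := SetLike.not_le_iff_exists.mp hc
  set Z0 := E ⊓ Subgroup.center G with hZ0
  have hlt : Z0 < Z0 ⊔ Subgroup.zpowers e := lt_of_le_of_ne le_sup_left fun h1 =>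
    hec (h1 ▸ Subgroup.mem_sup_right (Subgroup.mem_zpowers e) : e ∈ Z0).2
  have hle : Z0 ⊔ Subgroup.zpowers e ≤ E := sup_le inf_le_left (Subgroup.zpowers_le.mpr he)
  obtain ⟨a, ha⟩ := IsPGroup.iff_card.mp (hG.to_subgroup Z0)
  obtain ⟨b, hb⟩ := IsPGroup.iff_card.mp (hG.to_subgroup (Z0 ⊔ Subgroup.zpowers e))
  obtain ⟨c, hc'⟩ := IsPGroup.iff_card.mp (hG.to_subgroup E)
  have h1 := Basics.card_lt_of_lt hlt
  rw [ha, hb, Nat.pow_lt_pow_iff_right hp.out.one_lt] at h1
  have h2 := Subgroup.card_le_of_le hle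
  rw [hb, hc', Nat.pow_le_pow_iff_right hp.out.one_lt] at h2
  have h3 := h
  rw [hc', Nat.pow_le_pow_iff_right hp.out.one_lt] at h3
  have hZp : Nat.card Z0 ≤ p := by
    rw [ha]
    calc p ^ a ≤ p ^ 1 := Nat.pow_le_pow_right hp.out.pos (by omega)
      _ = p := pow_one p
  have ha1 : a ≠ 0 := by
    intro h0
    have : Z0 = ⊥ := Subgroup.eq_bot_of_card_eq _ (by rw [ha, h0, pow_zero])
    obtain ⟨x, hx, hxz, hx1⟩ := exists_mem_center_ne_one_of_normal hG E (fun h4 => hc (h4 ▸ bot_le))
    exact hx1 (Subgroup.mem_bot.mp (this ▸ (⟨hx, hxz⟩ : x ∈ Z0)))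
  have hsup : Z0 ⊔ Subgroup.zpowers e = E := Subgroup.eq_of_le_of_card_ge hle (by
    rw [hb, hc']; exact Nat.pow_le_pow_right hp.out.pos (by omega))
  have hmem : ∀ x : G, ⁅x, e⁆ ∈ Z0 := fun x => by
    have h5 := inv_mem (commutator_top_le_center hG E h (Subgroup.commutator_mem_commutator he (Subgroup.mem_top x)))
    rwa [commutatorElement_inv] at h5
  let f : G →* Z0 :=
    { toFun := fun x => ⟨⁅x, e⁆, hmem x⟩
      map_one' := Subtype.ext (commutatorElement_one_left e)
      map_mul' := fun x y => Subtype.ext (by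
        have hy := (hmem y).2
        change ⁅x * y, e⁆ = ⁅x, e⁆ * ⁅y, e⁆
        calc ⁅x * y, e⁆ = x * ⁅y, e⁆ * x⁻¹ * ⁅x, e⁆ := by simp only [commutatorElement_def]; group
          _ = ⁅y, e⁆ * ⁅x, e⁆ := by rw [Subgroup.mem_center_iff.mp hy x, mul_inv_cancel_right]
          _ = ⁅x, e⁆ * ⁅y, e⁆ := (Subgroup.mem_center_iff.mp hy _).symm) }
  have hker : f.ker ≤ Subgroup.centralizer (E : Set G) := by
    intro x hx
    have hxe : x * e = e * x := commutatorElement_eq_one_iff_mul_comm.mp (congrArg Subtype.val hx)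
    have : E ≤ Subgroup.centralizer ({x} : Set G) := by
      rw [← hsup]
      refine sup_le (fun z hz => ?_) (Subgroup.zpowers_le.mpr (Subgroup.mem_centralizer_singleton_iff.mpr hxe.symm))
      exact Subgroup.mem_centralizer_singleton_iff.mpr (Subgroup.mem_center_iff.mp hz.2 x).symm
    rw [Subgroup.mem_centralizer_iff]
    exact fun z hz => Subgroup.mem_centralizer_singleton_iff.mp (this hz)
  calc (Subgroup.centralizer (E : Set G)).index ≤ f.ker.index :=
        Nat.le_of_dvd (Nat.pos_of_ne_zero Subgroup.index_ne_zero_of_finite) (Subgroup.index_dvd_of_le hker)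
    _ ≤ Nat.card Z0 := by rw [Subgroup.index_ker]; exact Nat.card_le_card_of_injective _ f.range.subtype_injective
    _ ≤ p := hZp

/-- `Ω₁(C(E)) = E` for a maximal normal elementary abelian subgroup, `p` odd. -/
theorem mem_of_isMaxNormalEA [Finite G] [hp : Fact p.Prime] (hp2 : p ≠ 2) (hG : IsPGroup p G) {E : Subgroup G}
    (hE : IsMaxNormalEA p E) {x : G} (hx : x ∈ Subgroup.centralizer (E : Set G)) (hxp : x ^ p = 1) : x ∈ E := by
  obtain ⟨hEn, hEe, hEmax⟩ := hE
  set C := Subgroup.centralizer (E : Set G) with hC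
  have hCn : C.Normal := Subgroup.normal_centralizer
  suffices key : ∀ N : Subgroup G, N.Normal → N ≤ C → ∀ y ∈ N, y ^ p = 1 → y ∈ E from key C hCn le_rfl x hx hxp
  intro N
  induction hn : Nat.card N using Nat.strong_induction_on generalizing N with
  | _ n ih =>
  subst hn
  intro hNn hNC
  by_cases hNbot : N = ⊥
  · intro y hy _
    rw [hNbot, Subgroup.mem_bot] at hy
    rw [hy]; exact one_mem _
  have hN' : ⁅N, N⁆ < N := lt_of_le_of_ne (Subgroup.commutator_le_self N)
    (Basics.commutator_ne_self_of_isNilpotent (hG.to_subgroup N).isNilpotent le_rfl le_rfl hNbot)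
  have hN'E : ∀ y ∈ ⁅N, N⁆, y ^ p = 1 → y ∈ E :=
    ih _ (Basics.card_lt_of_lt hN') ⁅N, N⁆ rfl inferInstance (hN'.le.trans hNC)
  have hpow : ∀ S : Subgroup G, S ≤ N → ∀ a ∈ S, ∀ b ∈ S, a ^ p = 1 → b ^ p = 1 → (a * b) ^ p = 1 := by
    intro S
    induction hs : Nat.card S using Nat.strong_induction_on generalizing S with
    | _ s ihs =>
    subst hs
    intro hSN a ha b hb hap hbp
    set T := Subgroup.zpowers a ⊔ ⁅S, S⁆ with hT
    have hTS : T ≤ S := sup_le (Subgroup.zpowers_le.mpr ha) (Subgroup.commutator_le_self S)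
    rcases hTS.lt_or_eq with hlt | heq
    · have haT : a ∈ T := Subgroup.mem_sup_left (Subgroup.mem_zpowers a)
      have hcT : ⁅b, a⁆ ∈ T := Subgroup.mem_sup_right (Subgroup.commutator_mem_commutator hb ha)
      have hconj : b * a * b⁻¹ ∈ T := by
        have : b * a * b⁻¹ = ⁅b, a⁆ * a := by rw [commutatorElement_def]; group
        rw [this]; exact mul_mem hcT haT
      have hcp : ⁅b, a⁆ ^ p = 1 := by
        have h1 := ihs _ (Basics.card_lt_of_lt hlt) T rfl (hTS.trans hSN) _ hconj _ (inv_mem haT)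
          (by rw [conj_pow, hap, mul_one, mul_inv_cancel]) (by rw [inv_pow, hap, inv_one])
        rwa [show b * a * b⁻¹ * a⁻¹ = ⁅b, a⁆ from rfl] at h1
      have hcE : ⁅b, a⁆ ∈ E := hN'E _ (Subgroup.commutator_mem_commutator (hSN hb) (hSN ha)) hcp
      have h1 : Commute ⁅b, a⁆ a := Subgroup.mem_centralizer_iff.mp (hNC (hSN ha)) _ hcE
      have h2 : Commute ⁅b, a⁆ b := Subgroup.mem_centralizer_iff.mp (hNC (hSN hb)) _ hcE
      rw [Transfer.mul_pow_of_commute h1 h2, hap, hbp, one_mul, one_mul]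
      obtain ⟨m, hm⟩ : p ∣ p.choose 2 :=
        hp.out.dvd_choose_self two_ne_zero (lt_of_le_of_ne hp.out.two_le (Ne.symm hp2))
      rw [hm, pow_mul, hcp, one_pow]
    · have hS' : Group.IsNilpotent S := (hG.to_subgroup S).isNilpotent
      have htop : Subgroup.zpowers (⟨a, ha⟩ : S) ⊔ frattini S = ⊤ := by
        rw [eq_top_iff]
        refine le_trans ?_ (sup_le_sup_left (Basics.commutator_le_frattini (G := S)) _)
        rw [← Subgroup.map_le_map_iff_of_injective S.subtype_injective, Subgroup.map_sup, MonoidHom.map_zpowers,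
          S.map_subtype_commutator, ← MonoidHom.range_eq_map, Subgroup.range_subtype]
        exact heq.ge
      have hb' : (⟨b, hb⟩ : S) ∈ Subgroup.zpowers (⟨a, ha⟩ : S) := frattini_nongenerating htop ▸ Subgroup.mem_top _
      obtain ⟨i, hi⟩ := hb'
      have hcomm : Commute a b := by
        have : a ^ i = b := congrArg Subtype.val hi
        rw [← this]; exact (Commute.refl a).zpow_right i
      rw [hcomm.mul_pow, hap, hbp, one_mul]
  intro y hy hyp
  by_contra hyE
  let W : Subgroup G :=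
    { carrier := {z | z ∈ N ∧ z ^ p = 1}
      one_mem' := ⟨one_mem _, one_pow _⟩
      mul_mem' := fun {a b} ha hb => ⟨mul_mem ha.1 hb.1, hpow N le_rfl a ha.1 b hb.1 ha.2 hb.2⟩
      inv_mem' := fun {a} ha => ⟨inv_mem ha.1, by rw [inv_pow, ha.2, inv_one]⟩ }
  have hWn : W.Normal := ⟨fun z hz g => ⟨hNn.conj_mem z hz.1 g, by rw [conj_pow, hz.2, mul_one, mul_inv_cancel]⟩⟩
  have hne : W.map (QuotientGroup.mk' E) ≠ ⊥ := by
    rw [Ne, Subgroup.map_eq_bot_iff, QuotientGroup.ker_mk']
    exact fun h => hyE (h ⟨hy, hyp⟩)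
  have : (W.map (QuotientGroup.mk' E)).Normal := hWn.map _ (QuotientGroup.mk'_surjective E)
  obtain ⟨_, ⟨v, hv, rfl⟩, hvc, hv1⟩ := exists_mem_center_ne_one_of_normal (hG.to_quotient E) _ hne
  have hvE : v ∉ E := fun h => hv1 ((QuotientGroup.eq_one_iff v).mpr h)
  have hF := ea_sup_zpowers hEe (hNC hv.1) hv.2
  have hFn : (E ⊔ Subgroup.zpowers v).Normal := by
    refine ⟨fun b hb g => ?_⟩
    have h : ⁅g, b⁆ ∈ E := by
      rw [← QuotientGroup.eq_one_iff, ← QuotientGroup.mk'_apply, map_commutatorElement,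
        commutatorElement_eq_one_iff_mul_comm]
      have hle : E ⊔ Subgroup.zpowers v ≤ (Subgroup.center (G ⧸ E)).comap (QuotientGroup.mk' E) := by
        refine sup_le (fun a ha => ?_) (Subgroup.zpowers_le.mpr hvc)
        rw [Subgroup.mem_comap, QuotientGroup.mk'_apply, (QuotientGroup.eq_one_iff a).mpr ha]
        exact one_mem _
      exact Subgroup.mem_center_iff.mp (hle hb) _
    have e : g * b * g⁻¹ = ⁅g, b⁆ * b := by rw [commutatorElement_def, inv_mul_cancel_right]
    rw [e]
    exact mul_mem (Subgroup.mem_sup_left h) hb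
  exact hvE (hEmax _ hFn hF le_sup_left ▸ Subgroup.mem_sup_right (Subgroup.mem_zpowers v))

/-- An odd `p`-group of rank at least three has a normal elementary abelian subgroup of order at least `p ^ 3`. -/
theorem exists_normal_ea_three [Finite G] [hp : Fact p.Prime] (hp2 : p ≠ 2) (hG : IsPGroup p G) {X : Subgroup G}
    (hX : IsElementaryAbelian p X) (h : p ^ 2 < Nat.card X) :
    ∃ E : Subgroup G, E.Normal ∧ IsElementaryAbelian p E ∧ p ^ 2 < Nat.card E := by
  obtain ⟨E, -, hE⟩ := exists_isMaxNormalEA p (isElementaryAbelian_bot (G := G) (p := p))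
  refine ⟨E, hE.1, hE.2.1, ?_⟩
  by_contra hle
  push Not at hle
  have := hE.1
  set C := Subgroup.centralizer (E : Set G) with hC
  have hC1 : X ⊓ C ≤ E := fun x hx => mem_of_isMaxNormalEA hp2 hG hE hx.2 (hX.2 x hx.1)
  by_cases hEX : E ≤ X
  · have : X ≤ C := (Subgroup.le_centralizer_iff_isMulCommutative.mpr hX.1).trans (Subgroup.centralizer_le hEX)
    rw [inf_eq_left.mpr this] at hC1
    exact absurd ((Subgroup.card_le_of_le hC1).trans hle) (not_le.mpr h)
  have h1 : Nat.card ↥(X ⊓ C) ≤ p := by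
    have hlt := Basics.card_lt_of_lt (lt_of_le_of_ne hC1 fun e => hEX (e ▸ inf_le_left))
    obtain ⟨a, ha⟩ := IsPGroup.iff_card.mp (hG.to_subgroup (X ⊓ C))
    obtain ⟨b, hb⟩ := IsPGroup.iff_card.mp (hG.to_subgroup E)
    rw [ha, hb, Nat.pow_lt_pow_iff_right hp.out.one_lt] at hlt
    rw [hb, Nat.pow_le_pow_iff_right hp.out.one_lt] at hle
    rw [ha]
    calc p ^ a ≤ p ^ 1 := Nat.pow_le_pow_right hp.out.pos (by omega)
      _ = p := pow_one p
  have hidx : C.relIndex X ≤ p := by
    have hCn : C.Normal := Subgroup.normal_centralizer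
    exact (Nat.le_of_dvd (Nat.pos_of_ne_zero Subgroup.index_ne_zero_of_finite)
      (Subgroup.relIndex_dvd_index_of_normal C X)).trans (index_centralizer_le hG E hE.2.1 hle)
  have hcard : Nat.card X = Nat.card ↥(X ⊓ C) * C.relIndex X := by
    rw [← Subgroup.inf_relIndex_left, Subgroup.relIndex, ← Basics.card_subgroupOf (inf_le_left : X ⊓ C ≤ X),
      Subgroup.card_mul_index]
  rw [hcard, pow_two] at h
  exact absurd h (not_lt.mpr (Nat.mul_le_mul h1 hidx))

/-- A normal abelian subgroup of a `p`-group lies in a normal abelian self-centralizing one. -/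
theorem exists_scn_ge [Finite G] [Fact p.Prime] (hG : IsPGroup p G) {E : Subgroup G} [E.Normal]
    (hE : IsMulCommutative E) :
    ∃ A : Subgroup G, E ≤ A ∧ A.Normal ∧ IsMulCommutative A ∧ Subgroup.centralizer (A : Set G) = A := by
  obtain ⟨A, hEA, ⟨hAn, hAc⟩, hmax⟩ := Finite.exists_le_maximal
    (p := fun A : Subgroup G => A.Normal ∧ IsMulCommutative A) (a := E) ⟨inferInstance, hE⟩
  refine ⟨A, hEA, hAn, hAc, le_antisymm ?_ (Subgroup.le_centralizer_iff_isMulCommutative.mpr hAc)⟩
  by_contra hC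
  let C := Subgroup.centralizer (A : Set G)
  have hne : C.map (QuotientGroup.mk' A) ≠ ⊥ := by
    rw [Ne, Subgroup.map_eq_bot_iff, QuotientGroup.ker_mk']; exact hC
  have : (C.map (QuotientGroup.mk' A)).Normal :=
    Subgroup.Normal.map inferInstance _ (QuotientGroup.mk'_surjective A)
  obtain ⟨_, ⟨x, hx, rfl⟩, hyc, hy1⟩ := exists_mem_center_ne_one_of_normal (hG.to_quotient A) _ hne
  have hxA : x ∉ A := fun h => hy1 ((QuotientGroup.eq_one_iff x).mpr h)
  let B := A ⊔ Subgroup.zpowers x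
  have hBC : B ≤ Subgroup.centralizer (B : Set G) := by
    refine sup_le ?_ (Subgroup.zpowers_le.mpr ?_)
    · rw [Subgroup.le_centralizer_iff]
      exact sup_le (Subgroup.le_centralizer_iff_isMulCommutative.mpr hAc) (Subgroup.zpowers_le.mpr hx)
    · have : B ≤ Subgroup.centralizer ({x} : Set G) := sup_le
        (fun a ha => Subgroup.mem_centralizer_singleton_iff.mpr (Subgroup.mem_centralizer_iff.mp hx a ha))
        (Subgroup.zpowers_le.mpr (Subgroup.mem_centralizer_singleton_iff.mpr rfl))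
      rw [Subgroup.mem_centralizer_iff]
      exact fun b hb => Subgroup.mem_centralizer_singleton_iff.mp (this hb)
  have hBn : B.Normal := by
    refine ⟨fun b hb g => ?_⟩
    have h : ⁅g, b⁆ ∈ A := by
      rw [← QuotientGroup.eq_one_iff, ← QuotientGroup.mk'_apply, map_commutatorElement,
        commutatorElement_eq_one_iff_mul_comm]
      have hle : B ≤ (Subgroup.center (G ⧸ A)).comap (QuotientGroup.mk' A) := by
        refine sup_le (fun a ha => ?_) (Subgroup.zpowers_le.mpr hyc)
        rw [Subgroup.mem_comap, QuotientGroup.mk'_apply, (QuotientGroup.eq_one_iff a).mpr ha]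
        exact one_mem _
      exact Subgroup.mem_center_iff.mp (hle hb) _
    have e : g * b * g⁻¹ = ⁅g, b⁆ * b := by rw [commutatorElement_def, inv_mul_cancel_right]
    rw [e]
    exact B.mul_mem (Subgroup.mem_sup_left h) hb
  exact hxA (hmax ⟨hBn, Subgroup.le_centralizer_iff_isMulCommutative.mp hBC⟩ le_sup_left
    (Subgroup.mem_sup_right (Subgroup.mem_zpowers x)))

theorem isPGroup_of_coprime_trivial [Finite G] [hp : Fact p.Prime] {R : Subgroup G}
    (h : ∀ x ∈ R, (orderOf x).Coprime p → x = 1) : IsPGroup p R := by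
  intro g
  obtain ⟨a, m, hm, he⟩ := Nat.exists_eq_pow_mul_and_not_dvd (orderOf_pos (g : G)).ne' p hp.out.ne_one
  refine ⟨a, Subtype.ext ?_⟩
  rw [Subgroup.coe_pow, Subgroup.coe_one]
  exact h _ (pow_mem g.2 _) ((hp.out.coprime_iff_not_dvd.mpr hm).symm.coprime_dvd_left
    (orderOf_dvd_of_pow_eq_one (by rw [← pow_mul, ← he, pow_orderOf_eq_one])))

theorem isPGroup_of_exponent {W : Subgroup G} (h : ∀ x ∈ W, x ^ p = 1) : IsPGroup p W :=
  fun x => ⟨1, by rw [pow_one]; exact Subtype.ext (h x x.2)⟩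

/-- With trivial `p'`-core and `p`-rank at most two, a Sylow `p`-subgroup is normal. -/
theorem sylow_normal_of_rank_two [Finite G] [Group.IsSolvable G] [hp : Fact p.Prime] (hodd : Odd (Nat.card G))
    (hp2 : p ≠ 2) (hO : Cfsg.pPrimeCore p G = ⊥) (S : Sylow p G)
    (hrank : ∀ X : Subgroup G, X ≤ (S : Subgroup G) → IsElementaryAbelian p X → Nat.card X ≤ p ^ 2) :
    (S : Subgroup G) = Cfsg.pCore p G := by
  set T := Cfsg.pCore p G with hT
  have hTp : IsPGroup p T := Basics.pCore_isPGroup p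
  have hTS : T ≤ (S : Subgroup G) := Basics.pCore_le_sylow p S
  have hrankT : ∀ X : Subgroup T, IsElementaryAbelian p X → Nat.card X ≤ p ^ 2 := by
    intro X hX
    rw [← Subgroup.card_map_of_injective T.subtype_injective]
    refine hrank _ ((Subgroup.map_subtype_le X).trans hTS) ⟨⟨⟨?_⟩⟩, ?_⟩
    · rintro ⟨_, a, ha, rfl⟩ ⟨_, b, hb, rfl⟩
      exact Subtype.ext (congrArg T.subtype (ea_commute hX ha hb).eq)
    · rintro _ ⟨a, ha, rfl⟩
      rw [← map_pow, hX.2 a ha, map_one]
  -- `W = Ω₁(Z₂(T))`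
  set Z2 := Subgroup.upperCentralSeries T 2 with hZ2
  have hcomm : ∀ x ∈ Z2, ∀ y : T, ⁅x, y⁆ ∈ Subgroup.center T := by
    intro x hx y
    have h := (Subgroup.mem_upperCentralSeries_succ_iff (n := 1) (x := x)).mp hx y
    rw [Subgroup.upperCentralSeries_one] at h
    rw [commutatorElement_def]; exact h
  let W0 : Subgroup T :=
    { carrier := {x | x ∈ Z2 ∧ x ^ p = 1}
      one_mem' := ⟨one_mem _, one_pow _⟩
      mul_mem' := fun {a b} ha hb => ⟨mul_mem ha.1 hb.1, by
        have hc : ∀ z : T, Commute ⁅b, a⁆ z := fun z => (Subgroup.mem_center_iff.mp (hcomm b hb.1 a) z).symm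
        have hcp : ⁅b, a⁆ ^ p = 1 := by
          rw [← Transfer.commutator_pow_left (hc b).symm p, hb.2, commutatorElement_one_left]
        rw [Transfer.mul_pow_of_commute (hc a) (hc b), ha.2, hb.2, one_mul, one_mul]
        obtain ⟨m, hm⟩ : p ∣ p.choose 2 :=
          hp.out.dvd_choose_self two_ne_zero (lt_of_le_of_ne hp.out.two_le (Ne.symm hp2))
        rw [hm, pow_mul, hcp, one_pow]⟩
      inv_mem' := fun {a} ha => ⟨inv_mem ha.1, by rw [inv_pow, ha.2, inv_one]⟩ }
  have hW0char : W0.Characteristic := by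
    rw [Subgroup.characteristic_iff_comap_eq]
    intro φ
    ext x
    change φ x ∈ Z2 ∧ φ x ^ p = 1 ↔ x ∈ Z2 ∧ x ^ p = 1
    rw [← map_pow, map_eq_one_iff φ φ.injective]
    refine and_congr_left fun _ => ?_
    have h := Subgroup.characteristic_iff_comap_eq.mp (inferInstance : Z2.Characteristic) φ
    conv_rhs => rw [← h]
    rfl
  set W := W0.map T.subtype with hW
  have hWn : W.Normal := ConjAct.normal_of_characteristic_of_normal
  have hWp : IsPGroup p W := hTp.to_le (Subgroup.map_subtype_le _)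
  set WW := ⁅W, W⁆ with hWW
  have hWWW : WW ≤ W := Subgroup.commutator_le_self W
  have hWWc : WW ≤ Subgroup.centralizer (T : Set G) := by
    rw [hWW, hW, ← Subgroup.map_commutator, Subgroup.map_le_iff_le_comap, Subgroup.commutator_le]
    intro a ha b _
    rw [Subgroup.mem_comap, Subgroup.mem_centralizer_iff]
    intro t ht
    exact congrArg Subtype.val (Subgroup.mem_center_iff.mp (hcomm a ha.1 b) ⟨t, ht⟩)
  set π := QuotientGroup.mk' WW with hπ
  set P := W.map π with hP
  have hPn : P.Normal := hWn.map _ (QuotientGroup.mk'_surjective WW)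
  have hPcard : Nat.card P ≤ p ^ 2 := by
    have hcard := Basics.card_map_mul_card_inf_ker π W
    rw [QuotientGroup.ker_mk', inf_eq_right.mpr hWWW] at hcard
    have hWc : Nat.card W = Nat.card W0 := Subgroup.card_map_of_injective T.subtype_injective
    by_cases hab : IsMulCommutative W0
    · have := hrankT W0 ⟨hab, fun a ha => ha.2⟩
      calc Nat.card P ≤ Nat.card P * Nat.card WW := Nat.le_mul_of_pos_right _ Nat.card_pos
        _ = Nat.card W0 := by rw [hP, hcard, hWc]
        _ ≤ p ^ 2 := this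
    have hWW1 : WW ≠ ⊥ := by
      intro h
      rw [hWW, hW, ← Subgroup.map_commutator,
        Subgroup.map_eq_bot_iff_of_injective _ T.subtype_injective] at h
      exact hab (Subgroup.commutator_self_eq_bot_iff.mp h)
    have hW0p : IsPGroup p W0 := isPGroup_of_exponent fun x hx => hx.2
    obtain ⟨E, -, hE⟩ := exists_isMaxNormalEA p (isElementaryAbelian_bot (G := W0) (p := p))
    have := hE.1
    have hEcard : Nat.card E ≤ p ^ 2 := by
      rw [← Subgroup.card_map_of_injective W0.subtype_injective]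
      refine hrankT _ ⟨⟨⟨?_⟩⟩, ?_⟩
      · rintro ⟨_, a, ha, rfl⟩ ⟨_, b, hb, rfl⟩
        exact Subtype.ext (congrArg W0.subtype (ea_commute hE.2.1 ha hb).eq)
      · rintro _ ⟨a, ha, rfl⟩
        rw [← map_pow, hE.2.1.2 a ha, map_one]
    have hCE : Subgroup.centralizer (E : Set W0) ≤ E := fun x hx =>
      mem_of_isMaxNormalEA hp2 hW0p hE hx (Subtype.ext x.2.2)
    have h3 : Nat.card W0 ≤ p ^ 2 * p := by
      rw [← Subgroup.card_mul_index (Subgroup.centralizer (E : Set W0))]
      exact Nat.mul_le_mul ((Subgroup.card_le_of_le hCE).trans hEcard) (index_centralizer_le hW0p E hE.2.1 hEcard)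
    have hpWW : p ≤ Nat.card WW := by
      rcases (hWp.to_le hWWW).card_eq_or_dvd with h | h
      · exact absurd (Subgroup.eq_bot_of_card_eq WW h) hWW1
      · exact Nat.le_of_dvd Nat.card_pos h
    refine Nat.le_of_mul_le_mul_right ?_ hp.out.pos
    calc Nat.card P * p ≤ Nat.card P * Nat.card WW := Nat.mul_le_mul_left _ hpWW
      _ = Nat.card W0 := by rw [hP, hcard, hWc]
      _ ≤ p ^ 2 * p := h3
  -- `p'`-elements trivial on `W / [W, W]` are trivial
  have hkill : ∀ x : G, (orderOf x).Coprime p → π x ∈ Subgroup.centralizer (P : Set (G ⧸ WW)) → x = 1 := by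
    intro x hxo hxc
    have hmod : ∀ u ∈ W, u⁻¹ * (x * u * x⁻¹) ∈ WW := by
      intro u hu
      have h := Subgroup.mem_centralizer_iff.mp hxc (π u) ⟨u, hu, rfl⟩
      rw [← QuotientGroup.eq_one_iff, ← QuotientGroup.mk'_apply, ← hπ, map_mul, map_mul, map_mul, map_inv,
        map_inv, ← h]
      group
    have hfixWW : ∀ c ∈ WW, Commute x c := by
      intro c hc
      rw [hWW, Subgroup.commutator_def] at hc
      induction hc using Subgroup.closure_induction with
      | mem z hz =>
        obtain ⟨a, ha, b, hb, rfl⟩ := hz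
        have hca := Subgroup.mem_centralizer_iff.mp (hWWc (hmod a ha))
        have hcb := Subgroup.mem_centralizer_iff.mp (hWWc (hmod b hb))
        have hT' : ∀ {u}, u ∈ W → u ∈ T := fun {u} hu => Subgroup.map_subtype_le _ hu
        have e : x * ⁅a, b⁆ * x⁻¹ = ⁅a, b⁆ := by
          set c₁ := a⁻¹ * (x * a * x⁻¹) with hc₁
          set c₂ := b⁻¹ * (x * b * x⁻¹) with hc₂
          have ea : x * a * x⁻¹ = a * c₁ := by rw [hc₁]; group
          have eb : x * b * x⁻¹ = b * c₂ := by rw [hc₂]; group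
          have k1 : Commute c₁ b := (hca b (hT' hb)).symm
          have k3 : Commute c₂ a := (hcb a (hT' ha)).symm
          have k5 : Commute c₁ c₂ := (hca c₂ (hT' (hWWW (hmod b hb)))).symm
          calc x * ⁅a, b⁆ * x⁻¹ = (x * a * x⁻¹) * (x * b * x⁻¹) * (x * a * x⁻¹)⁻¹ * (x * b * x⁻¹)⁻¹ := by
                rw [commutatorElement_def]; group
            _ = a * (c₁ * (b * c₂)) * c₁⁻¹ * a⁻¹ * c₂⁻¹ * b⁻¹ := by
                rw [ea, eb]; simp only [mul_inv_rev, mul_assoc]
            _ = a * ((b * c₂) * c₁) * c₁⁻¹ * a⁻¹ * c₂⁻¹ * b⁻¹ := by rw [(k1.mul_right k5).eq]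
            _ = a * b * (c₂ * a⁻¹) * c₂⁻¹ * b⁻¹ := by group
            _ = a * b * (a⁻¹ * c₂) * c₂⁻¹ * b⁻¹ := by rw [k3.inv_right.eq]
            _ = ⁅a, b⁆ := by rw [commutatorElement_def]; group
        exact mul_inv_eq_iff_eq_mul.mp e
      | one => exact Commute.one_right x
      | mul _ _ _ _ h1 h2 => exact h1.mul_right h2
      | inv _ _ h1 => exact h1.inv_right
    have hfixW : ∀ u ∈ W, Commute x u := by
      intro u hu
      obtain ⟨j, hj⟩ := hWp ⟨_, hWWW (hmod u hu)⟩
      exact LocalEvenA.comm_of_coprime_chain hxo ⟨j, congrArg Subtype.val hj⟩ (hfixWW _ (hmod u hu))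
    obtain ⟨E, -, hE⟩ := exists_isMaxNormalEA p (isElementaryAbelian_bot (G := T) (p := p))
    have := hE.1
    have hEW : E ≤ W0 := by
      intro e he
      refine ⟨?_, hE.2.1.2 e he⟩
      rw [Subgroup.mem_upperCentralSeries_succ_iff]
      intro y
      rw [Subgroup.upperCentralSeries_one]
      have h := (commutator_top_le_center hTp E (hrankT E hE.2.1)
        (Subgroup.commutator_mem_commutator he (Subgroup.mem_top y))).2
      rw [commutatorElement_def] at h
      exact h
    set E' := E.map T.subtype with hE'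
    have hQ : ¬ p ∣ Nat.card (Subgroup.zpowers x) := by
      rw [Nat.card_zpowers]; exact hp.out.coprime_iff_not_dvd.mp hxo.symm
    have hxE : ∀ e ∈ E', Commute x e := fun e he => hfixW e (Subgroup.map_mono hEW he)
    have hxN : Subgroup.zpowers x ≤ Subgroup.normalizer (T : Set G) := by
      rw [Subgroup.normalizer_eq_top]; exact le_top
    have hcent := centralizes_of_fixed_odd hp2 hTp (Q := Subgroup.zpowers x) (A := E') hQ
      (hTp.to_le (Subgroup.map_subtype_le _))
      (by
        intro e he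
        refine Subgroup.centralizer_le_normalizer (Subgroup.zpowers x : Set G) ?_
        rw [Subgroup.mem_centralizer_iff]
        rintro _ ⟨i, rfl⟩
        exact ((hxE e he).zpow_left i).eq)
      ((Subgroup.map_subtype_le _).trans Subgroup.le_normalizer) hxN (fun t ht htC htp => by
        rw [Subgroup.mem_centralizer_iff]
        rintro _ ⟨i, rfl⟩
        refine ((hxE t ?_).zpow_left i).eq
        refine ⟨⟨t, ht⟩, mem_of_isMaxNormalEA hp2 hTp hE ?_ (Subtype.ext htp), rfl⟩
        rw [Subgroup.mem_centralizer_iff]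
        exact fun e he => Subtype.ext (Subgroup.mem_centralizer_iff.mp htC _ ⟨e, he, rfl⟩))
    obtain ⟨j, hj⟩ := hTp ⟨x, Basics.centralizer_pCore_le hO (hcent (Subgroup.mem_zpowers x))⟩
    exact LocalEvenA.eq_one_of_pPow_of_coprime (congrArg Subtype.val hj) hxo
  -- every element of `S` is quadratic on `P`
  set C := Subgroup.centralizer (P : Set (G ⧸ WW)) with hC
  have hCn : C.Normal := Subgroup.normal_centralizer
  set R := ((Cfsg.pCore p ((G ⧸ WW) ⧸ C)).comap (QuotientGroup.mk' C)).comap π with hR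
  have hRp : IsPGroup p R := by
    refine isPGroup_of_coprime_trivial fun x hx hxo => hkill x hxo ?_
    obtain ⟨j, hj⟩ := Basics.pCore_isPGroup (G := (G ⧸ WW) ⧸ C) p ⟨_, hx⟩
    exact (QuotientGroup.eq_one_iff _).mp (LocalEvenA.eq_one_of_pPow_of_coprime (congrArg Subtype.val hj)
      (hxo.coprime_dvd_left ((orderOf_map_dvd (QuotientGroup.mk' C) (π x)).trans (orderOf_map_dvd π x))))
  refine le_antisymm (fun b hb => Basics.le_pCore hRp ?_) hTS
  change π b ∈ (Cfsg.pCore p ((G ⧸ WW) ⧸ C)).comap (QuotientGroup.mk' C)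
  rw [Subgroup.mem_comap]
  refine quadratic_mem_pCore (Odd.of_dvd_nat hodd (Subgroup.card_quotient_dvd_card _)) hp2 P (hWp.map π) C rfl _ ?_
  intro v hv
  set B := (S : Subgroup G).map π with hB
  have hPB : P ≤ B := Subgroup.map_mono ((Subgroup.map_subtype_le _).trans hTS)
  have hBp : IsPGroup p B := S.2.map π
  set P' := P.subgroupOf B
  have hPc' : Nat.card P' ≤ p ^ 2 := by rw [Basics.card_subgroupOf hPB]; exact hPcard
  have h := (commutator_top_le_center hBp P' hPc'
    (Subgroup.commutator_mem_commutator (g₁ := ⟨v, hPB hv⟩) (g₂ := ⟨π b, b, hb, rfl⟩) hv (Subgroup.mem_top _))).2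
  have hc : Commute (π b) ⁅v, π b⁆ := congrArg Subtype.val (Subgroup.mem_center_iff.mp h ⟨π b, b, hb, rfl⟩)
  have e : π b * v * (π b)⁻¹ * v⁻¹ = ⁅v, π b⁆⁻¹ := by rw [commutatorElement_def]; group
  rw [e]
  exact hc.inv_right

end Cfsg.Agent.OddLocal
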