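import Cfsg.Agent.Lib.OddLocal.BlackburnStructure
import Cfsg.Agent.Lib.OddLocal.Rank

/-! Coprime action on metacyclic `p`-groups (BG 4.?). -/

set_option autoImplicit false
set_option maxHeartbeats 1000000

namespace Cfsg.Agent.OddLocal

open scoped commutatorElement
open Cfsg

universe u

variable {G : Type u} [Group G] [Finite G] {p : ℕ} [hp : Fact p.Prime]

omit hp in
theorem isMetacyclic_of_surjective {R S : Type u} [Group R] [Group S] (f : R →* S) (hf : Function.Surjective f)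
    (h : IsMetacyclic R) : IsMetacyclic S := by
  obtain ⟨N, hN, h1, h2⟩ := h
  haveI : (N.map f).Normal := hN.map f hf
  haveI := h1
  haveI := h2
  refine ⟨N.map f, inferInstance, ?_, ?_⟩
  · exact isCyclic_of_surjective (f.subgroupMap N) (f.subgroupMap_surjective N)
  · refine isCyclic_of_surjective (QuotientGroup.map N (N.map f) f (Subgroup.le_comap_map f N)) ?_
    intro z
    obtain ⟨s, rfl⟩ := QuotientGroup.mk_surjective z
    obtain ⟨r, rfl⟩ := hf s
    exact ⟨QuotientGroup.mk r, rfl⟩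

omit [Finite G] in
theorem card_le_sq_of_metacyclic {R : Type u} [Group R] [Finite R] (hm : IsMetacyclic R) (W : Subgroup R)
    (hW : ∀ w ∈ W, w ^ p = 1) : Nat.card W ≤ p ^ 2 := by
  obtain ⟨N, hN, h1, h2⟩ := hm
  haveI := hN
  haveI := h1
  haveI := h2
  rw [← Basics.card_map_mul_card_inf_ker (QuotientGroup.mk' N) W, QuotientGroup.ker_mk', sq]
  refine Nat.mul_le_mul ?_ ?_
  · haveI : IsCyclic (W.map (QuotientGroup.mk' N)) := inferInstance
    rw [← IsCyclic.exponent_eq_card]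
    refine Nat.le_of_dvd hp.out.pos (Monoid.exponent_dvd_of_forall_pow_eq_one fun v => Subtype.ext ?_)
    obtain ⟨_, w, hw, rfl⟩ := v
    rw [Subgroup.coe_pow, Subgroup.coe_one]
    change QuotientGroup.mk' N w ^ p = 1
    rw [← map_pow, hW w hw, map_one]
  · haveI : IsCyclic (W ⊓ N : Subgroup R) :=
      isCyclic_of_injective (Subgroup.inclusion (inf_le_right : W ⊓ N ≤ N)) (Subgroup.inclusion_injective _)
    rw [← IsCyclic.exponent_eq_card]
    exact Nat.le_of_dvd hp.out.pos (Monoid.exponent_dvd_of_forall_pow_eq_one fun v => Subtype.ext (hW _ v.2.1))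

/-- The case of a derived subgroup of order `p`. -/
theorem false_of_metacyclic_prime (hp2 : p ≠ 2) {R A : Subgroup G} (hR : IsPGroup p R) (hm : IsMetacyclic R)
    (hA : A ≤ Subgroup.normalizer (R : Set G)) (hcop : (Nat.card A).Coprime p) (hRA : ⁅R, A⁆ = R)
    (hD : Nat.card ↥⁅R, R⁆ = p) : False := by
  set D := ⁅R, R⁆ with hDdef
  have hDR : D ≤ R := R.commutator_le_self
  have hDn : (D.subgroupOf R).Normal :=
    (Subgroup.normal_subgroupOf_iff_le_normalizer hDR).mpr (Subgroup.normalizer_commutator_ge_left R R)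
  have hcent : ∀ d ∈ D, ∀ r ∈ R, Commute d r := by
    intro d hd r hr
    have h := le_center_of_card_le hR (D.subgroupOf R) (by rw [Basics.card_subgroupOf hDR, hD])
      (show (⟨d, hDR hd⟩ : R) ∈ D.subgroupOf R from hd)
    exact congrArg Subtype.val (Subgroup.mem_center_iff.mp h ⟨r, hr⟩).symm
  have hDp : ∀ d ∈ D, d ^ p = 1 := fun d hd => by
    have h : (⟨d, hd⟩ : D) ^ p = 1 := hD ▸ pow_card_eq_one'
    exact congrArg Subtype.val h
  have hmulp : ∀ x ∈ R, ∀ y ∈ R, (x * y) ^ p = x ^ p * y ^ p := by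
    intro x hx y hy
    have hc : ⁅y, x⁆ ∈ D := Subgroup.commutator_mem_commutator hy hx
    rw [Transfer.mul_pow_of_commute (hcent _ hc x hx) (hcent _ hc y hy)]
    obtain ⟨m, hm⟩ : p ∣ p.choose 2 :=
      hp.out.dvd_choose_self two_ne_zero (lt_of_le_of_ne hp.out.two_le (Ne.symm hp2))
    rw [hm, pow_mul, hDp _ hc, one_pow, mul_one]
  have hmulpj : ∀ j : ℕ, ∀ x ∈ R, ∀ y ∈ R, (x * y) ^ p ^ j = x ^ p ^ j * y ^ p ^ j := by
    intro j
    induction j with
    | zero => intro x _ y _; simp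
    | succ j ih =>
      intro x hx y hy
      rw [pow_succ, pow_mul, ih x hx y hy, hmulp _ (pow_mem hx _) _ (pow_mem hy _), ← pow_mul, ← pow_mul]
  let T : ℕ → Subgroup G := fun j =>
    { carrier := {v | ∃ x ∈ R, x ^ p ^ j = v}
      one_mem' := ⟨1, one_mem R, one_pow _⟩
      mul_mem' := by
        rintro _ _ ⟨x, hx, rfl⟩ ⟨y, hy, rfl⟩
        exact ⟨x * y, mul_mem hx hy, hmulpj j x hx y hy⟩
      inv_mem' := by
        rintro _ ⟨x, hx, rfl⟩
        exact ⟨x⁻¹, inv_mem hx, inv_pow _ _⟩ }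
  have hTmono : ∀ j, T (j + 1) ≤ T j := by
    rintro j _ ⟨x, hx, rfl⟩
    exact ⟨x ^ p, pow_mem hx p, by rw [← pow_mul, ← pow_succ']⟩
  have hTR : ∀ j, T j ≤ R := by rintro j _ ⟨x, hx, rfl⟩; exact pow_mem hx _
  have hTN : ∀ j, Subgroup.normalizer (R : Set G) ≤ Subgroup.normalizer (T j : Set G) := by
    intro j g hg
    rw [Subgroup.mem_normalizer_iff_map_conj_eq]
    refine Subgroup.eq_of_le_of_card_ge ?_ (Subgroup.card_map_of_injective (MulEquiv.injective _)).ge
    rintro _ ⟨_, ⟨x, hx, rfl⟩, rfl⟩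
    exact ⟨g * x * g⁻¹, (Subgroup.mem_normalizer_iff.mp hg x).mp hx, conj_pow⟩
  -- `T 1` is the centre and has index `p ^ 2`
  let φ : R →* R :=
    { toFun := fun x => ⟨(x : G) ^ p, pow_mem x.2 p⟩
      map_one' := Subtype.ext (one_pow p)
      map_mul' := fun x y => Subtype.ext (hmulp x x.2 y y.2) }
  have hker : Nat.card φ.ker ≤ p ^ 2 :=
    card_le_sq_of_metacyclic hm φ.ker fun w hw => by
      have h : (⟨(w : G) ^ p, pow_mem w.2 p⟩ : R) = 1 := hw
      exact Subtype.ext (congrArg Subtype.val h :)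
  have hrange : φ.range = (T 1).subgroupOf R := by
    ext z
    constructor
    · rintro ⟨x, rfl⟩
      exact ⟨x, x.2, by rw [pow_one]; rfl⟩
    · rintro ⟨x, hx, e⟩
      exact ⟨⟨x, hx⟩, Subtype.ext (by rw [pow_one] at e; exact e)⟩
  have hnab : ¬ IsMulCommutative R := by
    intro h
    have h1 : D = ⊥ := Subgroup.commutator_self_eq_bot_iff.mpr h
    rw [h1, Subgroup.card_bot] at hD
    exact hp.out.one_lt.ne hD
  have hT1Z : (T 1).subgroupOf R ≤ Subgroup.center R := by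
    rintro z ⟨x, hx, e⟩
    rw [pow_one] at e
    refine Subgroup.mem_center_iff.mpr fun r => Subtype.ext ?_
    have hc : ⁅x, (r : G)⁆ ∈ D := Subgroup.commutator_mem_commutator hx r.2
    have h1 : ⁅x ^ p, (r : G)⁆ = 1 := by
      rw [Transfer.commutator_pow_left (hcent _ hc x hx).symm p, hDp _ hc]
    change (r : G) * (z : G) = (z : G) * r
    change x ^ p = (z : G) at e
    rw [← e]
    exact (commutatorElement_eq_one_iff_mul_comm.mp h1).symm
  have hDZ : D.subgroupOf R ≤ Subgroup.center R := fun d hd =>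
    Subgroup.mem_center_iff.mpr fun r => Subtype.ext (hcent _ hd r r.2).eq.symm
  have hZidx : p ^ 2 ≤ (Subgroup.center R).index := by
    obtain ⟨k, hk⟩ := hR.index (Subgroup.center R)
    rw [hk]
    refine Nat.pow_le_pow_right hp.out.pos ?_
    by_contra hlt
    push Not at hlt
    have hd : Nat.card (R ⧸ Subgroup.center R) ∣ p := by
      rw [← Subgroup.index_eq_card, hk]
      exact (Nat.pow_dvd_pow p (by omega : k ≤ 1)).trans (pow_one p).dvd
    haveI : IsCyclic (R ⧸ Subgroup.center R) := by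
      rcases (Nat.dvd_prime hp.out).mp hd with h1 | h1
      · haveI : Subsingleton (R ⧸ Subgroup.center R) := (Nat.card_eq_one_iff_unique.mp h1).1
        infer_instance
      · exact isCyclic_of_prime_card h1
    exact hnab (isMulCommutative_of_isCyclic_quotient_center_self R)
  have hT1eq : (T 1).subgroupOf R = Subgroup.center R ∧ (Subgroup.center R).index ≤ p ^ 2 := by
    have h1 := Subgroup.card_mul_index φ.ker
    rw [Subgroup.index_ker, hrange] at h1
    have h2 := Subgroup.card_mul_index (Subgroup.center R)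
    have h3 : Nat.card ↥((T 1).subgroupOf R) ≤ Nat.card (Subgroup.center R) := Subgroup.card_le_of_le hT1Z
    have h4 : Nat.card (Subgroup.center R) ≤ Nat.card ↥((T 1).subgroupOf R) := by
      refine Nat.le_of_mul_le_mul_right ?_ (pow_pos hp.out.pos 2)
      calc Nat.card (Subgroup.center R) * p ^ 2 ≤ Nat.card R := h2 ▸ Nat.mul_le_mul_left _ hZidx
        _ = Nat.card φ.ker * Nat.card ↥((T 1).subgroupOf R) := h1.symm
        _ ≤ Nat.card ↥((T 1).subgroupOf R) * p ^ 2 := by rw [mul_comm]; exact Nat.mul_le_mul_left _ hker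
    refine ⟨Subgroup.eq_of_le_of_card_ge hT1Z h4, ?_⟩
    refine Nat.le_of_mul_le_mul_left ?_ (Nat.card_pos (α := Subgroup.center R))
    rw [h2, ← h1, ← le_antisymm h3 h4, mul_comm]
    exact Nat.mul_le_mul_left _ hker
  obtain ⟨hT1Z', hidx⟩ := hT1eq
  have hDT1 : D ≤ T 1 := fun d hd => by
    have h : (⟨d, hDR hd⟩ : R) ∈ (T 1).subgroupOf R := hT1Z'.symm ▸ hDZ (show (⟨d, hDR hd⟩ : R) ∈ D.subgroupOf R from hd)
    exact h
  have hcenT1 : ∀ v ∈ T 1, ∀ r ∈ R, Commute v r := fun v hv r hr =>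
    congrArg Subtype.val (Subgroup.mem_center_iff.mp (hT1Z (show (⟨v, hTR 1 hv⟩ : R) ∈ (T 1).subgroupOf R from hv)) ⟨r, hr⟩).symm
  -- the layer of `D`
  obtain ⟨c, hcD, hc1⟩ : ∃ c ∈ D, c ≠ 1 := by
    by_contra h
    push Not at h
    rw [(Subgroup.eq_bot_iff_forall D).mpr h, Subgroup.card_bot] at hD
    exact hp.out.one_lt.ne hD
  have hgenD : ∀ d ∈ D, ∃ e : ℤ, d = c ^ e := by
    intro d hd
    obtain ⟨e, he⟩ := mem_zpowers_of_prime_card hD (g := (⟨c, hcD⟩ : D)) (g' := ⟨d, hd⟩)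
      (fun h => hc1 (congrArg Subtype.val h))
    exact ⟨e, (congrArg Subtype.val he).symm⟩
  obtain ⟨j, hcj, hcj'⟩ : ∃ j, c ∈ T (j + 1) ∧ c ∉ T (j + 2) := by
    obtain ⟨n, hn⟩ := hR.exists_card_eq
    have hbot : c ∉ T (n + 1) := by
      rintro ⟨x, hx, e⟩
      refine hc1 (e ▸ ?_)
      have h := congrArg Subtype.val (pow_card_eq_one' (x := (⟨x, hx⟩ : R)))
      rw [hn] at h
      change x ^ p ^ n = 1 at h
      rw [pow_succ, pow_mul, h, one_pow]
    by_contra hall
    push Not at hall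
    have : ∀ i, c ∈ T (i + 1) := by
      intro i
      induction i with
      | zero => exact hDT1 hcD
      | succ i ih => exact hall i ih
    exact hbot (this n)
  set L := T (j + 2) with hL
  have hcL : ∀ e : ℤ, c ^ e ∈ L → (p : ℤ) ∣ e := by
    intro e he
    by_contra hne
    obtain ⟨x, y, hxy⟩ := (Prime.coprime_iff_not_dvd (Nat.prime_iff_prime_int.mp hp.out)).mpr hne
    refine hcj' ?_
    rw [← zpow_one c, ← hxy, zpow_add, mul_comm x, zpow_mul, zpow_natCast, hDp c hcD, one_zpow, one_mul, mul_comm y,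
      zpow_mul]
    exact zpow_mem he y
  set q := p ^ (j + 1) with hq
  have hqmul : ∀ x ∈ R, ∀ y ∈ R, (x * y) ^ q = x ^ q * y ^ q := hmulpj (j + 1)
  have hT1q : ∀ t ∈ T 1, t ^ q ∈ L := by
    rintro _ ⟨x, hx, rfl⟩
    exact ⟨x, hx, by rw [hq, ← pow_mul, pow_one, ← pow_succ']⟩
  set U : Subgroup G :=
    { carrier := {x | x ∈ R ∧ ∃ e : ℤ, x ^ q * (c ^ e)⁻¹ ∈ L}
      one_mem' := ⟨one_mem R, 0, by simp⟩
      mul_mem' := by
        rintro x y ⟨hx, e, he⟩ ⟨hy, f, hf⟩
        refine ⟨mul_mem hx hy, e + f, ?_⟩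
        have hc' : ∀ r ∈ R, Commute (c ^ e) r := fun r hr => (hcent c hcD r hr).zpow_left e
        rw [hqmul x hx y hy, zpow_add, mul_inv_rev,
          show x ^ q * y ^ q * ((c ^ f)⁻¹ * (c ^ e)⁻¹) = x ^ q * ((y ^ q * (c ^ f)⁻¹) * (c ^ e)⁻¹) by group,
          ← ((hc' _ (hTR _ hf)).inv_left).eq, ← mul_assoc]
        exact mul_mem he hf
      inv_mem' := by
        rintro x ⟨hx, e, he⟩
        refine ⟨inv_mem hx, -e, ?_⟩
        rw [inv_pow, zpow_neg, inv_inv, ← ((hcent c hcD _ (inv_mem (pow_mem hx q))).zpow_left e).eq]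
        have := inv_mem he
        rwa [mul_inv_rev, inv_inv] at this } with hU
  have hT1U : T 1 ≤ U := fun t ht => ⟨hTR 1 ht, 0, by simpa using hT1q t ht⟩
  obtain ⟨u0, hu0, hu0c⟩ : ∃ u0 ∈ R, u0 ^ q = c := hcj
  -- a complementary pair `k`, `s`
  set V := R ⧸ (T 1).subgroupOf R
  obtain ⟨k, s, hk, hs, hpair⟩ : ∃ k s : G, k ∈ R ∧ s ∈ R ∧ ((k ^ q ∈ L ∧ (∃ e : ℤ, ¬ (p : ℤ) ∣ e ∧ s ^ q * (c ^ e)⁻¹ ∈ L) ∧ (∀ x ∈ R, x ∈ U) ∧
        k ∉ T 1 ∧ ∀ r ∈ R, r ^ q ∈ L → ∃ (i : ℤ) (t : G), t ∈ T 1 ∧ r = k ^ i * t) ∨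
      ((∃ e : ℤ, ¬ (p : ℤ) ∣ e ∧ k ^ q * (c ^ e)⁻¹ ∈ L) ∧ s ∉ U ∧ k ∉ T 1 ∧
        ∀ r ∈ U, ∃ (i : ℤ) (t : G), t ∈ T 1 ∧ r = k ^ i * t)) := by
    have hgen : ∀ (S : Subgroup G), T 1 ≤ S → S ≤ R → S ≠ R → ∀ k ∈ S, k ∉ T 1 →
        ∀ r ∈ S, ∃ (i : ℤ) (t : G), t ∈ T 1 ∧ r = k ^ i * t := by
      intro S hTS hSR hne k hk hkT r hr
      have hkN : k ∈ Subgroup.normalizer (T 1 : Set G) := hTN 1 (Subgroup.le_normalizer (hSR hk))
      refine (mem_zpowers_sup_iff hkN).mp ?_
      have hsup : Subgroup.zpowers k ⊔ T 1 = S := by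
        have hle : Subgroup.zpowers k ⊔ T 1 ≤ S := sup_le (Subgroup.zpowers_le.mpr hk) hTS
        refine Subgroup.eq_of_le_of_card_ge hle ?_
        obtain ⟨a, ha⟩ := (hR.to_le (hTR 1)).exists_card_eq
        obtain ⟨b, hb⟩ := (hR.to_le (hle.trans hSR)).exists_card_eq
        obtain ⟨d, hd⟩ := (hR.to_le hSR).exists_card_eq
        obtain ⟨n, hn⟩ := hR.exists_card_eq
        have h1 := Basics.card_lt_of_lt (lt_of_le_of_ne (le_sup_right (a := Subgroup.zpowers k) (b := T 1))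
          fun e => hkT (e.ge (Subgroup.mem_sup_left (Subgroup.mem_zpowers k))))
        have h2 := Basics.card_lt_of_lt (lt_of_le_of_ne hSR hne)
        rw [ha, hb, Nat.pow_lt_pow_iff_right hp.out.one_lt] at h1
        rw [hd, hn, Nat.pow_lt_pow_iff_right hp.out.one_lt] at h2
        have h3 : n ≤ a + 2 := by
          have h4 := Subgroup.card_mul_index (Subgroup.center R)
          rw [← hT1Z', Basics.card_subgroupOf (hTR 1), ha, hn, hT1Z'] at h4
          refine (Nat.pow_le_pow_iff_right hp.out.one_lt).mp ?_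
          rw [← h4, pow_add]
          exact Nat.mul_le_mul_left _ hidx
        rw [hd, hb]
        exact Nat.pow_le_pow_right hp.out.pos (by omega)
      rw [hsup]
      exact hr
    by_cases hUR : U = R
    · let K : Subgroup G :=
        { carrier := {x | x ∈ R ∧ x ^ q ∈ L}
          one_mem' := ⟨one_mem R, by rw [one_pow]; exact one_mem L⟩
          mul_mem' := fun {x y} hx hy => ⟨mul_mem hx.1 hy.1, by rw [hqmul x hx.1 y hy.1]; exact mul_mem hx.2 hy.2⟩
          inv_mem' := fun {x} hx => ⟨inv_mem hx.1, by rw [inv_pow]; exact inv_mem hx.2⟩ }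
      have hTK : T 1 ≤ K := fun t ht => ⟨hTR 1 ht, hT1q t ht⟩
      have hne : K ≠ R := fun e => hcj' (hu0c ▸ (e.ge hu0).2)
      obtain ⟨k, hk, hkT⟩ : ∃ k ∈ K, k ∉ T 1 := by
        by_contra h
        push Not at h
        -- `x ↦ x ^ q` would embed `R / T 1` in a group of order `p`
        let f : R → D := fun x => ⟨c ^ ((hUR.ge x.2).2).choose, D.zpow_mem hcD _⟩
        let f' : R ⧸ Subgroup.center R → D := fun v => f v.out
        have hf' : Function.Injective f' := by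
          intro a b hab
          rw [← QuotientGroup.out_eq' a, ← QuotientGroup.out_eq' b, QuotientGroup.eq]
          refine hT1Z'.le ?_
          change (a.out : G)⁻¹ * b.out ∈ T 1
          refine h _ ⟨mul_mem (inv_mem a.out.2) b.out.2, ?_⟩
          have ha := (hUR.ge a.out.2).2.choose_spec
          have hb := (hUR.ge b.out.2).2.choose_spec
          have e : c ^ (hUR.ge a.out.2).2.choose = c ^ (hUR.ge b.out.2).2.choose := congrArg Subtype.val hab
          rw [e] at ha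
          rw [hqmul _ (inv_mem a.out.2) _ b.out.2, inv_pow]
          have hdD : c ^ (hUR.ge b.out.2).2.choose ∈ D := D.zpow_mem hcD _
          generalize c ^ (hUR.ge b.out.2).2.choose = d at ha hb hdD
          have := mul_mem (inv_mem ha) hb
          rw [show ((a.out : G) ^ q)⁻¹ * (b.out : G) ^ q = d⁻¹ * (((a.out : G) ^ q * d⁻¹)⁻¹ * ((b.out : G) ^ q * d⁻¹)) * d by
            group, ((hcent d hdD _ (hTR _ this)).inv_left).eq, inv_mul_cancel_right]
          exact this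
        have := Nat.card_le_card_of_injective f' hf'
        rw [← Subgroup.index_eq_card, hD] at this
        have := hZidx.trans this
        nlinarith [hp.out.two_le]
      obtain ⟨e, he⟩ := (hUR.ge hu0).2
      refine ⟨k, u0, hk.1, hu0, Or.inl ⟨hk.2, ⟨1, ?_, by simp [hu0c]⟩, fun x hx => hUR.ge hx, hkT, fun r hr hrq => ?_⟩⟩
      · intro h
        exact hp.out.one_lt.ne' (by exact_mod_cast Int.eq_one_of_dvd_one (by positivity) h)
      · exact hgen K hTK (fun x hx => hx.1) hne k hk hkT r ⟨hr, hrq⟩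
    · obtain ⟨s, hs, hsU⟩ : ∃ s ∈ R, s ∉ U := by
        by_contra h
        push Not at h
        exact hUR (le_antisymm (fun x hx => hx.1) h)
      have hu0U : u0 ∈ U := ⟨hu0, 1, by simp [hu0c]⟩
      have hu0T : u0 ∉ T 1 := fun h => hcj' (hu0c ▸ hT1q u0 h)
      refine ⟨u0, s, hu0, hs, Or.inr ⟨⟨1, ?_, by simp [hu0c]⟩, hsU, hu0T,
        hgen U hT1U (fun x hx => hx.1) hUR u0 hu0U hu0T⟩⟩
      intro h
      exact hp.out.one_lt.ne' (by exact_mod_cast Int.eq_one_of_dvd_one (by positivity) h)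
  -- common congruence
  have hconjL : ∀ a ∈ A, ∀ v ∈ L, a * v * a⁻¹ ∈ L := fun a ha v hv =>
    (Subgroup.mem_normalizer_iff.mp (hTN _ (hA ha)) v).mp hv
  have hconjT : ∀ a ∈ A, ∀ v ∈ T 1, a * v * a⁻¹ ∈ T 1 := fun a ha v hv =>
    (Subgroup.mem_normalizer_iff.mp (hTN _ (hA ha)) v).mp hv
  have hconjR : ∀ a ∈ A, ∀ v ∈ R, a * v * a⁻¹ ∈ R := fun a ha v hv =>
    (Subgroup.mem_normalizer_iff.mp (hA ha) v).mp hv
  have hexpo : ∀ a ∈ A, ∀ x ∈ R, ∀ (i : ℤ) (t : G), a * x * a⁻¹ = x ^ i * t → t ^ q ∈ L → t ∈ R → ∀ e f : ℤ,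
      x ^ q * (c ^ e)⁻¹ ∈ L → a * c * a⁻¹ = c ^ f → (p : ℤ) ∣ e * f - e * i := by
    intro a ha x hx i t hxt htq htR e f hxe hcf
    refine hcL _ ?_
    have h1 := hconjL a ha _ hxe
    rw [show a * (x ^ q * (c ^ e)⁻¹) * a⁻¹ = (a * x ^ q * a⁻¹) * (a * c ^ e * a⁻¹)⁻¹ by group,
      ← conj_pow, ← conj_zpow, hxt, hcf, hqmul _ (zpow_mem hx i) _ htR, ← zpow_mul, mul_comm f e] at h1
    have h2 : (x ^ i) ^ q * (c ^ (e * i))⁻¹ ∈ L := by
      have := Subgroup.zpow_mem _ hxe i
      rwa [(((hcent c hcD _ (pow_mem hx q)).zpow_left e).inv_left.symm).mul_zpow, ← zpow_natCast x, ← zpow_mul,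
        mul_comm (q : ℤ) i, zpow_mul, zpow_natCast, inv_zpow, ← zpow_mul] at this
    set X := (x ^ i) ^ q
    have h3 : t ^ q * (c ^ (e * f))⁻¹ * c ^ (e * i) ∈ L := by
      have := mul_mem (inv_mem h2) h1
      rw [mul_inv_rev, inv_inv] at this
      rw [← ((hcent c hcD _ (mul_mem (pow_mem htR q) (inv_mem (Subgroup.zpow_mem R (hDR hcD) (e * f))))).zpow_left (e * i)).eq]
      rwa [show c ^ (e * i) * X⁻¹ * (X * t ^ q * (c ^ (e * f))⁻¹) = c ^ (e * i) * (t ^ q * (c ^ (e * f))⁻¹) by group] at this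
    have h4 := inv_mem (mul_mem (inv_mem htq) h3)
    rwa [show ((t ^ q)⁻¹ * (t ^ q * (c ^ (e * f))⁻¹ * c ^ (e * i)))⁻¹ = (c ^ (e * i))⁻¹ * c ^ (e * f) by group,
      ← zpow_neg, ← zpow_add, neg_add_eq_sub] at h4
  rcases hpair with ⟨hkq, ⟨e, hpe, hse⟩, hall, hkT, hKgen⟩ | ⟨⟨e, hpe, hke⟩, hsU, hkT, hUgen⟩
  all_goals
    have hks : ⁅k, s⁆ ≠ 1 := by
      intro h
      refine hkT ?_
      have hle : R ≤ Subgroup.centralizer ({k} : Set G) := by
        intro r hr
        have hsT : s ∉ T 1 := by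
          intro hsT
          first
            | exact hsU (hT1U hsT)
            | (refine hpe (hcL _ ?_)
               have h2 := inv_mem (mul_mem (inv_mem (hT1q s hsT)) hse)
               rwa [inv_mul_cancel_left, inv_inv] at h2)
        set C := R ⊓ Subgroup.centralizer ({k} : Set G)
        have hTC : T 1 ≤ C := fun t ht => ⟨hTR 1 ht, Subgroup.mem_centralizer_singleton_iff.mpr (hcenT1 t ht k hk).eq⟩
        by_contra hrC
        have hCne : C ≠ R := fun e' => hrC (e'.ge hr).2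
        obtain ⟨a0, ha0⟩ := (hR.to_le (hTR 1)).exists_card_eq
        have hkC : k ∈ C := ⟨hk, Subgroup.mem_centralizer_singleton_iff.mpr rfl⟩
        have hsC : s ∈ C := ⟨hs, Subgroup.mem_centralizer_singleton_iff.mpr
          (commutatorElement_eq_one_iff_mul_comm.mp h).symm⟩
        obtain ⟨i, t, ht, e'⟩ : ∃ (i : ℤ) (t : G), t ∈ T 1 ∧ s = k ^ i * t := by
          refine (mem_zpowers_sup_iff (hTN 1 (Subgroup.le_normalizer hk))).mp ?_
          have hsup : Subgroup.zpowers k ⊔ T 1 = C := by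
            have hle : Subgroup.zpowers k ⊔ T 1 ≤ C := sup_le (Subgroup.zpowers_le.mpr hkC) hTC
            refine Subgroup.eq_of_le_of_card_ge hle ?_
            obtain ⟨b, hb⟩ := (hR.to_le (hle.trans inf_le_left)).exists_card_eq
            obtain ⟨d, hd⟩ := (hR.to_le (inf_le_left : C ≤ R)).exists_card_eq
            obtain ⟨n, hn⟩ := hR.exists_card_eq
            have h1 := Basics.card_lt_of_lt (lt_of_le_of_ne (le_sup_right (a := Subgroup.zpowers k) (b := T 1))
              fun e => hkT (e.ge (Subgroup.mem_sup_left (Subgroup.mem_zpowers k))))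
            have h2 := Basics.card_lt_of_lt (lt_of_le_of_ne inf_le_left hCne)
            rw [ha0, hb, Nat.pow_lt_pow_iff_right hp.out.one_lt] at h1
            rw [hd, hn, Nat.pow_lt_pow_iff_right hp.out.one_lt] at h2
            have h3 : n ≤ a0 + 2 := by
              have h4 := Subgroup.card_mul_index (Subgroup.center R)
              rw [← hT1Z', Basics.card_subgroupOf (hTR 1), ha0, hn, hT1Z'] at h4
              refine (Nat.pow_le_pow_iff_right hp.out.one_lt).mp ?_
              rw [← h4, pow_add]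
              exact Nat.mul_le_mul_left _ hidx
            rw [hd, hb]
            exact Nat.pow_le_pow_right hp.out.pos (by omega)
          rw [hsup]; exact hsC
        first
          | exact hsU (e' ▸ mul_mem (zpow_mem (⟨hk, _, hke⟩ : k ∈ U) i) (hT1U ht))
          | (refine hpe (hcL _ ?_)
             have hsq : s ^ q ∈ L := by
               rw [e', hqmul _ (zpow_mem hk i) _ (hTR 1 ht), ← zpow_natCast (k ^ i), ← zpow_mul, mul_comm,
                 zpow_mul, zpow_natCast]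
               exact mul_mem (Subgroup.zpow_mem _ hkq i) (hT1q t ht)
             have h2 := inv_mem (mul_mem (inv_mem hsq) hse)
             rwa [inv_mul_cancel_left, inv_inv] at h2)
      have hz : (⟨k, hk⟩ : R) ∈ (T 1).subgroupOf R := hT1Z'.symm ▸ Subgroup.mem_center_iff.mpr fun r =>
        Subtype.ext (Subgroup.mem_centralizer_singleton_iff.mp (hle r.2))
      exact hz
    obtain ⟨e0, he0⟩ := hgenD _ (Subgroup.commutator_mem_commutator hk hs)
    have hpe0 : ¬ (p : ℤ) ∣ e0 := by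
      rintro ⟨t, rfl⟩
      rw [zpow_mul, zpow_natCast, hDp c hcD, one_zpow] at he0
      exact hks he0
    -- the action on `D` is the determinant
    have hdet : ∀ a ∈ A, ∀ (i l m : ℤ) (t t' : G), t ∈ T 1 → t' ∈ T 1 → a * k * a⁻¹ = k ^ i * t →
        a * s * a⁻¹ = s ^ l * (k ^ m * t') → ∀ f : ℤ, a * c * a⁻¹ = c ^ f → (p : ℤ) ∣ f - i * l := by
      intro a ha i l m t t' ht ht' hki hsl f hcf
      have hmc : ∀ P ∈ R, ∀ Q ∈ R, ∀ w ∈ R, Commute P w → ⁅P, Q * w⁆ = ⁅P, Q⁆ := by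
        intro P _ Q _ w _ hPw
        rw [show ⁅P, Q * w⁆ = ⁅P, Q⁆ * (Q * ⁅P, w⁆ * Q⁻¹) by simp only [commutatorElement_def]; group,
          commutatorElement_eq_one_iff_mul_comm.mpr hPw.eq, mul_one, mul_inv_cancel, mul_one]
      have h1 : a * ⁅k, s⁆ * a⁻¹ = ⁅k, s⁆ ^ (i * l) := by
        rw [show a * ⁅k, s⁆ * a⁻¹ = ⁅a * k * a⁻¹, a * s * a⁻¹⁆ by simp only [commutatorElement_def]; group, hki, hsl]
        have hY : s ^ l * (k ^ m * t') ∈ R := mul_mem (zpow_mem hs l) (mul_mem (zpow_mem hk m) (hTR 1 ht'))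
        rw [show ⁅k ^ i * t, s ^ l * (k ^ m * t')⁆ = k ^ i * ⁅t, s ^ l * (k ^ m * t')⁆ * (k ^ i)⁻¹ * ⁅k ^ i, s ^ l * (k ^ m * t')⁆ by
          simp only [commutatorElement_def]; group,
          commutatorElement_eq_one_iff_mul_comm.mpr (hcenT1 t ht _ hY).eq, mul_one, mul_inv_cancel, one_mul,
          hmc _ (zpow_mem hk i) _ (zpow_mem hs l) _ (mul_mem (zpow_mem hk m) (hTR 1 ht'))
            (((Commute.refl k).zpow_zpow i m).mul_right ((hcenT1 t' ht' _ (zpow_mem hk i)).symm)),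
          commutator_zpow_zpow (hcent _ (Subgroup.commutator_mem_commutator hk hs) k hk)
            (hcent _ (Subgroup.commutator_mem_commutator hk hs) s hs)]
      rw [he0, ← conj_zpow, hcf, ← zpow_mul, ← zpow_mul] at h1
      have h2 : (p : ℤ) ∣ f * e0 - e0 * (i * l) := zpow_p_dvd hc1 (hDp c hcD) (by rw [zpow_sub, h1, mul_inv_cancel])
      rw [show f * e0 - e0 * (i * l) = e0 * (f - i * l) by ring] at h2
      exact ((Nat.prime_iff_prime_int.mp hp.out).dvd_mul.mp h2).resolve_left hpe0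
  · -- `k` is fixed modulo `T 1`
    refine hkT (mem_of_fixed_coset hR hA (hA.trans (hTN 1)) (Subgroup.le_normalizer.trans (hTN 1)) hcop hRA hDT1 hk
      fun a ha => ?_)
    obtain ⟨i, t, ht, hki⟩ := hKgen _ (hconjR a ha k hk) (by rw [conj_pow]; exact hconjL a ha _ hkq)
    obtain ⟨e', he'⟩ := hgenD _ ((Subgroup.mem_normalizer_iff.mp
      ((le_inf le_rfl le_rfl).trans normalizer_le_normalizer_commutator (hA ha)) c).mp hcD)
    -- the image of `s`
    have hS : ∃ (l m : ℤ) (t' : G), t' ∈ T 1 ∧ a * s * a⁻¹ = s ^ l * (k ^ m * t') := by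
      obtain ⟨-, g, hg⟩ := hall _ (hconjR a ha s hs)
      obtain ⟨x, y, hxy⟩ := (Prime.coprime_iff_not_dvd (Nat.prime_iff_prime_int.mp hp.out)).mpr hpe
      obtain ⟨m, t', ht', hm⟩ := hKgen ((s ^ (y * g))⁻¹ * (a * s * a⁻¹))
        (mul_mem (inv_mem (zpow_mem hs _)) (hconjR a ha s hs)) (by
          rw [hqmul _ (inv_mem (zpow_mem hs _)) _ (hconjR a ha s hs), inv_pow]
          have h1 : (s ^ (y * g)) ^ q * (c ^ (e * (y * g)))⁻¹ ∈ L := by
            have := Subgroup.zpow_mem _ hse (y * g)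
            rwa [(((hcent c hcD _ (pow_mem hs q)).zpow_left e).inv_left.symm).mul_zpow, ← zpow_natCast s, ← zpow_mul,
              mul_comm (q : ℤ), zpow_mul, zpow_natCast, inv_zpow, ← zpow_mul] at this
          have e1 : c ^ (e * (y * g)) = c ^ g := by
            rw [show e * (y * g) = g + (p : ℤ) * (-(x * g)) by linear_combination g * hxy, zpow_add, zpow_mul,
              zpow_natCast, hDp c hcD, one_zpow, mul_one]
          rw [e1] at h1
          generalize (s ^ (y * g)) ^ q = X at h1 ⊢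
          generalize (a * s * a⁻¹) ^ q = Y at hg ⊢
          have hd : ∀ d ∈ L, Commute (c ^ g) d := fun d hd => (hcent c hcD d (hTR _ hd)).zpow_left g
          have := mul_mem (inv_mem h1) hg
          rw [show (X * (c ^ g)⁻¹)⁻¹ * (Y * (c ^ g)⁻¹) = c ^ g * (X⁻¹ * Y) * (c ^ g)⁻¹ by group] at this
          have h3 := (hd _ this).eq
          have h4 : X⁻¹ * Y = c ^ g * (X⁻¹ * Y) * (c ^ g)⁻¹ := by
            apply mul_left_cancel (a := c ^ g)
            rw [h3]; group
          rw [h4]; exact this)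
      exact ⟨y * g, m, t', ht', by rw [← hm, mul_inv_cancel_left]⟩
    obtain ⟨l, m, t', ht', hsl⟩ := hS
    have h1 := hexpo a ha s hs l (k ^ m * t') hsl (by
      rw [hqmul _ (zpow_mem hk m) _ (hTR 1 ht'), ← zpow_natCast (k ^ m), ← zpow_mul, mul_comm, zpow_mul, zpow_natCast]
      exact mul_mem (Subgroup.zpow_mem _ hkq m) (hT1q t' ht')) (mul_mem (zpow_mem hk m) (hTR 1 ht')) e e' hse he'
    have h2 := hdet a ha i l m t t' ht ht' hki hsl e' he'
    have hl : ¬ (p : ℤ) ∣ l := by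
      intro hl
      have h3 : (p : ℤ) ∣ e' := by
        have := dvd_add h2 (hl.mul_left i)
        rwa [sub_add_cancel] at this
      obtain ⟨w, rfl⟩ := h3
      rw [zpow_mul, zpow_natCast, hDp c hcD, one_zpow] at he'
      exact hc1 ((mul_eq_left (a := a)).mp (mul_inv_eq_one.mp he'))
    rw [← mul_sub] at h1
    have h3 := ((Nat.prime_iff_prime_int.mp hp.out).dvd_mul.mp h1).resolve_left hpe
    have h4 : (p : ℤ) ∣ (i - 1) * l := by
      have := dvd_sub h3 h2
      rwa [show e' - l - (e' - i * l) = (i - 1) * l by ring] at this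
    obtain ⟨w, hw⟩ := ((Nat.prime_iff_prime_int.mp hp.out).dvd_mul.mp h4).resolve_right hl
    rw [hki, show k ^ i * t * k⁻¹ = k ^ i * k⁻¹ * (k * t * k⁻¹) by group, ← zpow_sub_one, hw, zpow_mul, zpow_natCast]
    refine mul_mem (Subgroup.zpow_mem _ (show k ^ p ∈ T 1 from ⟨k, hk, by rw [pow_one]⟩) w) ?_
    rw [(hcenT1 t ht k hk).symm.eq, mul_inv_cancel_right]
    exact ht
  · -- `[R, A] ≤ U`
    have hUR : ¬ R ≤ U := fun h => hsU (h hs)
    refine hUR (le_of_eq_of_le hRA.symm (Subgroup.commutator_le.mpr fun r hr a ha => ?_))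
    obtain ⟨e', he'⟩ := hgenD _ ((Subgroup.mem_normalizer_iff.mp
      ((le_inf le_rfl le_rfl).trans normalizer_le_normalizer_commutator (hA ha)) c).mp hcD)
    have hkU : k ∈ U := ⟨hk, e, hke⟩
    have hconjU : ∀ v ∈ U, a * v * a⁻¹ ∈ U := by
      rintro v ⟨hv, g, hg⟩
      refine ⟨hconjR a ha v hv, e' * g, ?_⟩
      have := hconjL a ha _ hg
      rwa [show a * (v ^ q * (c ^ g)⁻¹) * a⁻¹ = (a * v ^ q * a⁻¹) * (a * c ^ g * a⁻¹)⁻¹ by group, ← conj_pow,
        ← conj_zpow, he', ← zpow_mul] at this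
    obtain ⟨i, t, ht, hki⟩ := hUgen _ (hconjU k hkU)
    have hdec : ∀ x ∈ R, ∃ (l m : ℤ) (t' : G), t' ∈ T 1 ∧ x = s ^ l * (k ^ m * t') := by
      intro x hx
      set W1 := Subgroup.zpowers k ⊔ T 1
      set W := Subgroup.zpowers s ⊔ W1
      have hW1R : W1 ≤ R := sup_le (Subgroup.zpowers_le.mpr hk) (hTR 1)
      have hW1U : W1 ≤ U := sup_le (Subgroup.zpowers_le.mpr hkU) hT1U
      have hWR : W ≤ R := sup_le (Subgroup.zpowers_le.mpr hs) hW1R
      have hWeq : W = R := by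
        refine Subgroup.eq_of_le_of_card_ge hWR ?_
        obtain ⟨a', ha'⟩ := (hR.to_le (hTR 1)).exists_card_eq
        obtain ⟨b', hb'⟩ := (hR.to_le hW1R).exists_card_eq
        obtain ⟨d', hd'⟩ := (hR.to_le hWR).exists_card_eq
        obtain ⟨n, hn⟩ := hR.exists_card_eq
        have hlt1 := Basics.card_lt_of_lt (lt_of_le_of_ne (le_sup_right (a := Subgroup.zpowers k) (b := T 1))
          fun e => hkT (e.ge (Subgroup.mem_sup_left (Subgroup.mem_zpowers k))))
        have hlt2 := Basics.card_lt_of_lt (lt_of_le_of_ne (le_sup_right : W1 ≤ W) fun e' =>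
          hsU (hW1U (e'.ge (Subgroup.mem_sup_left (Subgroup.mem_zpowers s)))))
        rw [ha', hb', Nat.pow_lt_pow_iff_right hp.out.one_lt] at hlt1
        rw [hb', hd', Nat.pow_lt_pow_iff_right hp.out.one_lt] at hlt2
        have h3 : n ≤ a' + 2 := by
          have h4 := Subgroup.card_mul_index (Subgroup.center R)
          rw [← hT1Z', Basics.card_subgroupOf (hTR 1), ha', hn, hT1Z'] at h4
          refine (Nat.pow_le_pow_iff_right hp.out.one_lt).mp ?_
          rw [← h4, pow_add]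
          exact Nat.mul_le_mul_left _ hidx
        rw [hn, hd']
        exact Nat.pow_le_pow_right hp.out.pos (by omega)
      obtain ⟨t0, ht0⟩ : ∃ w, w ∈ W1 ∧ ∃ l : ℤ, x = s ^ l * w := by
        have hsN : s ∈ Subgroup.normalizer (W1 : Set G) := by
          rw [Subgroup.mem_normalizer_iff_map_conj_eq]
          refine Subgroup.eq_of_le_of_card_ge ?_ (Subgroup.card_map_of_injective (MulEquiv.injective _)).ge
          rintro _ ⟨v, hv, rfl⟩
          change s * v * s⁻¹ ∈ W1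
          rw [show s * v * s⁻¹ = ⁅s, v⁆ * v by rw [commutatorElement_def]; group]
          exact mul_mem (Subgroup.mem_sup_right (hDT1 (Subgroup.commutator_mem_commutator hs (hW1R hv)))) hv
        obtain ⟨l, w, hw, hx'⟩ := (mem_zpowers_sup_iff hsN).mp (hWeq.symm ▸ hx)
        exact ⟨w, hw, l, hx'⟩
      obtain ⟨hw, l, hx'⟩ := ht0
      obtain ⟨m, t', ht', hm⟩ := (mem_zpowers_sup_iff (hTN 1 (Subgroup.le_normalizer hk))).mp hw
      exact ⟨l, m, t', ht', by rw [hx', hm]⟩
    obtain ⟨l, m, t', ht', hsl⟩ := hdec _ (hconjR a ha s hs)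
    have h1 := hexpo a ha k hk i t hki (hT1q t ht) (hTR 1 ht) e e' hke he'
    have h2 := hdet a ha i l m t t' ht ht' hki hsl e' he'
    have hi : ¬ (p : ℤ) ∣ i := by
      intro hi
      have h3 : (p : ℤ) ∣ e' := by
        have := dvd_add h2 (hi.mul_right l)
        rwa [sub_add_cancel] at this
      obtain ⟨w, rfl⟩ := h3
      rw [zpow_mul, zpow_natCast, hDp c hcD, one_zpow] at he'
      exact hc1 ((mul_eq_left (a := a)).mp (mul_inv_eq_one.mp he'))
    rw [← mul_sub] at h1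
    have h3 := ((Nat.prime_iff_prime_int.mp hp.out).dvd_mul.mp h1).resolve_left hpe
    have h4 : (p : ℤ) ∣ i * (l - 1) := by
      have := dvd_sub h3 h2
      rwa [show e' - i - (e' - i * l) = i * (l - 1) by ring] at this
    obtain ⟨w, hw⟩ := ((Nat.prime_iff_prime_int.mp hp.out).dvd_mul.mp h4).resolve_left hi
    -- so `a` fixes `s` modulo `U`
    let F : Subgroup G :=
      { carrier := {v | v ∈ R ∧ v⁻¹ * (a * v * a⁻¹) ∈ U}
        one_mem' := ⟨one_mem R, by simp⟩
        mul_mem' := fun {x y} hx hy => ⟨mul_mem hx.1 hy.1, by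
          rw [show (x * y)⁻¹ * (a * (x * y) * a⁻¹) = ⁅y⁻¹, x⁻¹ * (a * x * a⁻¹)⁆ * (x⁻¹ * (a * x * a⁻¹)) * (y⁻¹ * (a * y * a⁻¹)) by
            simp only [commutatorElement_def]; group]
          exact mul_mem (mul_mem (hT1U (hDT1 (Subgroup.commutator_mem_commutator (inv_mem hy.1)
            (mul_mem (inv_mem hx.1) (hconjR a ha x hx.1))))) hx.2) hy.2⟩
        inv_mem' := fun {x} hx => ⟨inv_mem hx.1, by
          rw [show x⁻¹⁻¹ * (a * x⁻¹ * a⁻¹) = ⁅x, (x⁻¹ * (a * x * a⁻¹))⁻¹⁆ * (x⁻¹ * (a * x * a⁻¹))⁻¹ by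
            simp only [commutatorElement_def]; group]
          exact mul_mem (hT1U (hDT1 (Subgroup.commutator_mem_commutator hx.1
            (inv_mem (mul_mem (inv_mem hx.1) (hconjR a ha x hx.1)))))) (inv_mem hx.2)⟩ }
    have hsF : s ∈ F := ⟨hs, by
      rw [hsl, ← mul_assoc, ← zpow_neg_one, ← zpow_add, show -1 + l = (p : ℤ) * w by rw [← hw]; ring, zpow_mul,
        zpow_natCast]
      exact mul_mem (hT1U (Subgroup.zpow_mem _ (show s ^ p ∈ T 1 from ⟨s, hs, by rw [pow_one]⟩) w)) (mul_mem (zpow_mem hkU m) (hT1U ht'))⟩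
    obtain ⟨l', m', t'', ht'', rfl⟩ := hdec r hr
    have hrF : s ^ l' * (k ^ m' * t'') ∈ F :=
      mul_mem (zpow_mem hsF l') ⟨mul_mem (zpow_mem hk m') (hTR 1 ht''),
        mul_mem (inv_mem (mul_mem (zpow_mem hkU m') (hT1U ht''))) (hconjU _ (mul_mem (zpow_mem hkU m') (hT1U ht'')))⟩
    generalize s ^ l' * (k ^ m' * t'') = x at hr hrF
    obtain ⟨hx, hxU⟩ := hrF
    rw [show ⁅x, a⁆ = x * (x⁻¹ * (a * x * a⁻¹))⁻¹ * x⁻¹ by rw [commutatorElement_def]; group,
      show x * (x⁻¹ * (a * x * a⁻¹))⁻¹ * x⁻¹ = ⁅x, (x⁻¹ * (a * x * a⁻¹))⁻¹⁆ * (x⁻¹ * (a * x * a⁻¹))⁻¹ by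
        simp only [commutatorElement_def]; group]
    exact mul_mem (hT1U (hDT1 (Subgroup.commutator_mem_commutator hx (inv_mem (mul_mem (inv_mem hx) (hconjR a ha x hx))))))
      (inv_mem hxU)

/-- A metacyclic group equal to its commutator with a coprime group is abelian. -/
theorem commutative_of_metacyclic (hp2 : p ≠ 2) {R A : Subgroup G} (hR : IsPGroup p R) (hm : IsMetacyclic R)
    (hA : A ≤ Subgroup.normalizer (R : Set G)) (hcop : (Nat.card A).Coprime p) (hRA : ⁅R, A⁆ = R) :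
    ⁅R, R⁆ = ⊥ := by
  by_contra hne
  set D := ⁅R, R⁆ with hD
  have hDR : D ≤ R := R.commutator_le_self
  obtain ⟨N, hN, hNc, hQc⟩ := id hm
  haveI := hN
  haveI := hQc
  have hDN : D.subgroupOf R ≤ N := by
    refine le_trans ?_ (le_refl N)
    intro d hd
    have h : (d : G) ∈ (commutator R).map R.subtype := by rw [R.map_subtype_commutator]; exact hd
    obtain ⟨v, hv, e⟩ := h
    have hv' : commutator R ≤ N := by
      rw [commutator, Subgroup.commutator_le]
      intro a _ b _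
      rw [← QuotientGroup.eq_one_iff]
      change QuotientGroup.mk' N _ = 1
      rw [map_commutatorElement, commutatorElement_eq_one_iff_mul_comm]
      exact (IsCyclic.isMulCommutative (α := R ⧸ N)).is_comm.comm _ _
    exact (Subtype.ext e : v = d) ▸ hv' hv
  haveI := hNc
  haveI hDc : IsCyclic (D.subgroupOf R) :=
    isCyclic_of_injective (Subgroup.inclusion hDN) (Subgroup.inclusion_injective _)
  haveI hDc' : IsCyclic D :=
    isCyclic_of_surjective (Subgroup.subgroupOfEquivOfLe hDR).toMonoidHom (MulEquiv.surjective _)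
  obtain ⟨c, hc⟩ := hDc'.exists_generator
  set N₁ := Subgroup.zpowers ((c : G) ^ p) with hN₁
  have hN₁D : N₁ ≤ D := Subgroup.zpowers_le.mpr (pow_mem c.2 p)
  have hND : Subgroup.normalizer (R : Set G) ≤ Subgroup.normalizer (D : Set G) :=
    (le_inf le_rfl le_rfl).trans normalizer_le_normalizer_commutator
  have hN₁n : Subgroup.normalizer (R : Set G) ≤ Subgroup.normalizer (N₁ : Set G) := by
    intro g hg
    rw [Subgroup.mem_normalizer_iff_map_conj_eq]
    refine Subgroup.eq_of_le_of_card_ge ?_ (Subgroup.card_map_of_injective (MulEquiv.injective _)).ge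
    rw [hN₁, MonoidHom.map_zpowers, Subgroup.zpowers_le]
    obtain ⟨i, hi⟩ := hc ⟨g * c * g⁻¹, (Subgroup.mem_normalizer_iff.mp (hND hg) c).mp c.2⟩
    have hi' : (c : G) ^ i = g * c * g⁻¹ := congrArg Subtype.val hi
    refine ⟨i, ?_⟩
    change ((c : G) ^ p) ^ i = g * (c : G) ^ p * g⁻¹
    rw [← conj_pow, ← hi', ← zpow_natCast, ← zpow_natCast, ← zpow_mul, ← zpow_mul, mul_comm]
  set Γ := Subgroup.normalizer (N₁ : Set G)
  have hRΓ : R ≤ Γ := Subgroup.le_normalizer.trans hN₁n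
  have hAΓ : A ≤ Γ := hA.trans hN₁n
  haveI : (N₁.subgroupOf Γ).Normal := (Subgroup.normal_subgroupOf_iff_le_normalizer Subgroup.le_normalizer).mpr le_rfl
  let f := QuotientGroup.mk' (N₁.subgroupOf Γ)
  set Rb := (R.subgroupOf Γ).map f with hRb
  set Ab := (A.subgroupOf Γ).map f with hAb
  have hmapc : ∀ {S T : Subgroup G}, S ≤ Γ → T ≤ Γ →
      (⁅S, T⁆.subgroupOf Γ).map f = ⁅(S.subgroupOf Γ).map f, (T.subgroupOf Γ).map f⁆ := by
    intro S T hS hT
    rw [← Subgroup.map_commutator]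
    congr 1
    refine Subgroup.map_injective Γ.subtype_injective ?_
    rw [Subgroup.map_commutator, Subgroup.map_subgroupOf_eq_of_le hS, Subgroup.map_subgroupOf_eq_of_le hT,
      Subgroup.map_subgroupOf_eq_of_le ((Subgroup.commutator_mono hS hT).trans Γ.commutator_le_self)]
  let ψ : R →* Rb :=
    { toFun := fun r => ⟨f ⟨r, hRΓ r.2⟩, ⟨_, r.2, rfl⟩⟩
      map_one' := Subtype.ext (map_one f)
      map_mul' := fun a b => Subtype.ext (map_mul f ⟨_, hRΓ a.2⟩ ⟨_, hRΓ b.2⟩) }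
  have hψ : Function.Surjective ψ := by rintro ⟨_, r, hr, rfl⟩; exact ⟨⟨r, hr⟩, rfl⟩
  refine false_of_metacyclic_prime hp2 ((hR.comap_subtype (K := Γ)).map f) (isMetacyclic_of_surjective ψ hψ hm)
    (R := Rb) (A := Ab) ?_ ?_ ?_ ?_
  · refine (Subgroup.map_mono ?_).trans (Subgroup.le_normalizer_map _)
    intro b hb
    rw [← Subgroup.subgroupOf_normalizer_eq hRΓ, Subgroup.mem_subgroupOf]
    exact hA hb
  · exact hcop.coprime_dvd_left ((Subgroup.card_map_dvd _ f).trans
      (Nat.card_congr (Subgroup.subgroupOfEquivOfLe hAΓ).toEquiv).dvd)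
  · rw [← hmapc hRΓ hAΓ, hRA]
  · rw [← hmapc hRΓ hRΓ, ← hD]
    set Db := (D.subgroupOf Γ).map f
    set cb := f ⟨c, (hDR.trans hRΓ) c.2⟩
    have hgen : Db = Subgroup.zpowers cb := by
      refine le_antisymm ?_ (Subgroup.zpowers_le.mpr ⟨_, c.2, rfl⟩)
      rintro _ ⟨d, hd, rfl⟩
      obtain ⟨i, hi⟩ := hc ⟨d, hd⟩
      refine ⟨i, ?_⟩
      change cb ^ i = f d
      rw [← map_zpow]
      exact congrArg f (Subtype.ext (by have := congrArg Subtype.val hi; simpa using this))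
    have hcb : cb ≠ 1 := by
      intro h
      obtain ⟨i, hi⟩ : (c : G) ∈ N₁ := (QuotientGroup.eq_one_iff (N := N₁.subgroupOf Γ) _).mp h
      obtain ⟨n, hn⟩ := hR ⟨c, hDR c.2⟩
      have hn' : (c : G) ^ p ^ n = 1 := congrArg Subtype.val hn
      have h1 : (c : G) ^ (1 - (p : ℤ) * i) = 1 := by
        rw [zpow_sub, zpow_one, zpow_mul, zpow_natCast]
        exact mul_inv_eq_one.mpr hi.symm
      obtain ⟨x, y, hxy⟩ : IsCoprime (1 - (p : ℤ) * i) ((p : ℤ) ^ n) :=
        IsCoprime.pow_right (show IsCoprime (1 - (p : ℤ) * i) (p : ℤ) from ⟨1, i, by ring⟩)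
      refine hne ((Subgroup.eq_bot_iff_forall D).mpr fun d hd => ?_)
      have hc1 : (c : G) = 1 := by
        rw [← zpow_one (c : G), ← hxy, zpow_add, mul_comm x, zpow_mul, h1, one_zpow, one_mul, mul_comm y, zpow_mul,
          ← Nat.cast_pow, zpow_natCast, hn', one_zpow]
      obtain ⟨l, hl⟩ := hc ⟨d, hd⟩
      have hl' : (c : G) ^ l = d := congrArg Subtype.val hl
      rw [← hl', hc1, one_zpow]
    rw [hgen, Nat.card_zpowers]
    refine orderOf_eq_prime ?_ hcb
    rw [← map_pow]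
    exact (QuotientGroup.eq_one_iff _).mpr (Subgroup.mem_zpowers _)

end Cfsg.Agent.OddLocal
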