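import Cfsg.Agent.Lib.Invol.SmallClassPow
import Cfsg.Agent.Lib.OddLocal.Rank
import Cfsg.Agent.Lib.OddLocal.Puig
import Cfsg.Agent.Lib.Basics.Frattini
import Cfsg.Agent.Lib.Basics.Tools
import Cfsg.Agent.Lib.Transfer.JSubgroup
import Cfsg.Prelude.Def_PLocal

/-! Elements of order `p` in `p`-groups of rank two, `p > 3`. -/

set_option autoImplicit false
set_option maxHeartbeats 800000

namespace Cfsg.Agent.OddLocal

open scoped commutatorElement
open Cfsg

universe u

variable {p : ℕ} [hp : Fact p.Prime]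

/-- Each subgroup of exponent `p` has order at most `p ^ 2`. -/
def SmallExponent (p : ℕ) (R : Type*) [Group R] : Prop :=
  ∀ Q : Subgroup R, (∀ x ∈ Q, x ^ p = 1) → Nat.card Q ≤ p ^ 2

theorem lcs_card_lt {R : Type u} [Group R] [Finite R] [Group.IsNilpotent R] {i : ℕ}
    (h : (⊤ : Subgroup R).lowerCentralSeries i ≠ ⊥) :
    (⊤ : Subgroup R).lowerCentralSeries (i + 1) < (⊤ : Subgroup R).lowerCentralSeries i := by
  refine lt_of_le_of_ne ((⊤ : Subgroup R).lowerCentralSeries_antitone (Nat.le_succ i)) fun e => h ?_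
  have hall : ∀ j, (⊤ : Subgroup R).lowerCentralSeries (i + j) = (⊤ : Subgroup R).lowerCentralSeries i := by
    intro j
    induction j with
    | zero => rfl
    | succ j ih => rw [← Nat.add_assoc, Subgroup.lowerCentralSeries_succ, ih, ← Subgroup.lowerCentralSeries_succ, e]
  obtain ⟨n, hn⟩ := (Subgroup.isNilpotent_iff_lowerCentralSeries (⊤ : Subgroup R)).mp
    (Group.nilpotent_of_mulEquiv Subgroup.topEquiv.symm)
  rw [← hall n]
  exact le_bot_iff.mp (hn ▸ (⊤ : Subgroup R).lowerCentralSeries_antitone (Nat.le_add_left n i))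

/-- A group of order at most `p ^ 4`, `p > 3`, is regular with class below `p - 1`. -/
theorem lcs_eq_bot_of_card_le {R : Type u} [Group R] [Finite R] (hR : IsPGroup p R) (hp3 : 3 < p)
    (h : Nat.card R ≤ p ^ 4) : (⊤ : Subgroup R).lowerCentralSeries (p - 1) = ⊥ := by
  haveI := hR.isNilpotent
  have key : ∀ i, (⊤ : Subgroup R).lowerCentralSeries i = ⊥ ∨
      Nat.card ((⊤ : Subgroup R).lowerCentralSeries i) * p ^ i ≤ p ^ 4 := by
    intro i
    induction i with
    | zero => exact Or.inr (by rw [pow_zero, mul_one]; exact (Subgroup.card_le_card_group _).trans h)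
    | succ i ih =>
      by_cases hb : (⊤ : Subgroup R).lowerCentralSeries i = ⊥
      · exact Or.inl (le_bot_iff.mp (hb ▸ (⊤ : Subgroup R).lowerCentralSeries_antitone (Nat.le_succ i)))
      have hlt := Basics.card_lt_of_lt (lcs_card_lt hb)
      obtain ⟨a, ha⟩ := (hR.to_subgroup ((⊤ : Subgroup R).lowerCentralSeries (i + 1))).exists_card_eq
      obtain ⟨b, hb'⟩ := (hR.to_subgroup ((⊤ : Subgroup R).lowerCentralSeries i)).exists_card_eq
      refine Or.inr (le_trans ?_ (ih.resolve_left hb))
      rw [ha, hb', Nat.pow_lt_pow_iff_right hp.out.one_lt] at hlt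
      rw [ha, hb', ← pow_add, ← pow_add]
      exact Nat.pow_le_pow_right hp.out.pos (by omega)
  have h4 : (⊤ : Subgroup R).lowerCentralSeries 4 = ⊥ := by
    refine (key 4).elim id fun h1 => ?_
    exact Subgroup.card_eq_one.mp (le_antisymm
      (Nat.le_of_mul_le_mul_right (h1.trans (one_mul _).ge) (pow_pos hp.out.pos 4)) Nat.card_pos)
  have h5 : 5 ≤ p := by
    rcases Nat.lt_or_ge p 5 with h | h
    · exfalso
      have : p = 4 := by omega
      exact absurd hp.out (by rw [this]; norm_num)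
    · exact h
  exact le_bot_iff.mp (h4 ▸ (⊤ : Subgroup R).lowerCentralSeries_antitone (by omega))

theorem rank_map {R S : Type*} [Group R] [Group S] (f : R →* S) (hf : Function.Injective f)
    (hrk : ∀ E : Subgroup S, IsElementaryAbelian p E → Nat.card E ≤ p ^ 2) (E : Subgroup R)
    (hE : IsElementaryAbelian p E) : Nat.card E ≤ p ^ 2 := by
  rw [← Subgroup.card_map_of_injective hf]
  exact hrk _ (Transfer.ea_map hE f)

/-- An exponent `p` group of rank at most two has order at most `p ^ 3`. -/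
theorem card_le_cube_of_exponent (hp2 : p ≠ 2) {R : Type u} [Group R] [Finite R] (hexp : ∀ x : R, x ^ p = 1)
    (hrk : ∀ E : Subgroup R, IsElementaryAbelian p E → Nat.card E ≤ p ^ 2) : Nat.card R ≤ p ^ 3 := by
  have hR : IsPGroup p R := fun x => ⟨1, by rw [pow_one]; exact hexp x⟩
  obtain ⟨B, -, hB⟩ := exists_isMaxNormalEA p (isElementaryAbelian_bot (G := R) (p := p))
  haveI := hB.1
  have hC : Subgroup.centralizer (B : Set R) ≤ B := fun x hx => mem_of_isMaxNormalEA hp2 hR hB hx (hexp x)
  rw [← Subgroup.card_mul_index (Subgroup.centralizer (B : Set R)), pow_succ]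
  exact Nat.mul_le_mul ((Subgroup.card_le_of_le hC).trans (hrk B hB.2.1))
    (index_centralizer_le hR B hB.2.1 (hrk B hB.2.1))

theorem closure_exponent_of_card_le {R : Type u} [Group R] [Finite R] (hR : IsPGroup p R) (hp3 : 3 < p)
    (h : Nat.card R ≤ p ^ 4) {g : R} (hg : g ∈ Subgroup.closure {x : R | x ^ p = 1}) : g ^ p = 1 :=
  Invol.SmallClassPow.closure_exp (Invol.SmallClassPow.regular hR (lcs_eq_bot_of_card_le hR hp3 h)) hg

/-- In a subgroup of order at most `p ^ 4` generated by elements of order `p` all elements have order `p`. -/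
theorem sup_zpowers_exponent {R : Type u} [Group R] [Finite R] (hR : IsPGroup p R) (hp3 : 3 < p) {D : Subgroup R}
    (hD : ∀ x ∈ D, x ^ p = 1) {n : R} (hn : n ^ p = 1)
    (hcard : Nat.card ↥(D ⊔ Subgroup.zpowers n) ≤ p ^ 4) : ∀ x ∈ D ⊔ Subgroup.zpowers n, x ^ p = 1 := by
  intro x hx
  set S := D ⊔ Subgroup.zpowers n with hS
  have hcl : Subgroup.closure {y : S | y ^ p = 1} = ⊤ := by
    have h1 : S ≤ (Subgroup.closure {y : S | y ^ p = 1}).map S.subtype := by
      refine sup_le (fun d hd => ?_) (Subgroup.zpowers_le.mpr ?_)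
      · exact ⟨⟨d, Subgroup.mem_sup_left hd⟩, Subgroup.subset_closure (Subtype.ext (hD d hd)), rfl⟩
      · exact ⟨⟨n, Subgroup.mem_sup_right (Subgroup.mem_zpowers n)⟩, Subgroup.subset_closure (Subtype.ext hn), rfl⟩
    refine eq_top_iff.mpr fun y _ => ?_
    obtain ⟨z, hz, e⟩ := h1 y.2
    exact (Subtype.ext e : z = y) ▸ hz
  exact congrArg Subtype.val (closure_exponent_of_card_le (hR.to_subgroup S) hp3 hcard
    (g := ⟨x, hx⟩) (by rw [hcl]; trivial))

/-- For `p > 3` and rank at most two the elements of order dividing `p` form a subgroup. -/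
theorem omega_exponent (hp3 : 3 < p) : ∀ (n : ℕ) (R : Type u) [Group R] [Finite R], Nat.card R = n → IsPGroup p R →
    (∀ E : Subgroup R, IsElementaryAbelian p E → Nat.card E ≤ p ^ 2) →
    ∀ g ∈ Subgroup.closure {x : R | x ^ p = 1}, g ^ p = 1 := by
  intro n
  induction n using Nat.strong_induction_on with
  | _ n ih =>
  intro R _ _ hn hR hrk
  have hp2 : p ≠ 2 := by omega
  by_cases hcyc : IsCyclic R
  · intro g hg
    induction hg using Subgroup.closure_induction with
    | mem x hx => exact hx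
    | one => exact one_pow _
    | mul x y _ _ hx hy =>
      rw [(show Commute x y from (IsCyclic.commGroup (α := R)).mul_comm x y).mul_pow, hx, hy, one_mul]
    | inv x _ hx => rw [inv_pow, hx, inv_one]
  haveI := hR.isNilpotent
  obtain ⟨D, ⟨hDn, hDe⟩, hDmax⟩ := Set.Finite.exists_maximal
    (Set.toFinite {D : Subgroup R | D.Normal ∧ ∀ x ∈ D, x ^ p = 1})
    ⟨⊥, inferInstance, fun x hx => by rw [Subgroup.mem_bot.mp hx, one_pow]⟩
  haveI := hDn
  suffices hall : ∀ x : R, x ^ p = 1 → x ∈ D from fun g hg => hDe g ((Subgroup.closure_le _).mpr hall hg)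
  intro x hx
  by_contra hxD
  -- `x` lies in a maximal, hence normal, subgroup
  have hne : Subgroup.zpowers x ⊔ frattini R ≠ ⊤ := by
    intro h
    have h1 := frattini_nongenerating h
    exact hcyc ⟨⟨x, fun y => Subgroup.mem_zpowers_iff.mp (h1.symm ▸ Subgroup.mem_top y)⟩⟩
  obtain ⟨M, hM, hle⟩ := (eq_top_or_exists_le_coatom (Subgroup.zpowers x ⊔ frattini R)).resolve_left hne
  obtain ⟨hMn, -⟩ := Basics.coatom_normal_prime hM
  haveI := hMn
  have hxM : x ∈ M := hle (Subgroup.mem_sup_left (Subgroup.mem_zpowers x))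
  have hMlt : Nat.card M < n := hn ▸ Basics.card_lt_card_of_ne_top hM.1
  have ihM := ih _ hMlt M rfl (hR.to_subgroup M) (rank_map M.subtype M.subtype_injective hrk)
  set D' := (Subgroup.closure {y : M | y ^ p = 1}).map M.subtype with hD'
  haveI : (Subgroup.closure {y : M | y ^ p = 1}).Characteristic := by
    rw [Subgroup.characteristic_iff_map_le]
    intro φ
    rw [MonoidHom.map_closure, Subgroup.closure_le]
    rintro _ ⟨y, hy, rfl⟩
    refine Subgroup.subset_closure ?_
    change φ y ^ p = 1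
    rw [← map_pow, show y ^ p = 1 from hy, map_one]
  haveI hD'n : D'.Normal := ConjAct.normal_of_characteristic_of_normal
  have hD'e : ∀ y ∈ D', y ^ p = 1 := by
    rintro _ ⟨y, hy, rfl⟩
    exact congrArg Subtype.val (ihM y hy)
  have hxD' : x ∈ D' := ⟨⟨x, hxM⟩, Subgroup.subset_closure (Subtype.ext hx), rfl⟩
  haveI : (D'.map (QuotientGroup.mk' D)).Normal := hD'n.map _ (QuotientGroup.mk'_surjective D)
  obtain ⟨_, ⟨m, hm, rfl⟩, hmc, hm1⟩ := exists_mem_center_ne_one_of_normal (hR.to_quotient D) (D'.map (QuotientGroup.mk' D))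
    (fun h => hxD (by
      rw [← QuotientGroup.eq_one_iff]
      exact Subgroup.mem_bot.mp (h ▸ ⟨x, hxD', rfl⟩)))
  have hmD : m ∉ D := fun h => hm1 ((QuotientGroup.eq_one_iff m).mpr h)
  set U := D ⊔ Subgroup.zpowers m with hU
  have hUn : U.Normal := by
    have h1 : U = (Subgroup.zpowers (QuotientGroup.mk' D m)).comap (QuotientGroup.mk' D) := by
      rw [← MonoidHom.map_zpowers, Subgroup.comap_map_eq, QuotientGroup.ker_mk', sup_comm]
    rw [h1]
    haveI : (Subgroup.zpowers (QuotientGroup.mk' D m)).Normal := ⟨fun a ha g => by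
      obtain ⟨i, rfl⟩ := ha
      rw [Subgroup.mem_center_iff.mp ((Subgroup.center _).zpow_mem hmc i) g, mul_inv_cancel_right]
      exact ⟨i, rfl⟩⟩
    exact Subgroup.Normal.comap inferInstance _
  have hDc : Nat.card D ≤ p ^ 3 :=
    card_le_cube_of_exponent hp2 (fun y => Subtype.ext (hDe y y.2)) (rank_map D.subtype D.subtype_injective hrk)
  have hUc : Nat.card U ≤ p ^ 4 := by
    have h1 := Basics.card_mul_card_eq_card_sup_mul_card_inf (N := D) (H := Subgroup.zpowers m)
      (by rw [Subgroup.normalizer_eq_top]; exact le_top)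
    have h2 : Nat.card (Subgroup.zpowers m) ≤ p := by
      rw [Nat.card_zpowers]; exact orderOf_le_of_pow_eq_one hp.out.pos (hD'e m hm)
    calc Nat.card U ≤ Nat.card U * Nat.card ↥(D ⊓ Subgroup.zpowers m) := Nat.le_mul_of_pos_right _ Nat.card_pos
      _ = Nat.card D * Nat.card (Subgroup.zpowers m) := h1.symm
      _ ≤ p ^ 3 * p := Nat.mul_le_mul hDc h2
      _ = p ^ 4 := (pow_succ p 3).symm
  exact hmD (hDmax ⟨hUn, sup_zpowers_exponent hR hp3 hDe (hD'e m hm) hUc⟩ le_sup_left
    (Subgroup.mem_sup_right (Subgroup.mem_zpowers m)))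

/-- Passing to a quotient by a central subgroup of order `p`. -/
theorem smallExponent_quotient_central (hp3 : 3 < p) {R : Type u} [Group R] [Finite R] (hR : IsPGroup p R)
    (h : SmallExponent p R) (T : Subgroup R) [T.Normal] (hTc : T ≤ Subgroup.center R) (hT : Nat.card T = p) :
    SmallExponent p (R ⧸ T) := by
  intro Q hQ
  by_contra hlt
  push Not at hlt
  obtain ⟨a, ha⟩ := ((hR.to_quotient T).to_subgroup Q).exists_card_eq
  rw [ha, Nat.pow_lt_pow_iff_right hp.out.one_lt] at hlt
  obtain ⟨Q3, hQ3⟩ := Sylow.exists_subgroup_card_pow_prime (G := Q) p (n := 3) (ha ▸ Nat.pow_dvd_pow p (by omega))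
  set U := (Q3.map Q.subtype).comap (QuotientGroup.mk' T) with hU
  have hUc : Nat.card U = p ^ 4 := by
    rw [hU, Basics.card_comap_mk', Subgroup.card_map_of_injective Q.subtype_injective, hQ3, hT]; ring
  have hUp := hR.to_subgroup U
  have hc := lcs_eq_bot_of_card_le hUp hp3 hUc.le
  have hpow : ∀ v : U, (v : R) ^ p ∈ T := by
    intro v
    obtain ⟨w, -, e⟩ := v.2
    rw [← QuotientGroup.eq_one_iff]
    change QuotientGroup.mk' T ((v : R) ^ p) = 1
    rw [map_pow, ← e]
    exact hQ _ w.2
  have hreg := Invol.SmallClassPow.regular hUp hc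
  have hder : commutator U ≤ Subgroup.closure {v : U | v ^ p = 1} := by
    rw [commutator_def, Subgroup.commutator_le]
    intro v _ w _
    refine Subgroup.subset_closure ?_
    have e : (v * w * v⁻¹) ^ p ^ 1 = w ^ p ^ 1 := by
      rw [pow_one, conj_pow, mul_inv_eq_iff_eq_mul]
      exact Subtype.ext (Subgroup.mem_center_iff.mp (hTc (hpow w)) v)
    have h1 := (FGS.RegularPow.pow_eq_iff hreg _ _ 1).mp e
    rw [pow_one] at h1
    exact h1
  let φ : U →* R := MonoidHom.mk' (fun v => (v : R) ^ p) fun v w => by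
    exact congrArg Subtype.val (Invol.SmallClassPow.mul_pow hUp hc hder v w)
  have h2 : Nat.card φ.ker ≤ p ^ 2 := by
    rw [← Subgroup.card_map_of_injective U.subtype_injective]
    refine h _ ?_
    rintro _ ⟨v, hv, rfl⟩
    exact hv
  have h3 : Nat.card φ.range ≤ p := hT ▸ Subgroup.card_le_of_le (by rintro _ ⟨v, rfl⟩; exact hpow v)
  have h4 := Subgroup.card_mul_index φ.ker
  rw [Subgroup.index_ker, hUc] at h4
  have : p ^ 4 ≤ p ^ 2 * p := h4 ▸ Nat.mul_le_mul h2 h3
  rw [← pow_succ] at this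
  exact absurd ((Nat.pow_le_pow_iff_right hp.out.one_lt).mp this) (by omega)

theorem SmallExponent.of_injective {R S : Type*} [Group R] [Group S] (f : R →* S) (hf : Function.Injective f)
    (h : SmallExponent p S) : SmallExponent p R := by
  intro Q hQ
  rw [← Subgroup.card_map_of_injective hf]
  refine h _ ?_
  rintro _ ⟨x, hx, rfl⟩
  rw [← map_pow, hQ x hx, map_one]

theorem smallExponent_quotient (hp3 : 3 < p) : ∀ (n : ℕ) (R : Type u) [Group R] [Finite R], Nat.card R = n →
    IsPGroup p R → SmallExponent p R → ∀ (N : Subgroup R) [N.Normal], SmallExponent p (R ⧸ N) := by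
  intro n
  induction n using Nat.strong_induction_on with
  | _ n ih =>
  intro R _ _ hn hR h N _
  rcases eq_or_ne N ⊥ with rfl | hN
  · exact h.of_injective QuotientGroup.quotientBot.toMonoidHom QuotientGroup.quotientBot.injective
  obtain ⟨z, hzN, hzc, hz1⟩ := exists_mem_center_ne_one_of_normal hR N hN
  obtain ⟨k, hk⟩ := IsPGroup.iff_orderOf.mp hR z
  have hk0 : k ≠ 0 := by rintro rfl; exact hz1 (orderOf_eq_one_iff.mp (by rw [hk, pow_zero]))
  set t := z ^ p ^ (k - 1) with ht
  have hto : orderOf t = p := by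
    rw [ht, orderOf_pow' z (pow_ne_zero _ hp.out.ne_zero), hk,
      Nat.gcd_eq_right (Nat.pow_dvd_pow p (Nat.sub_le k 1)), Nat.pow_div (Nat.sub_le k 1) hp.out.pos,
      show k - (k - 1) = 1 by omega, pow_one]
  set T := Subgroup.zpowers t with hT
  have hTc : T ≤ Subgroup.center R := Subgroup.zpowers_le.mpr (pow_mem hzc _)
  haveI : T.Normal := ⟨fun a ha g => by
    rw [Subgroup.mem_center_iff.mp (hTc ha) g, mul_inv_cancel_right]; exact ha⟩
  have hTcard : Nat.card T = p := by rw [Nat.card_zpowers, hto]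
  have hTN : T ≤ N := Subgroup.zpowers_le.mpr (pow_mem hzN _)
  have hlt : Nat.card (R ⧸ T) < n := hn ▸ Basics.card_quotient_lt (fun e => hp.out.one_lt.ne' (by
    rw [← hTcard, e, Subgroup.card_bot]))
  haveI : (N.map (QuotientGroup.mk' T)).Normal := Subgroup.Normal.map inferInstance _ (QuotientGroup.mk'_surjective T)
  exact (ih _ hlt (R ⧸ T) rfl (hR.to_quotient T) (smallExponent_quotient_central hp3 hR h T hTc hTcard)
    (N.map (QuotientGroup.mk' T))).of_injective (QuotientGroup.quotientQuotientEquivQuotient T N hTN).symm.toMonoidHom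
      (MulEquiv.injective _)

end Cfsg.Agent.OddLocal
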