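import Cfsg.Agent.Lib.OddLocal.FixPointA

/-! BG 3.4, linear form: a coprime odd prime order operator without fixed vectors centralizes the `q`-group it normalizes. -/

set_option autoImplicit false
set_option maxHeartbeats 1600000

open scoped commutatorElement

namespace Cfsg.Agent.OddLocal

universe u v

variable {k : Type v} [Field k] {V : Type u} [AddCommGroup V] [Module k V] [FiniteDimensional k V]

theorem iSup_eigenspace_eq_top [IsAlgClosed k] (f : Module.End k V) {m : ℕ} (hm : (m : k) ≠ 0) (hf : f ^ m = 1) :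
    ⨆ μ, Module.End.eigenspace f μ = ⊤ := by
  have hs : f.IsSemisimple := by
    refine Module.End.isSemisimple_of_squarefree_aeval_eq_zero
      ((Polynomial.X_pow_sub_one_separable_iff.mpr hm).squarefree) ?_
    simp [hf]
  exact hs.isFinitelySemisimple.iSup_maxGenEigenspace_eq_top_iff.mp (Module.End.iSup_maxGenEigenspace_eq_top f)

/-- Conjugating an element of `Q` by an element normalizing it. -/
def conjAut {U : Type*} [Group U] {Q : Subgroup U} {T : U} (h : T ∈ Subgroup.normalizer (Q : Set U)) : MulAut Q where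
  toFun a := ⟨T * a * T⁻¹, (Subgroup.mem_normalizer_iff.mp h a).mp a.2⟩
  invFun a := ⟨T⁻¹ * a * T, by
    rw [Subgroup.mem_normalizer_iff.mp h]
    simpa [mul_assoc] using a.2⟩
  left_inv a := Subtype.ext (by simp [mul_assoc])
  right_inv a := Subtype.ext (by simp [mul_assoc])
  map_mul' a b := Subtype.ext (by simp [mul_assoc])

theorem coe_conjAut_pow {U : Type*} [Group U] {Q : Subgroup U} {T : U} (h : T ∈ Subgroup.normalizer (Q : Set U))
    (i : ℕ) (a : Q) : (((conjAut h) ^ i) a : U) = T ^ i * a * (T ^ i)⁻¹ := by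
  induction i generalizing a with
  | zero => simp
  | succ i ih =>
    rw [pow_succ, MulAut.mul_apply, ih, pow_succ, mul_inv_rev]
    simp [conjAut, mul_assoc]

theorem mem_normalizer_of_conj_mem {U : Type*} [Group U] {H : Subgroup U} [Finite H] {T : U}
    (h : ∀ a ∈ H, T * a * T⁻¹ ∈ H) : T ∈ Subgroup.normalizer (H : Set U) := by
  let f : H → H := fun a => ⟨T * a * T⁻¹, h a a.2⟩
  have hf : Function.Injective f := fun a b e => Subtype.ext (by
    simpa [f] using congrArg Subtype.val e)
  rw [Subgroup.mem_normalizer_iff]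
  refine fun y => ⟨h y, fun hy => ?_⟩
  obtain ⟨a, ha⟩ := (Finite.injective_iff_surjective.mp hf) ⟨_, hy⟩
  have h1 : (a : U) = y := by simpa [f] using congrArg Subtype.val ha
  exact h1 ▸ a.2

/-- Common fixed point free case: no commutation with a nontrivial invariant group. -/
theorem eq_bot_of_fpf {Q : Subgroup (Module.End k V)ˣ} [Finite Q] {T : (Module.End k V)ˣ} {r : ℕ} [Fact r.Prime]
    (hT : T ∈ Subgroup.normalizer (Q : Set (Module.End k V)ˣ)) (hTr : T ^ r = 1)
    (hQ0 : (Nat.card Q : k) ≠ 0) (hfix : ∀ v : V, (T : Module.End k V) v = v → v = 0)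
    (hC : ∀ a ∈ Q, T * a = a * T → a = 1) : Q = ⊥ := by
  classical
  have hrp : r.Prime := Fact.out
  let _ : Fintype Q := Fintype.ofFinite Q
  set t : Module.End k V := (T : Module.End k V) with ht
  have hgeom : ∑ i ∈ Finset.range r, t ^ i = 0 := by
    refine LinearMap.ext fun v => hfix _ ?_
    have h1 : (t - 1) * ∑ i ∈ Finset.range r, t ^ i = 0 := by
      rw [mul_geom_sum, ht, ← Units.val_pow_eq_pow_val, hTr, Units.val_one, sub_self]
    have h2 := LinearMap.congr_fun h1 v
    simpa [sub_eq_zero] using h2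
  set B : Module.End k V := ∑ b : Q, ((b : (Module.End k V)ˣ) : Module.End k V)
  have hterm : ∀ i ∈ Finset.range r, i ≠ 0 →
      ∑ a : Q, ((a : (Module.End k V)ˣ) : Module.End k V) * t ^ i * ((a : (Module.End k V)ˣ)⁻¹ : (Module.End k V)ˣ) =
        B * t ^ i := by
    intro i hi hi0
    let g : Q → Q := fun a => a * ((conjAut hT) ^ i) a⁻¹
    have hg : Function.Injective g := by
      intro a b e
      have e' : ((conjAut hT) ^ i) (b⁻¹ * a) = b⁻¹ * a := by
        have e1 : a * (((conjAut hT) ^ i) a)⁻¹ = b * (((conjAut hT) ^ i) b)⁻¹ := by simpa [g] using e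
        rw [map_mul, map_inv]
        calc (((conjAut hT) ^ i) b)⁻¹ * ((conjAut hT) ^ i) a
            = b⁻¹ * (b * (((conjAut hT) ^ i) b)⁻¹) * ((conjAut hT) ^ i) a := by group
          _ = b⁻¹ * (a * (((conjAut hT) ^ i) a)⁻¹) * ((conjAut hT) ^ i) a := by rw [e1]
          _ = b⁻¹ * a := by group
      have h2 := congrArg Subtype.val e'
      rw [coe_conjAut_pow, mul_inv_eq_iff_eq_mul] at h2
      have hco : i.Coprime r := ((hrp.coprime_iff_not_dvd).mpr fun hd =>
        (Finset.mem_range.mp hi).not_ge (Nat.le_of_dvd (Nat.pos_of_ne_zero hi0) hd)).symm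
      have hTT : T ∈ Subgroup.zpowers (T ^ i) := by
        obtain ⟨m, hm⟩ := exists_pow_eq_self_of_coprime (hco.coprime_dvd_right (orderOf_dvd_of_pow_eq_one hTr))
        exact ⟨(m : ℤ), by simpa only [zpow_natCast] using hm⟩
      obtain ⟨n, hn⟩ := hTT
      have hcomm : Commute (T ^ i) ((b⁻¹ * a : Q) : (Module.End k V)ˣ) := h2
      have h3 := hC _ (b⁻¹ * a).2 (by rw [← hn]; exact (hcomm.zpow_left n).eq)
      exact (inv_mul_eq_one.mp (Subtype.ext h3)).symm
    rw [Finset.sum_mul]
    refine Fintype.sum_bijective g (Finite.injective_iff_bijective.mp hg) _ _ fun a => ?_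
    rw [ht, ← Units.val_pow_eq_pow_val, ← Units.val_mul, ← Units.val_mul, ← Units.val_mul]
    congr 1
    simp only [g, Subgroup.coe_mul, coe_conjAut_pow, Subgroup.coe_inv]
    group
  have h0 : ∑ i ∈ Finset.range r,
      ∑ a : Q, ((a : (Module.End k V)ˣ) : Module.End k V) * t ^ i * ((a : (Module.End k V)ˣ)⁻¹ : (Module.End k V)ˣ) = 0 := by
    rw [Finset.sum_comm]
    refine Finset.sum_eq_zero fun a _ => ?_
    rw [← Finset.sum_mul, ← Finset.mul_sum, hgeom, mul_zero, zero_mul]
  have hr1 : 0 ∈ Finset.range r := Finset.mem_range.mpr hrp.pos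
  rw [← Finset.add_sum_erase _ _ hr1, Finset.sum_congr rfl fun i hi =>
    hterm i (Finset.mem_of_mem_erase hi) (Finset.ne_of_mem_erase hi), ← Finset.mul_sum] at h0
  have h1 : ∑ i ∈ (Finset.range r).erase 0, t ^ i = -1 := by
    have := hgeom
    rw [← Finset.add_sum_erase _ _ hr1, pow_zero] at this
    exact eq_neg_of_add_eq_zero_right this
  have hB : B = (Nat.card Q : k) • 1 := by
    rw [h1, mul_neg_one, ← sub_eq_add_neg, sub_eq_zero] at h0
    rw [← h0]
    simp only [pow_zero, mul_one, ← Units.val_mul, mul_inv_cancel, Units.val_one, Finset.sum_const, Finset.card_univ,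
      Nat.card_eq_fintype_card, Nat.cast_smul_eq_nsmul]
  rw [eq_bot_iff]
  intro c hc
  have h2 : (c : Module.End k V) * B = B := by
    rw [Finset.mul_sum]
    exact Fintype.sum_bijective _ (Equiv.mulLeft (⟨c, hc⟩ : Q)).bijective _ _ fun a => rfl
  rw [hB, mul_smul_comm, mul_one] at h2
  exact Subgroup.mem_bot.mpr (Units.ext (smul_right_injective _ hQ0 h2))

/-- Restriction of the units commuting with `z` to an eigenspace of `z`. -/
def eigenRes (z : (Module.End k V)ˣ) (μ : k) :
    Subgroup.centralizer ({z} : Set (Module.End k V)ˣ) →* (Module.End k (Module.End.eigenspace (z : Module.End k V) μ))ˣ :=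
  MonoidHom.toHomUnits
    { toFun := fun a => LinearMap.restrict ((a : (Module.End k V)ˣ) : Module.End k V)
        (p := Module.End.eigenspace (z : Module.End k V) μ) (q := Module.End.eigenspace (z : Module.End k V) μ)
        (fun w hw => by
          rw [Module.End.mem_eigenspace_iff] at hw ⊢
          have h := congrArg (fun x : (Module.End k V)ˣ => (x : Module.End k V) w)
            (Subgroup.mem_centralizer_iff.mp a.2 z rfl)
          simp only [Units.val_mul, Module.End.mul_apply] at h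
          rw [h, hw, map_smul])
      map_one' := rfl
      map_mul' := fun _ _ => rfl }

theorem coe_eigenRes_apply (z : (Module.End k V)ˣ) (μ : k) (a : Subgroup.centralizer ({z} : Set (Module.End k V)ˣ))
    (w : Module.End.eigenspace (z : Module.End k V) μ) :
    (((eigenRes z μ a : Module.End k (Module.End.eigenspace (z : Module.End k V) μ)) w) : V) =
      ((a : (Module.End k V)ˣ) : Module.End k V) w := rfl

omit [FiniteDimensional k V] in
theorem adjoin_range_le {Q : Type*} [Monoid Q] (ρ : Q →* Module.End k V) :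
    Subalgebra.toSubmodule (Algebra.adjoin k (Set.range ρ)) ≤ Submodule.span k (Set.range ρ) := by
  rw [Algebra.adjoin_eq_span]
  refine Submodule.span_mono fun x hx => ?_
  exact ((Submonoid.closure_le.mpr fun y hy => hy) hx : x ∈ MonoidHom.mrange ρ)

/-- The extraspecial case: impossible. -/
theorem false_of_scalar [IsAlgClosed k] [Nontrivial V] {Q : Subgroup (Module.End k V)ˣ} [Finite Q]
    {T : (Module.End k V)ˣ} {r : ℕ} [Fact r.Prime] (hr : Odd r) (hr0 : (r : k) ≠ 0) (hQodd : Odd (Nat.card Q))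
    (hQ0 : (Nat.card Q : k) ≠ 0) (hT : T ∈ Subgroup.normalizer (Q : Set (Module.End k V)ˣ)) (hTr : T ^ r = 1)
    (hfix : ∀ v : V, (T : Module.End k V) v = v → v = 0) (C : Subgroup Q) [C.Normal] (hC : C ≠ ⊤)
    (hCs : ∀ a ∈ C, ∃ c : k, (((a : (Module.End k V)ˣ)) : Module.End k V) = c • 1)
    (hCC : ∀ a : Q, a ∈ C ↔ conjAut hT a = a) (hfree : ∀ a : Q, a⁻¹ * conjAut hT a ∈ C → a ∈ C)
    (hnd : ∀ a ∉ C, ∃ b : Q, b * a * b⁻¹ * a⁻¹ ∈ C ∧ b * a * b⁻¹ ≠ a) : False := by
  classical
  have hrp : r.Prime := Fact.out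
  let _ : Fintype Q := Fintype.ofFinite Q
  let ρ : Q →* Module.End k V := (Units.coeHom _).comp Q.subtype
  set σ := conjAut hT with hσdef
  set t : Module.End k V := (T : Module.End k V) with ht
  have htρ : ∀ a, t * ρ a = ρ (σ a) * t := fun a => by
    change (T : Module.End k V) * ((a : (Module.End k V)ˣ) : Module.End k V) = _
    change _ = ((T * a * T⁻¹ : (Module.End k V)ˣ) : Module.End k V) * (T : Module.End k V)
    rw [← Units.val_mul, ← Units.val_mul]
    congr 1
    group
  have hσr : σ ^ r = 1 := MulEquiv.ext fun a => Subtype.ext (by rw [coe_conjAut_pow, hTr]; simp)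
  have hnd' : ∀ a ∉ C, ∃ b : Q, ∃ c : k, c ≠ 1 ∧ ρ (b * a * b⁻¹) = c • ρ a := by
    intro a ha
    obtain ⟨b, hb, hne⟩ := hnd a ha
    obtain ⟨c, hc⟩ := hCs _ hb
    have e : ρ (b * a * b⁻¹) = c • ρ a := by
      conv_lhs => rw [← inv_mul_cancel_right (b * a * b⁻¹) a, map_mul, show ρ (b * a * b⁻¹ * a⁻¹) = c • 1 from hc]
      rw [smul_mul_assoc, one_mul]
    refine ⟨b, c, fun h1 => hne ?_, e⟩
    rw [h1, one_smul] at e
    exact Subtype.ext (Units.ext e)
  set S : Module.End k V := ∑ a, ρ (a * (σ a)⁻¹) with hS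
  have hSσ : ∀ a', S * ρ (σ a') = ρ a' * S := by
    intro a'
    rw [hS, Finset.sum_mul, Finset.mul_sum]
    refine Fintype.sum_equiv (Equiv.mulLeft a'⁻¹) _ _ fun a => ?_
    rw [Equiv.coe_mulLeft, ← map_mul, ← map_mul, map_mul σ, map_inv σ, mul_inv_rev, inv_inv]
    congr 1
    group
  have hSt : t * S = S * t := by
    rw [hS, Finset.mul_sum, Finset.sum_mul]
    refine Fintype.sum_equiv σ.toEquiv _ _ fun a => ?_
    rw [MulEquiv.toEquiv_eq_coe, EquivLike.coe_coe, htρ, map_mul, map_inv]
  have havg : ∀ d : Q, ∑ b, ρ (b * d * b⁻¹) = if d ∈ C then (Fintype.card Q : k) • ρ d else 0 := by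
    intro d
    split_ifs with hd
    · have hz : ∀ b : Q, b * d * b⁻¹ = d := by
        intro b
        obtain ⟨c, hc⟩ := hCs d hd
        refine Subtype.ext (Units.ext ?_)
        simp only [Subgroup.coe_mul, Subgroup.coe_inv, Units.val_mul, hc, mul_smul_comm, mul_one, smul_mul_assoc,
          Units.mul_inv]
      simp [hz, Nat.cast_smul_eq_nsmul]
    · exact sum_conj_eq_zero ρ (hnd' d hd)
  have hSS : S * ∑ b, ρ (σ b * b⁻¹) = ((Fintype.card Q : k) * Fintype.card C) • 1 := by
    rw [hS, Finset.sum_mul_sum]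
    have h1 : ∀ a, ∑ b, ρ (a * (σ a)⁻¹) * ρ (σ b * b⁻¹) = ∑ d, ρ (a * (σ d * d⁻¹) * a⁻¹) := fun a => by
      refine Fintype.sum_equiv (Equiv.mulLeft a⁻¹) _ _ fun b => ?_
      rw [← map_mul, Equiv.coe_mulLeft, map_mul σ, map_inv σ]
      congr 1
      group
    rw [Finset.sum_congr rfl fun a _ => h1 a, Finset.sum_comm]
    have h2 : ∀ d, ∑ a, ρ (a * (σ d * d⁻¹) * a⁻¹) = if d ∈ C then (Fintype.card Q : k) • (1 : Module.End k V) else 0 := by
      intro d
      rw [havg]
      by_cases hd : d ∈ C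
      · rw [if_pos hd, (hCC d).mp hd, mul_inv_cancel, if_pos (one_mem _), map_one]
      · rw [if_neg hd, if_neg]
        intro h
        have h3 := hfree d⁻¹ (by rw [inv_inv, map_inv]; simpa using inv_mem h)
        exact hd (inv_inv d ▸ inv_mem h3)
    rw [Finset.sum_congr rfl fun d _ => h2 d, ← Finset.sum_filter, Finset.sum_const, ← Fintype.card_subtype,
      ← Nat.cast_smul_eq_nsmul k, smul_smul, mul_comm]
  have hSu : IsUnit S := by
    have hne : (Fintype.card Q : k) * Fintype.card C ≠ 0 := by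
      refine mul_ne_zero (by rwa [← Nat.card_eq_fintype_card]) ?_
      intro h
      apply hQ0
      rw [← Nat.card_eq_fintype_card] at h
      rw [← C.card_mul_index, Nat.cast_mul, h, zero_mul]
    exact IsUnit.of_mul_eq_one _ (by rw [mul_smul_comm, hSS, inv_smul_smul₀ hne] :
      S * (((Fintype.card Q : k) * Fintype.card C)⁻¹ • ∑ b, ρ (σ b * b⁻¹)) = 1)
  have hSn : ∀ (n : ℕ) (a : Q), S ^ n * ρ ((σ ^ n) a) = ρ a * S ^ n := by
    intro n
    induction n with
    | zero => simp
    | succ n ih =>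
      intro a
      rw [pow_succ σ, MulAut.mul_apply, pow_succ, mul_assoc, ← mul_assoc (S ^ n)]
      have := hSσ ((σ ^ n) a)
      rw [show σ ((σ ^ n) a) = (σ ^ n) (σ a) by rw [← MulAut.mul_apply, ← MulAut.mul_apply, ← pow_succ, ← pow_succ']] at this
      rw [mul_assoc, this, ← mul_assoc, ih, mul_assoc]
  have hSr : ∀ a, S ^ r * ρ a = ρ a * S ^ r := fun a => by
    have := hSn r a
    rwa [hσr, MulAut.one_apply] at this
  have hSmem : S ∈ Algebra.adjoin k (Set.range ρ) := Subalgebra.sum_mem _ fun a _ => Algebra.subset_adjoin ⟨_, rfl⟩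
  obtain ⟨μ, hμ⟩ : ∃ μ : k, S ^ r = μ • 1 := by
    have hspan := adjoin_range_le ρ (Subalgebra.pow_mem _ hSmem r)
    have key : ∀ X ∈ Submodule.span k (Set.range ρ), ∃ c : k, ∑ b, ρ b * X * ρ b⁻¹ = c • 1 := by
      intro X hX
      induction hX using Submodule.span_induction with
      | mem x hx =>
        obtain ⟨d, rfl⟩ := hx
        simp only [← map_mul, havg]
        split_ifs with hd
        · obtain ⟨c, hc⟩ := hCs d hd
          exact ⟨_, by rw [show ρ d = c • 1 from hc, smul_smul]⟩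
        · exact ⟨0, (zero_smul _ _).symm⟩
      | zero => exact ⟨0, by simp⟩
      | add x y _ _ hx hy =>
        obtain ⟨c, hc⟩ := hx
        obtain ⟨e, he⟩ := hy
        exact ⟨c + e, by simp [mul_add, add_mul, Finset.sum_add_distrib, hc, he, add_smul]⟩
      | smul a x _ hx =>
        obtain ⟨c, hc⟩ := hx
        exact ⟨a * c, by simp [← Finset.smul_sum, hc, smul_smul]⟩
    obtain ⟨c, hc⟩ := key _ hspan
    simp only [← hSr, mul_assoc, ← map_mul, mul_inv_cancel, map_one, mul_one, Finset.sum_const, Finset.card_univ,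
      ← Nat.cast_smul_eq_nsmul k] at hc
    refine ⟨(Fintype.card Q : k)⁻¹ * c, ?_⟩
    rw [← smul_smul, ← hc, inv_smul_smul₀ (by rwa [← Nat.card_eq_fintype_card])]
  obtain ⟨ν, hν⟩ := IsAlgClosed.exists_pow_nat_eq μ hrp.pos
  have hμ0 : μ ≠ 0 := fun e => by
    have := hSu.pow r
    rw [hμ, e, zero_smul] at this
    exact not_isUnit_zero this
  have hν0 : ν ≠ 0 := fun e => hμ0 (by rw [← hν, e, zero_pow hrp.ne_zero])
  set D := ν⁻¹ • S with hD
  have hDr : D ^ r = 1 := by rw [hD, smul_pow, hμ, inv_pow, hν, inv_smul_smul₀ hμ0]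
  have hDσ : ∀ a, D * ρ a = ρ ((σ⁻¹ : MulAut Q) a) * D := fun a => by
    have h1 := hSσ ((σ⁻¹ : MulAut Q) a)
    rw [← MulAut.mul_apply, mul_inv_cancel, MulAut.one_apply] at h1
    rw [hD, smul_mul_assoc, h1, mul_smul_comm]
  -- an eigenvalue of `D T`
  obtain ⟨ω, hω⟩ := Module.End.exists_eigenvalue (D * t)
  obtain ⟨v0, hv0, hv0'⟩ := hω.exists_hasEigenvector
  have hcomm : Commute D t := by
    change D * t = t * D
    rw [hD, smul_mul_assoc, mul_smul_comm, hSt]
  have hωr : ω ^ r = 1 := by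
    have h1 : ((D * t) ^ r) v0 = ω ^ r • v0 := by
      exact Module.End.HasEigenvector.pow_apply ⟨hv0, hv0'⟩ r
    rw [hcomm.mul_pow, hDr, ht, ← Units.val_pow_eq_pow_val, hTr, Units.val_one, one_mul, Module.End.one_apply] at h1
    by_contra hne
    have h2 : (ω ^ r - 1) • v0 = 0 := by rw [sub_smul, one_smul, ← h1, sub_self]
    exact hv0' ((smul_eq_zero.mp h2).resolve_left (sub_ne_zero.mpr hne))
  set Vω := Module.End.eigenspace (D * t) ω with hVω
  have hVinv : ∀ a, ∀ w ∈ Vω, ρ a w ∈ Vω := by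
    intro a w hw
    rw [hVω, Module.End.mem_eigenspace_iff] at hw ⊢
    have h1 : D * t * ρ a = ρ a * (D * t) := by
      rw [mul_assoc, htρ, ← mul_assoc, hDσ, ← MulAut.mul_apply, inv_mul_cancel, MulAut.one_apply, mul_assoc]
    have h2 := LinearMap.congr_fun h1 w
    simp only [Module.End.mul_apply] at h2 hw ⊢
    rw [h2, hw, map_smul]
  obtain ⟨W, ⟨hW0, hWle, hWinv⟩, hWmin⟩ := exists_minimal_of_wellFoundedLT
    (fun U : Submodule k V => U ≠ ⊥ ∧ U ≤ Vω ∧ ∀ a, ∀ w ∈ U, ρ a w ∈ U) ⟨Vω, hω, le_rfl, hVinv⟩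
  have : Nontrivial W := Submodule.nontrivial_iff_ne_bot.mpr hW0
  have hadj : ∀ X ∈ Algebra.adjoin k (Set.range ρ), ∀ w ∈ W, X w ∈ W := by
    intro X hX
    induction hX using Algebra.adjoin_induction with
    | mem x hx => obtain ⟨a, rfl⟩ := hx; exact hWinv a
    | algebraMap c => exact fun w hw => by simpa [Module.algebraMap_end_apply] using W.smul_mem c hw
    | add x y _ _ hx hy => exact fun w hw => W.add_mem (hx w hw) (hy w hw)
    | mul x y _ _ hx hy => exact fun w hw => hx _ (hy w hw)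
  have hDW : ∀ w ∈ W, D w ∈ W := fun w hw => W.smul_mem _ (hadj S hSmem w hw)
  let ρW : Q →* Module.End k W :=
    { toFun := fun a => LinearMap.restrict (ρ a) (hWinv a)
      map_one' := LinearMap.ext fun w => Subtype.ext (by simp)
      map_mul' := fun a b => LinearMap.ext fun w => Subtype.ext (by simp) }
  let DW : Module.End k W := LinearMap.restrict D hDW
  have hρW : ∀ a (w : W), ((ρW a w : W) : V) = ρ a w := fun _ _ => rfl
  obtain ⟨w, hw0, hw⟩ := exists_eigenvector hr hr0 (by rwa [← Nat.card_eq_fintype_card]) hQodd C hC ρW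
    (fun U hU => by
      rcases eq_or_ne U ⊥ with e | e
      · exact Or.inl e
      · refine Or.inr (Submodule.map_injective_of_injective W.subtype_injective ?_)
        rw [Submodule.map_subtype_top]
        refine le_antisymm (Submodule.map_subtype_le W U) (hWmin ⟨?_, (Submodule.map_subtype_le W U).trans hWle, ?_⟩
          (Submodule.map_subtype_le W U))
        · exact fun h => e ((Submodule.map_injective_of_injective W.subtype_injective) (h.trans (Submodule.map_bot _).symm))
        · rintro a _ ⟨u, hu, rfl⟩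
          exact ⟨ρW a u, hU a u hu, rfl⟩)
    (fun a ha => by
      obtain ⟨c, hc⟩ := hCs a ha
      exact ⟨c, LinearMap.ext fun w => Subtype.ext (by rw [hρW, show ρ a = c • 1 from hc]; simp)⟩)
    (fun a ha => by
      obtain ⟨b, c, hc, e⟩ := hnd' a ha
      exact ⟨b, c, hc, LinearMap.ext fun w => Subtype.ext (by rw [hρW, e]; rfl)⟩)
    σ⁻¹ (by rw [inv_pow, hσr, inv_one])
    (fun a ha => by
      conv_lhs => rw [← (hCC a).mp ha]
      rw [← MulAut.mul_apply, inv_mul_cancel, MulAut.one_apply])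
    (fun a ha => by
      have h1 := (hCC _).mp ha
      rw [map_mul, map_inv, ← MulAut.mul_apply, mul_inv_cancel, MulAut.one_apply] at h1
      refine hfree a ?_
      have h2 := inv_mem ha
      rw [← h1, mul_inv_rev, inv_inv] at h2
      exact h2)
    DW (by
      have : ∀ (n : ℕ) (w : W), (((DW ^ n) w : W) : V) = (D ^ n) w := by
        intro n
        induction n with
        | zero => intro w; rfl
        | succ n ih => intro w; rw [pow_succ, pow_succ, Module.End.mul_apply, Module.End.mul_apply, ih]; rfl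
      exact LinearMap.ext fun w => Subtype.ext (by rw [this, hDr]; rfl))
    (fun a => LinearMap.ext fun w => Subtype.ext (LinearMap.congr_fun (hDσ a) (w : V)))
    ω hωr
  have hw' : D w = ω • (w : V) := congrArg Subtype.val hw
  have hwV := Module.End.mem_eigenspace_iff.mp (hWle w.2)
  rw [Module.End.mul_apply, ← hw'] at hwV
  have hDinj : Function.Injective D := fun x y e => by
    have h1 : ∀ z, (D ^ (r - 1)) (D z) = z := fun z => by
      rw [← Module.End.mul_apply, ← pow_succ, Nat.sub_add_cancel hrp.one_le, hDr, Module.End.one_apply]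
    rw [← h1 x, e, h1]
  exact hw0 (Subtype.ext (hfix w (hDinj hwV)))

/-- BG 3.4, linear form. -/
theorem commute_of_fixedPointFree [IsAlgClosed k] {q r : ℕ} [hq : Fact q.Prime] [hrF : Fact r.Prime] (hqr : q ≠ r)
    (hq2 : q ≠ 2) (hr2 : r ≠ 2) (hr0 : (r : k) ≠ 0) (hqk : (q : k) ≠ 0) :
    ∀ (n : ℕ) (W : Type u) [AddCommGroup W] [Module k W] [FiniteDimensional k W], Module.finrank k W = n →
      ∀ (T : (Module.End k W)ˣ) (Q : Subgroup (Module.End k W)ˣ) [Finite Q], IsPGroup q Q →
        T ∈ Subgroup.normalizer (Q : Set (Module.End k W)ˣ) → T ^ r = 1 →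
        (∀ v : W, (T : Module.End k W) v = v → v = 0) → ∀ a ∈ Q, T * a = a * T := by
  intro n
  induction n using Nat.strong_induction_on with
  | _ n ihn =>
  intro W _ _ _ hfr T Q hfin hQp hT hTr hfix
  induction hc : Nat.card Q using Nat.strong_induction_on generalizing Q with
  | _ m ihm =>
  by_contra hnot
  subst hc
  have hcast : (Nat.card Q : k) ≠ 0 := by
    obtain ⟨j, hj⟩ := IsPGroup.iff_card.mp hQp
    rw [hj, Nat.cast_pow]
    exact pow_ne_zero _ hqk
  have hQodd : Odd (Nat.card Q) := by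
    obtain ⟨j, hj⟩ := IsPGroup.iff_card.mp hQp
    exact hj ▸ (hq.out.odd_of_ne_two hq2).pow
  have hQne : Q ≠ ⊥ := fun e => hnot fun a ha => by
    rw [e, Subgroup.mem_bot] at ha
    simp [ha]
  set σ := conjAut hT with hσdef
  have hσcoe : ∀ a : Q, ((σ a : Q) : (Module.End k W)ˣ) = T * a * T⁻¹ := fun a => rfl
  let C : Subgroup Q :=
    { carrier := {a | σ a = a}
      one_mem' := map_one σ
      mul_mem' := fun {a b} ha hb => by change σ (a * b) = _; rw [map_mul]; exact congrArg₂ (· * ·) ha hb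
      inv_mem' := fun {a} ha => by change σ a⁻¹ = _; rw [map_inv]; exact congrArg (·⁻¹) ha }
  have hCmem : ∀ a : Q, a ∈ C ↔ T * (a : (Module.End k W)ˣ) = a * T := fun a => by
    change σ a = a ↔ _
    rw [Subtype.ext_iff, hσcoe, mul_inv_eq_iff_eq_mul]
  -- proper invariant subgroups are centralized
  have key : ∀ H : Subgroup Q, H ≠ ⊤ → (∀ a ∈ H, σ a ∈ H) → H ≤ C := by
    intro H hH hinv a ha
    rw [hCmem]
    let H' := H.map Q.subtype
    have : Finite H' := Finite.of_surjective (fun x : H => (⟨Q.subtype x, ⟨x, x.2, rfl⟩⟩ : H'))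
      (fun ⟨_, x, hx, e⟩ => ⟨⟨x, hx⟩, Subtype.ext e⟩)
    refine ihm (Nat.card H') ?_ H' (hQp.to_subgroup H |>.map _) (mem_normalizer_of_conj_mem ?_) rfl _ ⟨a, ha, rfl⟩
    · rw [Subgroup.card_map_of_injective Q.subtype_injective]
      refine lt_of_le_of_ne (Nat.le_of_dvd Nat.card_pos (Subgroup.card_subgroup_dvd_card H)) fun e => hH ?_
      exact Subgroup.eq_top_of_card_eq H e
    · rintro _ ⟨x, hx, rfl⟩
      exact ⟨σ x, hinv x hx, rfl⟩
  have hCne : C ≠ ⊤ := fun e => hnot fun a ha => (hCmem ⟨a, ha⟩).mp (e ▸ Subgroup.mem_top _)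
  by_cases hCbot : C = ⊥
  · refine hQne (eq_bot_of_fpf hT hTr hcast hfix fun a ha hcomm => ?_)
    have : (⟨a, ha⟩ : Q) ∈ (⊥ : Subgroup Q) := hCbot ▸ (hCmem ⟨a, ha⟩).mpr hcomm
    exact congrArg Subtype.val (Subgroup.mem_bot.mp this)
  have hσr : σ ^ r = 1 := MulEquiv.ext fun a => Subtype.ext (by rw [coe_conjAut_pow, hTr]; simp)
  have hfree1 : ∀ a : Q, a⁻¹ * σ a ∈ C → a ∈ C := by
    intro a hd
    set d := a⁻¹ * σ a with hd'
    have hpow : ∀ i : ℕ, (σ ^ i) a = a * d ^ i := by
      intro i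
      induction i with
      | zero => simp
      | succ i ih =>
        rw [pow_succ', MulAut.mul_apply, ih, map_mul, map_pow, show σ d = d from hd, pow_succ', ← mul_assoc]
        congr 1
        rw [hd']
        group
    have h1 := hpow r
    rw [hσr, MulAut.one_apply] at h1
    have h2 : d ^ r = 1 := by simpa using h1.symm
    obtain ⟨j, hj⟩ := hQp d
    have h3 : d = 1 := orderOf_eq_one_iff.mp (Nat.eq_one_of_dvd_coprimes
      (((Nat.coprime_primes hrF.out hq.out).mpr hqr.symm).pow_right j)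
      (orderOf_dvd_of_pow_eq_one h2) (orderOf_dvd_of_pow_eq_one hj))
    change σ a = a
    rw [hd', inv_mul_eq_one] at h3
    exact h3.symm
  set D := Subgroup.closure (Set.range fun a : Q => a⁻¹ * σ a) with hDdef
  have hD : D = ⊤ := by
    by_contra hne
    have hle : D ≤ C := key D hne fun a ha => by
      have h1 : D.map σ.toMonoidHom ≤ D := by
        rw [hDdef, MonoidHom.map_closure, Subgroup.closure_le]
        rintro _ ⟨_, ⟨b, rfl⟩, rfl⟩
        exact Subgroup.subset_closure ⟨σ b, by simp⟩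
      exact h1 ⟨a, ha, rfl⟩
    exact hCne (eq_top_iff.mpr fun a _ => hfree1 a (hle (Subgroup.subset_closure ⟨a, rfl⟩)))
  have : Group.IsNilpotent Q := hQp.isNilpotent
  have : Nontrivial Q := (Subgroup.nontrivial_iff_ne_bot Q).mpr hQne
  have hQ' : commutator Q ≤ C := key _ (IsSolvable.commutator_lt_top_of_nontrivial Q).ne fun a ha => by
    have h1 : (commutator Q).map σ.toMonoidHom ≤ commutator Q := by
      rw [commutator, Subgroup.map_commutator]
      exact Subgroup.commutator_mono le_top le_top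
    exact h1 ⟨a, ha, rfl⟩
  have hcent : ∀ c ∈ C, ∀ a : Q, c * a = a * c := by
    intro c hc a
    have hle : D ≤ Subgroup.centralizer ({c} : Set Q) := by
      rw [hDdef, Subgroup.closure_le]
      rintro _ ⟨b, rfl⟩
      rw [SetLike.mem_coe, Subgroup.mem_centralizer_iff]
      rintro y rfl
      have h1 : y * b * y⁻¹ * b⁻¹ ∈ C := hQ' (by
        rw [commutator, ← commutatorElement_def]
        exact Subgroup.commutator_mem_commutator (Subgroup.mem_top y) (Subgroup.mem_top b))
      have hc' : σ y = y := hc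
      have h2 : σ (y * b * y⁻¹ * b⁻¹) = y * b * y⁻¹ * b⁻¹ := h1
      rw [map_mul, map_mul, map_mul, map_inv, map_inv, hc'] at h2
      have h3 : σ b * y⁻¹ * (σ b)⁻¹ = b * y⁻¹ * b⁻¹ := by simpa [mul_assoc] using h2
      calc y * (b⁻¹ * σ b) = y * b⁻¹ * (σ b * y⁻¹ * (σ b)⁻¹) * σ b * y := by group
        _ = y * b⁻¹ * (b * y⁻¹ * b⁻¹) * σ b * y := by rw [h3]
        _ = b⁻¹ * σ b * y := by group
    have h2 : a ∈ Subgroup.centralizer ({c} : Set Q) := hle (hD ▸ Subgroup.mem_top a)
    exact Subgroup.mem_centralizer_iff.mp h2 c rfl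
  have hCn : C.Normal := ⟨fun c hc a => by rw [← hcent c hc a, mul_inv_cancel_right]; exact hc⟩
  -- the centralized part is scalar
  have hWnt : Nontrivial W := by
    by_contra hW
    rw [not_nontrivial_iff_subsingleton] at hW
    exact hnot fun a _ => Units.ext (LinearMap.ext fun v => Subsingleton.elim _ _)
  have hscalar : ∀ z ∈ C, ∃ c : k, (((z : Q) : (Module.End k W)ˣ) : Module.End k W) = c • 1 := by
    intro z hz
    by_contra hns
    set zu : (Module.End k W)ˣ := (z : (Module.End k W)ˣ) with hzu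
    obtain ⟨j, hj⟩ := hQp z
    have hsup := iSup_eigenspace_eq_top (zu : Module.End k W) (m := q ^ j)
      (by rw [Nat.cast_pow]; exact pow_ne_zero _ hqk)
      (by rw [hzu, ← Units.val_pow_eq_pow_val, ← Subgroup.coe_pow, hj]; rfl)
    have hTz : T ∈ Subgroup.centralizer ({zu} : Set (Module.End k W)ˣ) := by
      rw [Subgroup.mem_centralizer_iff]
      rintro y rfl
      exact ((hCmem z).mp hz).symm
    have hQz : Q ≤ Subgroup.centralizer ({zu} : Set (Module.End k W)ˣ) := fun a ha => by
      rw [Subgroup.mem_centralizer_iff]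
      rintro y rfl
      exact congrArg Subtype.val (hcent z hz ⟨a, ha⟩)
    refine hnot fun a ha => Units.ext ?_
    rw [Units.val_mul, Units.val_mul]
    refine LinearMap.ext fun v => ?_
    have hker : ⊤ ≤ LinearMap.ker ((T : Module.End k W) * (a : Module.End k W) - (a : Module.End k W) * (T : Module.End k W)) := by
      rw [← hsup, iSup_le_iff]
      intro μ w hw
      rw [LinearMap.mem_ker, LinearMap.sub_apply, sub_eq_zero]
      have hne : Module.End.eigenspace (zu : Module.End k W) μ ≠ ⊤ := fun e => hns ⟨μ, LinearMap.ext fun x => by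
        have : x ∈ Module.End.eigenspace (zu : Module.End k W) μ := e ▸ Submodule.mem_top
        simpa using Module.End.mem_eigenspace_iff.mp this⟩
      let Q' := (Q.subgroupOf (Subgroup.centralizer ({zu} : Set (Module.End k W)ˣ))).map (eigenRes zu μ)
      have : Finite (Q.subgroupOf (Subgroup.centralizer ({zu} : Set (Module.End k W)ˣ))) :=
        Finite.of_equiv _ (Subgroup.subgroupOfEquivOfLe hQz).symm.toEquiv
      have : Finite Q' := Finite.of_surjective
        (fun x : Q.subgroupOf (Subgroup.centralizer ({zu} : Set (Module.End k W)ˣ)) =>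
          (⟨eigenRes zu μ x, ⟨x, x.2, rfl⟩⟩ : Q'))
        (fun ⟨_, x, hx, e⟩ => ⟨⟨x, hx⟩, Subtype.ext e⟩)
      have h := ihn _ (hfr ▸ Submodule.finrank_lt hne) _ rfl (eigenRes zu μ ⟨T, hTz⟩) Q' ((hQp.comap_subtype).map _)
        (mem_normalizer_of_conj_mem (by
          rintro _ ⟨x, hx, rfl⟩
          exact ⟨⟨T, hTz⟩ * x * ⟨T, hTz⟩⁻¹, (Subgroup.mem_normalizer_iff.mp hT x).mp hx,
            by rw [map_mul, map_mul, map_inv]⟩))
        (by rw [← map_pow, show (⟨T, hTz⟩ : Subgroup.centralizer ({zu} : Set (Module.End k W)ˣ)) ^ r = 1 from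
          Subtype.ext hTr, map_one])
        (fun v hv => Subtype.ext (hfix v (congrArg Subtype.val hv)))
        (eigenRes zu μ ⟨a, hQz ha⟩) ⟨⟨a, hQz ha⟩, ha, rfl⟩
      exact congrArg (fun u : (Module.End k (Module.End.eigenspace (zu : Module.End k W) μ))ˣ =>
        (((u : Module.End k (Module.End.eigenspace (zu : Module.End k W) μ)) ⟨w, hw⟩ : _) : W)) h
    exact sub_eq_zero.mp (hker (Submodule.mem_top : v ∈ ⊤))
  -- the centre is the centralized part
  have hZ : Subgroup.center Q ≤ C := by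
    refine key _ (fun hab => ?_) fun a ha => ?_
    · have hcomm : ∀ a b : Q, a * b = b * a := fun a b =>
        (Subgroup.mem_center_iff.mp (hab ▸ Subgroup.mem_top a : a ∈ Subgroup.center Q) b).symm
      let ψ : Q →* Q :=
        { toFun := fun a => a⁻¹ * σ a
          map_one' := by simp
          map_mul' := fun a b => by
            rw [map_mul, mul_inv_rev, hcomm b⁻¹ a⁻¹, mul_assoc a⁻¹, ← mul_assoc b⁻¹, hcomm b⁻¹ (σ a),
              mul_assoc (σ a), ← mul_assoc] }
      have hsurj : Function.Surjective ψ := by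
        rw [← MonoidHom.range_eq_top, eq_top_iff, ← hD, hDdef, Subgroup.closure_le]
        rintro _ ⟨b, rfl⟩
        exact ⟨b, rfl⟩
      refine hCbot (eq_bot_iff.mpr fun c hc => Subgroup.mem_bot.mpr ((Finite.injective_iff_surjective.mpr hsurj) ?_))
      change c⁻¹ * σ c = 1⁻¹ * σ 1
      rw [show σ c = c from hc]
      simp
    · rw [Subgroup.mem_center_iff] at ha ⊢
      intro b
      have h := congrArg σ (ha ((σ⁻¹ : MulAut Q) b))
      rwa [map_mul, map_mul, ← MulAut.mul_apply, mul_inv_cancel, MulAut.one_apply] at h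
  refine false_of_scalar (hrF.out.odd_of_ne_two hr2) hr0 hQodd hcast hT hTr hfix C hCne hscalar
    (fun a => Iff.rfl) hfree1 fun a ha => ?_
  have ha' : a ∉ Subgroup.center Q := fun h => ha (hZ h)
  rw [Subgroup.mem_center_iff, not_forall] at ha'
  obtain ⟨b, hb⟩ := ha'
  refine ⟨b, hQ' ?_, fun e => hb (mul_inv_eq_iff_eq_mul.mp e)⟩
  rw [commutator, ← commutatorElement_def]
  exact Subgroup.commutator_mem_commutator (Subgroup.mem_top b) (Subgroup.mem_top a)

end Cfsg.Agent.OddLocal
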