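import Cfsg.Agent.Lib.Basics.Cores
import Cfsg.Agent.Lib.Basics.CoprimeAction
import Cfsg.Agent.Lib.Coprime23.PLength
import Cfsg.Agent.Lib.OddLocal.FixPointB

/-! `p`-length one: structure, inheritance and fusion (BG 6.5). -/

set_option autoImplicit false

namespace Cfsg.Agent.OddLocal

open scoped commutatorElement Pointwise

universe u

variable {G : Type u} [Group G] [Finite G] {p : ℕ} [hp : Fact p.Prime]

theorem exists_series_of_pLengthLE_one (h : Cfsg.PLengthLE p 1 G) :
    ∃ A B : Subgroup G, A.Normal ∧ B.Normal ∧ (Nat.card A).Coprime p ∧ (∃ k, A.relIndex B = p ^ k) ∧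
      B.index.Coprime p ∧ A ≤ B ∧ ∀ S : Sylow p G, B = A ⊔ S := by
  set s : ℕ → Subgroup G := fun n => (Cfsg.upperPSeries p G n).1 with hs
  haveI : ∀ n, (s n).Normal := fun n => (Cfsg.upperPSeries p G n).2
  have e1 : (Cfsg.pPrimeCore p (G ⧸ s 0)).comap (QuotientGroup.mk' (s 0)) = s 1 := rfl
  have e2 : (Cfsg.pCore p (G ⧸ s 1)).comap (QuotientGroup.mk' (s 1)) = s 2 := rfl
  have e3 : (Cfsg.pPrimeCore p (G ⧸ s 2)).comap (QuotientGroup.mk' (s 2)) = s 3 := rfl
  have h3 : s 3 = ⊤ := h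
  have hc1 : (Nat.card (s 1)).Coprime p := by
    rw [← e1, Basics.card_comap_mk', show Nat.card (s 0) = 1 from Subgroup.card_bot, one_mul]
    exact Basics.pPrimeCore_coprime p
  obtain ⟨k, hk⟩ := IsPGroup.iff_card.mp (Basics.pCore_isPGroup (G := G ⧸ s 1) p)
  have hle : s 1 ≤ s 2 := by
    rw [← e2]
    intro x hx
    rw [Subgroup.mem_comap, show QuotientGroup.mk' (s 1) x = 1 from (QuotientGroup.eq_one_iff x).mpr hx]
    exact one_mem _
  have hrel : (s 1).relIndex (s 2) = p ^ k := by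
    conv_lhs => rw [← QuotientGroup.ker_mk' (s 1)]
    rw [Subgroup.relIndex_ker, ← e2, Subgroup.map_comap_eq_self_of_surjective (QuotientGroup.mk'_surjective _), hk]
  have hidx : (s 2).index.Coprime p := by
    have htop : Cfsg.pPrimeCore p (G ⧸ s 2) = ⊤ := by
      rw [← Subgroup.map_comap_eq_self_of_surjective (QuotientGroup.mk'_surjective (s 2)) (Cfsg.pPrimeCore p (G ⧸ s 2)),
        e3, h3, Subgroup.map_top_of_surjective _ (QuotientGroup.mk'_surjective _)]
    have := Basics.pPrimeCore_coprime (G := G ⧸ s 2) p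
    rwa [htop, Subgroup.card_top] at this
  refine ⟨s 1, s 2, inferInstance, inferInstance, hc1, ⟨k, hrel⟩, hidx, hle, fun S => ?_⟩
  have hS : (S : Subgroup G) ≤ s 2 := by
    intro x hx
    obtain ⟨m, hm⟩ := S.2 ⟨x, hx⟩
    refine (QuotientGroup.eq_one_iff x).mp (orderOf_eq_one_iff.mp (Nat.eq_one_of_dvd_coprimes (hidx.symm.pow_left m)
      (orderOf_dvd_of_pow_eq_one ?_) (orderOf_dvd_natCard _)))
    rw [← QuotientGroup.mk_pow, show x ^ p ^ m = 1 from congrArg Subtype.val hm, QuotientGroup.mk_one]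
  refine (Subgroup.eq_of_le_of_card_ge (sup_le hle hS) (Nat.le_of_dvd Nat.card_pos ?_)).symm
  have h2 : Nat.card (s 2) = Nat.card (s 1) * p ^ k := by rw [← e2, Basics.card_comap_mk', hk]
  rw [h2]
  obtain ⟨n, hn⟩ := IsPGroup.iff_card.mp S.2
  have hkn : p ^ k ∣ p ^ n := by
    have h4 : p ^ k ∣ (S : Subgroup G).index * Nat.card S := by
      rw [Subgroup.index_mul_card]
      exact (Dvd.intro_left _ h2.symm).trans (Subgroup.card_subgroup_dvd_card _)
    rw [hn] at h4
    exact (((hp.out.coprime_iff_not_dvd.mpr S.not_dvd_index).pow_left k).dvd_of_dvd_mul_left h4)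
  refine (hc1.pow_right k).mul_dvd_of_dvd_of_dvd (Subgroup.card_dvd_of_le le_sup_left) (hkn.trans ?_)
  rw [← hn]
  exact Subgroup.card_dvd_of_le le_sup_right

theorem pLengthLE_one_subgroup (h : Cfsg.PLengthLE p 1 G) (H : Subgroup G) : Cfsg.PLengthLE p 1 H := by
  obtain ⟨A, B, hA, hB, hc, ⟨k, hk⟩, hi, hAB, -⟩ := exists_series_of_pLengthLE_one h
  refine Coprime23.pLengthLE_one_of_series (A.subgroupOf H) (B.subgroupOf H) ?_ ?_ ?_
  · exact hc.coprime_dvd_left (Subgroup.card_comap_dvd_of_injective A H.subtype H.subtype_injective)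
  · have h1 : (A.subgroupOf H).relIndex (B.subgroupOf H) ∣ p ^ k := by
      rw [show (A.subgroupOf H).relIndex (B.subgroupOf H) = A.relIndex ((B.subgroupOf H).map H.subtype) from
        Subgroup.relIndex_comap A H.subtype _, ← hk]
      conv_lhs => rw [← QuotientGroup.ker_mk' A]
      conv_rhs => rw [← QuotientGroup.ker_mk' A]
      rw [Subgroup.relIndex_ker, Subgroup.relIndex_ker]
      exact Subgroup.card_dvd_of_le (Subgroup.map_mono (Subgroup.map_comap_le _ _))
    obtain ⟨j, -, hj⟩ := (Nat.dvd_prime_pow hp.out).mp h1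
    exact ⟨j, hj⟩
  · exact hi.coprime_dvd_left (Subgroup.relIndex_dvd_index_of_normal B H)

theorem pLengthLE_one_of_le {H M : Subgroup G} (hHM : H ≤ M) (h : Cfsg.PLengthLE p 1 M) :
    Cfsg.PLengthLE p 1 H := by
  obtain ⟨A, B, hA, hB, hc, hk, hi, hAB, -⟩ := exists_series_of_pLengthLE_one
    (pLengthLE_one_subgroup h (H.subgroupOf M))
  set e := Subgroup.subgroupOfEquivOfLe hHM
  have hnA : (A.map e.toMonoidHom).Normal := hA.map _ e.surjective
  have hnB : (B.map e.toMonoidHom).Normal := hB.map _ e.surjective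
  refine Coprime23.pLengthLE_one_of_series (A.map e.toMonoidHom) (B.map e.toMonoidHom) ?_ ?_ ?_
  · rwa [Subgroup.card_map_of_injective (show Function.Injective e.toMonoidHom from e.injective)]
  · obtain ⟨k, hk⟩ := hk
    exact ⟨k, (Subgroup.relIndex_map_map_of_injective A B (f := e.toMonoidHom) e.injective).trans hk⟩
  · rwa [show (B.map e.toMonoidHom).index = B.index from Subgroup.index_map_equiv B e]

theorem pLengthLE_one_of_index (N : Subgroup G) [N.Normal] (hN : ¬ p ∣ N.index) (h : Cfsg.PLengthLE p 1 N) :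
    Cfsg.PLengthLE p 1 G := by
  obtain ⟨A, B, hA, hB, hc, -, -, -, hS⟩ := exists_series_of_pLengthLE_one h
  have hc1 := Basics.pPrimeCore_characteristic (G := N) p
  set A' := (Cfsg.pPrimeCore p N).map N.subtype with hA'
  have hA'n : A'.Normal := inferInstance
  have hA'N : A' ≤ N := Subgroup.map_subtype_le _
  set π := QuotientGroup.mk' A'
  set N₁ := N.map π
  have hN₁n : N₁.Normal := Subgroup.Normal.map inferInstance _ (QuotientGroup.mk'_surjective _)
  have hc2 := Basics.pCore_characteristic (G := N₁) p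
  set O := (Cfsg.pCore p N₁).map N₁.subtype with hO
  have hOn : O.Normal := inferInstance
  have hOp : IsPGroup p O := (Basics.pCore_isPGroup p).map _
  refine Coprime23.pLengthLE_one_of_series A' (O.comap π) ?_ ?_ ?_
  · rw [hA', Subgroup.card_map_of_injective N.subtype_injective]
    exact Basics.pPrimeCore_coprime p
  · obtain ⟨k, hk⟩ := IsPGroup.iff_card.mp hOp
    refine ⟨k, (congrArg (fun K => Subgroup.relIndex K (O.comap π)) (QuotientGroup.ker_mk' A').symm).trans ?_⟩
    change π.ker.relIndex _ = _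
    rw [Subgroup.relIndex_ker, Subgroup.map_comap_eq_self_of_surjective (QuotientGroup.mk'_surjective _), hk]
  · obtain ⟨S⟩ : Nonempty (Sylow p N) := inferInstance
    set f := (π.subgroupMap N) with hf
    have hfs : Function.Surjective f := π.subgroupMap_surjective N
    have hfA : ∀ a ∈ A, f a = 1 := fun a ha => Subtype.ext ((QuotientGroup.eq_one_iff _).mpr
      ⟨a, Basics.le_pPrimeCore hc ha, rfl⟩)
    have hle : (S : Subgroup N).map N.subtype ≤ O.comap π := by
      rintro _ ⟨x, hx, rfl⟩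
      refine ⟨f x, ?_, rfl⟩
      have hnorm : ((S : Subgroup N).map f).Normal := by
        have hBf : B.map f = (S : Subgroup N).map f := by
          rw [hS S, Subgroup.map_sup, (Subgroup.map_eq_bot_iff A).mpr (fun a ha => hfA a ha), bot_sup_eq]
        exact hBf ▸ hB.map f hfs
      exact Basics.le_pCore (S.2.map f) ⟨x, hx, rfl⟩
    have h1 : (O.comap π).index ∣ ((S : Subgroup N).map N.subtype).index := Subgroup.index_dvd_of_le hle
    rw [Subgroup.index_map_subtype] at h1
    refine (Nat.Coprime.coprime_dvd_left h1 (Nat.Coprime.mul_left ?_ ?_))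
    · exact (hp.out.coprime_iff_not_dvd.mpr S.not_dvd_index).symm
    · exact (hp.out.coprime_iff_not_dvd.mpr hN).symm

omit hp in
/-- If `A` lies in the derived subgroup of `A K`, it is its own commutator with `K`. -/
theorem eq_commutator_of_le_derived (A K : Subgroup G) [A.Normal] (hAs : Group.IsSolvable A) (hsup : A ⊔ K = ⊤)
    (hdisj : A ⊓ K = ⊥) (hle : A ≤ commutator G) : ⁅A, K⁆ = A := by
  refine le_antisymm (Subgroup.commutator_le_left A K) ?_
  set N := ⁅A, K⁆ with hN
  have hNn : N.Normal := by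
    refine Subgroup.normalizer_eq_top_iff.mp (eq_top_iff.mpr ?_)
    rw [← hsup]
    exact sup_le (Subgroup.normalizer_commutator_ge_left _ _) (Subgroup.normalizer_commutator_ge_right _ _)
  have hNA : N ≤ A := Subgroup.commutator_le_left A K
  set π := QuotientGroup.mk' N
  have hcomm : ∀ a ∈ A, ∀ k ∈ K, π a * π k = π k * π a := fun a ha k hk => by
    rw [← commutatorElement_eq_one_iff_mul_comm, ← map_commutatorElement]
    exact (QuotientGroup.eq_one_iff _).mpr (Subgroup.commutator_mem_commutator ha hk)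
  have hprod : ∀ x : G, ∃ a ∈ A, ∃ k ∈ K, x = a * k := fun x => by
    obtain ⟨a, ha, k, hk, e⟩ := Subgroup.mem_sup_of_normal_left.mp (hsup.symm ▸ Subgroup.mem_top x)
    exact ⟨a, ha, k, hk, e.symm⟩
  set A1 := A.map π
  set K1 := K.map π
  have hA1n : A1.Normal := Subgroup.Normal.map inferInstance _ (QuotientGroup.mk'_surjective _)
  have hle2 : (commutator G).map π ≤ ⁅A1, A1⁆ ⊔ ⁅K1, K1⁆ := by
    rw [commutator, Subgroup.map_commutator, Subgroup.commutator_le]
    rintro _ ⟨x, -, rfl⟩ _ ⟨y, -, rfl⟩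
    obtain ⟨a, ha, k, hk, rfl⟩ := hprod x
    obtain ⟨b, hb, l, hl, rfl⟩ := hprod y
    have e : ⁅π (a * k), π (b * l)⁆ = ⁅π a, π b⁆ * ⁅π k, π l⁆ := by
      have c1 : Commute (π a) (π k) := hcomm a ha k hk
      have c2 : Commute (π b) (π l) := hcomm b hb l hl
      have c3 : Commute (π b) (π k) := hcomm b hb k hk
      have c4 : Commute (π a) (π l) := hcomm a ha l hl
      simp only [map_mul, commutatorElement_def, mul_inv_rev]
      calc π a * π k * (π b * π l) * ((π k)⁻¹ * (π a)⁻¹) * ((π l)⁻¹ * (π b)⁻¹)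
          = π a * (π k * π b) * π l * (π k)⁻¹ * ((π a)⁻¹ * (π l)⁻¹) * (π b)⁻¹ := by group
        _ = π a * (π b * π k) * π l * (π k)⁻¹ * ((π l)⁻¹ * (π a)⁻¹) * (π b)⁻¹ := by
            rw [c3.eq, c4.inv_inv.eq]
        _ = π a * π b * ((π k * π l * (π k)⁻¹ * (π l)⁻¹) * ((π a)⁻¹ * (π b)⁻¹)) := by group
        _ = π a * π b * (((π a)⁻¹ * (π b)⁻¹) * (π k * π l * (π k)⁻¹ * (π l)⁻¹)) := by
            have d : Commute (π k * π l * (π k)⁻¹ * (π l)⁻¹) ((π a)⁻¹ * (π b)⁻¹) :=
              (((c1.symm.mul_left c4.symm).mul_left c1.symm.inv_left).mul_left c4.symm.inv_left).inv_right.mul_right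
                (((c3.symm.mul_left c2.symm).mul_left c3.symm.inv_left).mul_left c2.symm.inv_left).inv_right
            rw [d.eq]
        _ = _ := by group
    rw [e]
    exact mul_mem (Subgroup.mem_sup_left (Subgroup.commutator_mem_commutator ⟨a, ha, rfl⟩ ⟨b, hb, rfl⟩))
      (Subgroup.mem_sup_right (Subgroup.commutator_mem_commutator ⟨k, hk, rfl⟩ ⟨l, hl, rfl⟩))
  have hdisj1 : A1 ⊓ K1 = ⊥ := by
    rw [eq_bot_iff]
    rintro _ ⟨⟨a, ha, rfl⟩, k, hk, e⟩
    have h1 : a⁻¹ * k ∈ N := QuotientGroup.eq.mp e.symm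
    have hkA : k ∈ A := by simpa using mul_mem ha (hNA h1)
    have : k = 1 := Subgroup.mem_bot.mp (hdisj ▸ Subgroup.mem_inf.mpr ⟨hkA, hk⟩)
    rw [Subgroup.mem_bot, ← e, this, map_one]
  have hbot : A1 = ⊥ := by
    by_contra hne
    have hAs1 : Group.IsSolvable A1 := solvable_of_surjective (π.subgroupMap_surjective A)
    have hperf : A1 ≤ ⁅A1, A1⁆ := by
      intro x hx
      obtain ⟨a, ha, k, hk, e⟩ : ∃ a ∈ ⁅A1, A1⁆, ∃ k ∈ ⁅K1, K1⁆, a * k = x := by
        have h2 := hle2 (Subgroup.map_mono hle hx)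
        have : (⁅A1, A1⁆ : Subgroup (G ⧸ N)).Normal := Subgroup.commutator_normal _ _
        exact Subgroup.mem_sup_of_normal_left.mp h2
      have hk' : k ∈ A1 ⊓ K1 := by
        refine ⟨?_, (Subgroup.commutator_le_self K1) hk⟩
        have : k = a⁻¹ * x := by rw [← e]; group
        change k ∈ A1
        rw [this]
        exact mul_mem (inv_mem ((Subgroup.commutator_le_self A1) ha)) hx
      rw [hdisj1, Subgroup.mem_bot] at hk'
      rwa [← e, hk', mul_one]
    have hlt : ⁅(⊤ : Subgroup A1), (⊤ : Subgroup A1)⁆ < (⊤ : Subgroup A1) := by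
      have : Nontrivial A1 := (Subgroup.nontrivial_iff_ne_bot _).mpr hne
      exact Group.IsSolvable.commutator_lt_of_ne_bot top_ne_bot
    refine hlt.ne (Subgroup.map_injective A1.subtype_injective ?_)
    rw [Subgroup.map_commutator, ← MonoidHom.range_eq_map, Subgroup.range_subtype]
    exact le_antisymm (Subgroup.commutator_le_self A1) hperf
  intro x hx
  exact (QuotientGroup.eq_one_iff x).mp (Subgroup.mem_bot.mp (hbot ▸ Subgroup.mem_map_of_mem π hx))

/-- BG 6.5. -/
theorem pLengthOne_fusion (hpl : Cfsg.PLengthLE p 1 G) (S : Sylow p G) :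
    ((S : Subgroup G) ≤ commutator G → (S : Subgroup G) ≤
        ⁅Subgroup.normalizer ((S : Subgroup G) : Set G), Subgroup.normalizer ((S : Subgroup G) : Set G)⁆) ∧
      (∀ (Y : Set G) (x : G), Y ⊆ (S : Subgroup G) → (fun y => x * y * x⁻¹) '' Y ⊆ (S : Subgroup G) →
        ∃ g ∈ Subgroup.normalizer ((S : Subgroup G) : Set G), ∃ c ∈ Subgroup.centralizer Y, g * c = x) ∧
      ∀ Q : Subgroup G, IsPGroup p Q → ∃ x ∈ Subgroup.centralizer ((Q ⊓ (S : Subgroup G) : Subgroup G) : Set G),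
        Q.map (MulAut.conj x).toMonoidHom ≤ (S : Subgroup G) := by
  obtain ⟨A, B, hA, hB, hc, -, hi, -, hAS⟩ := exists_series_of_pLengthLE_one hpl
  have hBS := hAS S
  set N := Subgroup.normalizer ((S : Subgroup G) : Set G)
  have hdisj : ∀ a ∈ A, a ∈ (S : Subgroup G) → a = 1 := fun a ha hs => by
    obtain ⟨n, hn⟩ := IsPGroup.iff_card.mp S.2
    exact orderOf_eq_one_iff.mp (Nat.eq_one_of_dvd_coprimes (hc.pow_right n) (Subgroup.orderOf_dvd_natCard _ ha)
      (hn ▸ Subgroup.orderOf_dvd_natCard _ hs))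
  have hcent : ∀ a ∈ A, ∀ y ∈ (S : Subgroup G), a * y * a⁻¹ ∈ (S : Subgroup G) → a * y = y * a := by
    intro a ha y hy h
    have h1 : a * y * a⁻¹ * y⁻¹ = 1 := by
      refine hdisj _ ?_ (mul_mem h (inv_mem hy))
      rw [mul_assoc, mul_assoc]
      exact mul_mem ha (by simpa [mul_assoc] using hA.conj_mem _ (inv_mem ha) y)
    rwa [mul_inv_eq_one, mul_inv_eq_iff_eq_mul] at h1
  -- the Frattini argument
  have hfrat : ∀ x : G, ∃ a ∈ A, ∃ g ∈ N, x = a * g := by
    intro x
    have hSB : (S : Subgroup G) ≤ B := hBS ▸ le_sup_right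
    have h := Sylow.normalizer_sup_eq_top' S hSB
    obtain ⟨g, hg, b, hb, e⟩ := Subgroup.mem_sup_of_normal_right.mp (h.symm ▸ Subgroup.mem_top x)
    have h2 : g * b * g⁻¹ ∈ B := hB.conj_mem b hb g
    rw [hBS] at h2
    obtain ⟨a, ha, s, hs, e2⟩ := Subgroup.mem_sup_of_normal_left.mp h2
    exact ⟨a, ha, s * g, mul_mem (Subgroup.le_normalizer hs) hg, by rw [← e, ← mul_assoc, e2]; group⟩
  refine ⟨fun hS x hx => ?_, fun Y x hY hxY => ?_, fun Q hQ => ?_⟩
  · -- derived subgroup
    obtain ⟨a, ha, d, hd, e⟩ : ∃ a ∈ A, ∃ d ∈ ⁅N, N⁆, x = a * d := by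
      have hle : commutator G ≤ A ⊔ ⁅N, N⁆ := by
        set π := QuotientGroup.mk' A
        have hsurj : N.map π = ⊤ := eq_top_iff.mpr fun y _ => by
          obtain ⟨z, rfl⟩ := QuotientGroup.mk'_surjective A y
          obtain ⟨a, ha, g, hg, rfl⟩ := hfrat z
          exact ⟨g, hg, by rw [map_mul, show π a = 1 from (QuotientGroup.eq_one_iff a).mpr ha, one_mul]⟩
        have h1 : (commutator G).map π ≤ (⁅N, N⁆).map π := by
          rw [Subgroup.map_commutator, hsurj, commutator, Subgroup.map_commutator,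
            Subgroup.map_top_of_surjective _ (QuotientGroup.mk'_surjective A)]
        rw [Subgroup.map_le_map_iff, QuotientGroup.ker_mk', sup_comm] at h1
        exact h1
      obtain ⟨a, ha, d, hd, e⟩ := Subgroup.mem_sup_of_normal_left.mp (hle (hS hx))
      exact ⟨a, ha, d, hd, e.symm⟩
    -- `a` normalizes `S`, and is trivial modulo `N'`
    have hxN : x ∈ N := Subgroup.le_normalizer hx
    have haN : a ∈ N := by
      have := mul_mem hxN (inv_mem ((Subgroup.commutator_le_self N) hd))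
      rwa [e, mul_inv_cancel_right] at this
    set D := (⁅N, N⁆).subgroupOf N
    have hDn : D.Normal := (Subgroup.normal_subgroupOf_iff_le_normalizer (Subgroup.commutator_le_self N)).mpr
      (Subgroup.normalizer_commutator_ge_left _ _)
    have heq : ((⟨x, hxN⟩ : N) : N ⧸ D) = ((⟨a, haN⟩ : N) : N ⧸ D) := by
      rw [show (⟨x, hxN⟩ : N) = ⟨a, haN⟩ * ⟨d, (Subgroup.commutator_le_self N) hd⟩ from Subtype.ext e,
        QuotientGroup.mk_mul, (QuotientGroup.eq_one_iff _).mpr (show (⟨d, _⟩ : N) ∈ D from hd), mul_one]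
    obtain ⟨m, hm⟩ := S.2 ⟨x, hx⟩
    have h1 : ((⟨x, hxN⟩ : N) : N ⧸ D) = 1 := by
      refine orderOf_eq_one_iff.mp (Nat.eq_one_of_dvd_coprimes (hc.pow_right m) ?_ (orderOf_dvd_of_pow_eq_one ?_))
      · rw [heq]
        refine (orderOf_map_dvd (QuotientGroup.mk' D) _).trans ?_
        rw [Subgroup.orderOf_mk]
        exact Subgroup.orderOf_dvd_natCard _ ha
      · rw [← QuotientGroup.mk_pow, show (⟨x, hxN⟩ : N) ^ p ^ m = 1 from
          Subtype.ext (by simpa using congrArg Subtype.val hm), QuotientGroup.mk_one]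
    exact (QuotientGroup.eq_one_iff (N := D) _).mp h1
  · obtain ⟨a, ha, g, hg, rfl⟩ := hfrat x
    refine ⟨g, hg, g⁻¹ * a * g, ?_, by group⟩
    rw [Subgroup.mem_centralizer_iff]
    intro y hy
    have hy' : g * y * g⁻¹ ∈ (S : Subgroup G) := (Subgroup.mem_normalizer_iff.mp hg y).mp (hY hy)
    have h := hcent a ha _ hy' (by
      have := hxY ⟨y, hy, rfl⟩
      change a * g * y * (a * g)⁻¹ ∈ (S : Subgroup G) at this
      rwa [show a * g * y * (a * g)⁻¹ = a * (g * y * g⁻¹) * a⁻¹ by group] at this)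
    calc y * (g⁻¹ * a * g) = g⁻¹ * ((g * y * g⁻¹) * a) * g := by group
      _ = g⁻¹ * (a * (g * y * g⁻¹)) * g := by rw [h]
      _ = g⁻¹ * a * g * y := by group
  · set R := A ⊔ Q
    have hQB : Q ≤ B := by
      intro x hx
      obtain ⟨m, hm⟩ := hQ ⟨x, hx⟩
      refine (QuotientGroup.eq_one_iff x).mp (orderOf_eq_one_iff.mp (Nat.eq_one_of_dvd_coprimes
        (hi.symm.pow_left m) (orderOf_dvd_of_pow_eq_one ?_) (orderOf_dvd_natCard _)))
      rw [← QuotientGroup.mk_pow, show x ^ p ^ m = 1 from congrArg Subtype.val hm, QuotientGroup.mk_one]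
    obtain ⟨T, hT⟩ := (hQ.of_equiv (Subgroup.subgroupOfEquivOfLe hQB).symm).exists_le_sylow
    have hSB : (S : Subgroup G) ≤ B := hBS ▸ le_sup_right
    obtain ⟨b, hb⟩ := MulAction.exists_smul_eq B T (S.subtype hSB)
    obtain ⟨s, hs, a, ha, e⟩ : ∃ s ∈ (S : Subgroup G), ∃ a ∈ A, s * a = (b : G) :=
      Subgroup.mem_sup_of_normal_right.mp (sup_comm A (S : Subgroup G) ▸ hBS ▸ b.2)
    have hmap : ∀ y ∈ Q, (b : G) * y * (b : G)⁻¹ ∈ (S : Subgroup G) := by
      intro y hy
      have h1 : MulAut.conj b • (⟨y, hQB hy⟩ : B) ∈ (MulAut.conj b • (T : Subgroup B)) :=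
        Subgroup.smul_mem_pointwise_smul _ _ _ (hT hy)
      rw [← Sylow.coe_subgroup_smul, hb] at h1
      exact h1
    have hmap' : ∀ y ∈ Q, a * y * a⁻¹ ∈ (S : Subgroup G) := by
      intro y hy
      have h1 := mul_mem (mul_mem (inv_mem hs) (hmap y hy)) hs
      rwa [← e, show s⁻¹ * (s * a * y * (s * a)⁻¹) * s = a * y * a⁻¹ by group] at h1
    refine ⟨a, ?_, ?_⟩
    · rw [Subgroup.mem_centralizer_iff]
      exact fun y hy => (hcent a ha y hy.2 (hmap' y hy.1)).symm
    · rintro _ ⟨y, hy, rfl⟩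
      exact hmap' y hy

end Cfsg.Agent.OddLocal
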