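import Cfsg.Prelude.Def_OddOrderLocal
import Cfsg.Agent.Lib.Basics.Tools

/-! `O_π(X)` for a subgroup `X`. -/

set_option autoImplicit false

namespace Cfsg.Agent.OddLocal

variable {G : Type*} [Group G]

theorem piCore_primes [Finite G] (π : Set ℕ) {r : ℕ} (hr : r.Prime) (h : r ∣ Nat.card (piCore π G)) : r ∈ π := by
  obtain ⟨M, -, ⟨hMn, hMc⟩, hmax⟩ := Finite.exists_le_maximal
    (p := fun N : Subgroup G => N.Normal ∧ ∀ p : ℕ, p.Prime → p ∣ Nat.card N → p ∈ π) (a := ⊥)
    ⟨inferInstance, fun p hp hd => absurd (Subgroup.card_bot (G := G) ▸ hd) hp.not_dvd_one⟩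
  have : piCore π G = M := by
    refine le_antisymm (sSup_le fun N hN => ?_) (le_sSup ⟨hMn, hMc⟩)
    have hNn := hN.1
    have hcard : Nat.card (N ⊔ M : Subgroup G) ∣ Nat.card N * Nat.card M := by
      rw [Basics.card_mul_card_eq_card_sup_mul_card_inf
        (by rw [Subgroup.normalizer_eq_top]; exact le_top)]
      exact dvd_mul_right _ _
    refine le_sup_left.trans (hmax (y := N ⊔ M) ⟨Subgroup.sup_normal _ _, fun p hp hd => ?_⟩ le_sup_right)
    rcases hp.dvd_mul.mp (hd.trans hcard) with h1 | h1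
    · exact hN.2 p hp h1
    · exact hMc p hp h1
  exact hMc r hr (this ▸ h)

theorem piCoreOf_le (π : Set ℕ) (X : Subgroup G) : piCoreOf π X ≤ X :=
  Subgroup.map_subtype_le _

theorem piCoreOf_primes [Finite G] (π : Set ℕ) (X : Subgroup G) {r : ℕ} (hr : r.Prime)
    (h : r ∣ Nat.card (piCoreOf π X)) : r ∈ π := by
  rw [piCoreOf, Subgroup.card_map_of_injective X.subtype_injective] at h
  exact piCore_primes π hr h

theorem le_piCoreOf {π : Set ℕ} {N X : Subgroup G} (hNX : N ≤ X) (hn : X ≤ Subgroup.normalizer (N : Set G))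
    (h : ∀ r : ℕ, r.Prime → r ∣ Nat.card N → r ∈ π) : N ≤ piCoreOf π X := by
  rw [piCoreOf, ← Subgroup.map_subgroupOf_eq_of_le hNX]
  refine Subgroup.map_mono (le_sSup ⟨(Subgroup.normal_subgroupOf_iff_le_normalizer hNX).mpr hn, ?_⟩)
  rw [Nat.card_congr (Subgroup.subgroupOfEquivOfLe hNX).toEquiv]
  exact h

theorem le_normalizer_piCoreOf_self (π : Set ℕ) (X : Subgroup G) :
    X ≤ Subgroup.normalizer (piCoreOf π X : Set G) := by
  have h := Subgroup.le_normalizer_map (H := piCore π X) X.subtype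
  rwa [Subgroup.normalizer_eq_top, ← MonoidHom.range_eq_map, Subgroup.range_subtype] at h

theorem normalizer_le_normalizer_piCoreOf [Finite G] (π : Set ℕ) (X : Subgroup G) :
    Subgroup.normalizer (X : Set G) ≤ Subgroup.normalizer (piCoreOf π X : Set G) := by
  intro g hg
  rw [Subgroup.mem_normalizer_iff_map_conj_eq]
  have hgX : X.map (MulAut.conj g).toMonoidHom = X := Subgroup.mem_normalizer_iff_map_conj_eq.mp hg
  change (piCoreOf π X).map (MulAut.conj g).toMonoidHom = piCoreOf π X
  have hcard : Nat.card ((piCoreOf π X).map (MulAut.conj g).toMonoidHom) = Nat.card (piCoreOf π X) :=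
    Subgroup.card_map_of_injective (MulEquiv.injective _)
  refine Subgroup.eq_of_le_of_card_ge (le_piCoreOf ?_ ?_ fun r hr hd => ?_) hcard.ge
  · exact (Subgroup.map_mono (piCoreOf_le π X)).trans hgX.le
  · have h1 := Subgroup.le_normalizer_map (H := piCoreOf π X) (MulAut.conj g).toMonoidHom
    refine le_trans ?_ h1
    exact hgX.ge.trans (Subgroup.map_mono (le_normalizer_piCoreOf_self π X))
  · exact piCoreOf_primes π X hr (hcard ▸ hd)

end Cfsg.Agent.OddLocal
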