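import Cfsg.Agent.Lib.OddLocal.MaxP
import Cfsg.Agent.Lib.OddLocal.PiCore
import Cfsg.Agent.Lib.Basics.CoprimeGen

/-! The Fitting subgroup of a subgroup, prime by prime. -/

set_option autoImplicit false

namespace Cfsg.Agent.OddLocal

open scoped commutatorElement

variable {G : Type*} [Group G] [Finite G]

/-- `O_r(M)` inside the ambient group. -/
def coreP (r : ℕ) (M : Subgroup G) : Subgroup G := (Cfsg.pCore r M).map M.subtype

theorem coreP_le (r : ℕ) (M : Subgroup G) : coreP r M ≤ M := Subgroup.map_subtype_le _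

theorem isPGroup_coreP (r : ℕ) [Fact r.Prime] (M : Subgroup G) : IsPGroup r (coreP r M) :=
  (Basics.pCore_isPGroup r).map _

theorem le_normalizer_map_subtype {M : Subgroup G} (N : Subgroup M) [N.Normal] :
    M ≤ Subgroup.normalizer ((N.map M.subtype : Subgroup G) : Set G) := by
  have h := Subgroup.le_normalizer_map (H := N) M.subtype
  rwa [Subgroup.normalizer_eq_top, ← MonoidHom.range_eq_map, Subgroup.range_subtype] at h

theorem le_normalizer_coreP (r : ℕ) (M : Subgroup G) : M ≤ Subgroup.normalizer (coreP r M : Set G) :=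
  le_normalizer_map_subtype _

theorem fittingOf_le (M : Subgroup G) : Cfsg.fittingOf M ≤ M := Subgroup.map_subtype_le _

theorem le_normalizer_fittingOf (M : Subgroup G) : M ≤ Subgroup.normalizer (Cfsg.fittingOf M : Set G) := by
  have : (Cfsg.fittingSubgroup M).Normal := by
    rw [Basics.fittingSubgroup_eq_iSup_pCore]
    refine Subgroup.normalizer_eq_top_iff.mp (top_le_iff.mp fun g _ => ?_)
    rw [Subgroup.mem_normalizer_iff_map_conj_eq]
    change Subgroup.map (MulAut.conj g).toMonoidHom _ = _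
    rw [Subgroup.map_iSup]
    refine iSup_congr fun r => ?_
    exact Subgroup.mem_normalizer_iff_map_conj_eq.mp (by rw [Subgroup.normalizer_eq_top]; exact Subgroup.mem_top g)
  exact le_normalizer_map_subtype _

theorem fittingOf_eq_iSup (M : Subgroup G) : Cfsg.fittingOf M = ⨆ r : Nat.Primes, coreP (r : ℕ) M := by
  rw [Cfsg.fittingOf, Basics.fittingSubgroup_eq_iSup_pCore, Subgroup.map_iSup]
  rfl

theorem coreP_le_fittingOf (r : ℕ) [Fact r.Prime] (M : Subgroup G) : coreP r M ≤ Cfsg.fittingOf M :=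
  Subgroup.map_mono (Basics.pCore_le_fittingSubgroup r)

theorem isNilpotent_fittingOf (M : Subgroup G) : Group.IsNilpotent (Cfsg.fittingOf M) := by
  have h : Group.IsNilpotent (Cfsg.fittingSubgroup M) := by
    rw [Basics.fittingSubgroup_eq_iSup_pCore]; exact Basics.isNilpotent_iSup_pCore
  exact Group.nilpotent_of_mulEquiv ((Cfsg.fittingSubgroup M).equivMapOfInjective M.subtype M.subtype_injective)

theorem mem_coreP_of_mem_fittingOf {r : ℕ} [Fact r.Prime] {M : Subgroup G} {x : G} (hx : x ∈ Cfsg.fittingOf M)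
    (hr : ∃ j, x ^ r ^ j = 1) : x ∈ coreP r M := by
  obtain ⟨y, hy, rfl⟩ := hx
  refine ⟨y, ?_, rfl⟩
  have hN : Group.IsNilpotent (Cfsg.fittingSubgroup M) := by
    rw [Basics.fittingSubgroup_eq_iSup_pCore]; exact Basics.isNilpotent_iSup_pCore
  have hNn : (Cfsg.fittingSubgroup M).Normal := by
    rw [Subgroup.normalizer_eq_top_iff.symm, ← top_le_iff]
    intro g _
    rw [Subgroup.mem_normalizer_iff]
    intro n
    have h := Subgroup.mem_normalizer_iff.mp (le_normalizer_fittingOf M g.2) (n : G)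
    constructor
    · intro hn
      obtain ⟨z, hz, e⟩ := h.mp ⟨n, hn, rfl⟩
      exact (Subtype.ext e : z = g * n * g⁻¹) ▸ hz
    · intro hn
      obtain ⟨z, hz, e⟩ := h.mpr ⟨_, hn, rfl⟩
      exact (Subtype.ext e : z = n) ▸ hz
  obtain ⟨j, hj⟩ := hr
  have hp : IsPGroup r (Subgroup.zpowers (⟨y, hy⟩ : Cfsg.fittingSubgroup M)) := by
    refine IsPGroup.of_card_dvd_pow (n := j) ?_
    rw [Nat.card_zpowers]
    refine orderOf_dvd_of_pow_eq_one (Subtype.ext (Subtype.ext ?_))
    exact hj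
  obtain ⟨S, hS⟩ := hp.exists_le_sylow
  have hSn : (S : Subgroup (Cfsg.fittingSubgroup M)).Normal :=
    S.normal_of_normalizerCondition Group.normalizerCondition_of_isNilpotent
  have hSc := S.characteristic_of_normal hSn
  have : ((S : Subgroup (Cfsg.fittingSubgroup M)).map (Cfsg.fittingSubgroup M).subtype).Normal :=
    ConjAct.normal_of_characteristic_of_normal
  exact Basics.le_pCore (N := (S : Subgroup (Cfsg.fittingSubgroup M)).map (Cfsg.fittingSubgroup M).subtype)
    (S.2.map _) ⟨⟨y, hy⟩, hS (Subgroup.mem_zpowers _), rfl⟩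

theorem centralizer_fittingOf_le {M : Subgroup G} (hM : Group.IsSolvable M) :
    M ⊓ Subgroup.centralizer (Cfsg.fittingOf M : Set G) ≤ Cfsg.fittingOf M := by
  rintro x ⟨hx, hxC⟩
  refine ⟨⟨x, hx⟩, Basics.centralizer_fittingSubgroup_le (G := M) ?_, rfl⟩
  rw [Subgroup.mem_centralizer_iff]
  exact fun y hy => Subtype.ext (Subgroup.mem_centralizer_iff.mp hxC _ ⟨y, hy, rfl⟩)

theorem mem_centralizer_fittingOf {M : Subgroup G} {x : G}
    (h : ∀ (r : ℕ), r.Prime → ∀ f ∈ coreP r M, Commute x f) :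
    x ∈ Subgroup.centralizer (Cfsg.fittingOf M : Set G) := by
  have : Cfsg.fittingOf M ≤ Subgroup.centralizer ({x} : Set G) := by
    rw [fittingOf_eq_iSup]
    exact iSup_le fun r f hf => Subgroup.mem_centralizer_singleton_iff.mpr (h r r.2 f hf).eq.symm
  rw [Subgroup.mem_centralizer_iff]
  exact fun f hf => Subgroup.mem_centralizer_singleton_iff.mp (this hf)

theorem commute_coreP {r s : ℕ} [Fact r.Prime] [Fact s.Prime] (h : r ≠ s) {M : Subgroup G} {x y : G}
    (hx : x ∈ coreP r M) (hy : y ∈ coreP s M) : Commute x y := by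
  obtain ⟨a, ha, rfl⟩ := hx
  obtain ⟨b, hb, rfl⟩ := hy
  exact (Basics.commute_pCore h ha hb).map M.subtype

/-- Prime parts can be chosen in the preimage. -/
theorem exists_rElement_lift {H : Type*} [Group H] {r : ℕ} [hr : Fact r.Prime] (f : G →* H) (x : G)
    (h : ∃ j, f x ^ r ^ j = 1) : ∃ e : ℕ, f (x ^ e) = f x ∧ ∃ i, (x ^ e) ^ r ^ i = 1 := by
  obtain ⟨j, hj⟩ := h
  obtain ⟨a, m, hm, he⟩ := Nat.exists_eq_pow_mul_and_not_dvd (orderOf_pos x).ne' r hr.out.ne_one
  have hcop : Nat.Coprime m (r ^ j) := ((hr.out.coprime_iff_not_dvd.mpr hm).symm).pow_right j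
  obtain ⟨e, he0, he1⟩ := Nat.chineseRemainder hcop 0 1
  refine ⟨e, ?_, a, ?_⟩
  · rw [map_pow]
    conv_rhs => rw [← pow_one (f x)]
    exact pow_eq_pow_iff_modEq.mpr (he1.of_dvd (orderOf_dvd_of_pow_eq_one hj))
  · obtain ⟨k, hk⟩ := Nat.modEq_zero_iff_dvd.mp he0
    rw [← pow_mul, hk, show m * k * r ^ a = (r ^ a * m) * k by ring, ← he, pow_mul, pow_orderOf_eq_one, one_pow]

theorem pPrimeCoreIn_le_centralizer {p : ℕ} [hp : Fact p.Prime] {X T : Subgroup G} (hX : Group.IsSolvable X)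
    (hT : IsPGroup p T) (hTX : T ≤ X)
    (hcomm : ∀ s : ℕ, s.Prime → s ≠ p → ∀ u ∈ coreP s X, ∀ t ∈ T, Commute t u) :
    pPrimeCoreIn p X ≤ Subgroup.centralizer (T : Set G) := by
  rintro _ ⟨y, hy, rfl⟩
  change (y : G) ∈ Subgroup.centralizer _
  rw [Subgroup.mem_centralizer_iff]
  intro t ht
  set K := Cfsg.pPrimeCore p X with hK
  set t' : X := ⟨t, hTX ht⟩ with ht'
  set W := ⨆ s : {s : Nat.Primes // (s : ℕ) ≠ p}, Cfsg.pCore ((s : Nat.Primes) : ℕ) X with hW
  have hWK : W ≤ K := iSup_le fun s => by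
    have : Fact ((s : Nat.Primes) : ℕ).Prime := ⟨s.1.2⟩
    obtain ⟨n, hn⟩ := IsPGroup.iff_card.mp (Basics.pCore_isPGroup (G := X) ((s : Nat.Primes) : ℕ))
    refine Basics.le_pPrimeCore ?_
    rw [hn]
    exact ((Nat.coprime_primes s.1.2 hp.out).mpr s.2).pow_left n
  have hWt : ∀ w ∈ W, Commute t' w := by
    have : W ≤ Subgroup.centralizer ({t'} : Set X) := iSup_le fun s u hu =>
      Subgroup.mem_centralizer_singleton_iff.mpr (Subtype.ext
        (hcomm _ s.1.2 s.2 _ ⟨u, hu, rfl⟩ t ht).eq.symm)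
    exact fun w hw => (Subgroup.mem_centralizer_singleton_iff.mp (this hw)).symm
  set c := y⁻¹ * (t' * y * t'⁻¹) with hc
  have hcK : c ∈ K := mul_mem (inv_mem hy) (Subgroup.Normal.conj_mem inferInstance y hy t')
  have hcF : c ∈ Subgroup.centralizer (Cfsg.fittingSubgroup X : Set X) := by
    rw [Basics.fittingSubgroup_eq_iSup_pCore, ← Subgroup.zpowers_le, Subgroup.le_centralizer_iff]
    refine iSup_le fun s u hu => ?_
    have : Fact (s : ℕ).Prime := ⟨s.2⟩
    rw [Subgroup.mem_centralizer_iff]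
    rintro _ ⟨i, rfl⟩
    refine (Commute.zpow_left ?_ i).eq
    by_cases hs : (s : ℕ) = p
    · refine Subgroup.commute_of_normal_of_disjoint K (Cfsg.pCore (s : ℕ) X) inferInstance inferInstance ?_ c u hcK hu
      obtain ⟨n, hn⟩ := IsPGroup.iff_card.mp (Basics.pCore_isPGroup (G := X) (s : ℕ))
      refine Subgroup.disjoint_of_coprime_natCard ?_
      rw [hn, hs]
      exact (Basics.pPrimeCore_coprime p).pow_right n
    · have hmem : ∀ v ∈ Cfsg.pCore (s : ℕ) X, Commute t' v := fun v hv =>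
        hWt v (le_iSup (fun s : {s : Nat.Primes // (s : ℕ) ≠ p} => Cfsg.pCore ((s : Nat.Primes) : ℕ) X) ⟨s, hs⟩ hv)
      -- `c = y⁻¹ (t y t⁻¹)` and `t` fixes `O_s(X)` pointwise
      have h1 : y * u * y⁻¹ ∈ Cfsg.pCore (s : ℕ) X := Subgroup.Normal.conj_mem inferInstance u hu y
      have e1 := (hmem _ h1).eq
      have e2 := (hmem _ hu).eq
      change c * u = u * c
      have e3 : t' * u * t'⁻¹ = u := by rw [e2, mul_inv_cancel_right]
      have e4 : t'⁻¹ * u * t' = u := by rw [mul_assoc, ← e2, inv_mul_cancel_left]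
      calc c * u = y⁻¹ * (t' * (y * (t'⁻¹ * u * t') * y⁻¹)) * y * t'⁻¹ := by rw [hc]; group
        _ = y⁻¹ * (t' * (y * u * y⁻¹)) * y * t'⁻¹ := by rw [e4]
        _ = y⁻¹ * ((y * u * y⁻¹) * t') * y * t'⁻¹ := by rw [e1]
        _ = u * c := by rw [hc]; group
  have hcFit := Basics.centralizer_fittingSubgroup_le hcF
  -- the `p`-part of `c` lies in `K`, hence is trivial
  have hFle : Cfsg.fittingSubgroup X ≤ Cfsg.pCore p X ⊔ W := by
    rw [Basics.fittingSubgroup_eq_iSup_pCore]
    refine iSup_le fun s => ?_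
    by_cases hs : (s : ℕ) = p
    · rw [hs]; exact le_sup_left
    · exact le_trans (le_iSup (fun s : {s : Nat.Primes // (s : ℕ) ≠ p} => Cfsg.pCore ((s : Nat.Primes) : ℕ) X) ⟨s, hs⟩) le_sup_right
  obtain ⟨u, hu, w, hw, hcw⟩ := (Basics.mem_sup_of_le_normalizer (N := Cfsg.pCore p X) (H := W)
    (by rw [Subgroup.normalizer_eq_top]; exact le_top)).mp (hFle hcFit)
  have hu1 : u ∈ K ⊓ Cfsg.pCore p X := ⟨by
    have : u = c * w⁻¹ := by rw [hcw, mul_inv_cancel_right]
    rw [this]; exact K.mul_mem hcK (K.inv_mem (hWK hw)), hu⟩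
  obtain ⟨n, hn⟩ := IsPGroup.iff_card.mp (Basics.pCore_isPGroup (G := X) p)
  rw [(Subgroup.disjoint_of_coprime_natCard (by rw [hn]; exact (Basics.pPrimeCore_coprime p).pow_right n)).eq_bot,
    Subgroup.mem_bot] at hu1
  have hcw' : c = w := by rw [hcw, hu1, one_mul]
  have hct : Commute t' c := hcw' ▸ hWt w hw
  -- coprime chain
  have hpow : ∀ k : ℕ, t' ^ k * y = y * c ^ k * t' ^ k := by
    intro k
    induction k with
    | zero => simp
    | succ k ih =>
      have h1 : t' * y = y * c * t' := by rw [hc]; group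
      calc t' ^ (k + 1) * y = t' * (t' ^ k * y) := by rw [pow_succ', mul_assoc]
        _ = t' * y * c ^ k * t' ^ k := by rw [ih]; simp [mul_assoc]
        _ = y * c * (t' * c ^ k) * t' ^ k := by rw [h1]; simp [mul_assoc]
        _ = y * c * (c ^ k * t') * t' ^ k := by rw [(hct.pow_right k).eq]
        _ = y * c ^ (k + 1) * t' ^ (k + 1) := by rw [pow_succ', pow_succ']; simp [mul_assoc]
  obtain ⟨j, hj⟩ := hT ⟨t, ht⟩
  have hj' : t' ^ p ^ j = 1 := Subtype.ext (congrArg Subtype.val hj :)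
  have h5 := hpow (p ^ j)
  rw [hj', one_mul, mul_one] at h5
  have hcp : c ^ p ^ j = 1 := mul_eq_left.mp h5.symm
  have hc1 : c = 1 := LocalEvenA.eq_one_of_pPow_of_coprime hcp
    ((Basics.pPrimeCore_coprime (G := X) p).coprime_dvd_left (by
      rw [← Subgroup.orderOf_mk c hcK]; exact _root_.orderOf_dvd_natCard _))
  rw [hc, inv_mul_eq_one] at hc1
  have h6 : t * (y : G) * t⁻¹ = y := congrArg Subtype.val hc1.symm
  exact mul_inv_eq_iff_eq_mul.mp h6

theorem isSubnormal_of_isNilpotent [Group.IsNilpotent G] (H : Subgroup G) : H.IsSubnormal := by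
  induction H using WellFoundedGT.induction with
  | _ H ih =>
  rcases eq_or_ne H ⊤ with rfl | hH
  · exact Subgroup.IsSubnormal.top
  have hlt := (Group.normalizerCondition_of_isNilpotent (G := G)) H (lt_top_iff_ne_top.mpr hH)
  exact Subgroup.IsSubnormal.step H (Subgroup.normalizer (H : Set G)) hlt.le (ih _ hlt)
    ((Subgroup.normal_subgroupOf_iff_le_normalizer hlt.le).mpr le_rfl)

end Cfsg.Agent.OddLocal
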