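import Cfsg.Agent.Lib.OddLocal.UniqueC
import Cfsg.Agent.Lib.OddLocal.FitFacts
import Cfsg.Agent.Lib.Basics.CoprimeAction

/-! The centralizer in `F(M)` of a normal rank-three subgroup is a uniqueness subgroup. -/

set_option autoImplicit false
set_option maxHeartbeats 1600000

namespace Cfsg.Agent.OddLocal

open scoped commutatorElement

variable {G : Type*} [Group G] [Finite G]

theorem le_of_pElements_mem {X H : Subgroup G}
    (h : ∀ s : ℕ, s.Prime → ∀ b ∈ X, (∃ j, b ^ s ^ j = 1) → b ∈ H) : X ≤ H := by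
  have hdvd : Nat.card X ∣ Nat.card ↥(X ⊓ H) := by
    rw [← Nat.factorization_le_iff_dvd Nat.card_pos.ne' Nat.card_pos.ne']
    intro s
    by_cases hs : s.Prime
    swap; · simp [Nat.factorization_eq_zero_of_not_prime _ hs]
    have : Fact s.Prime := ⟨hs⟩
    let S : Sylow s X := default
    have hle : (S : Subgroup X).map X.subtype ≤ X ⊓ H := by
      rintro _ ⟨b, hb, rfl⟩
      obtain ⟨j, hj⟩ := S.2 ⟨b, hb⟩
      refine ⟨b.2, h s hs b b.2 ⟨j, ?_⟩⟩
      exact congrArg (fun z : (S : Subgroup X) => ((z : X) : G)) hj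
    have h1 := Subgroup.card_dvd_of_le hle
    rw [Subgroup.card_map_of_injective X.subtype_injective, S.card_eq_multiplicity] at h1
    exact (hs.pow_dvd_iff_le_factorization Nat.card_pos.ne').mp h1
  exact (Subgroup.eq_of_le_of_card_ge inf_le_left (Nat.le_of_dvd Nat.card_pos hdvd)).ge.trans inf_le_right

theorem normalizer_le_normalizer_centralizer (S : Subgroup G) :
    Subgroup.normalizer (S : Set G) ≤ Subgroup.normalizer ((Subgroup.centralizer (S : Set G) : Subgroup G) : Set G) := by
  intro g hg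
  have h := Subgroup.mem_normalizer_iff.mp hg
  rw [Subgroup.mem_normalizer_iff]
  intro n
  rw [Subgroup.mem_centralizer_iff, Subgroup.mem_centralizer_iff]
  constructor
  · intro hn b hb
    have := hn _ ((h (g⁻¹ * b * g)).mpr (by simpa [mul_assoc] using hb))
    calc b * (g * n * g⁻¹) = g * (g⁻¹ * b * g * n) * g⁻¹ := by group
      _ = g * (n * (g⁻¹ * b * g)) * g⁻¹ := by rw [this]
      _ = g * n * g⁻¹ * b := by group
  · intro hn b hb
    have := hn _ ((h b).mp hb)
    calc b * n = g⁻¹ * (g * b * g⁻¹ * (g * n * g⁻¹)) * g := by group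
      _ = g⁻¹ * (g * n * g⁻¹ * (g * b * g⁻¹)) * g := by rw [this]
      _ = n * b := by group

theorem le_normalizer_inf' {H K : Subgroup G} :
    Subgroup.normalizer (H : Set G) ⊓ Subgroup.normalizer (K : Set G) ≤
      Subgroup.normalizer ((H ⊓ K : Subgroup G) : Set G) := by
  intro g hg
  rw [Subgroup.mem_normalizer_iff]
  intro n
  exact Subgroup.mem_inf.trans ((and_congr (Subgroup.mem_normalizer_iff.mp hg.1 n)
    (Subgroup.mem_normalizer_iff.mp hg.2 n)).trans Subgroup.mem_inf.symm)

/-- `C_F(E)` for the Fitting subgroup `F` of `M`. -/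
def fitC (M E : Subgroup G) : Subgroup G := Cfsg.fittingOf M ⊓ Subgroup.centralizer (E : Set G)

variable {p : ℕ} [hp : Fact p.Prime] {M E : Subgroup G}

theorem coreP_le_fitC (hEF : E ≤ coreP p M) {s : ℕ} [Fact s.Prime] (hs : s ≠ p) : coreP s M ≤ fitC M E := by
  refine le_inf (coreP_le_fittingOf s M) fun x hx => ?_
  rw [Subgroup.mem_centralizer_iff]
  exact fun e he => (commute_coreP hs hx (hEF he)).eq.symm

theorem E_le_fitC (hEF : E ≤ coreP p M) (hEe : IsElementaryAbelian p E) : E ≤ fitC M E :=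
  le_inf (hEF.trans (coreP_le_fittingOf p M)) (Subgroup.le_centralizer_iff_isMulCommutative.mpr hEe.1)

/-- A `p'`-element centralizing `C_{F_p}(E)` centralizes `F_p`. -/
theorem commute_coreP_of_commute_fitC (hEF : E ≤ coreP p M) (hEe : IsElementaryAbelian p E) {x : G} (hx : x ∈ M)
    (hxo : (orderOf x).Coprime p)
    (h : ∀ a ∈ coreP p M ⊓ Subgroup.centralizer (E : Set G), Commute x a) : ∀ f ∈ coreP p M, Commute x f := by
  set U := coreP p M with hU
  set P := U ⊓ Subgroup.centralizer (E : Set G) with hP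
  have hxC : P ≤ Subgroup.centralizer (Subgroup.zpowers x : Set G) := by
    intro a ha
    rw [Subgroup.mem_centralizer_iff]
    rintro _ ⟨i, rfl⟩
    exact ((h a ha).zpow_left i).eq
  have key := Basics.pq_lemma p P (Subgroup.zpowers x) U ((isPGroup_coreP p M).to_le inf_le_left)
    (by rw [Nat.card_zpowers]; exact hxo) (isPGroup_coreP p M) hxC (inf_le_left.trans Subgroup.le_normalizer)
    ((Subgroup.zpowers_le.mpr hx).trans (le_normalizer_coreP p M))
    (fun u hu => hxC ⟨hu.1, by
      change u ∈ Subgroup.centralizer _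
      rw [Subgroup.mem_centralizer_iff]
      exact fun e he => Subgroup.mem_centralizer_iff.mp hu.2 e
        ⟨hEF he, Subgroup.le_centralizer_iff_isMulCommutative.mpr hEe.1 he⟩⟩)
  exact fun f hf => (Subgroup.mem_centralizer_iff.mp (key (Subgroup.mem_zpowers x)) f hf).symm

/-- Prime-power elements of `M` centralizing `C_F(E)` lie in it. -/
theorem mem_fitC_of_centralizes (hM : Group.IsSolvable M) (hodd : Odd (Nat.card M)) (hp2 : p ≠ 2)
    (hEF : E ≤ coreP p M) (hEe : IsElementaryAbelian p E)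
    (hEn : coreP p M ≤ Subgroup.normalizer (E : Set G)) {r : ℕ} (hr : r.Prime) {y : G} (hy : y ∈ M)
    (hyr : ∃ j, y ^ r ^ j = 1) (hyA : y ∈ Subgroup.centralizer (fitC M E : Set G)) : y ∈ fitC M E := by
  have : Fact r.Prime := ⟨hr⟩
  have hAp : coreP p M ⊓ Subgroup.centralizer (E : Set G) ≤ fitC M E :=
    inf_le_inf_right _ (coreP_le_fittingOf p M)
  have hcomA : ∀ a ∈ fitC M E, Commute y a := fun a ha => (Subgroup.mem_centralizer_iff.mp hyA a ha).symm
  have hcomW : ∀ s : ℕ, s.Prime → s ≠ p → ∀ f ∈ coreP s M, Commute y f := fun s hs hsp f hf => by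
    have : Fact s.Prime := ⟨hs⟩
    exact hcomA f (coreP_le_fitC hEF hsp hf)
  have hyC : y ∈ Subgroup.centralizer (E : Set G) :=
    Subgroup.centralizer_le (E_le_fitC hEF hEe) hyA
  refine ⟨?_, hyC⟩
  rcases eq_or_ne r p with rfl | hrp
  swap
  · refine centralizer_fittingOf_le hM ⟨hy, mem_centralizer_fittingOf fun s hs f hf => ?_⟩
    rcases eq_or_ne s p with rfl | hsp
    · refine commute_coreP_of_commute_fitC hEF hEe hy ?_ (fun a ha => hcomA a (hAp ha)) f hf
      obtain ⟨j, hj⟩ := hyr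
      exact Nat.Coprime.coprime_dvd_left (orderOf_dvd_of_pow_eq_one hj)
        (((Nat.coprime_primes hr hs).mpr hrp).pow_left j)
    · exact hcomW s hs hsp f hf
  -- `y` is a `p`-element
  set C := Subgroup.centralizer (Cfsg.pCore r M : Set M) with hC
  have hCn : C.Normal := Subgroup.normal_centralizer
  set W := ⨆ s : {s : Nat.Primes // (s : ℕ) ≠ r}, Cfsg.pCore ((s : Nat.Primes) : ℕ) M with hW
  have hWn : W.Normal := by
    refine Subgroup.normalizer_eq_top_iff.mp (top_le_iff.mp fun g _ => ?_)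
    rw [Subgroup.mem_normalizer_iff_map_conj_eq]
    change Subgroup.map (MulAut.conj g).toMonoidHom _ = _
    rw [Subgroup.map_iSup]
    refine iSup_congr fun s => ?_
    exact Subgroup.mem_normalizer_iff_map_conj_eq.mp (by rw [Subgroup.normalizer_eq_top]; exact Subgroup.mem_top g)
  have hCWn : (Subgroup.centralizer (W : Set M)).Normal := Subgroup.normal_centralizer
  set R := (Cfsg.pCore r (M ⧸ C)).comap (QuotientGroup.mk' C) ⊓ Subgroup.centralizer (W : Set M) with hR
  have hRn : R.Normal := inferInstance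
  have hWK : W ≤ Cfsg.pPrimeCore r M := iSup_le fun s => by
    have : Fact ((s : Nat.Primes) : ℕ).Prime := ⟨s.1.2⟩
    obtain ⟨n, hn⟩ := IsPGroup.iff_card.mp (Basics.pCore_isPGroup (G := M) ((s : Nat.Primes) : ℕ))
    refine Basics.le_pPrimeCore ?_
    rw [hn]
    exact ((Nat.coprime_primes s.1.2 hr).mpr s.2).pow_left n
  have hFle : Cfsg.fittingSubgroup M ≤ Cfsg.pCore r M ⊔ W := by
    rw [Basics.fittingSubgroup_eq_iSup_pCore]
    refine iSup_le fun s => ?_
    by_cases hs : (s : ℕ) = r
    · rw [hs]; exact le_sup_left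
    · exact le_trans (le_iSup (fun s : {s : Nat.Primes // (s : ℕ) ≠ r} => Cfsg.pCore ((s : Nat.Primes) : ℕ) M) ⟨s, hs⟩) le_sup_right
  have hdisj : Disjoint (Cfsg.pCore r M) W := by
    obtain ⟨n, hn⟩ := IsPGroup.iff_card.mp (Basics.pCore_isPGroup (G := M) r)
    refine Disjoint.mono_right hWK (Subgroup.disjoint_of_coprime_natCard ?_)
    rw [hn]
    exact ((Basics.pPrimeCore_coprime (G := M) r).symm).pow_left n
  have hcent : ∀ x ∈ R, (orderOf x).Coprime r → ∀ g ∈ R, g * x = x * g := by
    intro x hx hxo g hg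
    have hxC : x ∈ C := by
      obtain ⟨j, hj⟩ := Basics.pCore_isPGroup (G := M ⧸ C) r ⟨_, hx.1⟩
      exact (QuotientGroup.eq_one_iff x).mp (LocalEvenA.eq_one_of_pPow_of_coprime (congrArg Subtype.val hj)
        (hxo.coprime_dvd_left (orderOf_map_dvd (QuotientGroup.mk' C) x)))
    have hxF : x ∈ Cfsg.fittingSubgroup M := by
      refine Basics.centralizer_fittingSubgroup_le (G := M) ?_
      have : Cfsg.fittingSubgroup M ≤ Subgroup.centralizer ({x} : Set M) := hFle.trans (sup_le
        (fun f hf => Subgroup.mem_centralizer_singleton_iff.mpr (Subgroup.mem_centralizer_iff.mp hxC f hf))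
        (fun f hf => Subgroup.mem_centralizer_singleton_iff.mpr (Subgroup.mem_centralizer_iff.mp hx.2 f hf)))
      rw [Subgroup.mem_centralizer_iff]
      exact fun f hf => Subgroup.mem_centralizer_singleton_iff.mp (this hf)
    obtain ⟨u, hu, w, hw, huw⟩ := (Basics.mem_sup_of_le_normalizer (N := Cfsg.pCore r M) (H := W)
      (by rw [Subgroup.normalizer_eq_top]; exact le_top)).mp (hFle hxF)
    have hcuw : Commute u w := Subgroup.commute_of_normal_of_disjoint (Cfsg.pCore r M) W inferInstance hWn hdisj u w hu hw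
    have hpow : u ^ orderOf x * w ^ orderOf x = 1 := by
      rw [← hcuw.mul_pow, ← huw, pow_orderOf_eq_one]
    have hu1 : u ^ orderOf x = 1 := Subgroup.disjoint_def.mp hdisj (pow_mem hu _)
      (by rw [eq_inv_of_mul_eq_one_left hpow]; exact inv_mem (pow_mem hw _))
    obtain ⟨j, hj⟩ := Basics.pCore_isPGroup (G := M) r ⟨u, hu⟩
    have hu0 : u = 1 := LocalEvenA.eq_one_of_pPow_of_coprime (congrArg Subtype.val hj)
      (hxo.coprime_dvd_left (orderOf_dvd_of_pow_eq_one hu1))
    rw [hu0, one_mul] at huw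
    rw [huw]
    exact (Subgroup.mem_centralizer_iff.mp hg.2 w hw).symm
  have hRnil : Group.IsNilpotent R := by
    have hq : IsPGroup r ((⊤ : Subgroup R).map (QuotientGroup.mk' (Subgroup.center R))) :=
      isPGroup_map_mk'_of fun x _ hxo => Subgroup.mem_center_iff.mpr fun g =>
        Subtype.ext (hcent x x.2 (by rwa [Subgroup.orderOf_coe]) g g.2)
    rw [Subgroup.map_top_of_surjective _ (QuotientGroup.mk'_surjective _)] at hq
    have : Group.IsNilpotent (R ⧸ Subgroup.center R) := (hq.of_equiv Subgroup.topEquiv).isNilpotent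
    exact Subgroup.isNilpotent_of_ker_le_center (QuotientGroup.mk' (Subgroup.center R)) (QuotientGroup.ker_mk' _).le
  refine ⟨⟨y, hy⟩, Basics.le_fittingSubgroup hRnil ⟨?_, ?_⟩, rfl⟩
  · refine quadratic_mem_pCore hodd hp2 (Cfsg.pCore r M) (Basics.pCore_isPGroup r) C rfl _ fun f hf => Subtype.ext ?_
    have hfP : (f : G) ∈ coreP r M := ⟨f, hf, rfl⟩
    set c := y * (f : G) * y⁻¹ * (f : G)⁻¹ with hc
    change y * c = c * y
    refine (hcomA c ⟨coreP_le_fittingOf r M ?_, ?_⟩).eq
    · exact Subgroup.mul_mem _ ((Subgroup.mem_normalizer_iff.mp (le_normalizer_coreP r M hy) _).mp hfP)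
        (Subgroup.inv_mem _ hfP)
    · change c ∈ Subgroup.centralizer _
      rw [Subgroup.mem_centralizer_iff]
      intro e he
      have he' : (f : G)⁻¹ * e * f ∈ E := by
        have := (Subgroup.mem_normalizer_iff.mp (inv_mem (hEn hfP)) e).mp he
        simpa using this
      have h1 := Subgroup.mem_centralizer_iff.mp hyC e he
      have h2 := Subgroup.mem_centralizer_iff.mp hyC _ he'
      rw [hc]
      calc e * (y * (f : G) * y⁻¹ * (f : G)⁻¹) = (e * y) * (f : G) * y⁻¹ * (f : G)⁻¹ := by group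
        _ = (y * e) * (f : G) * y⁻¹ * (f : G)⁻¹ := by rw [h1]
        _ = y * (f : G) * y⁻¹ * (y * ((f : G)⁻¹ * e * f)) * y⁻¹ * (f : G)⁻¹ := by group
        _ = y * (f : G) * y⁻¹ * (((f : G)⁻¹ * e * f) * y) * y⁻¹ * (f : G)⁻¹ := by rw [h2]
        _ = y * (f : G) * y⁻¹ * (f : G)⁻¹ * e := by group
  · have hle : W ≤ Subgroup.centralizer ({⟨y, hy⟩} : Set M) := iSup_le fun s f hf =>
      Subgroup.mem_centralizer_singleton_iff.mpr (Subtype.ext (hcomW _ s.1.2 s.2 f ⟨f, hf, rfl⟩).eq.symm)
    change (⟨y, hy⟩ : M) ∈ Subgroup.centralizer _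
    rw [Subgroup.mem_centralizer_iff]
    exact fun w hw => Subgroup.mem_centralizer_singleton_iff.mp (hle hw)

/-- Main theorem: `C_F(E)` lies in a unique maximal subgroup. -/
theorem inUniqueMaximal_fitC (hG : IsMinSimpleOddOrder G) (hM : IsCoatom M)
    (hEF : E ≤ coreP p M) (hEe : IsElementaryAbelian p E) (hE3 : p ^ 2 < Nat.card E)
    (hEn : coreP p M ≤ Subgroup.normalizer (E : Set G))
    {q : ℕ} (hq : q.Prime) (hqp : q ≠ p) (hq1 : coreP q M ≠ ⊥) :
    InUniqueMaximal (fitC M E) := by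
  classical
  have hsol := isSolvable_of_ne_top hG hM.1
  have hE1 : E ≠ ⊥ := by
    rintro rfl
    rw [Subgroup.card_bot] at hE3
    exact absurd hE3 (not_lt.mpr (Nat.one_le_pow _ _ hp.out.pos))
  have hp2 : p ≠ 2 := by
    refine prime_ne_two hG (Dvd.dvd.trans ?_ E.card_subgroup_dvd_card)
    rcases (isPGroup_of_exponent hEe.2).card_eq_or_dvd with e | e
    · exact absurd (Subgroup.eq_bot_of_card_eq E e) hE1
    · exact e
  set F := Cfsg.fittingOf M with hF
  set A := fitC M E with hA
  have hAF : A ≤ F := inf_le_left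
  have hEA : E ≤ A := E_le_fitC hEF hEe
  have hAM : A ≤ M := hAF.trans (fittingOf_le M)
  have hA1 : A ≠ ⊥ := fun e => hE1 (le_bot_iff.mp (e ▸ hEA))
  have hAtop : A ≠ ⊤ := fun e => hM.1 (top_le_iff.mp (e ▸ hAM))
  have hnorm : ∀ {S : Subgroup G}, S ≤ M → S ≠ ⊥ → M ≤ Subgroup.normalizer (S : Set G) →
      Subgroup.normalizer (S : Set G) = M := by
    intro S hS hS1 hle
    rcases lt_or_eq_of_le hle with h1 | h1
    · exact absurd (hM.2 _ h1) (normalizer_ne_top hG hS1 fun e => hM.1 (top_le_iff.mp (e ▸ hS)))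
    · exact h1.symm
  have mem_A := fun {r : ℕ} (hr : r.Prime) {y : G} (hy : y ∈ M) =>
    mem_fitC_of_centralizes (E := E) hsol (odd_card_subgroup hG M) hp2 hEF hEe hEn hr (y := y) hy
  -- the primes of `A`
  have hpi : ∀ r : ℕ, r.Prime → r ∣ Nat.card F → coreP r M ≠ ⊥ := by
    intro r hr hd h
    have : Fact r.Prime := ⟨hr⟩
    obtain ⟨x, hx⟩ := exists_prime_orderOf_dvd_card' (G := F) r hd
    have hxo : orderOf (x : G) = r := (Subgroup.orderOf_coe x).trans hx
    have := mem_coreP_of_mem_fittingOf (r := r) x.2 ⟨1, by rw [pow_one, ← hxo, pow_orderOf_eq_one]⟩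
    rw [h, Subgroup.mem_bot] at this
    rw [this, orderOf_one] at hxo
    exact hr.ne_one hxo.symm
  have hAr : ∀ r : ℕ, r.Prime → coreP r M ≠ ⊥ → coreP r M ⊓ Subgroup.centralizer (E : Set G) ≠ ⊥ := by
    intro r hr h1 h2
    have : Fact r.Prime := ⟨hr⟩
    rcases eq_or_ne r p with rfl | hrp
    · exact hE1 (le_bot_iff.mp (h2 ▸ le_inf hEF (Subgroup.le_centralizer_iff_isMulCommutative.mpr hEe.1)))
    · exact h1 (le_bot_iff.mp (h2 ▸ le_inf le_rfl ((coreP_le_fitC hEF hrp).trans inf_le_right)))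
  have hdvd : ∀ r : ℕ, r.Prime → coreP r M ≠ ⊥ → r ∣ Nat.card A := by
    intro r hr h1
    have : Fact r.Prime := ⟨hr⟩
    rcases ((isPGroup_coreP r M).to_le (inf_le_left :
      coreP r M ⊓ Subgroup.centralizer (E : Set G) ≤ coreP r M)).card_eq_or_dvd with e | e
    · exact absurd (Subgroup.eq_bot_of_card_eq _ e) (hAr r hr h1)
    · exact e.trans (Subgroup.card_dvd_of_le (inf_le_inf_right _ (coreP_le_fittingOf r M)))
  -- centralizers of the parts of `A` lie in `M`
  have hCM : ∀ r : ℕ, r.Prime → coreP r M ≠ ⊥ →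
      Subgroup.centralizer ((coreP r M ⊓ Subgroup.centralizer (E : Set G) : Subgroup G) : Set G) ≤ M := by
    intro r hr h1
    have : Fact r.Prime := ⟨hr⟩
    set Z := coreP r M ⊓ Subgroup.centralizer (coreP r M : Set G) with hZ
    have hZle : Z ≤ coreP r M ⊓ Subgroup.centralizer (E : Set G) := by
      refine le_inf inf_le_left fun z hz => ?_
      rw [Subgroup.mem_centralizer_iff]
      intro e he
      rcases eq_or_ne r p with rfl | hrp
      · exact Subgroup.mem_centralizer_iff.mp hz.2 e (hEF he)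
      · exact (commute_coreP hrp hz.1 (hEF he)).eq.symm
    have hZ1 : Z ≠ ⊥ := by
      have : Nontrivial (coreP r M) := (Subgroup.nontrivial_iff_ne_bot _).mpr h1
      have := (isPGroup_coreP r M).center_nontrivial
      obtain ⟨z, hz⟩ := exists_ne (1 : Subgroup.center (coreP r M))
      intro e
      have hmem : ((z : coreP r M) : G) ∈ Z := ⟨(z : coreP r M).2, Subgroup.mem_centralizer_iff.mpr fun w hw =>
        congrArg Subtype.val (Subgroup.mem_center_iff.mp z.2 ⟨w, hw⟩)⟩
      rw [e, Subgroup.mem_bot] at hmem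
      exact hz (Subtype.ext (Subtype.ext hmem))
    have hZn : M ≤ Subgroup.normalizer (Z : Set G) := (le_inf (le_normalizer_coreP r M)
      ((le_normalizer_coreP r M).trans (normalizer_le_normalizer_centralizer _))).trans le_normalizer_inf'
    refine (Subgroup.centralizer_le hZle).trans ?_
    exact (Subgroup.centralizer_le_normalizer (Z : Set G)).trans
      (hnorm (inf_le_left.trans (coreP_le r M)) hZ1 hZn).le
  have hcopA : ∀ Y : Subgroup G, (∀ r : ℕ, r.Prime → r ∣ Nat.card Y → ¬ r ∣ Nat.card A) →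
      (Nat.card A).Coprime (Nat.card Y) := fun Y h => Nat.coprime_of_dvd fun r hr h1 h2 => h r hr h2 h1
  have hFn : M ≤ Subgroup.normalizer (F : Set G) := le_normalizer_fittingOf M
  -- no invariant subgroups inside `M`
  have hinvM : ∀ Y : Subgroup G, Y ≤ M → (∀ r : ℕ, r.Prime → r ∣ Nat.card Y → ¬ r ∣ Nat.card A) →
      A ≤ Subgroup.normalizer (Y : Set G) → Y = ⊥ := by
    intro Y hYM hYπ hAY
    have hdisj : F ⊓ Y = ⊥ := (Subgroup.disjoint_of_coprime_natCard (Nat.coprime_of_dvd
      fun r hr h1 h2 => hYπ r hr h2 (hdvd r hr (hpi r hr h1)))).eq_bot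
    by_contra hY1
    obtain ⟨r, hr, hrY⟩ := Nat.exists_prime_and_dvd (fun e => hY1 (Subgroup.eq_bot_of_card_eq Y e))
    have : Fact r.Prime := ⟨hr⟩
    obtain ⟨y, hy⟩ := exists_prime_orderOf_dvd_card' (G := Y) r hrY
    have hyo : orderOf (y : G) = r := (Subgroup.orderOf_coe y).trans hy
    have hyA : (y : G) ∈ Subgroup.centralizer (A : Set G) := by
      rw [Subgroup.mem_centralizer_iff]
      intro a ha
      have h1 : a * y * a⁻¹ * (y : G)⁻¹ ∈ F ⊓ Y := by
        refine ⟨?_, Y.mul_mem ((Subgroup.mem_normalizer_iff.mp (hAY ha) y).mp y.2) (Y.inv_mem y.2)⟩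
        have h2 : (y : G) * a⁻¹ * (y : G)⁻¹ ∈ F :=
          (Subgroup.mem_normalizer_iff.mp (hFn (hYM y.2)) a⁻¹).mp (inv_mem (hAF ha))
        have h3 : a * ((y : G) * a⁻¹ * (y : G)⁻¹) ∈ F := F.mul_mem (hAF ha) h2
        simpa [mul_assoc] using h3
      rw [hdisj, Subgroup.mem_bot] at h1
      rw [mul_inv_eq_one, mul_inv_eq_iff_eq_mul] at h1
      exact h1
    have hmem := mem_A hr (hYM y.2) ⟨1, by rw [pow_one, ← hyo, pow_orderOf_eq_one]⟩ hyA
    refine hYπ r hr hrY ?_
    rw [← hyo, ← Subgroup.orderOf_mk (y : G) hmem]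
    exact _root_.orderOf_dvd_natCard _
  -- the transitivity hypothesis
  have hTH : TransitivityHypothesis A := by
    refine ⟨hA1, hAtop, fun X hX hAX => le_antisymm (sSup_le ?_) (le_sSup ⟨piCoreOf_le _ _,
      fun r hr hd => piCoreOf_primes _ _ hr hd, hAX.trans (le_normalizer_piCoreOf_self _ _)⟩)⟩
    rintro Y ⟨hYX, hYπ, hAY⟩
    have hXsol := isSolvable_of_ne_top hG hX
    set O := piCore (primesNotDvd (Nat.card A)) X with hO
    set π := QuotientGroup.mk' O with hπ
    set Yb := (Y.subgroupOf X).map π with hYb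
    have hYbcard : Nat.card Yb ∣ Nat.card Y :=
      (Subgroup.card_map_dvd _ _).trans (Basics.card_subgroupOf hYX).dvd
    have hOcop : ∀ S : Subgroup G, S ≤ A → (Nat.card (S.subgroupOf X)).Coprime (Nat.card O) := by
      intro S hS
      rw [Basics.card_subgroupOf (hS.trans hAX)]
      exact Nat.coprime_of_dvd fun r hr h1 h2 =>
        (piCore_primes _ hr h2).2 (h1.trans (Subgroup.card_dvd_of_le hS))
    have hsolO : Group.IsSolvable O := inferInstance
    have hcentral : Yb ≤ Subgroup.centralizer (Cfsg.fittingSubgroup (X ⧸ O) : Set (X ⧸ O)) := by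
      rw [Subgroup.le_centralizer_iff, Basics.fittingSubgroup_eq_iSup_pCore]
      refine iSup_le fun s => ?_
      rw [← Subgroup.le_centralizer_iff]
      set r := (s : ℕ) with hrdef
      have hr : r.Prime := s.2
      have : Fact r.Prime := ⟨hr⟩
      set U := Cfsg.pCore r (X ⧸ O) with hU
      have hUr : IsPGroup r U := Basics.pCore_isPGroup r
      by_cases hU1 : U = ⊥
      · rw [Subgroup.le_centralizer_iff, hU1]; exact bot_le
      have hrA : r ∣ Nat.card A := by
        by_contra hrA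
        refine hU1 ?_
        have hle : U.comap π ≤ O := by
          refine le_sSup ⟨Subgroup.Normal.comap inferInstance _, fun t ht hd => ?_⟩
          rw [hπ, Basics.card_comap_mk'] at hd
          rcases ht.dvd_mul.mp hd with h1 | h1
          · exact piCore_primes _ ht h1
          · obtain ⟨n, hn⟩ := IsPGroup.iff_card.mp hUr
            rw [(Nat.prime_dvd_prime_iff_eq ht hr).mp (ht.dvd_of_dvd_pow (hn ▸ h1))]
            exact ⟨hr, hrA⟩
        rw [eq_bot_iff, ← QuotientGroup.map_mk'_self O,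
          ← Subgroup.map_comap_eq_self_of_surjective (QuotientGroup.mk'_surjective O) U]
        exact Subgroup.map_mono hle
      have hr1 : coreP r M ≠ ⊥ := hpi r hr (hrA.trans (Subgroup.card_dvd_of_le hAF))
      set Ar := coreP r M ⊓ Subgroup.centralizer (E : Set G) with hArdef
      have hArA : Ar ≤ A := inf_le_inf_right _ (coreP_le_fittingOf r M)
      have hArr : IsPGroup r Ar := (isPGroup_coreP r M).to_le inf_le_left
      have hr2 : r ≠ 2 := prime_ne_two hG (hrA.trans A.card_subgroup_dvd_card)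
      have hrY : ¬ r ∣ Nat.card Yb := fun h => (hYπ r hr (h.trans hYbcard)).2 hrA
      refine centralizes_of_fixed_odd hr2 hUr hrY (A := (Ar.subgroupOf X).map π) (hArr.comap_subtype.map π) ?_ ?_ ?_ ?_
      · refine le_trans (Subgroup.map_mono fun a ha => ?_) (Subgroup.le_normalizer_map π)
        rw [Subgroup.mem_normalizer_iff]
        exact fun n => Subgroup.mem_normalizer_iff.mp ((hArA.trans hAY) ha) n
      · rw [Subgroup.normalizer_eq_top]; exact le_top
      · rw [Subgroup.normalizer_eq_top]; exact le_top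
      intro x hxU hxA hxr
      obtain ⟨k, hk⟩ := QuotientGroup.mk'_surjective O x
      have lift : ∀ S : Subgroup G, S ≤ A → (∀ a ∈ S.subgroupOf X, Commute (π a) x) →
          ∃ y : X, π y = x ∧ (y : G) ∈ Subgroup.centralizer (S : Set G) ∧ ∃ i, (y : G) ^ r ^ i = 1 := by
        intro S hS hfix
        obtain ⟨c, hc, hkc⟩ := Basics.exists_centralizer_mem_coset (S.subgroupOf X) O
          (by rw [Subgroup.normalizer_eq_top]; exact le_top) (hOcop S hS) (Or.inr hsolO) k
          (by rw [Subgroup.normalizer_eq_top]; exact Subgroup.mem_top k) (fun a ha => by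
            rw [← QuotientGroup.eq_one_iff, ← QuotientGroup.mk'_apply, ← hπ, map_mul, map_mul, map_mul, map_inv,
              map_inv, hk, (hfix a ha).eq, mul_inv_cancel_right, mul_inv_cancel])
        have hcx : π c = x := by
          rw [← hk, eq_comm, ← inv_mul_eq_one, ← map_inv, ← map_mul]
          exact (QuotientGroup.eq_one_iff _).mpr hkc
        obtain ⟨e, he, i, hi⟩ := exists_rElement_lift π c (r := r) ⟨1, by rw [pow_one, hcx, hxr]⟩
        refine ⟨c ^ e, he.trans hcx, ?_, i, by rw [← Subgroup.coe_pow, hi]; rfl⟩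
        rw [Subgroup.coe_pow]
        refine pow_mem (Subgroup.mem_centralizer_iff.mpr fun a ha => ?_) e
        exact congrArg Subtype.val (Subgroup.mem_centralizer_iff.mp hc ⟨a, hAX (hS ha)⟩ ha)
      obtain ⟨y, hy, hyC, -⟩ := lift Ar hArA fun a ha =>
        Subgroup.mem_centralizer_iff.mp hxA (π a) ⟨a, ha, rfl⟩
      have hyM : (y : G) ∈ M := hCM r hr hr1 hyC
      -- `x` is centralized by all of `A`
      have hfixA : ∀ a ∈ A.subgroupOf X, Commute (π a) x := by
        set H := ((Subgroup.centralizer ({x} : Set (X ⧸ O))).comap π).map X.subtype with hHdef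
        have hAH : A ≤ H := by
          refine le_of_pElements_mem fun t ht a ha hat => ?_
          have : Fact t.Prime := ⟨ht⟩
          refine ⟨⟨a, hAX ha⟩, Subgroup.mem_comap.mpr (Subgroup.mem_centralizer_singleton_iff.mpr ?_), rfl⟩
          set a' : X := ⟨a, hAX ha⟩ with ha'
          have hat' : a ∈ coreP t M := mem_coreP_of_mem_fittingOf (hAF ha) hat
          rcases eq_or_ne t r with rfl | htr
          · exact (Subgroup.mem_centralizer_iff.mp hxA (π a') ⟨a', ⟨hat', ha.2⟩, rfl⟩)
          have hao : (orderOf (π a')).Coprime r := by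
            obtain ⟨j, hj⟩ := hat
            refine Nat.Coprime.coprime_dvd_left ((orderOf_map_dvd π a').trans ?_)
              (((Nat.coprime_primes ht hr).mpr htr).pow_left j)
            rw [← Subgroup.orderOf_coe]
            exact orderOf_dvd_of_pow_eq_one hj
          set c : X := y⁻¹ * (a' * y * a'⁻¹) with hc
          have hcF : (c : G) ∈ F := by
            have h2 : (y : G)⁻¹ * a * (y : G) ∈ F := by
              have := (Subgroup.mem_normalizer_iff.mp (inv_mem (hFn hyM)) a).mp (hAF ha)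
              simpa using this
            have h3 := F.mul_mem h2 (F.inv_mem (hAF ha))
            simpa [hc, ha', mul_assoc] using h3
          have hcU : π c ∈ U := by
            rw [hc, map_mul, map_mul, map_mul, map_inv, map_inv, hy]
            exact mul_mem (inv_mem hxU) (Subgroup.Normal.conj_mem inferInstance x hxU (π a'))
          obtain ⟨j, hj⟩ := hUr ⟨π c, hcU⟩
          have hj' : π c ^ r ^ j = 1 := congrArg Subtype.val hj
          obtain ⟨e, he, i, hi⟩ := exists_rElement_lift π c (r := r) ⟨j, hj'⟩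
          have hcr : ((c ^ e : X) : G) ∈ coreP r M := by
            refine mem_coreP_of_mem_fittingOf ?_ ⟨i, by rw [← Subgroup.coe_pow, hi]; rfl⟩
            rw [Subgroup.coe_pow]; exact pow_mem hcF e
          have hcomm : Commute (π a') (π c) := by
            rw [← he]
            exact Commute.map (Subtype.ext (commute_coreP htr hat' hcr).eq) π
          have hbe : x⁻¹ * (π a' * x * (π a')⁻¹) = π c := by
            rw [hc, map_mul, map_mul, map_mul, map_inv, map_inv, hy]
          exact (LocalEvenA.comm_of_coprime_chain hao ⟨j, by rw [hbe]; exact hj'⟩ (by rw [hbe]; exact hcomm)).eq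
        intro a ha
        obtain ⟨b, hb, hba⟩ := hAH ha
        have hba' : b = a := Subtype.ext hba
        exact Subgroup.mem_centralizer_singleton_iff.mp (hba' ▸ hb)
      obtain ⟨z, hz, hzC, i, hi⟩ := lift A le_rfl hfixA
      have hzM : (z : G) ∈ M := hCM r hr hr1 (Subgroup.centralizer_le hArA hzC)
      have hzA : (z : G) ∈ A := mem_A hr hzM ⟨i, hi⟩ hzC
      rw [Subgroup.mem_centralizer_iff]
      rintro _ ⟨w, hw, rfl⟩
      have hzY : (z : G) * (w : G) * (z : G)⁻¹ ∈ Y := (Subgroup.mem_normalizer_iff.mp (hAY hzA) _).mp hw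
      have h1 : x * π w * x⁻¹ * (π w)⁻¹ ∈ U ⊓ Yb := by
        refine ⟨?_, ?_⟩
        · have := mul_mem hxU (Subgroup.Normal.conj_mem (inferInstance : U.Normal) x⁻¹ (inv_mem hxU) (π w))
          simpa [mul_assoc] using this
        · rw [← hz]
          refine ⟨z * w * z⁻¹ * w⁻¹, mul_mem (show z * w * z⁻¹ ∈ Y.subgroupOf X from hzY) (inv_mem hw), ?_⟩
          simp only [map_mul, map_inv]
      obtain ⟨n, hn⟩ := IsPGroup.iff_card.mp hUr
      rw [(Subgroup.disjoint_of_coprime_natCard
        (by rw [hn]; exact ((hr.coprime_iff_not_dvd).mpr hrY).pow_left n)).eq_bot, Subgroup.mem_bot] at h1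
      rw [mul_inv_eq_one, mul_inv_eq_iff_eq_mul] at h1
      exact h1.symm
    -- so `Yb = 1`
    have hYb1 : Yb = ⊥ := by
      by_contra hne
      obtain ⟨t, ht, htd⟩ := Nat.exists_prime_and_dvd (fun e => hne (Subgroup.eq_bot_of_card_eq Yb e))
      have : Fact t.Prime := ⟨ht⟩
      obtain ⟨w, hw⟩ := exists_prime_orderOf_dvd_card' (G := Yb) t htd
      have htA : ¬ t ∣ Nat.card A := (hYπ t ht (htd.trans hYbcard)).2
      have hpc : Cfsg.pCore t (X ⧸ O) = ⊥ := by
        have hle : (Cfsg.pCore t (X ⧸ O)).comap π ≤ O := by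
          refine le_sSup ⟨Subgroup.Normal.comap inferInstance _, fun u hu hd => ?_⟩
          rw [hπ, Basics.card_comap_mk'] at hd
          rcases hu.dvd_mul.mp hd with h1 | h1
          · exact piCore_primes _ hu h1
          · obtain ⟨n, hn⟩ := IsPGroup.iff_card.mp (Basics.pCore_isPGroup (G := X ⧸ O) t)
            rw [(Nat.prime_dvd_prime_iff_eq hu ht).mp (hu.dvd_of_dvd_pow (hn ▸ h1))]
            exact ⟨ht, htA⟩
        rw [eq_bot_iff, ← QuotientGroup.map_mk'_self O,
          ← Subgroup.map_comap_eq_self_of_surjective (QuotientGroup.mk'_surjective O) (Cfsg.pCore t (X ⧸ O))]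
        exact Subgroup.map_mono hle
      set Cf := Subgroup.centralizer (Cfsg.fittingSubgroup (X ⧸ O) : Set (X ⧸ O)) with hCf
      have hcomm : ∀ a ∈ Cf, ∀ b ∈ Cf, Commute a b := fun a ha b hb =>
        (Subgroup.mem_centralizer_iff.mp hb a (Basics.centralizer_fittingSubgroup_le ha))
      have hFn' : (Cfsg.fittingSubgroup (X ⧸ O)).Normal := by
        rw [Basics.fittingSubgroup_eq_iSup_pCore]
        refine Subgroup.normalizer_eq_top_iff.mp (top_le_iff.mp fun g _ => ?_)
        rw [Subgroup.mem_normalizer_iff_map_conj_eq]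
        change Subgroup.map (MulAut.conj g).toMonoidHom _ = _
        rw [Subgroup.map_iSup]
        refine iSup_congr fun s => ?_
        exact Subgroup.mem_normalizer_iff_map_conj_eq.mp (by rw [Subgroup.normalizer_eq_top]; exact Subgroup.mem_top g)
      have hCn : Cf.Normal := Subgroup.normal_centralizer
      let N : Subgroup (X ⧸ O) :=
        { carrier := {a | a ∈ Cf ∧ a ^ t = 1}
          one_mem' := ⟨one_mem _, one_pow _⟩
          mul_mem' := fun {a b} ha hb =>
            ⟨mul_mem ha.1 hb.1, by rw [(hcomm a ha.1 b hb.1).mul_pow, ha.2, hb.2, one_mul]⟩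
          inv_mem' := fun {a} ha => ⟨inv_mem ha.1, by rw [inv_pow, ha.2, inv_one]⟩ }
      have hNn : N.Normal :=
        ⟨fun a ha g => ⟨hCn.conj_mem a ha.1 g, by rw [conj_pow, ha.2, mul_one, mul_inv_cancel]⟩⟩
      have h := Basics.le_pCore (N := N) (isPGroup_of_exponent fun a ha => ha.2)
        (show (w : X ⧸ O) ∈ N from ⟨hcentral w.2, by rw [← Subgroup.coe_pow, ← hw, pow_orderOf_eq_one]; rfl⟩)
      rw [hpc, Subgroup.mem_bot] at h
      have : orderOf w = 1 := orderOf_eq_one_iff.mpr (Subtype.ext h)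
      exact ht.ne_one (hw.symm.trans this)
    intro y hy
    rw [piCoreOf]
    refine ⟨⟨y, hYX hy⟩, ?_, rfl⟩
    have : π ⟨y, hYX hy⟩ ∈ Yb := ⟨_, hy, rfl⟩
    rw [hYb1, Subgroup.mem_bot] at this
    exact (QuotientGroup.eq_one_iff _).mp this
  -- the core of `C(A)` is trivial
  have : Fact q.Prime := ⟨hq⟩
  have hcore : piCoreOf (primesNotDvd (Nat.card A)) (Subgroup.centralizer (A : Set G)) = ⊥ := by
    refine hinvM _ ?_ (fun r hr hd => (piCoreOf_primes _ _ hr hd).2)
      ((Subgroup.le_centralizer_iff.mp (piCoreOf_le _ _)).trans (Subgroup.centralizer_le_normalizer _))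
    exact (piCoreOf_le _ _).trans ((Subgroup.centralizer_le
      (inf_le_inf_right _ (coreP_le_fittingOf q M))).trans (hCM q hq hq1))
  have hFtop : F ≠ ⊤ := fun e => hM.1 (top_le_iff.mp (e ▸ fittingOf_le M))
  have hFπ : ∀ r : ℕ, r.Prime → r ∣ Nat.card F → r ∣ Nat.card A := fun r hr hd => hdvd r hr (hpi r hr hd)
  have hnoinv : ∀ r : ℕ, r.Prime → ¬ r ∣ Nat.card A → ∀ Y : Subgroup G, IsPGroup r Y →
      A ≤ Subgroup.normalizer (Y : Set G) → Y = ⊥ := by
    intro r hr hrA Y hYr hAY
    have : Fact r.Prime := ⟨hr⟩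
    have hrank : ¬ RankLE 2 ↥(A ⊓ Subgroup.centralizer (A : Set G)) := by
      intro h
      set Z := A ⊓ Subgroup.centralizer (A : Set G)
      have hEZ : E ≤ Z := le_inf hEA (Subgroup.le_centralizer_iff.mp inf_le_right)
      have h1 := h p hp.out (E.subgroupOf Z)
        ⟨⟨fun a b => Subtype.ext (Subtype.ext (ea_commute hEe a.2 b.2).eq)⟩⟩
        (fun a ha => Subtype.ext (hEe.2 _ ha))
      rw [Basics.card_subgroupOf hEZ] at h1
      exact absurd h1 (not_le.mpr hE3)
    have htr := Cfsg.Agent.S1393.result hG A hTH hrank r hr hrA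
    have hsn : (A.subgroupOf F).IsSubnormal := by
      have : Group.IsNilpotent F := isNilpotent_fittingOf M
      exact isSubnormal_of_isNilpotent _
    obtain ⟨-, -, hsub, -⟩ := Cfsg.Agent.S1395.result hG A hTH r hr hrA F hFtop hFπ hAF hsn htr
    obtain ⟨Q, hQ, hYQ⟩ := exists_maxInv_ge hYr hAY
    have huniq : ∀ Q' ∈ maxInvSubgroups ⊤ A {r}, Q' = Q := by
      intro Q' hQ'
      obtain ⟨k, hk, e⟩ := htr Q hQ Q' hQ'
      rw [hcore, Subgroup.mem_bot] at hk
      rw [e, hk, map_one]
      exact Subgroup.map_id Q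
    obtain ⟨Q', hQ', -⟩ := exists_maxInv_ge (A := F) (q := r) (Y := ⊥) IsPGroup.of_bot
      (by rw [Subgroup.normalizer_eq_top]; exact le_top)
    have hQF : Q ∈ maxInvSubgroups ⊤ F {r} := huniq Q' (hsub hQ') ▸ hQ'
    obtain ⟨hQr, hFQ⟩ := mem_invSubgroups_singleton.mp hQF.1
    by_contra hY1
    have hQ1 : Q ≠ ⊥ := fun e => hY1 (le_bot_iff.mp (e ▸ hYQ))
    have hMQ : M ≤ Subgroup.normalizer (Q : Set G) := by
      intro g hg
      rw [Subgroup.mem_normalizer_iff_map_conj_eq]
      change Q.map (MulAut.conj g).toMonoidHom = Q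
      refine huniq _ (hsub ⟨mem_invSubgroups_singleton.mpr ⟨hQr.map _, ?_⟩, fun R hR hle => ?_⟩)
      · have hgF : F.map (MulAut.conj g).toMonoidHom = F := Subgroup.mem_normalizer_iff_map_conj_eq.mp (hFn hg)
        exact (hgF.ge.trans (Subgroup.map_mono hFQ)).trans (Subgroup.le_normalizer_map _)
      · obtain ⟨hRr, hFR⟩ := mem_invSubgroups_singleton.mp hR
        have hgF : F.map (MulAut.conj g⁻¹).toMonoidHom = F :=
          Subgroup.mem_normalizer_iff_map_conj_eq.mp (hFn (inv_mem hg))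
        have h := hQF.2 (R.map (MulAut.conj g⁻¹).toMonoidHom) (mem_invSubgroups_singleton.mpr
          ⟨hRr.map _, (hgF.ge.trans (Subgroup.map_mono hFR)).trans (Subgroup.le_normalizer_map _)⟩) (by
            refine le_trans (le_of_eq ?_) (Subgroup.map_mono (f := (MulAut.conj g⁻¹).toMonoidHom) hle)
            rw [map_conj_map_conj, inv_mul_cancel, map_one]
            exact (Subgroup.map_id Q).symm)
        rw [← h, map_conj_map_conj, mul_inv_cancel, map_one]
        exact (Subgroup.map_id R).symm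
    have hQM : Q ≤ M := by
      rcases lt_or_eq_of_le hMQ with h1 | h1
      · exact absurd (hM.2 _ h1) (normalizer_ne_top hG hQ1 (pGroup_ne_top hG hQr))
      · exact h1 ▸ Subgroup.le_normalizer
    exact hQ1 (hinvM Q hQM (fun t ht hd => (primes_of_isPGroup hrA hQr ht hd).2)
      (hAF.trans hFQ))
  -- every maximal `H ≥ A` equals `M`
  refine ⟨M, ⟨hM, hAM⟩, ?_⟩
  rintro H ⟨hH, hAH⟩
  have hHsol := isSolvable_of_ne_top hG hH.1
  have hrH : ∀ r : ℕ, r.Prime → coreP r H ≠ ⊥ → r ∣ Nat.card A := by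
    intro r hr h1
    by_contra hrA
    have : Fact r.Prime := ⟨hr⟩
    exact h1 (hnoinv r hr hrA _ (isPGroup_coreP r H) (hAH.trans (le_normalizer_coreP r H)))
  have hcen : ∀ r t : ℕ, r.Prime → t.Prime → t ≠ r → ∀ u ∈ coreP r H,
      ∀ a ∈ coreP t M ⊓ Subgroup.centralizer (E : Set G), Commute a u := by
    intro r t hr ht htr u hu a ha
    have : Fact r.Prime := ⟨hr⟩
    have : Fact t.Prime := ⟨ht⟩
    by_cases hU1 : coreP r H = ⊥
    · rw [hU1, Subgroup.mem_bot] at hu; rw [hu]; exact Commute.one_right a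
    have hr1 : coreP r M ≠ ⊥ := hpi r hr ((hrH r hr hU1).trans (Subgroup.card_dvd_of_le hAF))
    have haA : a ∈ A := ⟨coreP_le_fittingOf t M ha.1, ha.2⟩
    set P := coreP r M ⊓ Subgroup.centralizer (E : Set G)
    have hPA : P ≤ A := inf_le_inf_right _ (coreP_le_fittingOf r M)
    obtain ⟨j, hj⟩ := isPGroup_coreP t M ⟨a, ha.1⟩
    have hj' : a ^ t ^ j = 1 := congrArg Subtype.val hj
    have hao : (orderOf a).Coprime r := Nat.Coprime.coprime_dvd_left (orderOf_dvd_of_pow_eq_one hj')
      (((Nat.coprime_primes ht hr).mpr htr).pow_left j)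
    have haN : a ∈ Subgroup.normalizer (coreP r H : Set G) := le_normalizer_coreP r H (hAH haA)
    have hfix : ∀ w ∈ coreP r H, w ∈ M → Commute a w := by
      intro w hw hwM
      have hb : w⁻¹ * (a * w * a⁻¹) ∈ coreP r H :=
        mul_mem (inv_mem hw) ((Subgroup.mem_normalizer_iff.mp haN w).mp hw)
      have hbF : w⁻¹ * (a * w * a⁻¹) ∈ F := by
        have h2 : w⁻¹ * a * w ∈ F := by
          have := (Subgroup.mem_normalizer_iff.mp (inv_mem (hFn hwM)) a).mp (hAF haA)
          simpa using this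
        have h3 := F.mul_mem h2 (F.inv_mem (hAF haA))
        simpa [mul_assoc] using h3
      obtain ⟨i, hi⟩ := isPGroup_coreP r H ⟨_, hb⟩
      have hi' : (w⁻¹ * (a * w * a⁻¹)) ^ r ^ i = 1 := congrArg Subtype.val hi
      exact LocalEvenA.comm_of_coprime_chain hao ⟨i, hi'⟩
        (commute_coreP htr ha.1 (mem_coreP_of_mem_fittingOf hbF ⟨i, hi'⟩))
    have hPc : P ≤ Subgroup.centralizer (Subgroup.zpowers a : Set G) := fun b hb => by
      rw [Subgroup.mem_centralizer_iff]
      rintro _ ⟨i, rfl⟩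
      exact ((commute_coreP htr ha.1 hb.1).zpow_left i).eq
    have key := Basics.pq_lemma r P (Subgroup.zpowers a) (coreP r H)
      ((isPGroup_coreP r M).to_le inf_le_left) (by rw [Nat.card_zpowers]; exact hao) (isPGroup_coreP r H) hPc
      ((hPA.trans hAH).trans (le_normalizer_coreP r H)) (Subgroup.zpowers_le.mpr haN) (fun w hw => by
        rw [Subgroup.mem_centralizer_iff]
        rintro _ ⟨i, rfl⟩
        exact ((hfix w hw.1 (hCM r hr hr1 hw.2)).zpow_left i).eq)
    exact (Subgroup.mem_centralizer_iff.mp (key (Subgroup.mem_zpowers a)) u hu).symm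
  have hqF : coreP q M ≤ A := by
    have : Fact q.Prime := ⟨hq⟩
    exact coreP_le_fitC hEF hqp
  have hp1 : coreP p M ≠ ⊥ := fun e => hE1 (le_bot_iff.mp (e ▸ hEF))
  -- `F(H) ≤ M`
  have hHM : ∀ r : ℕ, r.Prime → coreP r H ≤ M := by
    intro r hr u hu
    rcases eq_or_ne r p with rfl | hrp
    · refine hCM q hq hq1 (Subgroup.mem_centralizer_iff.mpr fun a ha => (hcen r q hr hq hqp u hu a ha).eq)
    · refine hCM p hp.out hp1 (Subgroup.mem_centralizer_iff.mpr fun a ha =>
        (hcen r p hr hp.out hrp.symm u hu a ha).eq)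
  have hcomm : ∀ r t : ℕ, r.Prime → t.Prime → t ≠ r → ∀ u ∈ coreP r H, ∀ f ∈ coreP t M, Commute f u := by
    intro r t hr ht htr u hu f hf
    have : Fact r.Prime := ⟨hr⟩
    have : Fact t.Prime := ⟨ht⟩
    rcases eq_or_ne t p with rfl | htp
    · obtain ⟨j, hj⟩ := isPGroup_coreP r H ⟨u, hu⟩
      have huo : (orderOf u).Coprime t := Nat.Coprime.coprime_dvd_left
        (orderOf_dvd_of_pow_eq_one (congrArg Subtype.val hj : u ^ r ^ j = 1))
        (((Nat.coprime_primes hr ht).mpr htr.symm).pow_left j)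
      exact (commute_coreP_of_commute_fitC hEF hEe (hHM r hr hu) huo
        (fun a ha => (hcen r t hr ht htr u hu a ha).symm) f hf).symm
    · exact hcen r t hr ht htr u hu f ⟨hf, (coreP_le_fitC hEF htp hf).2⟩
  -- both `O_p(H)` and `O_q(H)` are nontrivial
  have hnb : ∀ t : ℕ, t.Prime → coreP t M ⊓ Subgroup.centralizer (E : Set G) ≠ ⊥ → coreP t H ≠ ⊥ := by
    intro t ht h1 h2
    have : Fact t.Prime := ⟨ht⟩
    obtain ⟨a, ha, ha1⟩ := (Subgroup.bot_or_exists_ne_one _).resolve_left h1
    have haA : a ∈ A := ⟨coreP_le_fittingOf t M ha.1, ha.2⟩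
    have hmem : a ∈ Cfsg.fittingOf H := centralizer_fittingOf_le hHsol ⟨hAH haA, mem_centralizer_fittingOf
      fun r hr u hu => by
        rcases eq_or_ne t r with rfl | htr
        · rw [h2, Subgroup.mem_bot] at hu; rw [hu]; exact Commute.one_right a
        · exact hcen r t hr ht htr u hu a ha⟩
    obtain ⟨j, hj⟩ := isPGroup_coreP t M ⟨a, ha.1⟩
    have := mem_coreP_of_mem_fittingOf hmem ⟨j, (congrArg Subtype.val hj : a ^ t ^ j = 1)⟩
    rw [h2, Subgroup.mem_bot] at this
    exact ha1 this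
  have hpH : coreP p H ≠ ⊥ := hnb p hp.out (hAr p hp.out hp1)
  have hqH : coreP q H ≠ ⊥ := hnb q hq (hAr q hq hq1)
  -- `F_p ≤ H`
  have hFpH : coreP p M ≤ H := by
    intro f hf
    have hle : Subgroup.normalizer (coreP q H : Set G) = H := by
      rcases lt_or_eq_of_le (le_normalizer_coreP q H) with h1 | h1
      · exact absurd (hH.2 _ h1) (normalizer_ne_top hG hqH fun e => hH.1 (top_le_iff.mp (e ▸ coreP_le q H)))
      · exact h1.symm
    rw [← hle]
    exact Subgroup.centralizer_le_normalizer (coreP q H : Set G)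
      (Subgroup.mem_centralizer_iff.mpr fun u hu => (hcomm q p hq hp.out hqp.symm u hu f hf).eq.symm)
  have hNp : Subgroup.normalizer (coreP p H : Set G) = H := by
    rcases lt_or_eq_of_le (le_normalizer_coreP p H) with h1 | h1
    · exact absurd (hH.2 _ h1) (normalizer_ne_top hG hpH fun e => hH.1 (top_le_iff.mp (e ▸ coreP_le p H)))
    · exact h1.symm
  set K := pPrimeCoreIn p M with hK
  set K' := pPrimeCoreIn p H with hK'
  have hK'c : K' ≤ Subgroup.centralizer (coreP p M : Set G) := pPrimeCoreIn_le_centralizer hHsol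
    (isPGroup_coreP p M) hFpH fun r hr hrp u hu f hf => hcomm r p hr hp.out hrp.symm u hu f hf
  have hK'M : K' ≤ M := hK'c.trans ((Subgroup.centralizer_le inf_le_left).trans (hCM p hp.out hp1))
  have hKc : K ≤ Subgroup.centralizer (coreP p H : Set G) := pPrimeCoreIn_le_centralizer hsol
    (isPGroup_coreP p H) (hHM p hp.out) fun t ht htp f hf u hu => (hcomm p t hp.out ht htp u hu f hf).symm
  have hKH : K ≤ H := hKc.trans ((Subgroup.centralizer_le_normalizer _).trans hNp.le)
  set X := M ⊓ H with hX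
  obtain ⟨R, -, ⟨hRp, hRX⟩, hRmax⟩ := Finite.exists_le_maximal
    (p := fun R : Subgroup G => IsPGroup p R ∧ R ≤ X) (a := ⊥) ⟨IsPGroup.of_bot, bot_le⟩
  have hRmax' : IsMaxPIn p R X := ⟨hRp, hRX, fun Q hQ hle hQX => le_antisymm (hRmax ⟨hQ, hQX⟩ hle) hle⟩
  have hcont : ∀ N : Subgroup G, IsPGroup p N → N ≤ X → X ≤ Subgroup.normalizer (N : Set G) → N ≤ R := by
    intro N hN hNX hn
    have := hRmax'.2.2 (R ⊔ N) (hRp.to_sup_of_normal_right' hN (hRX.trans hn)) le_sup_left (sup_le hRX hNX)
    exact this ▸ le_sup_right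
  have hFpR : coreP p M ≤ R := hcont _ (isPGroup_coreP p M) (le_inf (coreP_le p M) hFpH)
    (inf_le_left.trans (le_normalizer_coreP p M))
  have hOpR : coreP p H ≤ R := hcont _ (isPGroup_coreP p H) (le_inf (hHM p hp.out) (coreP_le p H))
    (inf_le_right.trans (le_normalizer_coreP p H))
  have h1 : K ≤ K' := invariant_le_pPrimeCoreIn hp2 hHsol hRp (hRX.trans inf_le_right)
    (fun x hx hxC hxo => hRmax'.mem_of_centralizes
      ⟨hCM p hp.out hp1 (Subgroup.centralizer_le (inf_le_left.trans hFpR) hxC), hx⟩ hxC hxo)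
    hKH (not_dvd_card_pPrimeCoreIn M) ((hRX.trans inf_le_left).trans (le_normalizer_pPrimeCoreIn M))
  have h2 : K' ≤ K := invariant_le_pPrimeCoreIn hp2 hsol hRp (hRX.trans inf_le_left)
    (fun x hx hxC hxo => hRmax'.mem_of_centralizes
      ⟨hx, hNp ▸ Subgroup.centralizer_le_normalizer (coreP p H : Set G) (Subgroup.centralizer_le hOpR hxC)⟩ hxC hxo)
    hK'M (not_dvd_card_pPrimeCoreIn H) ((hRX.trans inf_le_right).trans (le_normalizer_pPrimeCoreIn H))
  have hKne : K ≠ ⊥ := by
    have : Fact q.Prime := ⟨hq⟩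
    intro e
    refine hq1 (le_bot_iff.mp (e ▸ ?_))
    obtain ⟨n, hn⟩ := IsPGroup.iff_card.mp (Basics.pCore_isPGroup (G := M) q)
    refine Subgroup.map_mono (Basics.le_pPrimeCore ?_)
    rw [hn]
    exact ((Nat.coprime_primes hq hp.out).mpr hqp).pow_left n
  have hHK : H ≤ M := by
    have h4 := hnorm (pPrimeCoreIn_le p M) hKne (le_normalizer_pPrimeCoreIn M)
    rw [← hK, le_antisymm h1 h2] at h4
    exact (le_normalizer_pPrimeCoreIn H).trans h4.le
  rcases lt_or_eq_of_le hHK with h3 | h3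
  · exact absurd (hH.2 M h3) hM.1
  · exact h3

end Cfsg.Agent.OddLocal
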