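import Cfsg.Agent.Lib.OddLocal.CN
import Cfsg.Agent.Lib.OddLocal.PAction
import Cfsg.Agent.Lib.OddLocal.FixPointB
import Cfsg.Agent.S0065

/-! Quotients of groups with nilpotent centralizers by solvable normal subgroups. -/

set_option autoImplicit false

namespace Cfsg.Agent.OddLocal

universe u

theorem isCN_of_mulEquiv {G : Type*} [Group G] {H : Type*} [Group H] (e : G ≃* H) (hCN : Cfsg.IsCNGroup G) :
    Cfsg.IsCNGroup H := by
  intro h hh
  have := hCN (e.symm h) (by simpa using hh)
  have hle : (Subgroup.centralizer ({h} : Set H)).map e.symm.toMonoidHom ≤ Subgroup.centralizer {e.symm h} := by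
    rintro _ ⟨x, hx, rfl⟩
    exact Subgroup.mem_centralizer_singleton_iff.mpr
      (by simpa using congrArg e.symm (Subgroup.mem_centralizer_singleton_iff.mp hx))
  have := Basics.isNilpotent_of_le' hle this
  exact Group.nilpotent_of_mulEquiv
    (Subgroup.equivMapOfInjective (Subgroup.centralizer ({h} : Set H)) e.symm.toMonoidHom e.symm.injective).symm

/-- A quotient by a normal `p`-subgroup of a group with nilpotent centralizers has nilpotent centralizers. -/
theorem isCN_quotient_pGroup {G : Type u} [Group G] [Finite G] (hCN : Cfsg.IsCNGroup G) {p : ℕ}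
    [hp : Fact p.Prime] (N : Subgroup G) [hNn : N.Normal] (hN : IsPGroup p N) : Cfsg.IsCNGroup (G ⧸ N) := by
  intro x₀ hx₀
  obtain ⟨q, k, hq, -, hk⟩ := exists_pow_prime_order hx₀
  haveI := Fact.mk hq
  refine Basics.isNilpotent_of_le' (K := Subgroup.centralizer ({x₀ ^ k} : Set (G ⧸ N))) (fun w hw =>
    Subgroup.mem_centralizer_singleton_iff.mpr
      (Commute.pow_right (Subgroup.mem_centralizer_singleton_iff.mp hw) k).eq) ?_
  set π := QuotientGroup.mk' N
  have hπs : Function.Surjective π := QuotientGroup.mk'_surjective N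
  obtain ⟨x, hx⟩ := hπs (x₀ ^ k)
  have hx1 : x ∉ N := fun h => hq.one_lt.ne (by
    rw [← hk, ← hx, show π x = 1 from (QuotientGroup.eq_one_iff x).mpr h, orderOf_one])
  set C := (Subgroup.centralizer ({x₀ ^ k} : Set (G ⧸ N))).comap π with hC
  suffices h : ∃ K : Subgroup G, Group.IsNilpotent K ∧ C ≤ K ⊔ N by
    obtain ⟨K, hK, hle⟩ := h
    have hmap : Subgroup.centralizer ({x₀ ^ k} : Set (G ⧸ N)) ≤ K.map π := by
      intro w hw
      obtain ⟨y, rfl⟩ := hπs w
      obtain ⟨a, ha, b, hb, rfl⟩ := Subgroup.mem_sup_of_normal_right.mp (hle (show y ∈ C from hw))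
      exact ⟨a, ha, by rw [map_mul, show π b = 1 from (QuotientGroup.eq_one_iff b).mpr hb, mul_one]⟩
    have := hK
    exact Basics.isNilpotent_of_le' hmap (Group.nilpotent_of_surjective _ (π.subgroupMap_surjective K))
  have hconj : ∀ c ∈ C, x⁻¹ * (c * x * c⁻¹) ∈ N := fun c hc => by
    have h := Subgroup.mem_centralizer_singleton_iff.mp (Subgroup.mem_comap.mp hc)
    rw [← QuotientGroup.eq_one_iff]
    change π _ = 1
    rw [map_mul, map_mul, map_mul, map_inv, map_inv, hx, h]
    group
  by_cases hqp : q = p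
  swap
  · obtain ⟨e, he, i, hi⟩ := exists_rElement_lift (r := q) π x ⟨1, by rw [pow_one, hx, ← hk, pow_orderOf_eq_one]⟩
    have he1 : x ^ e ≠ 1 := fun h => hq.one_lt.ne (by rw [← hk, ← hx, ← he, h, map_one, orderOf_one])
    refine ⟨Subgroup.centralizer ({x ^ e} : Set G), hCN _ he1, fun c hc => ?_⟩
    have hA : IsPGroup q (Subgroup.zpowers (x ^ e)) := by
      obtain ⟨n, -, hn⟩ := (Nat.dvd_prime_pow hq).mp (orderOf_dvd_of_pow_eq_one hi)
      exact isPGroup_zpowers_of_orderOf hn
    have hNq : ¬ q ∣ Nat.card N := by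
      obtain ⟨n, hn⟩ := hN.exists_card_eq
      rw [hn]
      exact fun h => hqp ((Nat.prime_dvd_prime_iff_eq hq hp.out).mp (hq.dvd_of_dvd_pow h))
    obtain ⟨d, hd, hcd⟩ := exists_fixed_in_coset hA (D := N) (by rw [Subgroup.normalizer_eq_top]; exact le_top) hNq
      (x := c) (fun a ha => by
        obtain ⟨j, rfl⟩ := ha
        have h := Subgroup.mem_centralizer_singleton_iff.mp (Subgroup.mem_comap.mp hc)
        have hcomm : Commute (π c) (π (x ^ e)) := by
          rw [map_pow, hx]
          exact Commute.pow_right h e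
        rw [← QuotientGroup.eq_one_iff]
        change π _ = 1
        simp only [map_mul, map_inv, map_zpow]
        rw [← ((hcomm.zpow_right j).eq)]
        group)
    rw [show c = c * d * d⁻¹ by group]
    refine mul_mem (Subgroup.mem_sup_left (Subgroup.mem_centralizer_singleton_iff.mpr ?_))
      (Subgroup.mem_sup_right (inv_mem hd))
    exact (Subgroup.mem_centralizer_iff.mp hcd _ (Subgroup.mem_zpowers _)).symm
  rw [hqp] at hk
  set T := Subgroup.zpowers x ⊔ N with hT
  have hxp : x ^ p ∈ N := by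
    rw [← QuotientGroup.eq_one_iff]
    change π (x ^ p) = 1
    rw [map_pow, hx, ← hk, pow_orderOf_eq_one]
  have hTp : IsPGroup p T := by
    obtain ⟨j, hj⟩ := hN ⟨_, hxp⟩
    have hxo : x ^ p ^ (j + 1) = 1 := by rw [pow_succ', pow_mul]; exact congrArg Subtype.val hj
    obtain ⟨n, -, hn⟩ := (Nat.dvd_prime_pow hp.out).mp (orderOf_dvd_of_pow_eq_one hxo)
    exact IsPGroup.to_sup_of_normal_right (isPGroup_zpowers_of_orderOf hn) hN
  have hTne : T ≠ ⊥ := fun h => hx1 (by
    have : x ∈ T := Subgroup.mem_sup_left (Subgroup.mem_zpowers x)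
    rw [h, Subgroup.mem_bot] at this
    rw [this]; exact one_mem N)
  have hTC : T ≤ C := by
    refine sup_le (Subgroup.zpowers_le.mpr ?_) (fun u hu => ?_)
    · exact Subgroup.mem_centralizer_singleton_iff.mpr (by rw [hx])
    · refine Subgroup.mem_centralizer_singleton_iff.mpr ?_
      rw [show π u = 1 from (QuotientGroup.eq_one_iff u).mpr hu, one_mul, mul_one]
  have hCT : C ≤ Subgroup.normalizer (T : Set G) := fun c hc => mem_normalizer_of_conj_mem fun t ht => by
    obtain ⟨a, ⟨i, rfl⟩, b, hb, rfl⟩ := Subgroup.mem_sup_of_normal_right.mp ht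
    have e : c * (x ^ i * b) * c⁻¹ = (c * x * c⁻¹) ^ i * (c * b * c⁻¹) := by rw [conj_zpow]; group
    rw [e]
    refine mul_mem (zpow_mem ?_ i) (Subgroup.mem_sup_right (hNn.conj_mem b hb c))
    rw [show c * x * c⁻¹ = x * (x⁻¹ * (c * x * c⁻¹)) by group]
    exact mul_mem (Subgroup.mem_sup_left (Subgroup.mem_zpowers x)) (Subgroup.mem_sup_right (hconj c hc))
  -- elements of `C` of order prime to `p` centralize `T`
  have hcent : ∀ (r : ℕ), r.Prime → r ≠ p → ∀ y ∈ C, (∃ i, y ^ r ^ i = 1) →
      ∀ t ∈ T, Commute y t := by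
    intro r hr hrp y hy hyr t ht
    obtain ⟨i, hi⟩ := hyr
    haveI := Fact.mk hr
    obtain ⟨n, -, hn⟩ := (Nat.dvd_prime_pow hr).mp (orderOf_dvd_of_pow_eq_one hi)
    have hA := isPGroup_zpowers_of_orderOf hn
    have hNr : ¬ r ∣ Nat.card N := by
      obtain ⟨m, hm⟩ := hN.exists_card_eq
      rw [hm]
      exact fun h => hrp ((Nat.prime_dvd_prime_iff_eq hr hp.out).mp (hr.dvd_of_dvd_pow h))
    obtain ⟨d, hd, hxd⟩ := exists_fixed_in_coset hA (D := N) (by rw [Subgroup.normalizer_eq_top]; exact le_top) hNr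
      (x := x) (fun a ha => hconj a (Subgroup.zpowers_le.mpr hy ha))
    set s := x * d
    have hsy : Commute y s := Subgroup.mem_centralizer_iff.mp hxd y (Subgroup.mem_zpowers y)
    have hsT : s ∈ T := mul_mem (Subgroup.mem_sup_left (Subgroup.mem_zpowers x)) (Subgroup.mem_sup_right hd)
    have hs1 : s ≠ 1 := fun h => hx1 (by rw [eq_inv_of_mul_eq_one_left h]; exact inv_mem hd)
    have key : ∀ a ∈ T, a ≠ 1 → Commute y a → ∀ w ∈ T, Commute w a → Commute y w := by
      intro a ha ha1 hya w hw hwa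
      obtain ⟨m, hm⟩ := hTp ⟨w, hw⟩
      exact (commute_of_orderOf (p := p) (hCN a ha1) (Ne.symm hrp) (Subgroup.mem_centralizer_singleton_iff.mpr hwa.eq)
        (Subgroup.mem_centralizer_singleton_iff.mpr hya.eq) (congrArg Subtype.val hm) hi).symm
    haveI : Nontrivial T := (Subgroup.nontrivial_iff_ne_bot _).mpr hTne
    haveI : Nontrivial (Subgroup.center T) := hTp.center_nontrivial
    obtain ⟨z, hz⟩ := exists_ne (1 : Subgroup.center T)
    have hzc : ∀ w ∈ T, Commute w ((z : T) : G) := fun w hw =>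
      congrArg Subtype.val (Subgroup.mem_center_iff.mp z.2 ⟨w, hw⟩)
    have hyz : Commute y ((z : T) : G) := key s hsT hs1 hsy _ (z : T).2 (hzc s hsT).symm
    exact key _ (z : T).2 (fun h => hz (Subtype.ext (Subtype.ext h))) hyz t ht (hzc t ht)
  obtain ⟨S, hS⟩ := (hTp.comap_subtype (K := C)).exists_le_sylow
  set S' := (S : Subgroup C).map C.subtype with hS'
  have hTS : T ≤ S' := fun t ht => ⟨⟨t, hTC ht⟩, hS ht, rfl⟩
  have hS'p : IsPGroup p S' := S.2.map _
  haveI : Group.IsNilpotent S' := hS'p.isNilpotent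
  haveI : (T.subgroupOf S').Normal :=
    (Subgroup.normal_subgroupOf_iff_le_normalizer hTS).mpr ((Subgroup.map_subtype_le _).trans hCT)
  have hmeet := S0065.result (T.subgroupOf S') (fun h => hTne (le_bot_iff.mp fun t ht => by
    have : (⟨t, hTS ht⟩ : S') ∈ T.subgroupOf S' := ht
    rw [h, Subgroup.mem_bot] at this
    exact Subgroup.mem_bot.mpr (congrArg Subtype.val this)))
  obtain ⟨z, hz, hz1⟩ := (Subgroup.bot_or_exists_ne_one _).resolve_left hmeet
  refine ⟨Subgroup.centralizer ({(z : G)} : Set G), hCN _ (fun h => hz1 (Subtype.ext h)), le_sup_of_le_left ?_⟩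
  have htop : (Subgroup.centralizer ({(z : G)} : Set G)).subgroupOf C = ⊤ := by
    refine Basics.eq_top_of_sylow_le _ fun r hr hrd => ?_
    by_cases hrp : r = p
    · subst hrp
      exact ⟨S, fun c hc => Subgroup.mem_subgroupOf.mpr (Subgroup.mem_centralizer_singleton_iff.mpr
        (congrArg Subtype.val (Subgroup.mem_center_iff.mp hz.2 ⟨(c : G), c, hc, rfl⟩)))⟩
    · obtain ⟨R⟩ : Nonempty (Sylow r C) := inferInstance
      refine ⟨R, fun c hc => Subgroup.mem_subgroupOf.mpr (Subgroup.mem_centralizer_singleton_iff.mpr ?_)⟩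
      obtain ⟨i, hi⟩ := R.2 ⟨c, hc⟩
      exact (hcent r hr.out hrp c c.2 ⟨i, congrArg (fun t : (R : Subgroup C) => ((t : C) : G)) hi⟩ _ hz.1).eq
  exact fun c hc => Subgroup.mem_subgroupOf.mp (htop.symm ▸ Subgroup.mem_top (⟨c, hc⟩ : C))

theorem isCN_quotient_solvable_aux : ∀ n : ℕ, ∀ (G : Type u) [Group G] [Finite G], Nat.card G = n →
    Cfsg.IsCNGroup G → ∀ (H : Subgroup G) [H.Normal], Group.IsSolvable H → Cfsg.IsCNGroup (G ⧸ H) := by
  intro n
  induction n using Nat.strong_induction_on with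
  | _ n IH =>
    intro G _ _ hn hCN H _ hH
    by_cases hHb : H = ⊥
    · subst hHb
      exact isCN_of_mulEquiv QuotientGroup.quotientBot.symm hCN
    obtain ⟨p, E, hp, hEn, hEH, hEne, -, hexp⟩ := Basics.exists_elementary_normal hHb hH
    haveI := hEn
    haveI := Fact.mk hp
    have hlt : Nat.card (G ⧸ E) < n := by
      rw [← hn, Subgroup.card_eq_card_quotient_mul_card_subgroup E]
      exact lt_mul_of_one_lt_right Nat.card_pos ((Subgroup.one_lt_card_iff_ne_bot E).mpr hEne)
    have hq := isCN_quotient_pGroup hCN E (Basics.isPGroup_of_pow_eq_one hexp)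
    haveI : (H.map (QuotientGroup.mk' E)).Normal := Subgroup.Normal.map inferInstance _ (QuotientGroup.mk'_surjective E)
    have hHs : Group.IsSolvable (H.map (QuotientGroup.mk' E)) := by
      have := hH
      exact Group.isSolvable_of_surjective ((QuotientGroup.mk' E).subgroupMap_surjective H)
    exact isCN_of_mulEquiv (QuotientGroup.quotientQuotientEquivQuotient E H hEH)
      (IH _ hlt (G ⧸ E) rfl hq (H.map (QuotientGroup.mk' E)) hHs)

end Cfsg.Agent.OddLocal
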