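import Cfsg.Agent.Lib.OddLocal.CNSimple

/-! Consequences: Frobenius maximal subgroups, partition, no three-step subgroups. -/

set_option autoImplicit false
set_option maxHeartbeats 1000000

namespace Cfsg.Agent.OddLocal

open scoped commutatorElement Pointwise

variable {G : Type*} [Group G] [Finite G]

section

variable (hG : IsMinSimpleOddOrder G) (hCN : Cfsg.IsCNGroup G)
include hG hCN

theorem fitting_ne_self {M : Subgroup G} (hM : IsCoatom M) : Cfsg.fittingOf M ≠ M := by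
  intro e
  have hH := isMaxNilpotent_fitting hG hCN hM
  rw [e] at hH
  have hsol : Group.IsSolvable M := isSolvable_of_ne_top hG hM.1
  have : Nontrivial M := (Subgroup.nontrivial_iff_ne_bot M).mpr (cn_coatom_ne_bot hG hM)
  refine (Group.IsSolvable.commutator_lt_top_of_nontrivial M).ne (Basics.eq_top_of_sylow_le _ fun q hq hd => ?_)
  obtain ⟨S, hS⟩ := hH.exists_sylow hCN hd
  have := hH.1
  have hn : ((S.subtype hS : Sylow q M) : Subgroup M).Normal :=
    Sylow.normal_of_normalizerCondition Group.normalizerCondition_of_isNilpotent _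
  have hMN : M ≤ Subgroup.normalizer ((S : Subgroup G) : Set G) :=
    (Subgroup.normal_subgroupOf_iff_le_normalizer hS).mp hn
  have hSne : (S : Subgroup G) ≠ ⊥ := S.ne_bot_of_dvd_card (hd.trans (Subgroup.card_subgroup_dvd_card M))
  have hMe := coatom_eq_normalizer hG hM hSne hS hMN
  refine ⟨S.subtype hS, fun x hx => ?_⟩
  have h1 := sylow_le_derived_normalizer hG S (show (x : G) ∈ (S : Subgroup G) from hx)
  rw [← hMe, ← Subgroup.map_subtype_commutator] at h1
  obtain ⟨y, hy, e⟩ := h1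
  exact (Subtype.ext e : y = x) ▸ hy

theorem exists_frobenius_complement {M : Subgroup G} (hM : IsCoatom M) :
    ∃ E : Subgroup G, Cfsg.IsComplIn (Cfsg.fittingOf M) E M ∧ E ≠ ⊥ ∧
      ∀ e ∈ E, e ≠ 1 → Cfsg.fittingOf M ⊓ Subgroup.centralizer ({e} : Set G) = ⊥ := by
  set F := Cfsg.fittingOf M with hF
  have hFM : F ≤ M := fittingOf_le M
  have hn : (F.subgroupOf M).Normal :=
    (Subgroup.normal_subgroupOf_iff_le_normalizer hFM).mpr (le_normalizer_fittingOf M)
  have hcop : (Nat.card (F.subgroupOf M)).Coprime (F.subgroupOf M).index := by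
    rw [Basics.card_subgroupOf hFM]
    exact ((isMaxNilpotent_fitting hG hCN hM).hall hCN).coprime_dvd_right (Subgroup.relIndex_dvd_index_of_le hFM)
  obtain ⟨K, hK⟩ := Subgroup.exists_right_complement'_of_coprime hcop
  have hdis : ∀ x ∈ F, x ∈ K.map M.subtype → x = 1 := by
    rintro _ hx ⟨b, hb, rfl⟩
    have : b ∈ F.subgroupOf M ⊓ K := ⟨hx, hb⟩
    rw [hK.disjoint.eq_bot, Subgroup.mem_bot] at this
    simp [this]
  refine ⟨K.map M.subtype, ⟨hFM, Subgroup.map_subtype_le _, ?_, fun m hm => ?_⟩, ?_, fun e he he1 => ?_⟩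
  · rw [eq_bot_iff]
    exact fun x hx => Subgroup.mem_bot.mpr (hdis x hx.1 hx.2)
  · obtain ⟨a, ha, b, hb, e⟩ := Subgroup.mem_sup_of_normal_left.mp (hK.sup_eq_top.symm ▸ Subgroup.mem_top (⟨m, hm⟩ : M))
    exact ⟨a, ha, b, ⟨b, hb, rfl⟩, (congrArg Subtype.val e).symm⟩
  · intro h
    have hKb : K = ⊥ := (Subgroup.map_eq_bot_iff_of_injective _ M.subtype_injective).mp h
    have h1 := hK.sup_eq_top
    rw [hKb, sup_bot_eq] at h1
    exact fitting_ne_self hG hCN hM (le_antisymm hFM (Subgroup.subgroupOf_eq_top.mp h1))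
  · rw [eq_bot_iff]
    intro y hy
    rw [Subgroup.mem_bot]
    by_contra hy1
    exact he1 (hdis e (centralizer_le_fitting hG hCN hM hy.1 hy1 (Subgroup.mem_centralizer_singleton_iff.mpr
      (Subgroup.mem_centralizer_singleton_iff.mp hy.2).symm)) he)

theorem conj_of_fitting {M N : Subgroup G} (hM : IsCoatom M) (hN : IsCoatom N) {g : G}
    (h : Cfsg.fittingOf N = (Cfsg.fittingOf M).map (MulAut.conj g).toMonoidHom) :
    N = M.map (MulAut.conj g).toMonoidHom := by
  rw [coatom_eq_normalizer_fitting hG hCN hN, h]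
  conv_rhs => rw [coatom_eq_normalizer_fitting hG hCN hM]
  exact (Subgroup.map_normalizer_eq_of_bijective (f := (MulAut.conj g).toMonoidHom) (Cfsg.fittingOf M)
    (MulAut.conj g).bijective).symm

theorem fittingHallOf_eq {M : Subgroup G} (hM : IsCoatom M) : Cfsg.fittingHallOf M = Cfsg.fittingOf M := by
  have hFM := fittingOf_le M
  refine le_antisymm (Subgroup.map_mono (sSup_le fun N hN => ?_)) ?_
  · have := hN.1
    exact Basics.le_fittingSubgroup hN.2.1
  · rw [Cfsg.fittingHallOf, ← Subgroup.map_subgroupOf_eq_of_le hFM]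
    refine Subgroup.map_mono (le_sSup ⟨(Subgroup.normal_subgroupOf_iff_le_normalizer hFM).mpr (le_normalizer_fittingOf M),
      ?_, ?_⟩)
    · have := isNilpotent_fittingOf M
      exact Group.nilpotent_of_mulEquiv (Subgroup.subgroupOfEquivOfLe hFM).symm
    · rw [Basics.card_subgroupOf hFM]
      exact ((isMaxNilpotent_fitting hG hCN hM).hall hCN).coprime_dvd_right (Subgroup.relIndex_dvd_index_of_le hFM)

end

section

variable (hG : IsMinSimpleOddOrder G) (hCN : Cfsg.IsCNGroup G)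
include hG hCN

/-- An elementary abelian subgroup of `M / F(M)` is cyclic. -/
theorem quotient_fitting_lift {M K : Subgroup G} (hM : IsCoatom M) (hK : Cfsg.IsComplIn (Cfsg.fittingOf M) K M)
    [((Cfsg.fittingOf M).subgroupOf M).Normal] :
    ∀ y : ↥M ⧸ (Cfsg.fittingOf M).subgroupOf M, ∃ k : M, (k : G) ∈ K ∧ QuotientGroup.mk' _ k = y ∧
      orderOf (k : G) = orderOf y := by
  intro y
  obtain ⟨m, rfl⟩ := QuotientGroup.mk'_surjective _ y
  obtain ⟨a, ha, b, hb, e⟩ := hK.2.2.2 m m.2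
  have hm : m = (⟨a, fittingOf_le M ha⟩ : M) * ⟨b, hK.2.1 hb⟩ := Subtype.ext e
  refine ⟨⟨b, hK.2.1 hb⟩, hb, ?_, ?_⟩
  · rw [hm, map_mul, show QuotientGroup.mk' ((Cfsg.fittingOf M).subgroupOf M) ⟨a, fittingOf_le M ha⟩ = 1 from
      (QuotientGroup.eq_one_iff _).mpr ha, one_mul]
  · change orderOf b = _
    refine Nat.dvd_antisymm (orderOf_dvd_of_pow_eq_one ?_) ?_
    · set n := orderOf (QuotientGroup.mk' ((Cfsg.fittingOf M).subgroupOf M) m)
      have h1 : QuotientGroup.mk' ((Cfsg.fittingOf M).subgroupOf M) ((⟨b, hK.2.1 hb⟩ : M) ^ n) = 1 := by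
        rw [map_pow]
        have : QuotientGroup.mk' ((Cfsg.fittingOf M).subgroupOf M) m =
            QuotientGroup.mk' ((Cfsg.fittingOf M).subgroupOf M) (⟨b, hK.2.1 hb⟩ : M) := by
          rw [hm, map_mul, show QuotientGroup.mk' ((Cfsg.fittingOf M).subgroupOf M) ⟨a, fittingOf_le M ha⟩ = 1 from
            (QuotientGroup.eq_one_iff _).mpr ha, one_mul]
        rw [← this]
        exact pow_orderOf_eq_one _
      have h2 : b ^ n ∈ Cfsg.fittingOf M ⊓ K :=
        ⟨(QuotientGroup.eq_one_iff (N := (Cfsg.fittingOf M).subgroupOf M) ((⟨b, hK.2.1 hb⟩ : M) ^ n)).mp h1, pow_mem hb n⟩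
      rwa [hK.2.2.1, Subgroup.mem_bot] at h2
    · refine orderOf_dvd_of_pow_eq_one ?_
      rw [hm, map_mul, show QuotientGroup.mk' ((Cfsg.fittingOf M).subgroupOf M) ⟨a, fittingOf_le M ha⟩ = 1 from
        (QuotientGroup.eq_one_iff _).mpr ha, one_mul, ← map_pow]
      rw [show (⟨b, hK.2.1 hb⟩ : M) ^ orderOf b = 1 from Subtype.ext (by simp [pow_orderOf_eq_one]), map_one]

theorem quotient_fitting_ea {M : Subgroup G} (hM : IsCoatom M) [((Cfsg.fittingOf M).subgroupOf M).Normal]
    {t : ℕ} [ht : Fact t.Prime] {X : Subgroup (↥M ⧸ (Cfsg.fittingOf M).subgroupOf M)}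
    (hX : IsElementaryAbelian t X) : Nat.card X ≤ t := by
  obtain ⟨K, hK, -, hfree⟩ := exists_frobenius_complement hG hCN hM
  set F := Cfsg.fittingOf M with hF
  set π := QuotientGroup.mk' (F.subgroupOf M)
  set X' := (X.comap π).map M.subtype ⊓ K with hX'
  have hinj : ∀ u v : M, (u : G) ∈ K → (v : G) ∈ K → π u = π v → u = v := by
    intro u v hu hv e
    have h1 : ((u⁻¹ * v : M) : G) ∈ F ⊓ K := ⟨(QuotientGroup.eq (s := F.subgroupOf M)).mp e, by simpa using mul_mem (inv_mem hu) hv⟩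
    rw [hK.2.2.1, Subgroup.mem_bot] at h1
    exact inv_mul_eq_one.mp (Subtype.ext h1)
  have hmem : ∀ a ∈ X', ∃ m : M, (m : G) = a ∧ π m ∈ X ∧ (m : G) ∈ K := fun a ha => by
    obtain ⟨⟨m, hm, rfl⟩, haK⟩ := ha
    exact ⟨m, rfl, hm, haK⟩
  have hX'e : IsElementaryAbelian t X' := by
    refine ⟨⟨⟨fun a b => ?_⟩⟩, fun a ha => ?_⟩
    · obtain ⟨u, hu, huX, huK⟩ := hmem a a.2
      obtain ⟨v, hv, hvX, hvK⟩ := hmem b b.2
      refine Subtype.ext ?_
      change (a : G) * b = b * a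
      rw [← hu, ← hv]
      have e : u * v = v * u := hinj _ _ (mul_mem huK hvK) (mul_mem hvK huK) (by
        rw [map_mul, map_mul]; exact congrArg Subtype.val (hX.1.is_comm.comm ⟨_, huX⟩ ⟨_, hvX⟩))
      exact congrArg Subtype.val e
    · obtain ⟨u, hu, huX, huK⟩ := hmem a ha
      have e : u ^ t = 1 := hinj _ _ (pow_mem huK t) (one_mem K) (by rw [map_pow, map_one]; exact hX.2 _ huX)
      rw [← hu]
      exact congrArg Subtype.val e
  have hle : Nat.card X ≤ Nat.card X' := by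
    choose k hk hkπ _ using fun y : X => quotient_fitting_lift hG hCN hM hK (y : ↥M ⧸ F.subgroupOf M)
    refine Nat.card_le_card_of_injective (fun y : X => (⟨(k y : G), ⟨k y, ?_, rfl⟩, hk y⟩ : X')) ?_
    · change π (k y) ∈ X
      rw [hkπ y]
      exact y.2
    · intro y z e
      have : k y = k z := Subtype.ext (congrArg (fun w : X' => (w : G)) e)
      exact Subtype.ext ((hkπ y).symm.trans ((congrArg π this).trans (hkπ z)))
  refine hle.trans ?_
  by_contra hlt
  push Not at hlt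
  have := hX'e.1
  exact not_isCyclic_of_ea hX'e hlt (Basics.fpf_abelian_isCyclic X' F (fittingOf_ne_bot hG hM (cn_coatom_ne_bot hG hM))
    ((inf_le_right.trans hK.2.1).trans (le_normalizer_fittingOf M)) fun a ha ha1 => hfree a ha.2 ha1)

/-- In `M / F(M)` an element of prime order normalizing a subgroup of prime order centralizes it. -/
theorem quotient_fitting_commute {M : Subgroup G} (hM : IsCoatom M) [((Cfsg.fittingOf M).subgroupOf M).Normal]
    {s t : ℕ} (hs : s.Prime) (ht : t.Prime) (hne : s ≠ t) {a b : ↥M ⧸ (Cfsg.fittingOf M).subgroupOf M}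
    (ha : orderOf a = s) (hb : orderOf b = t) (hn : b * a * b⁻¹ ∈ Subgroup.zpowers a) : a * b = b * a := by
  obtain ⟨K, hK, -, hfree⟩ := exists_frobenius_complement hG hCN hM
  let π := QuotientGroup.mk' ((Cfsg.fittingOf M).subgroupOf M)
  obtain ⟨a₀, ha₀, hπa, hao⟩ := quotient_fitting_lift hG hCN hM hK a
  obtain ⟨b₀, hb₀, hπb, hbo⟩ := quotient_fitting_lift hG hCN hM hK b
  change π a₀ = a at hπa
  change π b₀ = b at hπb
  obtain ⟨i, hi⟩ := hn
  have hconj : (b₀ : G) * a₀ * (b₀ : G)⁻¹ = (a₀ : G) ^ i := by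
    have h1 : π (a₀ ^ i) = π (b₀ * a₀ * b₀⁻¹) := by
      rw [map_zpow, map_mul, map_mul, map_inv, hπa, hπb]; exact hi
    have h2 : (((a₀ ^ i)⁻¹ * (b₀ * a₀ * b₀⁻¹) : M) : G) ∈ (Cfsg.fittingOf M) ⊓ K := by
      refine ⟨(QuotientGroup.eq (s := (Cfsg.fittingOf M).subgroupOf M)).mp h1, ?_⟩
      simpa using mul_mem (inv_mem (zpow_mem ha₀ i)) (mul_mem (mul_mem hb₀ ha₀) (inv_mem hb₀))
    rw [hK.2.2.1, Subgroup.mem_bot] at h2
    have h3 := congrArg Subtype.val (inv_mul_eq_one.mp (Subtype.ext h2 : (a₀ ^ i)⁻¹ * (b₀ * a₀ * b₀⁻¹) = 1))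
    simpa using h3.symm
  have hbN : (b₀ : G) ∈ Subgroup.normalizer (Subgroup.zpowers (a₀ : G) : Set G) := by
    refine mem_normalizer_of_conj_mem ?_
    rintro _ ⟨j, rfl⟩
    refine ⟨i * j, ?_⟩
    change (a₀ : G) ^ (i * j) = (b₀ : G) * (a₀ : G) ^ j * (b₀ : G)⁻¹
    rw [zpow_mul, ← hconj, conj_zpow]
  set X := Subgroup.zpowers (a₀ : G) ⊔ Subgroup.zpowers (b₀ : G)
  have hcard : Nat.card X = s * t := by
    have h1 := Basics.card_mul_card_eq_card_sup_mul_card_inf
      (Subgroup.zpowers_le.mpr hbN : Subgroup.zpowers (b₀ : G) ≤ Subgroup.normalizer (Subgroup.zpowers (a₀ : G) : Set G))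
    have h2 : Subgroup.zpowers (a₀ : G) ⊓ Subgroup.zpowers (b₀ : G) = ⊥ := Subgroup.card_eq_one.mp
      (Nat.eq_one_of_dvd_coprimes ((Nat.coprime_primes hs ht).mpr hne)
        (by rw [← ha, ← hao, ← Nat.card_zpowers]; exact Subgroup.card_dvd_of_le inf_le_left)
        (by rw [← hb, ← hbo, ← Nat.card_zpowers]; exact Subgroup.card_dvd_of_le inf_le_right))
    rw [h2, Subgroup.card_bot, mul_one, Nat.card_zpowers, Nat.card_zpowers, hao, ha, hbo, hb] at h1
    exact h1.symm
  have hXK : X ≤ K := sup_le (Subgroup.zpowers_le.mpr ha₀) (Subgroup.zpowers_le.mpr hb₀)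
  set Z := (Subgroup.center (Cfsg.fittingOf M)).map (Cfsg.fittingOf M).subtype with hZ
  have hZne : Z ≠ ⊥ := by
    have := (isMaxNilpotent_fitting hG hCN hM).1
    have : Nontrivial (Cfsg.fittingOf M) := (Subgroup.nontrivial_iff_ne_bot _).mpr (fittingOf_ne_bot hG hM (cn_coatom_ne_bot hG hM))
    exact fun e => Group.IsNilpotent.center_ne_bot (Cfsg.fittingOf M) ((Subgroup.map_eq_bot_iff_of_injective _ (Cfsg.fittingOf M).subtype_injective).mp e)
  have hZc : IsMulCommutative Z := isMulCommutative_map inferInstance _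
  have hXZ : X ≤ Subgroup.normalizer (Z : Set G) := by
    refine le_trans ((hXK.trans hK.2.1).trans (le_normalizer_fittingOf M)) ?_
    intro m hm
    refine mem_normalizer_of_conj_mem ?_
    rintro _ ⟨c, hc, rfl⟩
    refine ⟨⟨m * c * m⁻¹, (Subgroup.mem_normalizer_iff.mp hm c).mp c.2⟩, Subgroup.mem_center_iff.mpr fun f => ?_, rfl⟩
    refine Subtype.ext ?_
    have hf : m⁻¹ * f * m ∈ (Cfsg.fittingOf M) := by simpa using (Subgroup.mem_normalizer_iff.mp (inv_mem hm) f).mp f.2
    have h3 : (m⁻¹ * f * m) * c = c * (m⁻¹ * f * m) := congrArg Subtype.val (Subgroup.mem_center_iff.mp hc ⟨_, hf⟩)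
    change (f : G) * (m * c * m⁻¹) = m * c * m⁻¹ * f
    calc (f : G) * (m * c * m⁻¹) = m * ((m⁻¹ * f * m) * c) * m⁻¹ := by group
      _ = m * (c * (m⁻¹ * f * m)) * m⁻¹ := by rw [h3]
      _ = m * c * m⁻¹ * f := by group
  have hcomm : IsMulCommutative X := Basics.fpf_pq_commutative X Z hZne hXZ
    (fun x hx hx1 => le_bot_iff.mp ((inf_le_inf_right _ (Subgroup.map_subtype_le _)).trans (hfree x (hXK hx) hx1).le))
    hs ht hcard
  rw [← hπa, ← hπb, ← map_mul, ← map_mul]
  refine congrArg π (Subtype.ext ?_)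
  exact congrArg (fun z : X => (z : G)) (hcomm.is_comm.comm ⟨(a₀ : G), Subgroup.mem_sup_left (Subgroup.mem_zpowers _)⟩
    ⟨(b₀ : G), Subgroup.mem_sup_right (Subgroup.mem_zpowers _)⟩)

/-- A minimal simple CN group of odd order has no three-step subgroup. -/
theorem not_threeStep (H : Subgroup G) (p : ℕ) : ¬ Cfsg.IsThreeStepGroup p H := by
  classical
  rintro ⟨hne, A, hA1, hAc, -, hAp, hn, htop, ⟨n, hidx⟩, hfree, hlast⟩
  set U := Cfsg.pCore p H with hU
  have hUn : U.Normal := by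
    refine Subgroup.normalizer_eq_top_iff.mp (top_le_iff.mp fun g _ => mem_normalizer_of_conj_mem fun a ha => ?_)
    have hle : U ≤ U.comap (MulAut.conj g).toMonoidHom := sSup_le fun N hN => fun x hx =>
      (le_sSup hN : N ≤ U) (hN.1.conj_mem x hx g)
    exact hle ha
  set N := U ⊔ A with hN
  have hUp : ∀ q : ℕ, q.Prime → q ∣ Nat.card U → q ∣ p := by
    intro q hq hd
    refine piCore_primes {r | r ∣ p} hq (hd.trans (Subgroup.card_dvd_of_le ?_))
    refine sSup_le fun L hL => le_sSup ⟨hL.1, fun r hr hrd => ?_⟩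
    have : Fact r.Prime := ⟨hr⟩
    obtain ⟨x, hx⟩ := exists_prime_orderOf_dvd_card' r hrd
    obtain ⟨k, hk⟩ := hL.2 x
    exact hr.dvd_of_dvd_pow (hx ▸ orderOf_dvd_of_pow_eq_one hk)
  have hUA : (Nat.card U).Coprime (Nat.card A) :=
    Nat.coprime_of_dvd fun q hq h1 h2 => hq.ne_one (Nat.eq_one_of_dvd_coprimes hAp h2 (hUp q hq h1))
  -- `H` is proper, hence solvable
  have hHtop : H ≠ ⊤ := by
    intro e
    subst e
    have := hG.2.1
    have hs : IsSimpleGroup (⊤ : Subgroup G) :=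
      IsSimpleGroup.isSimpleGroup_of_surjective (Subgroup.topEquiv (G := G)).symm.toMonoidHom
        (Subgroup.topEquiv (G := G)).symm.surjective
    rcases IsSimpleGroup.eq_bot_or_eq_top_of_normal U hUn with e | e
    · exact hne e
    · exact htop (top_le_iff.mp (e.symm.le.trans le_sup_left))
  have hsol : Group.IsSolvable H := isSolvable_of_ne_top hG hHtop
  -- a nilpotent normal subgroup of `H` inside `U`
  set Z₀ := U ⊓ Cfsg.fittingSubgroup H with hZ₀
  have hFn : (Cfsg.fittingSubgroup H).Normal := by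
    rw [Basics.fittingSubgroup_eq_iSup_pCore]; infer_instance
  have hZ₀ne : Z₀ ≠ ⊥ := by
    intro e
    have hle : U ≤ Subgroup.centralizer (Cfsg.fittingSubgroup H : Set H) := by
      rw [← Subgroup.commutator_eq_bot_iff_le_centralizer, eq_bot_iff, ← e]
      exact le_inf (Subgroup.commutator_le_left _ _) (Subgroup.commutator_le_right _ _)
    exact hne (eq_bot_iff.mpr (e ▸ le_inf le_rfl (hle.trans Basics.centralizer_fittingSubgroup_le)))
  set Z := Z₀.map H.subtype with hZ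
  have hZne : Z ≠ ⊥ := fun e => hZ₀ne ((Subgroup.map_eq_bot_iff_of_injective _ H.subtype_injective).mp e)
  have hZnil : Group.IsNilpotent Z := by
    refine Basics.isNilpotent_of_le' (Subgroup.map_mono inf_le_right) ?_
    exact isNilpotent_fittingOf H
  have hHZ : H ≤ Subgroup.normalizer (Z : Set G) := le_normalizer_map_subtype Z₀
  obtain ⟨L, hL, hZL⟩ := exists_maxNilpotent_ge hZnil
  obtain ⟨M, hM, rfl⟩ := exists_maximal_of_maxNilpotent hG hCN hL
  set F := Cfsg.fittingOf M with hF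
  have hHM : H ≤ M := by
    rw [coatom_eq_normalizer_fitting hG hCN hM]
    intro h hh
    rw [Subgroup.mem_normalizer_iff_map_conj_eq]
    by_contra hne'
    refine hZne (eq_bot_iff.mpr ?_)
    rw [← cn_fitting_ti hG hCN hM h hne']
    refine le_inf hZL fun z hz => ⟨h⁻¹ * z * h, hZL ?_, by simp [mul_assoc]⟩
    simpa using (Subgroup.mem_normalizer_iff.mp (inv_mem (hHZ hh)) z).mp hz
  have hFn' : (F.subgroupOf M).Normal :=
    (Subgroup.normal_subgroupOf_iff_le_normalizer (fittingOf_le M)).mpr (le_normalizer_fittingOf M)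
  set φ : H →* ↥M ⧸ F.subgroupOf M := (QuotientGroup.mk' (F.subgroupOf M)).comp (Subgroup.inclusion hHM)
  have hker : ∀ h : H, φ h = 1 ↔ (h : G) ∈ F := fun h => QuotientGroup.eq_one_iff _
  -- `A ∩ F = 1`
  obtain ⟨z, hz, hz1⟩ := (Subgroup.bot_or_exists_ne_one Z₀).resolve_left hZ₀ne
  have hAF : ∀ a ∈ A, (a : G) ∈ F → a = 1 := by
    intro a ha haF
    by_contra ha1
    have hzU : z ∈ U := hz.1
    have h1 : z ∈ U ⊓ Subgroup.centralizer ({a} : Set H) := by
      refine ⟨hzU, Subgroup.mem_centralizer_singleton_iff.mpr (Subtype.ext ?_)⟩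
      exact (Basics.commute_of_coprime_le hL.1 (hZL ⟨z, hz, rfl⟩) haF
        ((hUA.coprime_dvd_left ((Subgroup.orderOf_coe z).symm ▸ Subgroup.orderOf_dvd_natCard U hzU)).coprime_dvd_right
          ((Subgroup.orderOf_coe a).symm ▸ Subgroup.orderOf_dvd_natCard A ha))).eq
    rw [hfree a ha ha1, Subgroup.mem_bot] at h1
    exact hz1 h1
  have hUA' : U ⊓ A = ⊥ := Subgroup.card_eq_one.mp
    (Nat.eq_one_of_dvd_coprimes hUA (Subgroup.card_dvd_of_le inf_le_left) (Subgroup.card_dvd_of_le inf_le_right))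
  have hdec : ∀ y ∈ N, ∃ u ∈ U, ∃ a ∈ A, u * a = y := fun y hy => Subgroup.mem_sup_of_normal_left.mp hy
  -- `H ∩ F ≤ U`
  have hHF : ∀ y : H, (y : G) ∈ F → y ∈ U := by
    have hnorm : (φ.ker).Normal := inferInstance
    suffices h : φ.ker ≤ U from fun y hy => h ((hker y).mpr hy)
    refine le_sSup ⟨hnorm, fun y => ?_⟩
    refine ⟨orderOf y, orderOf_dvd_iff_pow_eq_one.mp ?_⟩
    rw [Nat.dvd_iff_prime_pow_dvd_dvd]
    intro s i hs hsi
    rcases Nat.eq_zero_or_pos i with rfl | hi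
    · simp
    have hsp : s ∣ p := by
      by_contra hsp
      obtain ⟨k, hk⟩ : ∃ k, orderOf ((y : H) ^ k) = s :=
        ⟨orderOf (y : H) / s, orderOf_pow_orderOf_div (orderOf_pos (y : H)).ne'
          (by rw [Subgroup.orderOf_coe]; exact (dvd_pow_self s hi.ne').trans hsi)⟩
      set w := (y : H) ^ k with hw
      have hwF : (w : G) ∈ F := (hker w).mp (pow_mem y.2 k)
      have hwN : w ∈ N := by
        refine (QuotientGroup.eq_one_iff w).mp (orderOf_eq_one_iff.mp (Nat.eq_one_of_dvd_coprimes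
          ((hs.coprime_iff_not_dvd.mpr hsp).pow_right n)
          (hk ▸ orderOf_map_dvd (QuotientGroup.mk' N) w) (hidx ▸ orderOf_dvd_natCard _)))
      obtain ⟨u, hu, a, ha, hwa⟩ := hdec w hwN
      have : Fact s.Prime := ⟨hs⟩
      have hsU : ¬ s ∣ Nat.card U := fun h => hsp (hUp s hs h)
      have has : a ^ s = 1 := by
        have h1 : QuotientGroup.mk' U (a ^ s) = 1 := by
          have h2 : QuotientGroup.mk' U a = QuotientGroup.mk' U w := by
            rw [← hwa, map_mul, show QuotientGroup.mk' U u = 1 from (QuotientGroup.eq_one_iff u).mpr hu, one_mul]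
          rw [map_pow, h2, ← map_pow, ← hk, pow_orderOf_eq_one, map_one]
        have h3 : a ^ s ∈ U ⊓ A := ⟨(QuotientGroup.eq_one_iff _).mp h1, pow_mem ha s⟩
        rwa [hUA', Subgroup.mem_bot] at h3
      have ha1 : a ≠ 1 := by
        rintro rfl
        rw [mul_one] at hwa
        exact hsU (hk ▸ Subgroup.orderOf_dvd_natCard U (hwa ▸ hu))
      have hao : orderOf a = s := orderOf_eq_prime has ha1
      set Wg := U ⊔ Subgroup.zpowers a with hWg
      have hwW : w ∈ Wg := hwa ▸ mul_mem (Subgroup.mem_sup_left hu) (Subgroup.mem_sup_right (Subgroup.mem_zpowers a))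
      have hWcard : Nat.card Wg = Nat.card U * s := by
        have h1 := Basics.card_mul_card_eq_card_sup_mul_card_inf
          (Subgroup.le_normalizer_of_normal : Subgroup.zpowers a ≤ Subgroup.normalizer (U : Set H))
        have h2 : U ⊓ Subgroup.zpowers a = ⊥ :=
          eq_bot_iff.mpr ((inf_le_inf_left U (Subgroup.zpowers_le.mpr ha)).trans hUA'.le)
        rw [h2, Subgroup.card_bot, mul_one, Nat.card_zpowers, hao] at h1
        exact h1.symm
      have hcard : ∀ v : H, orderOf v = s → Basics.IsSylowIn s Wg (Subgroup.zpowers v) ∨ ¬ v ∈ Wg := fun v hv => by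
        by_cases hvW : v ∈ Wg
        · refine Or.inl ⟨Subgroup.zpowers_le.mpr hvW, ?_⟩
          rw [Nat.card_zpowers, hv, hWcard, Nat.factorization_mul Nat.card_pos.ne' hs.ne_zero, Finsupp.add_apply,
            Nat.factorization_eq_zero_of_not_dvd hsU, hs.factorization_self, zero_add, pow_one]
        · exact Or.inr hvW
      obtain ⟨c, -, hc⟩ := ((hcard w hk).resolve_right (fun h => h hwW)).exists_conj
        ((hcard a hao).resolve_right (fun h => h (Subgroup.mem_sup_right (Subgroup.mem_zpowers a))))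
      have haw : a ∈ MulAut.conj c • Subgroup.zpowers w := hc.symm ▸ Subgroup.mem_zpowers a
      obtain ⟨v, ⟨j, rfl⟩, hv⟩ : a ∈ (Subgroup.zpowers w).map (MulAut.conj c).toMonoidHom := haw
      refine ha1 (hAF a ha ?_)
      rw [← hv]
      change ((c * w ^ j * c⁻¹ : H) : G) ∈ F
      exact (hker _).mp ((hnorm.conj_mem _ (zpow_mem ((hker w).mpr hwF) j)) c)
    refine (pow_dvd_pow s ?_).trans (pow_dvd_pow_of_dvd hsp _)
    have h1 := Nat.le_of_dvd (orderOf_pos y) hsi
    have h2 := Nat.lt_pow_self (n := i) hs.one_lt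
    omega
  -- `U ≤ F`
  have hUF : ∀ u ∈ U, (u : G) ∈ F := by
    by_contra hcon
    push Not at hcon
    obtain ⟨u₁, hu₁, hu₁F⟩ := hcon
    obtain ⟨a₁, ha₁, ha₁1⟩ := (Subgroup.bot_or_exists_ne_one A).resolve_left hA1
    obtain ⟨s, k, hs, -, hk⟩ := exists_pow_prime_order ha₁1
    set a := a₁ ^ k
    have ha : a ∈ A := pow_mem ha₁ k
    have ha1 : a ≠ 1 := fun e => hs.ne_one (by rw [← hk, e, orderOf_one])
    set U' := U.map φ
    set A' := Subgroup.zpowers (φ a)
    have hU'ne : Nat.card U' ≠ 1 := fun e => hu₁F ((hker u₁).mp (Subgroup.mem_bot.mp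
      (Subgroup.card_eq_one.mp e ▸ Subgroup.mem_map_of_mem φ hu₁)))
    obtain ⟨t, ht, htd⟩ := Nat.exists_prime_and_dvd hU'ne
    have : Fact t.Prime := ⟨ht⟩
    have haordφ : orderOf (φ a) = s := by
      refine ((Nat.dvd_prime hs).mp (hk ▸ orderOf_map_dvd φ a)).resolve_left fun e => ?_
      exact ha1 (hAF a ha ((hker a).mp (orderOf_eq_one_iff.mp e)))
    have hcop : (Nat.card A').Coprime (Nat.card U') := by
      rw [Nat.card_zpowers, haordφ, ← hk]
      exact (hUA.coprime_dvd_left (Subgroup.card_map_dvd _ _)).symm.coprime_dvd_left (Subgroup.orderOf_dvd_natCard A ha)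
    have hA'U' : A' ≤ Subgroup.normalizer (U' : Set _) :=
      Subgroup.zpowers_le.mpr (Subgroup.le_normalizer_map φ ⟨a, by rw [Subgroup.normalizer_eq_top]; trivial, rfl⟩)
    have : Group.IsSolvable A' := inferInstance
    obtain ⟨S, hS, hAS⟩ := Basics.exists_invariant_isSylowIn A' U' hA'U' hcop (Or.inl inferInstance) t
    have hSne : S ≠ ⊥ := by
      intro e
      have h1 := hS.2
      rw [e, Subgroup.card_bot] at h1
      have h2 := ht.factorization_pos_of_dvd Nat.card_pos.ne' htd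
      exact absurd h1.symm (Nat.one_lt_pow h2.ne' ht.one_lt).ne'
    have : Nontrivial S := (Subgroup.nontrivial_iff_ne_bot _).mpr hSne
    have hzn : Nontrivial (Subgroup.center S) := hS.isPGroup.center_nontrivial
    obtain ⟨w, hw⟩ := exists_prime_orderOf_dvd_card' (G := Subgroup.center S) t (by
      rcases (hS.isPGroup.to_subgroup (Subgroup.center S)).card_eq_or_dvd with e | e
      · exact absurd e Finite.one_lt_card.ne'
      · exact e)
    set b : ↥M ⧸ F.subgroupOf M := (((w : S)) : ↥M ⧸ F.subgroupOf M) with hb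
    have hbo : orderOf b = t := by rw [hb, Subgroup.orderOf_coe, Subgroup.orderOf_coe, hw]
    have haS := hAS (Subgroup.mem_zpowers (φ a))
    have hbS : b ∈ S := (w : S).2
    have hbn : φ a * b * (φ a)⁻¹ ∈ Subgroup.zpowers b := by
      have hbc : φ a * b * (φ a)⁻¹ ∈ Subgroup.centralizer (Subgroup.zpowers b : Set _) :=
        centralizes_zpowers (congrArg Subtype.val (Subgroup.mem_center_iff.mp w.2
          ⟨_, (Subgroup.mem_normalizer_iff.mp haS b).mp hbS⟩)).symm
      have he : IsElementaryAbelian t (Subgroup.zpowers b) :=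
        ⟨inferInstance, fun x hx => by obtain ⟨j, rfl⟩ := hx; rw [← zpow_natCast (b ^ j), ← zpow_mul, mul_comm,
          zpow_mul, zpow_natCast, ← hbo, pow_orderOf_eq_one, one_zpow]⟩
      have he2 := ea_sup_zpowers he hbc (by rw [conj_pow, ← hbo, pow_orderOf_eq_one, mul_one, mul_inv_cancel])
      have h1 := quotient_fitting_ea hG hCN hM he2
      have h2 : Subgroup.zpowers b = Subgroup.zpowers b ⊔ Subgroup.zpowers (φ a * b * (φ a)⁻¹) :=
        Subgroup.eq_of_le_of_card_ge le_sup_left (by rw [Nat.card_zpowers, hbo]; exact h1)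
      exact h2.ge (Subgroup.mem_sup_right (Subgroup.mem_zpowers _))
    have hst : t ≠ s := fun e => hs.ne_one (Nat.eq_one_of_dvd_coprimes hcop
      (by rw [Nat.card_zpowers, haordφ]) (e ▸ htd))
    have hab := quotient_fitting_commute hG hCN hM ht hs hst hbo haordφ hbn
    obtain ⟨u, hu, hub⟩ : b ∈ U' := hS.1 hbS
    set U0 := U ⊓ φ.ker
    have hcomm : ∀ x ∈ Subgroup.zpowers a, x * u * x⁻¹ * u⁻¹ ∈ U0 := by
      rintro x ⟨j, rfl⟩
      refine Subgroup.mem_inf.mpr ⟨mul_mem (hUn.conj_mem u hu _) (inv_mem hu), ?_⟩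
      rw [MonoidHom.mem_ker, map_mul, map_mul, map_mul, map_inv, map_inv, map_zpow, hub]
      rw [((show Commute (φ a) b from hab.symm).zpow_left j).eq, mul_inv_cancel_right, mul_inv_cancel]
    obtain ⟨c, hc, hcu⟩ := Basics.exists_inf_centralizer_mem_coset (Subgroup.zpowers a) U U0 inf_le_left
      Subgroup.le_normalizer_of_normal Subgroup.le_normalizer_of_normal
      (by rw [Nat.card_zpowers]; exact (hUA.coprime_dvd_right (Subgroup.orderOf_dvd_natCard A ha)).symm)
      (Or.inr inferInstance) u hu hcomm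
    have hc1 : c ∈ U ⊓ Subgroup.centralizer ({a} : Set H) :=
      ⟨hc.1, Subgroup.mem_centralizer_singleton_iff.mpr (eq_of_mem_centralizer_zpowers hc.2).symm⟩
    rw [hfree a ha ha1, Subgroup.mem_bot] at hc1
    rw [hc1, mul_one] at hcu
    have : φ u = 1 := inv_eq_one.mp (by rw [← map_inv]; exact hcu.2)
    rw [hub] at this
    exact ht.ne_one (by rw [← hbo, this, orderOf_one])
  -- an element outside `U A`
  have hn1 : N.index ≠ 1 := mt Subgroup.index_eq_one.mp htop
  obtain ⟨q, hq, hqd⟩ := Nat.exists_prime_and_dvd hn1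
  have : Fact q.Prime := ⟨hq⟩
  have hqp : q ∣ p := hq.dvd_of_dvd_pow (hidx ▸ hqd)
  obtain ⟨Q⟩ : Nonempty (Sylow q H) := inferInstance
  obtain ⟨x, hxQ, hxN⟩ : ∃ x ∈ (Q : Subgroup H), x ∉ N :=
    SetLike.not_le_iff_exists.mp fun h => Q.not_dvd_index (hqd.trans (Subgroup.index_dvd_of_le h))
  have hφx : φ x ≠ 1 := fun e => hxN (Subgroup.mem_sup_left (hHF x ((hker x).mp e)))
  obtain ⟨r, k, hr, hrd, hk⟩ := exists_pow_prime_order hφx
  obtain ⟨b, hb⟩ := Q.2 ⟨x, hxQ⟩
  have hxb : x ^ q ^ b = 1 := congrArg Subtype.val hb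
  have hrq : r = q := (Nat.prime_dvd_prime_iff_eq hr hq).mp
    (hr.dvd_of_dvd_pow (hrd.trans ((orderOf_map_dvd φ x).trans (orderOf_dvd_of_pow_eq_one hxb))))
  subst hrq
  set x₀ := x ^ k with hx₀
  rw [← map_pow, ← hx₀] at hk
  obtain ⟨a₁, ha₁, ha₁1⟩ := (Subgroup.bot_or_exists_ne_one A).resolve_left hA1
  obtain ⟨s, j, hs, -, hj⟩ := exists_pow_prime_order ha₁1
  set a := a₁ ^ j
  have ha : a ∈ A := pow_mem ha₁ j
  have ha1 : a ≠ 1 := fun e => hs.ne_one (by rw [← hj, e, orderOf_one])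
  have hqA : ¬ r ∣ Nat.card A := fun h => hq.ne_one (Nat.eq_one_of_dvd_coprimes hAp h hqp)
  have hrs : s ≠ r := fun e => hqA (e ▸ hj ▸ Subgroup.orderOf_dvd_natCard A ha)
  have haφ : orderOf (φ a) = s := by
    refine ((Nat.dvd_prime hs).mp (hj ▸ orderOf_map_dvd φ a)).resolve_left fun e => ?_
    exact ha1 (hAF a ha ((hker a).mp (orderOf_eq_one_iff.mp e)))
  have hxN₀ : x₀ ∉ N := by
    intro h
    obtain ⟨u, hu, c, hc, e⟩ := hdec x₀ h
    have h1 : φ x₀ = φ c := by rw [← e, map_mul, (hker u).mpr (hUF u hu), one_mul]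
    exact hqA (hk ▸ h1 ▸ (orderOf_map_dvd φ c).trans (Subgroup.orderOf_dvd_natCard A hc))
  have hnorm : φ x₀ * φ a * (φ x₀)⁻¹ ∈ Subgroup.zpowers (φ a) := by
    obtain ⟨u, hu, c, hc, e⟩ := hdec _ (hn.conj_mem a (Subgroup.mem_sup_right ha) x₀)
    have h1 : φ c = φ x₀ * φ a * (φ x₀)⁻¹ := by
      rw [← map_inv, ← map_mul, ← map_mul, ← e, map_mul, (hker u).mpr (hUF u hu), one_mul]
    rw [← h1]
    have hcs : c ^ s = 1 := by
      refine hAF _ (pow_mem hc s) ((hker _).mp ?_)
      rw [map_pow, h1, conj_pow, ← map_pow, ← hj, pow_orderOf_eq_one, map_one, mul_one, mul_inv_cancel]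
    have hca : c ∈ Subgroup.zpowers a := by
      rcases eq_or_ne c 1 with rfl | hc1
      · exact one_mem _
      have := hAc
      have heq : Subgroup.zpowers (⟨c, hc⟩ : A) = Subgroup.zpowers (⟨a, ha⟩ : A) :=
        Basics.cyclic_subgroup_eq_of_card_eq (by
          rw [Nat.card_zpowers, Nat.card_zpowers, ← Subgroup.orderOf_coe, ← Subgroup.orderOf_coe (⟨a, ha⟩ : A)]
          have : Fact s.Prime := ⟨hs⟩
          exact (orderOf_eq_prime hcs hc1).trans hj.symm)
      obtain ⟨i, hi⟩ : (⟨c, hc⟩ : A) ∈ Subgroup.zpowers (⟨a, ha⟩ : A) := heq ▸ Subgroup.mem_zpowers _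
      exact ⟨i, congrArg Subtype.val hi⟩
    obtain ⟨i, rfl⟩ := hca
    exact ⟨i, (map_zpow φ a i).symm⟩
  have hcom := quotient_fitting_commute hG hCN hM hs hr hrs haφ hk hnorm
  refine hlast x₀ hxN₀ a ha ha1 (hHF _ ((hker _).mp ?_))
  rw [map_mul, map_mul, map_mul, map_inv, map_inv, ← hcom, mul_inv_cancel_right, mul_inv_cancel]

end

end Cfsg.Agent.OddLocal
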