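import Cfsg.Agent.Lib.OddLocal.CNFrobenius
import Cfsg.Agent.Lib.OddLocal.CNQuotient
import Cfsg.Agent.S1484
import Cfsg.Agent.S1526

/-! Groups of odd order with nilpotent centralizers are solvable. -/

set_option autoImplicit false

namespace Cfsg.Agent.OddLocal

universe u

theorem no_minSimple_CN {G : Type u} [Group G] [Finite G] (hG : IsMinSimpleOddOrder G)
    (hCN : Cfsg.IsCNGroup G) : False := by
  classical
  haveI := nontrivial_of_minSimple hG
  let st : Setoid {M : Subgroup G // IsCoatom M} :=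
    { r := fun M N => ∃ g : G, N.1 = M.1.map (MulAut.conj g).toMonoidHom
      iseqv := ⟨fun M => ⟨1, by ext x; simp⟩, fun {M N} ⟨g, hg⟩ => ⟨g⁻¹, by
        rw [hg, Subgroup.map_map]; ext x; simp [mul_assoc]⟩,
        fun {M N L} ⟨g, hg⟩ ⟨h, hh⟩ => ⟨h * g, by
          rw [hh, hg, Subgroup.map_map]; ext x; simp [mul_assoc]⟩⟩ }
  obtain ⟨k, ⟨e⟩⟩ := Finite.exists_equiv_fin (Quotient st)
  let Mrep : Fin k → Subgroup G := fun i => (e.symm i).out.1
  have hmax : ∀ i, IsCoatom (Mrep i) := fun i => (e.symm i).out.2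
  have hnc : ∀ i j, i ≠ j → ∀ g : G, Mrep j ≠ (Mrep i).map (MulAut.conj g).toMonoidHom := by
    intro i j hij g h
    refine hij (e.symm.injective ?_)
    rw [← Quotient.out_eq (e.symm i), ← Quotient.out_eq (e.symm j)]
    exact Quotient.sound ⟨g, h⟩
  have hall : ∀ M : Subgroup G, IsCoatom M →
      ∃ i, ∃ g : G, M = (Mrep i).map (MulAut.conj g).toMonoidHom := by
    intro M hM
    refine ⟨e ⟦⟨M, hM⟩⟧, ?_⟩
    obtain ⟨g, hg⟩ := Quotient.mk_out (s := st) ⟨M, hM⟩
    exact ⟨g, by simp only [Mrep, Equiv.symm_apply_apply]; exact hg⟩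
  obtain ⟨hcop, hprod, hcover⟩ :=
    Cfsg.Agent.S1484.result hG hCN k Mrep hmax hnc hall
  have hF : ∀ i, Cfsg.fittingHallOf (Mrep i) = Cfsg.fittingOf (Mrep i) := fun i =>
    fittingHallOf_eq hG hCN (hmax i)
  simp only [hF] at hcop hprod hcover
  have hlt : ∀ i, Cfsg.fittingOf (Mrep i) < Mrep i := fun i =>
    lt_of_le_of_ne (fittingOf_le _) (fitting_ne_self hG hCN (hmax i))
  have hk : 2 ≤ k := by
    by_contra hk
    obtain ⟨M, hM⟩ : ∃ M : Subgroup G, IsCoatom M := by
      rcases eq_top_or_exists_le_coatom (⊥ : Subgroup G) with h | ⟨M, hM, -⟩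
      · exact absurd h bot_ne_top
      · exact ⟨M, hM⟩
    obtain ⟨i, -⟩ := hall M hM
    have hk1 : k = 1 := by have := i.2; omega
    subst hk1
    rw [Fin.prod_univ_one] at hprod
    exact (hmax 0).1 (top_le_iff.mp ((Subgroup.eq_top_of_card_eq _ hprod).symm.le.trans (hlt 0).le))
  refine Cfsg.Agent.S1526.result hG.1 (ι := Fin k) (by simpa using hk) Mrep
    (fun i => Cfsg.fittingOf (Mrep i)) hlt
    (fun i => fittingOf_ne_bot hG (hmax i) (cn_coatom_ne_bot hG (hmax i)))
    (fun i x hx h hh => (Subgroup.mem_normalizer_iff.mp (le_normalizer_fittingOf _ hx) h).mp hh)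
    (fun i h hh hh1 => inf_le_right.trans (centralizer_le_fitting hG hCN (hmax i) hh hh1))
    hcop (fun i => ⟨?_, (coatom_eq_normalizer_fitting hG hCN (hmax i)).symm⟩)
    (fun g _ => hcover g)
  intro g hg x hx hgx
  by_contra hx1
  have hne : (Cfsg.fittingOf (Mrep i)).map (MulAut.conj g).toMonoidHom ≠ Cfsg.fittingOf (Mrep i) :=
    fun h => hg (Subgroup.mem_normalizer_iff_map_conj_eq.mpr h)
  have hm : g * x * g⁻¹ ∈ Cfsg.fittingOf (Mrep i) ⊓
      (Cfsg.fittingOf (Mrep i)).map (MulAut.conj g).toMonoidHom := ⟨hgx, ⟨x, hx, rfl⟩⟩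
  rw [cn_fitting_ti hG hCN (hmax i) g hne, Subgroup.mem_bot, mul_inv_eq_one, mul_eq_left] at hm
  exact hx1 hm

theorem isSolvable_of_CN_odd (n : ℕ) : ∀ (G : Type u) [Group G] [Finite G], Nat.card G = n →
    Odd (Nat.card G) → Cfsg.IsCNGroup G → Group.IsSolvable G := by
  induction n using Nat.strong_induction_on with
  | _ n IH =>
    intro G _ _ hn hodd hCN
    by_contra hns
    have hsub : ∀ H : Subgroup G, H ≠ ⊤ → Group.IsSolvable H := fun H hH => by
      refine IH _ ?_ H rfl (hodd.of_dvd_nat (Subgroup.card_subgroup_dvd_card H)) fun a ha => ?_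
      · rw [← hn]
        exact lt_of_le_of_ne (Subgroup.card_le_card_group H) fun h => hH (Subgroup.eq_top_of_card_eq H h)
      · have h1 := hCN a (fun h => ha (Subtype.ext h))
        haveI := h1
        let f : Subgroup.centralizer ({a} : Set H) →* Subgroup.centralizer ({(a : G)} : Set G) :=
          { toFun := fun c => ⟨((c : H) : G), Subgroup.mem_centralizer_singleton_iff.mpr
              (congrArg Subtype.val (Subgroup.mem_centralizer_singleton_iff.mp c.2))⟩
            map_one' := rfl
            map_mul' := fun _ _ => rfl }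
        have hf : Function.Injective f := fun x y h =>
          Subtype.ext (Subtype.ext (congrArg (fun t : Subgroup.centralizer ({(a : G)} : Set G) => (t : G)) h))
        exact Group.nilpotent_of_mulEquiv (MonoidHom.ofInjective hf).symm
    have hnt : Nontrivial G := by
      rw [← not_subsingleton_iff_nontrivial]
      intro h
      exact hns inferInstance
    have hsimp : IsSimpleGroup G := by
      refine ⟨fun N hN => or_iff_not_imp_left.mpr fun hb => ?_⟩
      by_contra ht
      haveI := hN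
      haveI := hsub N ht
      have hq := IH _ (by
          rw [← hn, N.card_eq_card_quotient_mul_card_subgroup]
          exact lt_mul_of_one_lt_right Nat.card_pos (N.one_lt_card_iff_ne_bot.mpr hb))
        (G ⧸ N) rfl (hodd.of_dvd_nat (Subgroup.card_quotient_dvd_card N))
        (isCN_quotient_solvable_aux _ G rfl hCN N (hsub N ht))
      exact hns (Group.isSolvable_of_ker_le_range N.subtype (QuotientGroup.mk' N)
        (by rw [QuotientGroup.ker_mk', Subgroup.range_subtype]))
    refine no_minSimple_CN ⟨hodd, hsimp, fun hc => hns ?_, hsub⟩ hCN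
    exact Group.isSolvable_of_comm fun a b => hc.1.comm a b

end Cfsg.Agent.OddLocal
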