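import Cfsg.Prelude.Def_OddOrderLocal
import Cfsg.Agent.Lib.OddLocal.PAction
import Cfsg.Agent.Lib.LocalEvenA.Core
import Mathlib.GroupTheory.Nilpotent

/-! The transitivity theorem: maximal invariant `q`-subgroups of an abelian `p`-group of rank three are
conjugate when the centralizers of its elements confine them to the `p'`-core. -/

set_option autoImplicit false

namespace Cfsg.Agent.OddLocal

variable {G : Type*} [Group G] {p q : ℕ}

theorem isPGroup_of_primes [Finite G] {Y : Subgroup G}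
    (h : ∀ r : ℕ, r.Prime → r ∣ Nat.card Y → r = q) : IsPGroup q Y := by
  refine IsPGroup.of_card_dvd_pow (n := (Nat.card Y).primeFactorsList.length) ?_
  have := Nat.eq_prime_pow_of_unique_prime_dvd (p := q) (n := Nat.card Y) Nat.card_pos.ne'
    (fun {r} hr hd => h r hr hd)
  rw [← this]

theorem mem_invSubgroups_singleton [Finite G] [Fact q.Prime] {A Y : Subgroup G} :
    Y ∈ invSubgroups ⊤ A {q} ↔ IsPGroup q Y ∧ A ≤ Subgroup.normalizer (Y : Set G) := by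
  constructor
  · rintro ⟨-, h1, h2⟩
    exact ⟨isPGroup_of_primes h1, h2⟩
  · rintro ⟨h1, h2⟩
    refine ⟨le_top, fun r hr hd => ?_, h2⟩
    obtain ⟨n, hn⟩ := IsPGroup.iff_card.mp h1
    exact (Nat.prime_dvd_prime_iff_eq hr Fact.out).mp (hr.dvd_of_dvd_pow (hn ▸ hd))

theorem map_conj_map_conj (H : Subgroup G) (g h : G) :
    (H.map (MulAut.conj g).toMonoidHom).map (MulAut.conj h).toMonoidHom =
      H.map (MulAut.conj (h * g)).toMonoidHom := by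
  ext x
  simp only [mem_map_conj_iff, mul_inv_rev, mul_assoc]

theorem map_conj_mem_maxInvSubgroups [Finite G] [Fact q.Prime] {A Q : Subgroup G}
    (hQ : Q ∈ maxInvSubgroups ⊤ A {q}) {c : G} (hc : c ∈ Subgroup.centralizer (A : Set G)) :
    Q.map (MulAut.conj c).toMonoidHom ∈ maxInvSubgroups ⊤ A {q} := by
  obtain ⟨hQ1, hQ2⟩ := hQ
  rw [mem_invSubgroups_singleton] at hQ1
  refine ⟨mem_invSubgroups_singleton.mpr ⟨hQ1.1.map _, normalizer_map_conj_of_commute hc hQ1.2⟩,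
    fun R hR hle => ?_⟩
  rw [mem_invSubgroups_singleton] at hR
  have h := hQ2 (R.map (MulAut.conj c⁻¹).toMonoidHom)
    (mem_invSubgroups_singleton.mpr ⟨hR.1.map _, normalizer_map_conj_of_commute (inv_mem hc) hR.2⟩)
    (by
      refine le_trans (le_of_eq ?_) (Subgroup.map_mono (f := (MulAut.conj c⁻¹).toMonoidHom) hle)
      rw [map_conj_map_conj, inv_mul_cancel, map_one]
      exact (Subgroup.map_id Q).symm)
  rw [← h, map_conj_map_conj, mul_inv_cancel, map_one]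
  exact (Subgroup.map_id R).symm

theorem mem_zpowers_symm_of_pow_eq_one [Fact p.Prime] {a d : G} (hd : d ^ p = 1)
    (ha : a ∈ Subgroup.zpowers d) (ha1 : a ≠ 1) : d ∈ Subgroup.zpowers a := by
  have hp : p.Prime := Fact.out
  obtain ⟨n, rfl⟩ := ha
  have hn : ¬ (p : ℤ) ∣ n := by
    rintro ⟨m, rfl⟩
    exact ha1 (by simp only; rw [zpow_mul, zpow_natCast, hd, one_zpow])
  have hcop : Int.gcd n p = 1 := by
    rw [Int.gcd_comm]
    exact Int.isCoprime_iff_gcd_eq_one.mp ((Nat.prime_iff_prime_int.mp hp).coprime_iff_not_dvd.mpr hn)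
  refine ⟨Int.gcdA n p, ?_⟩
  have h := Int.gcd_eq_gcd_ab n p
  rw [hcop] at h
  have hd' : (d ^ n) ^ Int.gcdA n p = d ^ (1 : ℤ) := by
    rw [← zpow_mul]
    have e : n * Int.gcdA n p = 1 - (p : ℤ) * Int.gcdB n p := by push_cast at h; linarith
    rw [e, zpow_sub, zpow_mul, zpow_natCast, hd, one_zpow, inv_one, mul_one]
  rw [zpow_one] at hd'
  exact hd'

theorem card_zpowers_sup_le [Finite G] {a b : G} (hab : Commute a b) (ha : a ^ p = 1) (hb : b ^ p = 1)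
    (hp : 0 < p) : Nat.card ↥(Subgroup.zpowers a ⊔ Subgroup.zpowers b) ≤ p * p := by
  have hn : Subgroup.zpowers a ≤ Subgroup.normalizer (Subgroup.zpowers b : Set G) := by
    rw [Subgroup.zpowers_le]
    refine (Subgroup.centralizer_le_normalizer (Subgroup.zpowers b : Set G)) ?_
    rw [Subgroup.mem_centralizer_iff]
    rintro _ ⟨n, rfl⟩
    exact (hab.symm.zpow_left n).eq
  have h1 : Nat.card (Subgroup.zpowers a) ≤ p := by
    rw [Nat.card_zpowers]; exact Nat.le_of_dvd hp (orderOf_dvd_of_pow_eq_one ha)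
  have h2 : Nat.card (Subgroup.zpowers b) ≤ p := by
    rw [Nat.card_zpowers]; exact Nat.le_of_dvd hp (orderOf_dvd_of_pow_eq_one hb)
  refine le_trans ?_ (Nat.mul_le_mul h1 h2)
  rw [← Nat.card_prod]
  refine Nat.card_le_card_of_surjective (fun x => ⟨x.1 * x.2, mul_mem
    (Subgroup.mem_sup_left x.1.2) (Subgroup.mem_sup_right x.2.2)⟩) ?_
  rintro ⟨x, hx⟩
  rw [← SetLike.mem_coe, Subgroup.coe_mul_of_left_le_normalizer_right _ _ hn] at hx
  obtain ⟨u, hu, v, hv, rfl⟩ := hx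
  exact ⟨(⟨u, hu⟩, ⟨v, hv⟩), rfl⟩

/-- In an elementary abelian group of order at least `p ^ 3`, a pair avoiding a given element. -/
theorem exists_pair_avoiding [Finite G] [Fact p.Prime] {B : Subgroup G} (hBc : ∀ a ∈ B, ∀ b ∈ B, Commute a b)
    (hBp : ∀ a ∈ B, a ^ p = 1) (hB : p ^ 3 ≤ Nat.card B) {b : G} (hb : b ∈ B) :
    ∃ c ∈ B, ∃ d ∈ B, d ≠ 1 ∧ c ∉ Subgroup.zpowers d ∧
      (b ≠ 1 → b ∉ Subgroup.zpowers c ⊔ Subgroup.zpowers d) := by
  have hp : p.Prime := Fact.out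
  obtain ⟨d, hdB, hd⟩ : ∃ d ∈ B, d ∉ Subgroup.zpowers b := by
    by_contra h
    push Not at h
    have h1 := Subgroup.card_le_of_le (H := B) (K := Subgroup.zpowers b) h
    have h2 : orderOf b ≤ p := Nat.le_of_dvd hp.pos (orderOf_dvd_of_pow_eq_one (hBp b hb))
    rw [Nat.card_zpowers] at h1
    have : p < p ^ 3 := by simpa using Nat.pow_lt_pow_right hp.one_lt (show 1 < 3 by norm_num)
    omega
  obtain ⟨c, hcB, hc⟩ : ∃ c ∈ B, c ∉ Subgroup.zpowers b ⊔ Subgroup.zpowers d := by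
    by_contra h
    push Not at h
    have h1 := Subgroup.card_le_of_le (H := B) (K := Subgroup.zpowers b ⊔ Subgroup.zpowers d) h
    have h2 := card_zpowers_sup_le (p := p) (hBc b hb d hdB) (hBp b hb) (hBp d hdB) hp.pos
    have : p * p < p ^ 3 := by simpa [pow_two] using Nat.pow_lt_pow_right hp.one_lt (show 2 < 3 by norm_num)
    omega
  refine ⟨c, hcB, d, hdB, fun h => hd (h ▸ one_mem _), fun h => hc (Subgroup.mem_sup_right h), fun hb1 h => ?_⟩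
  have hn : Subgroup.zpowers c ≤ Subgroup.normalizer (Subgroup.zpowers d : Set G) := by
    rw [Subgroup.zpowers_le]
    refine (Subgroup.centralizer_le_normalizer (Subgroup.zpowers d : Set G)) ?_
    rw [Subgroup.mem_centralizer_iff]
    rintro _ ⟨n, rfl⟩
    exact ((hBc c hcB d hdB).symm.zpow_left n).eq
  rw [← SetLike.mem_coe, Subgroup.coe_mul_of_left_le_normalizer_right _ _ hn] at h
  obtain ⟨u, hu, v, hv, huv : u * v = b⟩ := h
  by_cases hu1 : u = 1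
  · rw [hu1, one_mul] at huv
    exact hd (mem_zpowers_symm_of_pow_eq_one (hBp d hdB) (huv ▸ hv) hb1)
  · refine hc (Subgroup.zpowers_le.mpr ?_ (mem_zpowers_symm_of_pow_eq_one (hBp c hcB) hu hu1))
    rw [eq_mul_inv_of_mul_eq huv]
    exact mul_mem (Subgroup.mem_sup_left (Subgroup.mem_zpowers b)) (Subgroup.mem_sup_right (inv_mem hv))

/-- Fixed points outside a normal subgroup, for a pair of commuting elements of order dividing `p`. -/
theorem exists_fixed_outside [Finite G] [Fact p.Prime] [Fact q.Prime] (hqp : q ≠ p) {V D : Subgroup G}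
    (hV : IsPGroup q V) (hDV : D < V) (hVD : V ≤ Subgroup.normalizer (D : Set G)) {x y : G}
    (hxy : Commute x y) (hx : x ^ p = 1) (hy : y ^ p = 1) (hxV : x ∈ Subgroup.normalizer (V : Set G))
    (hyV : y ∈ Subgroup.normalizer (V : Set G)) (hxD : x ∈ Subgroup.normalizer (D : Set G))
    (hyD : y ∈ Subgroup.normalizer (D : Set G)) :
    ∃ b : G, (b = y ∨ ∃ j < p, b = x * y ^ j) ∧ ∃ v ∈ V, v ∉ D ∧ b * v = v * b := by
  set N := Subgroup.normalizer (D : Set G)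
  set D' := D.subgroupOf N
  have : D'.Normal := (Subgroup.normal_subgroupOf_iff_le_normalizer Subgroup.le_normalizer).mpr le_rfl
  set π := QuotientGroup.mk' D'
  set V' := (V.subgroupOf N).map π
  have hV' : IsPGroup q V' := (hV.comap_subtype).map π
  have hV1 : V' ≠ ⊥ := by
    intro h
    rw [Subgroup.map_eq_bot_iff, QuotientGroup.ker_mk'] at h
    exact not_le_of_gt hDV fun v hv => h (show (⟨v, hVD hv⟩ : N) ∈ V.subgroupOf N from hv)
  have hnorm : ∀ (g : G) (hg : g ∈ N), g ∈ Subgroup.normalizer (V : Set G) →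
      π ⟨g, hg⟩ ∈ Subgroup.normalizer (V' : Set (N ⧸ D')) := fun g hg hgV => by
    refine Subgroup.le_normalizer_map π ⟨⟨g, hg⟩, ?_, rfl⟩
    rw [SetLike.mem_coe, Subgroup.mem_normalizer_iff]
    intro n
    exact Subgroup.mem_normalizer_iff.mp hgV n
  obtain ⟨bb, hbb, hne⟩ := exists_centralized_of_rank_two hqp hV' hV1
    (x := π ⟨x, hxD⟩) (y := π ⟨y, hyD⟩)
    (by
      refine Commute.map ?_ π
      exact Subtype.ext hxy.eq)
    (by rw [← map_pow, show (⟨x, hxD⟩ : N) ^ p = 1 from Subtype.ext hx, map_one])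
    (by rw [← map_pow, show (⟨y, hyD⟩ : N) ^ p = 1 from Subtype.ext hy, map_one])
    (hnorm x hxD hxV) (hnorm y hyD hyV)
  obtain ⟨b, hbN, hbdef, hbb'⟩ : ∃ (b : G) (hbN : b ∈ N), (b = y ∨ ∃ j < p, b = x * y ^ j) ∧ π ⟨b, hbN⟩ = bb := by
    rcases hbb with h | ⟨j, hj, h⟩
    · exact ⟨y, hyD, Or.inl rfl, h.symm⟩
    · refine ⟨x * y ^ j, N.mul_mem hxD (pow_mem hyD j), Or.inr ⟨j, hj, rfl⟩, ?_⟩
      rw [h, ← map_pow, ← map_mul]
      rfl
  have hbp : b ^ p = 1 := by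
    rcases hbdef with rfl | ⟨j, -, rfl⟩
    · exact hy
    · rw [(hxy.pow_right j).mul_pow, hx, one_mul, ← pow_mul, mul_comm j, pow_mul, hy, one_pow]
  obtain ⟨vb, ⟨hvV, hvC⟩, hvne⟩ := (Subgroup.bot_or_exists_ne_one _).resolve_left hne
  obtain ⟨⟨v, hvN⟩, hv, rfl⟩ := hvV
  have hvD : v ∉ D := fun h => hvne ((QuotientGroup.eq_one_iff _).mpr h)
  have hcent : ⟨b, hbN⟩ ∈ (Subgroup.centralizer ({π ⟨v, hvN⟩} : Set (N ⧸ D'))).comap π := by
    rw [Subgroup.mem_comap, Subgroup.mem_centralizer_singleton_iff, hbb']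
    exact (Subgroup.mem_centralizer_singleton_iff.mp hvC).symm
  have hA : IsPGroup p (Subgroup.zpowers b) := IsPGroup.of_card_dvd_pow (n := 1)
    (by rw [pow_one, Nat.card_zpowers]; exact orderOf_dvd_of_pow_eq_one hbp)
  have hpD : ¬ p ∣ Nat.card D := fun h => by
    obtain ⟨n, hn⟩ := IsPGroup.iff_card.mp (hV.to_le hDV.le)
    exact hqp ((Nat.prime_dvd_prime_iff_eq Fact.out Fact.out).mp ((Fact.out : p.Prime).dvd_of_dvd_pow (hn ▸ h))).symm
  obtain ⟨d, hd, hvd⟩ := exists_fixed_in_coset hA (Subgroup.zpowers_le.mpr hbN) hpD (x := v) (by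
    rintro _ ⟨n, rfl⟩
    have h := Subgroup.mem_centralizer_singleton_iff.mp
      (show π (⟨b, hbN⟩ ^ n) ∈ Subgroup.centralizer ({π ⟨v, hvN⟩} : Set (N ⧸ D')) from
        Subgroup.mem_comap.mp (Subgroup.zpow_mem _ hcent n))
    have h2 : π ((⟨v, hvN⟩ : N)⁻¹ * (⟨b, hbN⟩ ^ n * ⟨v, hvN⟩ * ((⟨b, hbN⟩ : N) ^ n)⁻¹)) = 1 := by
      simp only [map_mul, map_inv]
      rw [h, mul_inv_cancel_right, inv_mul_cancel]
    exact (QuotientGroup.eq_one_iff (N := D') _).mp h2)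
  refine ⟨b, hbdef, v * d, V.mul_mem hv (hDV.le hd), fun h => hvD ((D.mul_mem_cancel_right hd).mp h), ?_⟩
  exact Subgroup.mem_centralizer_iff.mp hvd b (Subgroup.mem_zpowers b)

theorem piCore_eq_pPrimeCore (X : Type*) [Group X] [Finite X] [hp : Fact p.Prime] :
    piCore (primesNotDvd p) X = pPrimeCore p X := by
  have hiff : ∀ r : ℕ, r ∈ primesNotDvd p ↔ r.Prime ∧ r ≠ p := fun r =>
    ⟨fun h => ⟨h.1, fun e => h.2 (e ▸ dvd_rfl)⟩,
      fun h => ⟨h.1, fun e => h.2 ((Nat.prime_dvd_prime_iff_eq h.1 hp.out).mp e)⟩⟩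
  unfold piCore pPrimeCore
  congr 1
  ext N
  refine and_congr_right fun _ => ⟨fun h => ?_, fun h r hr hd => (hiff r).mpr ⟨hr, fun e => ?_⟩⟩
  · refine (hp.out.coprime_iff_not_dvd.mpr fun hd => ?_).symm
    exact ((hiff p).mp (h p hp.out hd)).2 rfl
  · exact hp.out.coprime_iff_not_dvd.mp (Nat.Coprime.symm h) (e ▸ hd)

theorem le_piCoreOf_of_normal [Finite G] [hp : Fact p.Prime] {C N : Subgroup G} (hNC : N ≤ C)
    (hn : C ≤ Subgroup.normalizer (N : Set G)) (hc : ¬ p ∣ Nat.card N) :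
    N ≤ piCoreOf (primesNotDvd p) C := by
  have : (N.subgroupOf C).Normal := (Subgroup.normal_subgroupOf_iff_le_normalizer hNC).mpr hn
  rw [piCoreOf, piCore_eq_pPrimeCore, ← Subgroup.map_subgroupOf_eq_of_le hNC]
  refine Subgroup.map_mono (LocalEvenA.le_pPrimeCore_of_normal this ?_)
  rw [Nat.card_congr (Subgroup.subgroupOfEquivOfLe hNC).toEquiv]
  exact (hp.out.coprime_iff_not_dvd.mpr hc).symm

/-- The transitivity theorem.  `K b` is a `p'`-subgroup of `C(b)`, normalized by `C(b)`, which contains all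
invariant `q`-subgroups of `C(b)`. -/
theorem transitivity [Finite G] [Fact p.Prime] [Fact q.Prime] (hqp : q ≠ p) {E B : Subgroup G}
    (hBE : B ≤ E) (hBcent : ∀ b ∈ B, E ≤ Subgroup.centralizer ({b} : Set G))
    (hBp : ∀ b ∈ B, b ^ p = 1) (hB : p ^ 3 ≤ Nat.card B) (K : G → Subgroup G)
    (hKc : ∀ b ∈ B, b ≠ 1 → K b ≤ Subgroup.centralizer ({b} : Set G))
    (hKn : ∀ b ∈ B, b ≠ 1 → Subgroup.centralizer ({b} : Set G) ≤ Subgroup.normalizer (K b : Set G))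
    (hKp : ∀ b ∈ B, b ≠ 1 → ¬ p ∣ Nat.card (K b))
    (hEp : IsPGroup p E)
    (hloc : ∀ b ∈ B, b ≠ 1 → ∀ Y : Subgroup G, Y ≤ Subgroup.centralizer ({b} : Set G) → IsPGroup q Y →
      E ≤ Subgroup.normalizer (Y : Set G) → Y ≤ K b) :
    ∀ Q₁ ∈ maxInvSubgroups ⊤ E {q}, ∀ Q₂ ∈ maxInvSubgroups ⊤ E {q},
      ∃ k ∈ piCoreOf (primesNotDvd p) (Subgroup.centralizer (E : Set G)),
        Q₂ = Q₁.map (MulAut.conj k).toMonoidHom := by
  have hp : p.Prime := Fact.out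
  have hBc : ∀ a ∈ B, ∀ b ∈ B, Commute a b := fun a ha b hb =>
    Subgroup.mem_centralizer_singleton_iff.mp (hBcent b hb (hBE ha))
  set W := piCoreOf (primesNotDvd p) (Subgroup.centralizer (E : Set G)) with hW
  have hWC : W ≤ Subgroup.centralizer (E : Set G) := Subgroup.map_subtype_le _
  intro Q₁ hQ₁ Q₂ hQ₂
  induction hn : Nat.card G - Nat.card ↥(Q₁ ⊓ Q₂) using Nat.strong_induction_on generalizing Q₁ Q₂ with
  | _ n ih =>
  subst hn
  set D := Q₁ ⊓ Q₂ with hD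
  have hrec : ∀ R₁ ∈ maxInvSubgroups ⊤ E {q}, ∀ R₂ ∈ maxInvSubgroups ⊤ E {q},
      (∃ v, v ∈ R₁ ∧ v ∈ R₂ ∧ v ∉ D) → D ≤ R₁ → D ≤ R₂ →
      ∃ k ∈ W, R₂ = R₁.map (MulAut.conj k).toMonoidHom := by
    rintro R₁ hR₁ R₂ hR₂ ⟨v, hv1, hv2, hv⟩ h1 h2
    refine ih _ ?_ R₁ hR₁ R₂ hR₂ rfl
    have hlt : Nat.card D < Nat.card ↥(R₁ ⊓ R₂) := by
      refine lt_of_le_of_ne (Subgroup.card_le_of_le (le_inf h1 h2)) fun e => hv ?_
      rw [Subgroup.eq_of_le_of_card_ge (le_inf h1 h2) e.ge]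
      exact ⟨hv1, hv2⟩
    have := Subgroup.card_le_card_group (R₁ ⊓ R₂)
    omega
  have hex : ∀ Y : Subgroup G, IsPGroup q Y → E ≤ Subgroup.normalizer (Y : Set G) →
      ∃ R ∈ maxInvSubgroups ⊤ E {q}, Y ≤ R := by
    intro Y h1 h2
    obtain ⟨R, hYR, hR⟩ := Finite.exists_le_maximal (p := fun R => R ∈ invSubgroups ⊤ E {q})
      (mem_invSubgroups_singleton.mpr ⟨h1, h2⟩)
    exact ⟨R, ⟨hR.prop, fun R' hR' hle => (hR.eq_of_le hR' hle).symm⟩, hYR⟩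
  obtain ⟨hQ₁q, hQ₁E⟩ := mem_invSubgroups_singleton.mp hQ₁.1
  obtain ⟨hQ₂q, hQ₂E⟩ := mem_invSubgroups_singleton.mp hQ₂.1
  by_cases he : Q₁ = Q₂
  · refine ⟨1, one_mem _, ?_⟩
    rw [map_one, ← he]
    exact (Subgroup.map_id Q₁).symm
  have hD1 : D < Q₁ := lt_of_le_of_ne inf_le_left fun h => he
    (hQ₁.2 Q₂ hQ₂.1 (h ▸ inf_le_right)).symm
  have hD2 : D < Q₂ := lt_of_le_of_ne inf_le_right fun h => he
    (hQ₂.2 Q₁ hQ₁.1 (h ▸ inf_le_left))
  set N := Subgroup.normalizer (D : Set G) with hN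
  have hinfN : ∀ {H K : Subgroup G}, E ≤ Subgroup.normalizer (H : Set G) → E ≤ Subgroup.normalizer (K : Set G) →
      E ≤ Subgroup.normalizer ((H ⊓ K : Subgroup G) : Set G) := by
    intro H K h1 h2 e he'
    rw [Subgroup.mem_normalizer_iff]
    intro n
    exact Subgroup.mem_inf.trans ((and_congr (Subgroup.mem_normalizer_iff.mp (h1 he') n)
      (Subgroup.mem_normalizer_iff.mp (h2 he') n)).trans Subgroup.mem_inf.symm)
  have hEN : E ≤ N := hinfN hQ₁E hQ₂E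
  have hENN : E ≤ Subgroup.normalizer (N : Set G) := hEN.trans Subgroup.le_normalizer
  have hgrow : ∀ {Q : Subgroup G}, IsPGroup q Q → D < Q → D < Q ⊓ N := by
    intro Q hQq hDQ
    refine lt_of_le_of_ne (le_inf hDQ.le Subgroup.le_normalizer) fun h => ?_
    have hnc : NormalizerCondition Q := by
      have := hQq.isNilpotent
      exact normalizerCondition_of_isNilpotent
    have hlt : D.subgroupOf Q < ⊤ := lt_of_le_of_ne le_top fun e =>
      hDQ.not_ge (Subgroup.subgroupOf_eq_top.mp e)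
    have hlt' := hnc _ hlt
    obtain ⟨x, hx1, hx2⟩ := SetLike.exists_of_lt hlt'
    refine hx2 ?_
    have hxN : (x : G) ∈ Q ⊓ N := by
      refine ⟨x.2, ?_⟩
      change (x : G) ∈ Subgroup.normalizer (D : Set G)
      rw [Subgroup.mem_normalizer_iff]
      intro m
      constructor
      · intro hm
        exact (Subgroup.mem_normalizer_iff.mp hx1 ⟨m, hDQ.le hm⟩).mp hm
      · intro hm
        have hmQ : m ∈ Q := by
          have : (x : G)⁻¹ * ((x : G) * m * (x : G)⁻¹) * x ∈ Q :=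
            Q.mul_mem (Q.mul_mem (Q.inv_mem x.2) (hDQ.le hm)) x.2
          simpa [mul_assoc] using this
        exact (Subgroup.mem_normalizer_iff.mp hx1 ⟨m, hmQ⟩).mpr hm
    rw [← h] at hxN
    exact hxN
  -- an element `b` centralizing elements of both `Q₁ ⊓ N` and `Q₂ ⊓ N` outside `D`
  have hBN : ∀ b ∈ B, ∀ H : Subgroup G, E ≤ Subgroup.normalizer (H : Set G) → b ∈ Subgroup.normalizer (H : Set G) :=
    fun b hb H hH => hH (hBE hb)
  have hP₁ : E ≤ Subgroup.normalizer ((Q₁ ⊓ N : Subgroup G) : Set G) := hinfN hQ₁E hENN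
  have hP₂ : E ≤ Subgroup.normalizer ((Q₂ ⊓ N : Subgroup G) : Set G) := hinfN hQ₂E hENN
  have hDE : E ≤ Subgroup.normalizer (D : Set G) := hEN
  obtain ⟨x₀, hx₀, y₀, hy₀, hy₀1, hxy₀, -⟩ := exists_pair_avoiding hBc hBp hB (one_mem B)
  obtain ⟨b₁, hb₁def, v, hv, hvD, hbv⟩ := exists_fixed_outside hqp (hQ₁q.to_le inf_le_left) (hgrow hQ₁q hD1)
    inf_le_right (hBc x₀ hx₀ y₀ hy₀) (hBp x₀ hx₀) (hBp y₀ hy₀) (hBN _ hx₀ _ hP₁) (hBN _ hy₀ _ hP₁)
    (hBN _ hx₀ _ hDE) (hBN _ hy₀ _ hDE)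
  have hb₁ : b₁ ∈ B := by
    rcases hb₁def with rfl | ⟨j, -, rfl⟩
    · exact hy₀
    · exact B.mul_mem hx₀ (pow_mem hy₀ j)
  have hb₁1 : b₁ ≠ 1 := by
    rcases hb₁def with rfl | ⟨j, -, rfl⟩
    · exact hy₀1
    · intro h
      exact hxy₀ (eq_inv_of_mul_eq_one_left h ▸ inv_mem (pow_mem (Subgroup.mem_zpowers y₀) j))
  obtain ⟨c, hc, d, hd, hd1, hcd, hb₁cd⟩ := exists_pair_avoiding hBc hBp hB hb₁
  have hb₁cd' := hb₁cd hb₁1
  set C₁ := Subgroup.centralizer ({b₁} : Set G)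
  have hEC₁ : E ≤ Subgroup.normalizer (C₁ : Set G) := (hBcent b₁ hb₁).trans Subgroup.le_normalizer
  have hW1 : E ≤ Subgroup.normalizer ((Q₁ ⊓ N ⊓ C₁ : Subgroup G) : Set G) := hinfN hP₁ hEC₁
  have hD1' : E ≤ Subgroup.normalizer ((D ⊓ C₁ : Subgroup G) : Set G) := hinfN hDE hEC₁
  have hlt1 : D ⊓ C₁ < Q₁ ⊓ N ⊓ C₁ := lt_of_le_of_ne (inf_le_inf_right _ (hgrow hQ₁q hD1).le) fun h => by
    have : v ∈ Q₁ ⊓ N ⊓ C₁ := ⟨hv, Subgroup.mem_centralizer_singleton_iff.mpr hbv.symm⟩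
    rw [← h] at this
    exact hvD this.1
  have hnorm1 : Q₁ ⊓ N ⊓ C₁ ≤ Subgroup.normalizer ((D ⊓ C₁ : Subgroup G) : Set G) := by
    intro g hg
    rw [Subgroup.mem_normalizer_iff]
    intro n
    exact Subgroup.mem_inf.trans ((and_congr (Subgroup.mem_normalizer_iff.mp hg.1.2 n)
      (Subgroup.mem_normalizer_iff.mp (Subgroup.le_normalizer hg.2) n)).trans Subgroup.mem_inf.symm)
  obtain ⟨b₂, hb₂def, v₁, hv₁, hv₁D, hb₂v₁⟩ := exists_fixed_outside hqp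
    (hQ₁q.to_le (inf_le_left.trans inf_le_left)) hlt1 hnorm1 (hBc c hc d hd) (hBp c hc) (hBp d hd)
    (hBN _ hc _ hW1) (hBN _ hd _ hW1) (hBN _ hc _ hD1') (hBN _ hd _ hD1')
  have hb₂ : b₂ ∈ B ∧ b₂ ≠ 1 ∧ b₂ ∈ Subgroup.zpowers c ⊔ Subgroup.zpowers d := by
    rcases hb₂def with rfl | ⟨j, -, rfl⟩
    · exact ⟨hd, hd1, Subgroup.mem_sup_right (Subgroup.mem_zpowers _)⟩
    · refine ⟨B.mul_mem hc (pow_mem hd j), fun h => ?_, mul_mem (Subgroup.mem_sup_left (Subgroup.mem_zpowers _))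
        (Subgroup.mem_sup_right (pow_mem (Subgroup.mem_zpowers _) j))⟩
      exact hcd (eq_inv_of_mul_eq_one_left h ▸ inv_mem (pow_mem (Subgroup.mem_zpowers d) j))
  obtain ⟨b, hbdef, v₂, hv₂, hv₂D, hbv₂⟩ := exists_fixed_outside hqp (hQ₂q.to_le inf_le_left) (hgrow hQ₂q hD2)
    inf_le_right (hBc b₁ hb₁ b₂ hb₂.1) (hBp b₁ hb₁) (hBp b₂ hb₂.1) (hBN _ hb₁ _ hP₂) (hBN _ hb₂.1 _ hP₂)
    (hBN _ hb₁ _ hDE) (hBN _ hb₂.1 _ hDE)
  have hbB : b ∈ B ∧ b ≠ 1 ∧ b * v₁ = v₁ * b := by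
    have e1 : b₁ * v₁ = v₁ * b₁ := (Subgroup.mem_centralizer_singleton_iff.mp hv₁.2).symm
    rcases hbdef with rfl | ⟨j, -, rfl⟩
    · exact ⟨hb₂.1, hb₂.2.1, hb₂v₁⟩
    · refine ⟨B.mul_mem hb₁ (pow_mem hb₂.1 j), fun h => ?_, ?_⟩
      · exact hb₁cd' (eq_inv_of_mul_eq_one_left h ▸ inv_mem (pow_mem hb₂.2.2 j))
      · exact ((show Commute b₁ v₁ from e1).mul_left ((show Commute b₂ v₁ from hb₂v₁).pow_left j)).eq
  obtain ⟨hbB, hb1, hbv₁⟩ := hbB
  have hv₁D' : v₁ ∉ D := fun h => hv₁D ⟨h, hv₁.2⟩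
  -- both lie in `K b ⊓ N`
  set C := Subgroup.centralizer ({b} : Set G) with hC
  have hEC : E ≤ Subgroup.normalizer (C : Set G) := (hBcent b hbB).trans Subgroup.le_normalizer
  set L := K b ⊓ N with hL
  have hEK : E ≤ Subgroup.normalizer (K b : Set G) := (hBcent b hbB).trans (hKn b hbB hb1)
  have hEL : E ≤ Subgroup.normalizer (L : Set G) := hinfN hEK hENN
  have hLp : ¬ p ∣ Nat.card L := not_dvd_card_of_le inf_le_left (hKp b hbB hb1)
  have hY : ∀ {Q : Subgroup G}, IsPGroup q Q → E ≤ Subgroup.normalizer (Q : Set G) →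
      Q ⊓ N ⊓ C ≤ L ∧ E ≤ Subgroup.normalizer ((Q ⊓ N ⊓ C : Subgroup G) : Set G) := by
    intro Q h1 h2
    have h3 := hinfN (hinfN h2 hENN) hEC
    exact ⟨le_inf (hloc b hbB hb1 _ inf_le_right (h1.to_le (inf_le_left.trans inf_le_left)) h3)
      (inf_le_left.trans inf_le_right), h3⟩
  obtain ⟨S₁, hS₁Y, hS₁L, hS₁q, hS₁E, hS₁i⟩ := exists_invariant_sylow_ge (q := q) hEp hEL hLp
    (hY hQ₁q hQ₁E).1 (hQ₁q.to_le (inf_le_left.trans inf_le_left)) (hY hQ₁q hQ₁E).2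
  obtain ⟨S₂, hS₂Y, hS₂L, hS₂q, hS₂E, hS₂i⟩ := exists_invariant_sylow_ge (q := q) hEp hEL hLp
    (hY hQ₂q hQ₂E).1 (hQ₂q.to_le (inf_le_left.trans inf_le_left)) (hY hQ₂q hQ₂E).2
  obtain ⟨k, hkL, hkC, hk⟩ := exists_conj_invariant_sylow hEp hEL hLp hS₁L hS₁q hS₁i hS₁E hS₂L hS₂q hS₂i hS₂E
  have hkW : k ∈ W := by
    refine le_piCoreOf_of_normal (N := Subgroup.centralizer (E : Set G) ⊓ K b) inf_le_left ?_
      (not_dvd_card_of_le inf_le_right (hKp b hbB hb1)) ⟨hkC, hkL.1⟩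
    have hle : Subgroup.centralizer (E : Set G) ≤ C :=
      Subgroup.centralizer_le (Set.singleton_subset_iff.mpr (hBE hbB))
    intro g hg
    rw [Subgroup.mem_normalizer_iff]
    intro n
    exact Subgroup.mem_inf.trans ((and_congr (Subgroup.mem_normalizer_iff.mp (Subgroup.le_normalizer hg) n)
      (Subgroup.mem_normalizer_iff.mp (hKn b hbB hb1 (hle hg)) n)).trans Subgroup.mem_inf.symm)
  have hDq : IsPGroup q D := hQ₁q.to_le inf_le_left
  have hsup : ∀ {S : Subgroup G}, S ≤ L → IsPGroup q S → E ≤ Subgroup.normalizer (S : Set G) →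
      IsPGroup q ↥(S ⊔ D) ∧ E ≤ Subgroup.normalizer ((S ⊔ D : Subgroup G) : Set G) := by
    intro S h1 h2 h3
    refine ⟨h2.to_sup_of_normal_right' hDq (h1.trans inf_le_right), fun e he' => ?_⟩
    rw [Subgroup.mem_normalizer_iff_map_conj_eq, Subgroup.map_sup,
      Subgroup.mem_normalizer_iff_map_conj_eq.mp (h3 he'), Subgroup.mem_normalizer_iff_map_conj_eq.mp (hDE he')]
  obtain ⟨hT₁q, hT₁E⟩ := hsup hS₁L hS₁q hS₁E
  obtain ⟨hT₂q, hT₂E⟩ := hsup hS₂L hS₂q hS₂E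
  obtain ⟨R₁, hR₁, hTR₁⟩ := hex _ hT₁q hT₁E
  obtain ⟨R₂, hR₂, hTR₂⟩ := hex _ hT₂q hT₂E
  have hv₁S : v₁ ∈ S₁ := hS₁Y ⟨hv₁.1, Subgroup.mem_centralizer_singleton_iff.mpr hbv₁.symm⟩
  have hv₂S : v₂ ∈ S₂ := hS₂Y ⟨hv₂, Subgroup.mem_centralizer_singleton_iff.mpr hbv₂.symm⟩
  obtain ⟨k₁, hk₁, e₁⟩ := hrec Q₁ hQ₁ R₁ hR₁
    ⟨v₁, hv₁.1.1, hTR₁ (Subgroup.mem_sup_left hv₁S), hv₁D'⟩ inf_le_left (le_sup_right.trans hTR₁)
  have hT : S₂ ⊔ D ≤ R₁.map (MulAut.conj k).toMonoidHom := by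
    refine le_trans (le_of_eq ?_) (Subgroup.map_mono (f := (MulAut.conj k).toMonoidHom) hTR₁)
    have hDk : D.map (MulAut.conj k).toMonoidHom = D := Subgroup.mem_normalizer_iff_map_conj_eq.mp hkL.2
    rw [Subgroup.map_sup, ← hk, hDk]
  obtain ⟨k₂, hk₂, e₂⟩ := hrec _ (map_conj_mem_maxInvSubgroups hR₁ (hWC hkW)) R₂ hR₂
    ⟨v₂, hT (Subgroup.mem_sup_left hv₂S), hTR₂ (Subgroup.mem_sup_left hv₂S), hv₂D⟩
    (le_sup_right.trans hT) (le_sup_right.trans hTR₂)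
  obtain ⟨k₃, hk₃, e₃⟩ := hrec R₂ hR₂ Q₂ hQ₂
    ⟨v₂, hTR₂ (Subgroup.mem_sup_left hv₂S), hv₂.1, hv₂D⟩ (le_sup_right.trans hTR₂) inf_le_right
  refine ⟨k₃ * (k₂ * (k * k₁)), W.mul_mem hk₃ (W.mul_mem hk₂ (W.mul_mem hkW hk₁)), ?_⟩
  rw [e₃, e₂, e₁, map_conj_map_conj, map_conj_map_conj, map_conj_map_conj]
  simp only [mul_assoc]

end Cfsg.Agent.OddLocal
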