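import Cfsg.Agent.Lib.OddLocal.MinSimple
import Cfsg.Agent.Lib.OddLocal.Transitivity
import Cfsg.Agent.Lib.OddLocal.PiCore
import Cfsg.Agent.Lib.Basics.CoprimeAction

/-! Transitivity on maximal invariant `q`-subgroups under the transitivity hypothesis. -/

set_option autoImplicit false

namespace Cfsg.Agent.OddLocal

variable {G : Type*} [Group G] [Finite G] {A : Subgroup G} {q : ℕ}

/-- The invariant `π(A)'`-subgroups of a proper `X ≥ A` lie in the core of `X`. -/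
theorem inv_le_piCoreOf (hA : TransitivityHypothesis A) {X Y : Subgroup G} (hX : X ≠ ⊤) (hAX : A ≤ X)
    (hYX : Y ≤ X) (hY : ∀ r : ℕ, r.Prime → r ∣ Nat.card Y → r ∈ primesNotDvd (Nat.card A))
    (hAY : A ≤ Subgroup.normalizer (Y : Set G)) : Y ≤ piCoreOf (primesNotDvd (Nat.card A)) X :=
  hA.2.2 X hX hAX ▸ le_sSup ⟨hYX, hY, hAY⟩

theorem coprime_of_primesNotDvd {n : ℕ} {H P : Subgroup G}
    (hH : ∀ r : ℕ, r.Prime → r ∣ Nat.card H → r ∈ primesNotDvd n)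
    (hP : ∀ r : ℕ, r.Prime → r ∣ Nat.card P → r ∣ n) : (Nat.card P).Coprime (Nat.card H) :=
  Nat.coprime_of_dvd fun r hr h1 h2 => (hH r hr h2).2 (hP r hr h1)

theorem primes_of_isPGroup [hq : Fact q.Prime] {n : ℕ} (hqn : ¬ q ∣ n) {Y : Subgroup G} (hY : IsPGroup q Y)
    {r : ℕ} (hr : r.Prime) (hd : r ∣ Nat.card Y) : r ∈ primesNotDvd n := by
  obtain ⟨m, hm⟩ := IsPGroup.iff_card.mp hY
  rw [(Nat.prime_dvd_prime_iff_eq hr hq.out).mp (hr.dvd_of_dvd_pow (hm ▸ hd))]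
  exact ⟨hq.out, hqn⟩

/-- Every `π(A)'`-subgroup of `C(A)` lies in its core. -/
theorem le_core_centralizer (hG : IsMinSimpleOddOrder G) (hA : TransitivityHypothesis A) {Y : Subgroup G}
    (hYC : Y ≤ Subgroup.centralizer (A : Set G))
    (hY : ∀ r : ℕ, r.Prime → r ∣ Nat.card Y → r ∈ primesNotDvd (Nat.card A)) :
    Y ≤ piCoreOf (primesNotDvd (Nat.card A)) (Subgroup.centralizer (A : Set G)) := by
  set π' := primesNotDvd (Nat.card A)
  set N := Subgroup.normalizer (A : Set G)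
  have hCN : Subgroup.centralizer (A : Set G) ≤ N := Subgroup.centralizer_le_normalizer (A : Set G)
  have hN : N ≠ ⊤ := normalizer_ne_top hG hA.1 hA.2.1
  have hAY : A ≤ Subgroup.normalizer (Y : Set G) :=
    (Subgroup.le_centralizer_iff.mp hYC).trans (Subgroup.centralizer_le_normalizer (Y : Set G))
  have hYL := inv_le_piCoreOf hA hN Subgroup.le_normalizer (hYC.trans hCN) hY hAY
  set L := piCoreOf π' N
  have hLC : L ≤ Subgroup.centralizer (A : Set G) := fun c hc =>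
    Basics.mem_centralizer_of_mem_normalizer' (Subgroup.le_normalizer.trans (le_normalizer_piCoreOf_self π' N))
      (coprime_of_primesNotDvd (fun r hr hd => piCoreOf_primes π' N hr hd) fun _ _ h => h) hc
      (piCoreOf_le π' N hc)
  exact hYL.trans (le_piCoreOf hLC (hCN.trans (le_normalizer_piCoreOf_self π' N))
    fun r hr hd => piCoreOf_primes π' N hr hd)

theorem exists_maxInv_ge [Fact q.Prime] {Y : Subgroup G} (hY : IsPGroup q Y)
    (hAY : A ≤ Subgroup.normalizer (Y : Set G)) : ∃ R ∈ maxInvSubgroups ⊤ A {q}, Y ≤ R := by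
  obtain ⟨R, hYR, hR⟩ := Finite.exists_le_maximal (p := fun R => R ∈ invSubgroups ⊤ A {q})
    (mem_invSubgroups_singleton.mpr ⟨hY, hAY⟩)
  exact ⟨R, ⟨hR.prop, fun R' hR' hle => (hR.eq_of_le hR' hle).symm⟩, hYR⟩

theorem lt_inf_normalizer_of_lt [Fact q.Prime] {D Q : Subgroup G} (hQ : IsPGroup q Q) (hDQ : D < Q) :
    D < Q ⊓ Subgroup.normalizer (D : Set G) := by
  refine lt_of_le_of_ne (le_inf hDQ.le Subgroup.le_normalizer) fun h => ?_
  have hnc : NormalizerCondition Q := by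
    have := hQ.isNilpotent
    exact normalizerCondition_of_isNilpotent
  have hlt : D.subgroupOf Q < ⊤ := lt_of_le_of_ne le_top fun e =>
    hDQ.not_ge (Subgroup.subgroupOf_eq_top.mp e)
  obtain ⟨x, hx1, hx2⟩ := SetLike.exists_of_lt (hnc _ hlt)
  refine hx2 ?_
  have hxN : (x : G) ∈ Q ⊓ Subgroup.normalizer (D : Set G) := by
    refine ⟨x.2, ?_⟩
    change (x : G) ∈ Subgroup.normalizer (D : Set G)
    rw [Subgroup.mem_normalizer_iff]
    intro m
    constructor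
    · exact fun hm => (Subgroup.mem_normalizer_iff.mp hx1 ⟨m, hDQ.le hm⟩).mp hm
    · intro hm
      have hmQ : m ∈ Q := by
        have : (x : G)⁻¹ * ((x : G) * m * (x : G)⁻¹) * x ∈ Q :=
          Q.mul_mem (Q.mul_mem (Q.inv_mem x.2) (hDQ.le hm)) x.2
        simpa [mul_assoc] using this
      exact (Subgroup.mem_normalizer_iff.mp hx1 ⟨m, hmQ⟩).mpr hm
  rw [← h] at hxN
  exact hxN

/-- One round of the conjugation argument inside a proper subgroup `H ≥ A`. -/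
theorem conj_step [hq : Fact q.Prime] (hG : IsMinSimpleOddOrder G) (hA : TransitivityHypothesis A)
    (hqA : ¬ q ∣ Nat.card A) {Q₁ Q₂ H : Subgroup G} (h₁ : Q₁ ∈ maxInvSubgroups ⊤ A {q})
    (h₂ : Q₂ ∈ maxInvSubgroups ⊤ A {q}) (hH : H ≠ ⊤) (hAH : A ≤ H)
    (hrec : ∀ R₁ ∈ maxInvSubgroups ⊤ A {q}, ∀ R₂ ∈ maxInvSubgroups ⊤ A {q},
      (H ⊓ Q₁ ≤ R₁ ⊓ R₂ ∨ H ⊓ Q₂ ≤ R₁ ⊓ R₂) →
      ∃ k ∈ piCoreOf (primesNotDvd (Nat.card A)) (Subgroup.centralizer (A : Set G)),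
        R₂ = R₁.map (MulAut.conj k).toMonoidHom) :
    ∃ k ∈ piCoreOf (primesNotDvd (Nat.card A)) (Subgroup.centralizer (A : Set G)),
      Q₂ = Q₁.map (MulAut.conj k).toMonoidHom := by
  set π' := primesNotDvd (Nat.card A) with hπ'
  set W := piCoreOf π' (Subgroup.centralizer (A : Set G)) with hW
  set L := piCoreOf π' H with hL
  have hAL : A ≤ Subgroup.normalizer (L : Set G) := hAH.trans (le_normalizer_piCoreOf_self π' H)
  have hcop : (Nat.card A).Coprime (Nat.card L) :=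
    coprime_of_primesNotDvd (fun r hr hd => piCoreOf_primes π' H hr hd) fun _ _ h => h
  have hsol : Group.IsSolvable A ∨ Group.IsSolvable L := Or.inl (isSolvable_of_ne_top hG hA.2.1)
  have hpart : ∀ {Q : Subgroup G}, Q ∈ maxInvSubgroups ⊤ A {q} →
      IsPGroup q ↥(H ⊓ Q) ∧ A ≤ Subgroup.normalizer ((H ⊓ Q : Subgroup G) : Set G) ∧ H ⊓ Q ≤ L := by
    intro Q hQ
    obtain ⟨hQq, hQA⟩ := mem_invSubgroups_singleton.mp hQ.1
    have hn : A ≤ Subgroup.normalizer ((H ⊓ Q : Subgroup G) : Set G) := fun a ha => by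
      rw [Subgroup.mem_normalizer_iff]
      intro x
      exact Subgroup.mem_inf.trans ((and_congr (Subgroup.mem_normalizer_iff.mp
        (Subgroup.le_normalizer (hAH ha)) x) (Subgroup.mem_normalizer_iff.mp (hQA ha) x)).trans
          Subgroup.mem_inf.symm)
    exact ⟨hQq.to_le inf_le_right, hn, inv_le_piCoreOf hA hH hAH inf_le_left
      (fun r hr hd => primes_of_isPGroup hqA (hQq.to_le inf_le_right) hr hd) hn⟩
  obtain ⟨a1, b1, c1⟩ := hpart h₁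
  obtain ⟨a2, b2, c2⟩ := hpart h₂
  obtain ⟨S₁, hS₁, hS₁Q, hS₁A⟩ := Basics.exists_invariant_isSylowIn_ge A L hAL hcop hsol q _ c1 a1 b1
  obtain ⟨S₂, hS₂, hS₂Q, hS₂A⟩ := Basics.exists_invariant_isSylowIn_ge A L hAL hcop hsol q _ c2 a2 b2
  obtain ⟨c, hc, hcS⟩ := Basics.invariant_isSylowIn_conj A L hAL hcop hsol q hS₁ hS₂ hS₁A hS₂A
  have hcW : c ∈ W := le_core_centralizer hG hA (Y := L ⊓ Subgroup.centralizer (A : Set G)) inf_le_right
    (fun r hr hd => piCoreOf_primes π' H hr (hd.trans (Subgroup.card_dvd_of_le inf_le_left))) hc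
  obtain ⟨R₁, hR₁, hSR₁⟩ := exists_maxInv_ge hS₁.isPGroup hS₁A
  obtain ⟨R₂, hR₂, hSR₂⟩ := exists_maxInv_ge hS₂.isPGroup hS₂A
  have hR₁c := map_conj_mem_maxInvSubgroups hR₁ (piCoreOf_le π' _ hcW)
  have hS₂c : S₂ ≤ R₁.map (MulAut.conj c).toMonoidHom := by
    rw [← hcS]
    exact Subgroup.map_mono hSR₁
  obtain ⟨k₁, hk₁, e₁⟩ := hrec Q₁ h₁ R₁ hR₁ (Or.inl (le_inf inf_le_right (hS₁Q.trans hSR₁)))
  obtain ⟨k₂, hk₂, e₂⟩ := hrec _ hR₁c R₂ hR₂ (Or.inr (le_inf (hS₂Q.trans hS₂c) (hS₂Q.trans hSR₂)))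
  obtain ⟨k₃, hk₃, e₃⟩ := hrec R₂ hR₂ Q₂ h₂ (Or.inr (le_inf (hS₂Q.trans hSR₂) inf_le_right))
  refine ⟨k₃ * (k₂ * (c * k₁)), W.mul_mem hk₃ (W.mul_mem hk₂ (W.mul_mem hcW hk₁)), ?_⟩
  rw [e₃, e₂, e₁, map_conj_map_conj, map_conj_map_conj, map_conj_map_conj]
  simp only [mul_assoc]

/-- Two maximal invariant `q`-subgroups with nontrivial intersection are conjugate under the core. -/
theorem conj_of_inf_ne_bot [hq : Fact q.Prime] (hG : IsMinSimpleOddOrder G) (hA : TransitivityHypothesis A)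
    (hqA : ¬ q ∣ Nat.card A) :
    ∀ Q₁ ∈ maxInvSubgroups ⊤ A {q}, ∀ Q₂ ∈ maxInvSubgroups ⊤ A {q}, Q₁ ⊓ Q₂ ≠ ⊥ →
      ∃ k ∈ piCoreOf (primesNotDvd (Nat.card A)) (Subgroup.centralizer (A : Set G)),
        Q₂ = Q₁.map (MulAut.conj k).toMonoidHom := by
  intro Q₁ h₁ Q₂ h₂ hne
  induction hn : Nat.card G - Nat.card ↥(Q₁ ⊓ Q₂) using Nat.strong_induction_on generalizing Q₁ Q₂ with
  | _ n ih =>
  subst hn
  by_cases he : Q₁ = Q₂
  · refine ⟨1, one_mem _, ?_⟩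
    rw [map_one, ← he]
    exact (Subgroup.map_id Q₁).symm
  obtain ⟨hQ₁q, hQ₁A⟩ := mem_invSubgroups_singleton.mp h₁.1
  obtain ⟨hQ₂q, hQ₂A⟩ := mem_invSubgroups_singleton.mp h₂.1
  set D := Q₁ ⊓ Q₂ with hD
  have hD1 : D < Q₁ := lt_of_le_of_ne inf_le_left fun h => he (h₁.2 Q₂ h₂.1 (h ▸ inf_le_right)).symm
  have hD2 : D < Q₂ := lt_of_le_of_ne inf_le_right fun h => he (h₂.2 Q₁ h₁.1 (h ▸ inf_le_left))
  have hDq : IsPGroup q D := hQ₁q.to_le inf_le_left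
  refine conj_step hG hA hqA h₁ h₂ (H := Subgroup.normalizer (D : Set G))
    (normalizer_ne_top hG hne (pGroup_ne_top hG hDq)) ?_ ?_
  · intro a ha
    rw [Subgroup.mem_normalizer_iff]
    intro x
    exact Subgroup.mem_inf.trans ((and_congr (Subgroup.mem_normalizer_iff.mp (hQ₁A ha) x)
      (Subgroup.mem_normalizer_iff.mp (hQ₂A ha) x)).trans Subgroup.mem_inf.symm)
  · intro R₁ hR₁ R₂ hR₂ h
    have hlt : D < R₁ ⊓ R₂ := by
      rcases h with h | h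
      · exact (lt_inf_normalizer_of_lt hQ₁q hD1).trans_le ((le_of_eq (inf_comm _ _)).trans h)
      · exact (lt_inf_normalizer_of_lt hQ₂q hD2).trans_le ((le_of_eq (inf_comm _ _)).trans h)
    refine ih _ ?_ R₁ hR₁ R₂ hR₂ (fun e => hne (le_bot_iff.mp (e ▸ hlt.le))) rfl
    have := Basics.card_lt_of_lt hlt
    have := Subgroup.card_le_card_group (R₁ ⊓ R₂)
    omega

/-- Maximal invariant `q`-subgroups meeting a common proper subgroup above `A` are conjugate. -/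
theorem conj_of_common (hG : IsMinSimpleOddOrder G) (hA : TransitivityHypothesis A) [Fact q.Prime]
    (hqA : ¬ q ∣ Nat.card A) {Q₁ Q₂ H : Subgroup G} (h₁ : Q₁ ∈ maxInvSubgroups ⊤ A {q})
    (h₂ : Q₂ ∈ maxInvSubgroups ⊤ A {q}) (hH : H ≠ ⊤) (hAH : A ≤ H) (hH₁ : H ⊓ Q₁ ≠ ⊥) (hH₂ : H ⊓ Q₂ ≠ ⊥) :
    ∃ k ∈ piCoreOf (primesNotDvd (Nat.card A)) (Subgroup.centralizer (A : Set G)),
      Q₂ = Q₁.map (MulAut.conj k).toMonoidHom :=
  conj_step hG hA hqA h₁ h₂ hH hAH fun R₁ hR₁ R₂ hR₂ h => conj_of_inf_ne_bot hG hA hqA R₁ hR₁ R₂ hR₂ (by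
    rcases h with h | h
    · exact fun e => hH₁ (le_bot_iff.mp (e ▸ h))
    · exact fun e => hH₂ (le_bot_iff.mp (e ▸ h)))

end Cfsg.Agent.OddLocal
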