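import Cfsg.Agent.Lib.OddLocal.UniqueB

/-! Propagation of uniqueness along commuting noncyclic subgroups. -/

set_option autoImplicit false
set_option maxHeartbeats 800000

namespace Cfsg.Agent.OddLocal

open scoped commutatorElement

variable {G : Type*} [Group G] [Finite G] {p : ℕ}

theorem isCoatom_map_equiv {M : Subgroup G} (hM : IsCoatom M) (g : G) :
    IsCoatom (M.map (MulAut.conj g).toMonoidHom) :=
  (MulEquiv.mapSubgroup (MulAut.conj g)).isCoatom_iff M |>.mpr hM

theorem inUniqueMaximal_conj {X : Subgroup G} (hX : InUniqueMaximal X) (g : G) :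
    InUniqueMaximal (X.map (MulAut.conj g).toMonoidHom) := by
  obtain ⟨M, ⟨hM, hXM⟩, huniq⟩ := hX
  refine ⟨M.map (MulAut.conj g).toMonoidHom, ⟨isCoatom_map_equiv hM g, Subgroup.map_mono hXM⟩, ?_⟩
  rintro L ⟨hL, hXL⟩
  have hback : ∀ Y : Subgroup G, (Y.map (MulAut.conj g).toMonoidHom).map (MulAut.conj g⁻¹).toMonoidHom = Y := by
    intro Y
    rw [map_conj_map_conj, inv_mul_cancel, map_one]
    exact Subgroup.map_id Y
  have h := huniq (L.map (MulAut.conj g⁻¹).toMonoidHom)
    ⟨isCoatom_map_equiv hL g⁻¹, (hback X).ge.trans (Subgroup.map_mono hXL)⟩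
  rw [← h, map_conj_map_conj, mul_inv_cancel, map_one]
  exact (Subgroup.map_id L).symm

theorem inUniqueMaximal_mono {X Y : Subgroup G} (hX : InUniqueMaximal X) (hXY : X ≤ Y) (hY : Y ≠ ⊤) :
    InUniqueMaximal Y := by
  obtain ⟨M, ⟨hM, hXM⟩, huniq⟩ := hX
  obtain ⟨L, hL, hYL⟩ := exists_maximal_ge hY
  exact ⟨L, ⟨hL, hYL⟩, fun L' hL' => (huniq L' ⟨hL'.1, hXY.trans hL'.2⟩).trans (huniq L ⟨hL, hXY.trans hYL⟩).symm⟩

theorem ne_bot_of_inUniqueMaximal (hG : IsMinSimpleOddOrder G) {X : Subgroup G} (hX : InUniqueMaximal X) :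
    X ≠ ⊥ := by
  rintro rfl
  obtain ⟨M, ⟨hM, -⟩, huniq⟩ := hX
  by_cases h1 : M = ⊥
  · subst h1
    have htop : ∀ x : G, x ≠ 1 → Subgroup.zpowers x = ⊤ := fun x hx =>
      hM.2 _ (lt_of_le_of_ne bot_le fun e => hx (Subgroup.zpowers_eq_bot.mp e.symm))
    refine hG.2.2.1 ⟨⟨fun a b => ?_⟩⟩
    by_cases ha : a = 1
    · simp [ha]
    obtain ⟨i, rfl⟩ : b ∈ Subgroup.zpowers a := htop a ha ▸ Subgroup.mem_top b
    exact ((Commute.refl a).zpow_right i).eq
  refine normalizer_ne_top hG h1 hM.1 (top_le_iff.mp fun g _ => ?_)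
  rw [Subgroup.mem_normalizer_iff_map_conj_eq]
  exact huniq _ ⟨isCoatom_map_equiv hM g, bot_le⟩

theorem not_isCyclic_of_ea [hp : Fact p.Prime] {B : Subgroup G} (hB : IsElementaryAbelian p B) (h : p < Nat.card B) :
    ¬ IsCyclic B := by
  intro hc
  obtain ⟨g, hg⟩ := hc.exists_generator
  have h1 : Nat.card B = orderOf g := by
    rw [← Nat.card_zpowers, show Subgroup.zpowers g = ⊤ from eq_top_iff.mpr fun x _ => hg x, Subgroup.card_top]
  have h2 : orderOf g ∣ p := orderOf_dvd_of_pow_eq_one (Subtype.ext (hB.2 g g.2))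
  have := Nat.le_of_dvd hp.out.pos h2
  omega

/-- A noncyclic elementary abelian subgroup centralizing a uniqueness subgroup is a uniqueness subgroup. -/
theorem inUniqueMaximal_of_centralizes (hG : IsMinSimpleOddOrder G) [hp : Fact p.Prime] {L B : Subgroup G}
    (hL : InUniqueMaximal L) (hB : IsElementaryAbelian p B) (hBcard : p < Nat.card B)
    (hBL : B ≤ Subgroup.centralizer (L : Set G)) : InUniqueMaximal B := by
  obtain ⟨M, ⟨hM, hLM⟩, huniq⟩ := hL
  have hcent : ∀ b ∈ B, b ≠ 1 → Subgroup.centralizer ({b} : Set G) ≤ M := by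
    intro b hb hb1
    obtain ⟨N, hN, hle⟩ := exists_maximal_ge (centralizer_ne_top hG rfl hb1 (s := ({b} : Set G)))
    have hLN : L ≤ N := fun l hl => hle (Subgroup.mem_centralizer_singleton_iff.mpr
      (Subgroup.mem_centralizer_iff.mp (hBL hb) l hl))
    rw [← huniq N ⟨hN, hLN⟩]
    exact hle
  have hBne : B ≠ ⊥ := by
    intro e
    rw [e, Subgroup.card_bot] at hBcard
    exact absurd hBcard (not_lt.mpr hp.out.one_lt.le)
  obtain ⟨b, hb, hb1⟩ := (Subgroup.bot_or_exists_ne_one B).resolve_left hBne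
  have hBM : B ≤ M := fun x hx => hcent b hb hb1
    (Subgroup.mem_centralizer_singleton_iff.mpr (ea_commute hB hx hb).eq)
  exact inUniqueMaximal_of_noncyclic hG hM hBM hB (not_isCyclic_of_ea hB hBcard) (Or.inl hcent)

/-- A noncyclic odd `p`-group contains an elementary abelian subgroup of order exceeding `p`. -/
theorem exists_ea_two_of_not_isCyclic {P : Type*} [Group P] [Finite P] [hp : Fact p.Prime] (hp2 : p ≠ 2)
    (hP : IsPGroup p P) (hc : ¬ IsCyclic P) : ∃ X : Subgroup P, IsElementaryAbelian p X ∧ p < Nat.card X := by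
  induction hn : Nat.card P using Nat.strong_induction_on generalizing P with
  | _ n ih =>
  subst hn
  by_contra hno
  push Not at hno
  have : Group.IsNilpotent P := hP.isNilpotent
  have hmaxc : ∀ M : Subgroup P, IsCoatom M → IsCyclic M := by
    intro M hM
    by_contra hMc
    obtain ⟨X, hX, hXc⟩ := ih _ (Basics.card_lt_card_of_ne_top hM.1) (hP.to_subgroup M) hMc rfl
    refine absurd (hno (X.map M.subtype) ⟨isMulCommutative_map hX.1 _, ?_⟩) ?_
    · rintro _ ⟨a, ha, rfl⟩
      rw [← map_pow, hX.2 a ha, map_one]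
    · rw [Subgroup.card_map_of_injective M.subtype_injective]; exact not_le.mpr hXc
  have hab : ∀ M : Subgroup P, IsCoatom M → M ≤ Subgroup.centralizer (M : Set P) := fun M hM => by
    have := hmaxc M hM
    exact Subgroup.le_centralizer_iff_isMulCommutative.mpr IsCyclic.isMulCommutative
  -- two maximal subgroups
  have hPne : (⊤ : Subgroup P) ≠ ⊥ := by
    intro e
    refine hc ⟨1, fun x => ?_⟩
    have : x ∈ (⊥ : Subgroup P) := e ▸ Subgroup.mem_top x
    rw [Subgroup.mem_bot.mp this]; exact Subgroup.mem_zpowers 1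
  obtain ⟨M, hM, -⟩ := (eq_top_or_exists_le_coatom (⊥ : Subgroup P)).resolve_left hPne.symm
  obtain ⟨x, hx⟩ : ∃ x, x ∉ M := by
    by_contra h
    push Not at h
    exact hM.1 (eq_top_iff.mpr fun y _ => h y)
  obtain ⟨M', hM', hxM'⟩ := (eq_top_or_exists_le_coatom (Subgroup.zpowers x)).resolve_left fun h => hc ⟨x, fun y => show y ∈ Subgroup.zpowers x by rw [h]; exact Subgroup.mem_top y⟩
  have hsup : M ⊔ M' = ⊤ := hM.2 _ (lt_of_le_of_ne le_sup_left fun e => hx (e ▸ Subgroup.mem_sup_right (hxM' (Subgroup.mem_zpowers x))))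
  have hΦ : frattini P ≤ Subgroup.center P := by
    intro z hz
    have hzM : z ∈ M := (Subgroup.mem_iInf.mp (Subgroup.mem_iInf.mp hz M)) hM
    have hzM' : z ∈ M' := (Subgroup.mem_iInf.mp (Subgroup.mem_iInf.mp hz M')) hM'
    have : M ⊔ M' ≤ Subgroup.centralizer ({z} : Set P) := sup_le
      (fun a ha => Subgroup.mem_centralizer_singleton_iff.mpr (Subgroup.mem_centralizer_iff.mp (hab M hM hzM) a ha))
      (fun a ha => Subgroup.mem_centralizer_singleton_iff.mpr (Subgroup.mem_centralizer_iff.mp (hab M' hM' hzM') a ha))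
    rw [hsup] at this
    rw [Subgroup.mem_center_iff]
    exact fun a => Subgroup.mem_centralizer_singleton_iff.mp (this (Subgroup.mem_top a))
  have hcen : ∀ a b c : P, Commute ⁅a, b⁆ c := fun a b c => (Subgroup.mem_center_iff.mp
    (hΦ (Basics.commutator_le_frattini (Subgroup.commutator_mem_commutator (Subgroup.mem_top a) (Subgroup.mem_top b)))) c).symm
  let f : P →* P :=
    { toFun := fun a => a ^ p
      map_one' := one_pow p
      map_mul' := fun a b => by
        have h1 : ⁅b, a⁆ ^ p = 1 := by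
          rw [← Transfer.commutator_pow_left (hcen b a b).symm p, commutatorElement_eq_one_iff_mul_comm]
          exact (Subgroup.mem_center_iff.mp (hΦ (Basics.pow_mem_frattini hP b)) a).symm
        rw [Transfer.mul_pow_of_commute (hcen b a a) (hcen b a b)]
        obtain ⟨m, hm⟩ : p ∣ p.choose 2 :=
          hp.out.dvd_choose_self two_ne_zero (lt_of_le_of_ne hp.out.two_le (Ne.symm hp2))
        rw [hm, pow_mul, h1, one_pow, mul_one] }
  obtain ⟨E, -, hE⟩ := exists_isMaxNormalEA p (isElementaryAbelian_bot (G := P) (p := p))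
  have := hE.1
  have hEcard := hno E hE.2.1
  have hEc : E ≤ Subgroup.center P := le_center_of_card_le hP E hEcard
  have hker : f.ker ≤ E := fun a ha => mem_of_isMaxNormalEA hp2 hP hE
    (Subgroup.centralizer_eq_top_iff_subset.mpr hEc ▸ Subgroup.mem_top a) ha
  have hrange : f.range ≤ M := by
    rintro _ ⟨a, rfl⟩
    exact (Subgroup.mem_iInf.mp (Subgroup.mem_iInf.mp (Basics.pow_mem_frattini hP a) M)) hM
  have hcardM : f.range = M := by
    refine Subgroup.eq_of_le_of_card_ge hrange ?_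
    have h1 := Subgroup.card_mul_index f.ker
    rw [Subgroup.index_ker] at h1
    have h2 : Nat.card f.ker ≤ p := (Subgroup.card_le_of_le hker).trans hEcard
    have h3 := Subgroup.card_mul_index M
    have h4 : p ≤ M.index := by
      rcases (Basics.coatom_normal_prime hM).2 with hq
      obtain ⟨k, hk⟩ := hP.index M
      rw [hk]
      exact Nat.le_self_pow (fun e => (Basics.coatom_normal_prime hM).2.ne_one (by rw [hk, e, pow_zero])) p
    have : Nat.card M * p ≤ Nat.card f.range * p :=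
      calc Nat.card M * p ≤ Nat.card M * M.index := Nat.mul_le_mul_left _ h4
        _ = Nat.card P := h3
        _ = Nat.card f.ker * Nat.card f.range := h1.symm
        _ ≤ p * Nat.card f.range := Nat.mul_le_mul_right _ h2
        _ = Nat.card f.range * p := mul_comm _ _
    exact Nat.le_of_mul_le_mul_right this hp.out.pos
  obtain ⟨m, hm⟩ := (hmaxc M hM).exists_generator
  obtain ⟨y, hy⟩ : (m : P) ∈ f.range := hcardM.symm ▸ m.2
  refine hc ⟨y, fun z => ?_⟩
  have hyM : y ∉ M ∨ y ∈ M := (em _).symm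
  rcases hyM with hyM | hyM
  · have hMy : M ≤ Subgroup.zpowers y := by
      intro a ha
      obtain ⟨i, hi⟩ := hm ⟨a, ha⟩
      have : (m : P) ^ i = a := congrArg Subtype.val hi
      rw [← this, ← hy]
      exact zpow_mem (pow_mem (Subgroup.mem_zpowers y) p) i
    have := hM.2 _ (lt_of_le_of_ne hMy fun e => hyM (e ▸ Subgroup.mem_zpowers y))
    change z ∈ Subgroup.zpowers y
    rw [this]; exact Subgroup.mem_top z
  · exfalso
    -- `m = y ^ p` with `y ∈ ⟨m⟩` forces `m = 1`
    obtain ⟨i, hi⟩ := hm ⟨y, hyM⟩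
    have hi' : (m : P) ^ i = y := congrArg Subtype.val hi
    have h1 : (m : P) ^ (i * (p : ℤ) - 1) = 1 := by
      rw [zpow_sub, zpow_mul, hi', zpow_natCast, zpow_one]
      change f y * _ = 1
      rw [hy, mul_inv_cancel]
    have hdvd : (orderOf (m : P) : ℤ) ∣ i * (p : ℤ) - 1 := orderOf_dvd_iff_zpow_eq_one.mpr h1
    obtain ⟨j, hj⟩ := hP (m : P)
    obtain ⟨k, -, hk⟩ := (Nat.dvd_prime_pow hp.out).mp (orderOf_dvd_of_pow_eq_one hj)
    have hm1 : (m : P) = 1 := by
      rcases k with - | k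
      · exact orderOf_eq_one_iff.mp (by rw [hk, pow_zero])
      · exfalso
        have h2 : (p : ℤ) ∣ i * (p : ℤ) - 1 := dvd_trans ⟨(p : ℤ) ^ k, by rw [hk]; push_cast; ring⟩ hdvd
        have h3 : (p : ℤ) ∣ 1 := by simpa using (dvd_mul_left (p : ℤ) i).sub h2
        exact hp.out.not_dvd_one (by exact_mod_cast h3)
    have hMbot : M ≤ ⊥ := by
      intro a ha
      obtain ⟨i, hi⟩ := hm ⟨a, ha⟩
      have : (m : P) ^ i = a := congrArg Subtype.val hi
      rw [← this, hm1, one_zpow]; exact one_mem _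
    refine hc ?_
    have hPp : (Nat.card P).Prime := by
      have h := Subgroup.card_mul_index M
      rw [le_bot_iff.mp hMbot, Subgroup.card_bot, one_mul] at h
      rw [← h, ← le_bot_iff.mp hMbot]
      exact (Basics.coatom_normal_prime hM).2
    have := Fact.mk hPp
    exact isCyclic_of_prime_card rfl

/-- A normal subgroup of exponent `p` and order exceeding `p` contains a normal one of order `p ^ 2`. -/
theorem exists_normal_le_card_sq {P : Type*} [Group P] [Finite P] [hp : Fact p.Prime] (hP : IsPGroup p P)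
    (N : Subgroup P) [N.Normal] (hN : IsElementaryAbelian p N) (h : p < Nat.card N) :
    ∃ E : Subgroup P, E.Normal ∧ E ≤ N ∧ IsElementaryAbelian p E ∧ p < Nat.card E ∧ Nat.card E ≤ p ^ 2 := by
  have hN1 : N ≠ ⊥ := fun e => by
    rw [e, Subgroup.card_bot] at h
    exact absurd h (not_lt.mpr hp.out.one_lt.le)
  obtain ⟨z, hzN, hzZ, hz1⟩ := exists_mem_center_ne_one_of_normal hP N hN1
  set Z := Subgroup.zpowers z with hZ
  have hZn : Z.Normal := ⟨fun a ha g => by
    have hac : a ∈ Subgroup.center P := (Subgroup.zpowers_le.mpr hzZ) ha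
    rwa [Subgroup.mem_center_iff.mp hac g, mul_inv_cancel_right]⟩
  have hZp : Nat.card Z = p := by rw [Nat.card_zpowers]; exact orderOf_eq_prime (hN.2 z hzN) hz1
  have hne : N.map (QuotientGroup.mk' Z) ≠ ⊥ := by
    rw [Ne, Subgroup.map_eq_bot_iff, QuotientGroup.ker_mk']
    exact fun hle => absurd (Subgroup.card_le_of_le hle) (by rw [hZp]; exact not_le.mpr h)
  have : (N.map (QuotientGroup.mk' Z)).Normal :=
    Subgroup.Normal.map inferInstance _ (QuotientGroup.mk'_surjective Z)
  obtain ⟨_, ⟨v, hv, rfl⟩, hvc, hv1⟩ := exists_mem_center_ne_one_of_normal (hP.to_quotient Z) _ hne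
  have hvZ : v ∉ Z := fun h => hv1 ((QuotientGroup.eq_one_iff v).mpr h)
  have hle : Z ⊔ Subgroup.zpowers v ≤ N := sup_le (Subgroup.zpowers_le.mpr hzN) (Subgroup.zpowers_le.mpr hv)
  refine ⟨Z ⊔ Subgroup.zpowers v, ⟨fun b hb g => ?_⟩, hle, ⟨⟨⟨fun a b => Subtype.ext ?_⟩⟩,
    fun a ha => hN.2 a (hle ha)⟩, ?_, ?_⟩
  · have h : ⁅g, b⁆ ∈ Z := by
      rw [← QuotientGroup.eq_one_iff, ← QuotientGroup.mk'_apply, map_commutatorElement,
        commutatorElement_eq_one_iff_mul_comm]
      have hle' : Z ⊔ Subgroup.zpowers v ≤ (Subgroup.center (P ⧸ Z)).comap (QuotientGroup.mk' Z) := by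
        refine sup_le (fun a ha => ?_) (Subgroup.zpowers_le.mpr hvc)
        rw [Subgroup.mem_comap, QuotientGroup.mk'_apply, (QuotientGroup.eq_one_iff a).mpr ha]
        exact one_mem _
      exact Subgroup.mem_center_iff.mp (hle' hb) _
    have e : g * b * g⁻¹ = ⁅g, b⁆ * b := by rw [commutatorElement_def, inv_mul_cancel_right]
    rw [e]
    exact mul_mem (Subgroup.mem_sup_left h) hb
  · exact (ea_commute hN (hle a.2) (hle b.2)).eq
  · rw [← hZp]
    exact Basics.card_lt_of_lt (lt_of_le_of_ne le_sup_left fun e => hvZ (e ▸ Subgroup.mem_sup_right (Subgroup.mem_zpowers v)))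
  · rw [hZ, pow_two]
    exact card_zpowers_sup_le (Subgroup.mem_center_iff.mp hzZ v).symm (hN.2 z hzN) (hN.2 v hv) hp.out.pos

theorem ea_inf {A B : Subgroup G} (hA : IsElementaryAbelian p A) : IsElementaryAbelian p (A ⊓ B) :=
  ⟨⟨⟨fun a b => Subtype.ext (ea_commute hA a.2.1 b.2.1).eq⟩⟩, fun a ha => hA.2 a ha.1⟩

theorem ea_map {H : Type*} [Group H] {A : Subgroup H} (hA : IsElementaryAbelian p A) (f : H →* G) :
    IsElementaryAbelian p (A.map f) :=
  ⟨isMulCommutative_map hA.1 f, by rintro _ ⟨a, ha, rfl⟩; rw [← map_pow, hA.2 a ha, map_one]⟩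

/-- If one elementary abelian subgroup of order at least `p ^ 3` is a uniqueness subgroup, all are. -/
theorem inUniqueMaximal_rank_three (hG : IsMinSimpleOddOrder G) [hp : Fact p.Prime] {A F : Subgroup G}
    (hA : IsElementaryAbelian p A) (hA3 : p ^ 2 < Nat.card A) (hAU : InUniqueMaximal A)
    (hF : IsElementaryAbelian p F) (hF3 : p ^ 2 < Nat.card F) : InUniqueMaximal F := by
  have hpG : p ∣ Nat.card G := by
    rcases (isPGroup_of_exponent hA.2).card_eq_or_dvd with e | e
    · rw [e] at hA3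
      exact absurd hA3 (not_lt.mpr (Nat.one_le_pow _ _ hp.out.pos))
    · exact e.trans A.card_subgroup_dvd_card
  have hp2 := prime_ne_two hG hpG
  obtain ⟨P, hAP⟩ := (isPGroup_of_exponent hA.2).exists_le_sylow
  obtain ⟨Q, hFQ⟩ := (isPGroup_of_exponent hF.2).exists_le_sylow
  obtain ⟨g, hg⟩ := MulAction.exists_smul_eq G P Q
  have hAe : IsElementaryAbelian p (A.subgroupOf (P : Subgroup G)) :=
    ⟨⟨⟨fun a b => Subtype.ext (Subtype.ext (ea_commute hA a.2 b.2).eq)⟩⟩, fun a ha => Subtype.ext (hA.2 _ ha)⟩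
  obtain ⟨E, hEn, hEe, hE3⟩ := exists_normal_ea_three hp2 P.2 hAe (by rwa [Basics.card_subgroupOf hAP])
  have hEp : p < Nat.card E := lt_of_le_of_lt (Nat.le_self_pow two_ne_zero p) hE3
  obtain ⟨E0, hE0n, hE0E, hE0e, hE0p, hE0le⟩ := exists_normal_le_card_sq P.2 E hEe hEp
  set E0' := E0.map (P : Subgroup G).subtype with hE0'
  have hE0'e : IsElementaryAbelian p E0' := ea_map hE0e _
  have hE0'p : p < Nat.card E0' := by rwa [Subgroup.card_map_of_injective (P : Subgroup G).subtype_injective]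
  have hcut : ∀ X : Subgroup G, X ≤ (P : Subgroup G) → IsElementaryAbelian p X → p ^ 2 < Nat.card X →
      p < Nat.card ↥(X ⊓ Subgroup.centralizer (E0' : Set G)) := by
    intro X hXP hX hX3
    set C := Subgroup.centralizer (E0 : Set (P : Subgroup G)) with hC
    have hCn : C.Normal := Subgroup.normal_centralizer
    have hle : (C ⊓ X.subgroupOf (P : Subgroup G)).map (P : Subgroup G).subtype ≤
        X ⊓ Subgroup.centralizer (E0' : Set G) := by
      rintro _ ⟨x, ⟨hxC, hxX⟩, rfl⟩
      refine ⟨hxX, ?_⟩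
      change _ ∈ Subgroup.centralizer _
      rw [Subgroup.mem_centralizer_iff]
      rintro _ ⟨e, he, rfl⟩
      exact congrArg Subtype.val (Subgroup.mem_centralizer_iff.mp hxC e he)
    refine lt_of_lt_of_le ?_ (Subgroup.card_le_of_le hle)
    rw [Subgroup.card_map_of_injective (P : Subgroup G).subtype_injective]
    set X' := X.subgroupOf (P : Subgroup G) with hX'
    have hidx : C.relIndex X' ≤ p :=
      (Nat.le_of_dvd (Nat.pos_of_ne_zero Subgroup.index_ne_zero_of_finite)
        (Subgroup.relIndex_dvd_index_of_normal C X')).trans (index_centralizer_le P.2 E0 hE0e hE0le)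
    have hcard : Nat.card X' = Nat.card ↥(C ⊓ X') * C.relIndex X' := by
      rw [← Subgroup.inf_relIndex_right, Subgroup.relIndex, ← Basics.card_subgroupOf (inf_le_right : C ⊓ X' ≤ X'),
        Subgroup.card_mul_index]
    have h4 : p ^ 2 < Nat.card X' := by rwa [hX', Basics.card_subgroupOf hXP]
    rw [hcard, pow_two] at h4
    by_contra h5
    exact absurd h4 (not_lt.mpr (Nat.mul_le_mul (not_lt.mp h5) hidx))
  -- `E0` is a uniqueness subgroup
  have hE0U : InUniqueMaximal E0' := by
    have h2 : InUniqueMaximal (A ⊓ Subgroup.centralizer (E0' : Set G)) :=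
      inUniqueMaximal_of_centralizes hG hAU (ea_inf hA) (hcut A hAP hA hA3)
        (inf_le_left.trans (Subgroup.le_centralizer_iff_isMulCommutative.mpr hA.1))
    exact inUniqueMaximal_of_centralizes hG h2 hE0'e hE0'p (Subgroup.le_centralizer_iff.mp inf_le_right)
  -- so is every subgroup of rank three of `P`
  have hall : ∀ X : Subgroup G, X ≤ (P : Subgroup G) → IsElementaryAbelian p X → p ^ 2 < Nat.card X →
      InUniqueMaximal X := by
    intro X hXP hX hX3
    have h2 : InUniqueMaximal (X ⊓ Subgroup.centralizer (E0' : Set G)) :=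
      inUniqueMaximal_of_centralizes hG hE0U (ea_inf hX) (hcut X hXP hX hX3) inf_le_right
    exact inUniqueMaximal_of_centralizes hG h2 hX (lt_of_le_of_lt (Nat.le_self_pow two_ne_zero p) hX3)
      ((Subgroup.le_centralizer_iff_isMulCommutative.mpr hX.1).trans (Subgroup.centralizer_le inf_le_left))
  have hFP : F.map (MulAut.conj g⁻¹).toMonoidHom ≤ (P : Subgroup G) := by
    refine (Subgroup.map_mono (f := (MulAut.conj g⁻¹).toMonoidHom) hFQ).trans ?_
    rw [← hg]
    intro x hx
    rw [mem_map_conj_iff, Sylow.coe_subgroup_smul, Subgroup.mem_pointwise_smul_iff_inv_smul_mem, MulAut.smul_def,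
      MulAut.conj_inv_apply] at hx
    simpa [mul_assoc] using hx
  have := inUniqueMaximal_conj (hall _ hFP (ea_map hF _)
    (by rwa [Subgroup.card_map_of_injective (MulEquiv.injective _)])) g
  rwa [map_conj_map_conj, mul_inv_cancel, map_one,
    show F.map (1 : MulAut G).toMonoidHom = F from Subgroup.map_id F] at this

end Cfsg.Agent.OddLocal
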