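import Cfsg.Agent.Lib.OddLocal.Rank
import Cfsg.Agent.Lib.OddLocal.UniqueF
import Mathlib.GroupTheory.SchurZassenhaus
import Mathlib.Algebra.Module.ZMod
import Mathlib.LinearAlgebra.FreeModule.PID

/-! Odd solvable groups acting on `p`-groups of rank at most two, and the derived subgroup. -/

set_option autoImplicit false
set_option maxHeartbeats 800000

namespace Cfsg.Agent.OddLocal

open Module
open scoped commutatorElement

/-- An odd order group of linear maps of a space of dimension at most two, of order prime to the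
characteristic, is commutative. -/
theorem commute_of_odd_coprime_two {p : ℕ} [hp : Fact p.Prime] (hp2 : p ≠ 2) {M : Type*} [AddCommGroup M]
    [Module (ZMod p) M] [FiniteDimensional (ZMod p) M] (hd : finrank (ZMod p) M ≤ 2) {H : Type*} [Group H]
    [Finite H] [Group.IsSolvable H] (hodd : Odd (Nat.card H)) (hpH : ¬ p ∣ Nat.card H)
    (φ : H →* Module.End (ZMod p) M) (hφ : Function.Injective φ) (x y : H) : x * y = y * x := by
  set F := Cfsg.fittingSubgroup H with hF
  have hFn : F.Normal := by rw [hF, Basics.fittingSubgroup_eq_iSup_pCore]; exact Subgroup.iSup_normal _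
  have hFc : IsMulCommutative F := by
    refine ⟨⟨fun a b => Subtype.ext ?_⟩⟩
    have key : F ≤ Subgroup.centralizer (F : Set H) := by
      rw [hF, Basics.fittingSubgroup_eq_iSup_pCore]
      refine iSup_le fun r => ?_
      rw [Subgroup.le_centralizer_iff]
      refine iSup_le fun s => ?_
      rw [Subgroup.le_centralizer_iff]
      have : Fact (r : ℕ).Prime := ⟨r.2⟩
      have : Fact (s : ℕ).Prime := ⟨s.2⟩
      intro u hu
      rw [Subgroup.mem_centralizer_iff]
      intro w hw
      by_cases hrs : (r : ℕ) = s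
      · by_cases hr1 : (r : ℕ) ∣ Nat.card H
        · have hr2 : (r : ℕ) ≠ 2 := fun e => by
            rw [e] at hr1
            exact (Nat.not_even_iff_odd.mpr hodd) (even_iff_two_dvd.mpr hr1)
          rw [← hrs] at hw
          exact hφ (by
            rw [map_mul, map_mul]
            exact (commute_of_qGroup_finrank_le_two hd hr2 (Basics.pCore_isPGroup (G := H) (r : ℕ))
              (φ.comp (Cfsg.pCore (r : ℕ) H).subtype) ⟨w, hw⟩ ⟨u, hu⟩).eq)
        · have hbot : Cfsg.pCore (r : ℕ) H = ⊥ := by
            rcases (Basics.pCore_isPGroup (G := H) (r : ℕ)).card_eq_or_dvd with e | e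
            · exact Subgroup.eq_bot_of_card_eq _ e
            · exact absurd (e.trans (Subgroup.card_subgroup_dvd_card _)) hr1
          rw [hbot] at hu
          rw [Subgroup.mem_bot.mp hu, one_mul, mul_one]
      · have h1 : Disjoint (Cfsg.pCore (r : ℕ) H) (Cfsg.pCore (s : ℕ) H) :=
          IsPGroup.disjoint_of_ne _ _ hrs _ _ (Basics.pCore_isPGroup _) (Basics.pCore_isPGroup _)
        exact (Subgroup.commute_of_normal_of_disjoint _ _ inferInstance inferInstance h1 u w hu hw).eq.symm
    exact Subgroup.mem_centralizer_iff.mp (key b.2) a a.2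
  have hCF : Subgroup.centralizer (F : Set H) ≤ F := Basics.centralizer_fittingSubgroup_le
  have hFle : F ≤ Subgroup.centralizer (F : Set H) := Subgroup.le_centralizer_iff_isMulCommutative.mpr hFc
  by_cases hsc : ∀ a ∈ F, ∃ c : ZMod p, φ a = c • 1
  · have hall : ∀ h : H, h ∈ F := by
      intro h
      refine hCF ?_
      rw [Subgroup.mem_centralizer_iff]
      intro a ha
      obtain ⟨c, hc⟩ := hsc a ha
      exact hφ (by rw [map_mul, map_mul, hc, smul_mul_assoc, mul_smul_comm, one_mul, mul_one])
    exact congrArg Subtype.val (hFc.is_comm.comm ⟨x, hall x⟩ ⟨y, hall y⟩)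
  push Not at hsc
  obtain ⟨a, haF, hans⟩ := hsc
  set Z := φ a with hZ
  obtain ⟨v, hv⟩ : ∃ v : M, LinearIndependent (ZMod p) ![v, Z v] := by
    by_contra h
    push Not at h
    obtain ⟨c, hc⟩ := Z.exists_eq_smul_id_of_forall_notLinearIndependent h
    exact hans c hc
  have hd2 : finrank (ZMod p) M = 2 := le_antisymm hd (by simpa using hv.fintype_card_le_finrank)
  have hspan : Submodule.span (ZMod p) (Set.range ![v, Z v]) = ⊤ :=
    hv.span_eq_top_of_card_eq_finrank (by simp [hd2])
  have hexp : ∀ T : Module.End (ZMod p) M, T * Z = Z * T → ∃ c e : ZMod p, T = c • 1 + e • Z := by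
    intro T hcomm
    have hmem : T v ∈ Submodule.span (ZMod p) (Set.range ![v, Z v]) := hspan ▸ Submodule.mem_top
    rw [Matrix.range_cons_cons_empty, Submodule.mem_span_pair] at hmem
    obtain ⟨c, e, hce⟩ := hmem
    refine ⟨c, e, LinearMap.ext_on_range hspan fun i => ?_⟩
    fin_cases i
    · simp [← hce]
    · have h := LinearMap.congr_fun hcomm v
      simp only [Module.End.mul_apply] at h
      simp [h, ← hce]
  have huniq : ∀ c e c' e' : ZMod p, c • (1 : Module.End (ZMod p) M) + e • Z = c' • 1 + e' • Z →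
      c = c' ∧ e = e' := by
    intro c e c' e' h
    have h1 := LinearMap.congr_fun h v
    simp only [LinearMap.add_apply, LinearMap.smul_apply, Module.End.one_apply] at h1
    have h2 : (c - c') • v + (e - e') • Z v = 0 := by
      rw [sub_smul, sub_smul, sub_add_sub_comm, h1, sub_self]
    obtain ⟨h3, h4⟩ := LinearIndependent.pair_iff.mp hv _ _ h2
    exact ⟨sub_eq_zero.mp h3, sub_eq_zero.mp h4⟩
  obtain ⟨d, u, hsq⟩ := hexp (Z * Z) (mul_assoc _ _ _)
  set C := Subgroup.centralizer ({a} : Set H) with hC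
  have hCc : ∀ g ∈ C, ∀ g' ∈ C, g * g' = g' * g := by
    intro g hg g' hg'
    have h1 : ∀ k ∈ C, φ k * Z = Z * φ k := fun k hk => by
      rw [hZ, ← map_mul, ← map_mul, Subgroup.mem_centralizer_singleton_iff.mp hk]
    obtain ⟨c1, e1, eg⟩ := hexp _ (h1 g hg)
    obtain ⟨c2, e2, eg'⟩ := hexp _ (h1 g' hg')
    refine hφ ?_
    rw [map_mul, map_mul, eg, eg']
    simp only [mul_add, add_mul, smul_mul_smul, mul_one, one_mul, mul_comm c2, mul_comm e2]
    abel
  have hFC : F ≤ C := fun f hf => Subgroup.mem_centralizer_singleton_iff.mpr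
    (congrArg Subtype.val (hFc.is_comm.comm ⟨f, hf⟩ ⟨a, haF⟩))
  have hCF' : C ≤ F := fun g hg => hCF (Subgroup.mem_centralizer_iff.mpr fun f hf => hCc f (hFC hf) g hg)
  suffices hall : ∀ h : H, h ∈ C from hCc x (hall x) y (hall y)
  intro h
  -- conjugation by `h` moves `Z` to `c + e Z`, with `e = 1` or `e = -1`
  have hconj : ∀ g : H, φ (g * a * g⁻¹) * Z = Z * φ (g * a * g⁻¹) := fun g => by
    rw [hZ, ← map_mul, ← map_mul]
    exact congrArg φ (congrArg Subtype.val
      (hFc.is_comm.comm ⟨_, hFn.conj_mem a haF g⟩ ⟨a, haF⟩))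
  obtain ⟨c, e, hce⟩ := hexp _ (hconj h)
  have hsq' : φ (h * a * h⁻¹) * φ (h * a * h⁻¹) = d • 1 + u • φ (h * a * h⁻¹) := by
    calc φ (h * a * h⁻¹) * φ (h * a * h⁻¹) = φ h * (Z * Z) * φ h⁻¹ := by
          rw [hZ, ← map_mul, ← map_mul, ← map_mul, ← map_mul]
          exact congrArg φ (by group)
      _ = φ h * (d • 1 + u • Z) * φ h⁻¹ := by rw [hsq]
      _ = d • 1 + u • φ (h * a * h⁻¹) := by
          rw [mul_add, add_mul, mul_smul_comm, smul_mul_assoc, mul_smul_comm, smul_mul_assoc, mul_one,
            ← map_mul, mul_inv_cancel, map_one, map_mul, map_mul]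
  rw [hce] at hsq'
  have heq : (c * c + e * e * d) • (1 : Module.End (ZMod p) M) + (2 * c * e + e * e * u) • Z =
      (d + u * c) • 1 + (u * e) • Z := by
    calc (c * c + e * e * d) • (1 : Module.End (ZMod p) M) + (2 * c * e + e * e * u) • Z
        = (c • 1 + e • Z) * (c • 1 + e • Z) := by
          rw [mul_add, add_mul, add_mul, smul_mul_smul, smul_mul_smul, smul_mul_smul, smul_mul_smul, one_mul,
            mul_one, one_mul, hsq]
          module
      _ = _ := by rw [hsq']; module
  obtain ⟨q1, q2⟩ := huniq _ _ _ _ heq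
  have he0 : e ≠ 0 := by
    intro he
    rw [he, zero_smul, add_zero] at hce
    refine hans c ?_
    calc φ a = φ h⁻¹ * φ (h * a * h⁻¹) * φ h := by
          rw [← map_mul, ← map_mul]; exact congrArg φ (by group)
      _ = c • 1 := by rw [hce, mul_smul_comm, smul_mul_assoc, mul_one, ← map_mul, inv_mul_cancel, map_one]
  have h2 : (2 : ZMod p) ≠ 0 := by
    intro h
    have : ((2 : ℕ) : ZMod p) = 0 := by exact_mod_cast h
    rw [ZMod.natCast_eq_zero_iff] at this
    exact hp2 ((Nat.prime_dvd_prime_iff_eq hp.out Nat.prime_two).mp this)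
  have h4 : (4 : ZMod p) ≠ 0 := by
    have : (4 : ZMod p) = 2 * 2 := by norm_num
    rw [this]; exact mul_ne_zero h2 h2
  have q2' : 2 * c = u * (1 - e) := by
    refine mul_right_cancel₀ he0 ?_
    linear_combination q2
  have hprod : (1 - e * e) * (u * u + 4 * d) = 0 := by
    linear_combination -4 * q1 + (2 * c - u * (1 + e)) * q2'
  rcases mul_eq_zero.mp hprod with he | hu
  · -- `e = ±1`, so `h ^ 2` centralizes `a`
    have hh2 : h * h ∈ C := by
      rw [hC, Subgroup.mem_centralizer_singleton_iff]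
      refine mul_inv_eq_iff_eq_mul.mp (hφ ?_)
      calc φ (h * h * a * (h * h)⁻¹) = φ h * φ (h * a * h⁻¹) * φ h⁻¹ := by
            rw [← map_mul, ← map_mul]; exact congrArg φ (by group)
        _ = c • 1 + e • φ (h * a * h⁻¹) := by
            rw [hce, mul_add, add_mul, mul_smul_comm, smul_mul_assoc, mul_smul_comm, smul_mul_assoc, mul_one,
              ← map_mul, mul_inv_cancel, map_one, hZ, ← map_mul, ← map_mul, ← hce]
        _ = (c + e * c) • 1 + (e * e) • Z := by rw [hce]; module
        _ = φ a := by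
            have hee : e * e = 1 := (sub_eq_zero.mp he).symm
            have hc0 : c + e * c = 0 := by
              refine mul_left_cancel₀ h2 ?_
              linear_combination (1 + e) * q2' + u * he
            rw [hc0, hee, zero_smul, zero_add, one_smul]
    obtain ⟨k, hk⟩ := hodd.of_dvd_nat (orderOf_dvd_natCard h)
    have e2 : h * (h * h) ^ k = 1 := by
      rw [← pow_two, ← pow_mul, ← pow_succ', ← hk, pow_orderOf_eq_one]
    rw [eq_inv_of_mul_eq_one_left e2]
    exact inv_mem (pow_mem hh2 k)
  · -- `Z` has a single eigenvalue: impossible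
    set r := u * (2 : ZMod p)⁻¹ with hr
    set N := Z - r • (1 : Module.End (ZMod p) M) with hN
    have hN2 : N * N = 0 := by
      rw [hN, sub_mul, mul_sub, mul_sub, smul_mul_smul, mul_smul_comm, smul_mul_assoc, one_mul, mul_one, hsq]
      have e1 : u - r - r = 0 := by rw [hr]; field_simp; ring
      have e2 : d + r * r = 0 := by
        rw [hr]; field_simp; linear_combination hu
      calc d • (1 : Module.End (ZMod p) M) + u • Z - r • Z - (r • Z - (r * r) • 1)
          = (d + r * r) • (1 : Module.End (ZMod p) M) + (u - r - r) • Z := by module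
        _ = 0 := by rw [e1, e2, zero_smul, zero_smul, add_zero]
    have hNp : N ^ p = 0 := by
      have key : ∀ n : ℕ, 2 ≤ n → N ^ n = 0 := fun n hn => by
        rw [← Nat.add_sub_cancel' hn, pow_add, pow_two, hN2, zero_mul]
      exact key p hp.out.two_le
    have hZp : Z ^ p = r ^ p • (1 : Module.End (ZMod p) M) := by
      have e : Z = N + r • 1 := by rw [hN, sub_add_cancel]
      have hc : Commute N (r • (1 : Module.End (ZMod p) M)) := (Commute.one_right N).smul_right r
      conv_lhs => rw [e, hc.add_pow]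
      rw [Finset.sum_eq_single 0]
      · simp [smul_pow]
      · intro i hi hi0
        rcases (Nat.lt_succ_iff.mp (Finset.mem_range.mp hi)).eq_or_lt with rfl | hlt
        · rw [hNp]; simp
        · obtain ⟨m, hm⟩ := hp.out.dvd_choose_self hi0 hlt
          rw [hm, Nat.cast_mul, ← Nat.smul_one_eq_cast p, ← Nat.cast_smul_eq_nsmul (ZMod p),
            ZMod.natCast_self, zero_smul, zero_mul, mul_zero]
      · intro h; exact absurd (Finset.mem_range.mpr (Nat.succ_pos p)) h
    refine absurd ?_ (hans r)
    obtain ⟨i, hi⟩ : ∃ i : ℕ, a = (a ^ p) ^ i := by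
      have hcop : (orderOf a).Coprime p :=
        ((hp.out.coprime_iff_not_dvd.mpr fun h => hpH (h.trans (orderOf_dvd_natCard a))).symm)
      obtain ⟨i, hi⟩ := exists_pow_eq_self_of_coprime hcop.symm
      exact ⟨i, hi.symm⟩
    exfalso
    refine hans ((r ^ p) ^ i) ?_
    conv_lhs => rw [hZ, hi, map_pow, map_pow, ← hZ, hZp, smul_pow, one_pow]


/-- Odd coprime automorphism groups of a group of order at most `p ^ 2` and exponent `p` are commutative. -/
theorem commute_of_faithful_two {p : ℕ} [hp : Fact p.Prime] (hp2 : p ≠ 2) {V : Type*} [CommGroup V] [Finite V]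
    (hexp : ∀ a : V, a ^ p = 1) (hcard : Nat.card V ≤ p ^ 2) {H : Type*} [Group H] [Finite H]
    [Group.IsSolvable H] (hodd : Odd (Nat.card H)) (hpH : ¬ p ∣ Nat.card H) (ψ : H →* MulAut V)
    (hψ : Function.Injective ψ) (x y : H) : x * y = y * x := by
  have hz : ∀ a : Additive V, p • a = 0 := fun a =>
    Additive.toMul.injective (by rw [toMul_nsmul, toMul_zero]; exact hexp _)
  obtain ⟨hm⟩ : Nonempty (Module (ZMod p) (Additive V)) := ⟨AddCommGroup.zmodModule hz⟩
  have : Module.Finite (ZMod p) (Additive V) := Module.Finite.of_finite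
  have hd : finrank (ZMod p) (Additive V) ≤ 2 := by
    have h1 : Nat.card (Additive V) = p ^ finrank (ZMod p) (Additive V) := by
      have h2 : Nat.card (Additive V) = Nat.card (ZMod p) ^ finrank (ZMod p) (Additive V) :=
        @Module.natCard_eq_pow_finrank (ZMod p) (Additive V) _ _ hm this
      rw [h2, Nat.card_zmod]
    rw [Nat.card_congr Additive.toMul] at h1
    rw [h1] at hcard
    exact (Nat.pow_le_pow_iff_right hp.out.one_lt).mp hcard
  let g : H → Additive V →+ Additive V := fun k => MonoidHom.toAdditive (ψ k).toMonoidHom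
  let φ : H →* Module.End (ZMod p) (Additive V) :=
    { toFun := fun k =>
        { toFun := g k
          map_add' := map_add (g k)
          map_smul' := fun c a => ZMod.map_smul (g k) c a }
      map_one' := by refine LinearMap.ext fun a => ?_; simp [g]
      map_mul' := fun k l => by refine LinearMap.ext fun a => ?_; simp [g] }
  refine commute_of_odd_coprime_two hp2 hd hodd hpH φ (fun k l h => hψ (MulEquiv.ext fun a => ?_)) x y
  exact congrArg Additive.toMul (LinearMap.congr_fun h (Additive.ofMul a))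

variable {G : Type*} [Group G] [Finite G] {p : ℕ}

/-- A section detecting the `p'`-automorphisms of a `p`-group of rank at most two. -/
theorem exists_small_section [hp : Fact p.Prime] (hp2 : p ≠ 2) {T : Subgroup G} [T.Normal] (hTp : IsPGroup p T)
    (hrankT : ∀ X : Subgroup T, IsElementaryAbelian p X → Nat.card X ≤ p ^ 2) :
    ∃ (WW : Subgroup G) (_ : WW.Normal) (P : Subgroup (G ⧸ WW)), P.Normal ∧ IsPGroup p P ∧ Nat.card P ≤ p ^ 2 ∧
      IsMulCommutative P ∧ (∀ a ∈ P, a ^ p = 1) ∧
      ∀ x : G, (orderOf x).Coprime p → QuotientGroup.mk' WW x ∈ Subgroup.centralizer (P : Set (G ⧸ WW)) →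
        x ∈ Subgroup.centralizer (T : Set G) := by
  -- `W = Ω₁(Z₂(T))`
  set Z2 := Subgroup.upperCentralSeries T 2 with hZ2
  have hcomm : ∀ x ∈ Z2, ∀ y : T, ⁅x, y⁆ ∈ Subgroup.center T := by
    intro x hx y
    have h := (Subgroup.mem_upperCentralSeries_succ_iff (n := 1) (x := x)).mp hx y
    rw [Subgroup.upperCentralSeries_one] at h
    rw [commutatorElement_def]; exact h
  let W0 : Subgroup T :=
    { carrier := {x | x ∈ Z2 ∧ x ^ p = 1}
      one_mem' := ⟨one_mem _, one_pow _⟩
      mul_mem' := fun {a b} ha hb => ⟨mul_mem ha.1 hb.1, by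
        have hc : ∀ z : T, Commute ⁅b, a⁆ z := fun z => (Subgroup.mem_center_iff.mp (hcomm b hb.1 a) z).symm
        have hcp : ⁅b, a⁆ ^ p = 1 := by
          rw [← Transfer.commutator_pow_left (hc b).symm p, hb.2, commutatorElement_one_left]
        rw [Transfer.mul_pow_of_commute (hc a) (hc b), ha.2, hb.2, one_mul, one_mul]
        obtain ⟨m, hm⟩ : p ∣ p.choose 2 :=
          hp.out.dvd_choose_self two_ne_zero (lt_of_le_of_ne hp.out.two_le (Ne.symm hp2))
        rw [hm, pow_mul, hcp, one_pow]⟩
      inv_mem' := fun {a} ha => ⟨inv_mem ha.1, by rw [inv_pow, ha.2, inv_one]⟩ }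
  have hW0char : W0.Characteristic := by
    rw [Subgroup.characteristic_iff_comap_eq]
    intro φ
    ext x
    change φ x ∈ Z2 ∧ φ x ^ p = 1 ↔ x ∈ Z2 ∧ x ^ p = 1
    rw [← map_pow, map_eq_one_iff φ φ.injective]
    refine and_congr_left fun _ => ?_
    have h := Subgroup.characteristic_iff_comap_eq.mp (inferInstance : Z2.Characteristic) φ
    conv_rhs => rw [← h]
    rfl
  set W := W0.map T.subtype with hW
  have hWn : W.Normal := ConjAct.normal_of_characteristic_of_normal
  have hWp : IsPGroup p W := hTp.to_le (Subgroup.map_subtype_le _)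
  set WW := ⁅W, W⁆ with hWW
  have hWWW : WW ≤ W := Subgroup.commutator_le_self W
  have hWWc : WW ≤ Subgroup.centralizer (T : Set G) := by
    rw [hWW, hW, ← Subgroup.map_commutator, Subgroup.map_le_iff_le_comap, Subgroup.commutator_le]
    intro a ha b _
    rw [Subgroup.mem_comap, Subgroup.mem_centralizer_iff]
    intro t ht
    exact congrArg Subtype.val (Subgroup.mem_center_iff.mp (hcomm a ha.1 b) ⟨t, ht⟩)
  set π := QuotientGroup.mk' WW with hπ
  set P := W.map π with hP
  have hPn : P.Normal := hWn.map _ (QuotientGroup.mk'_surjective WW)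
  have hPcard : Nat.card P ≤ p ^ 2 := by
    have hcard := Basics.card_map_mul_card_inf_ker π W
    rw [QuotientGroup.ker_mk', inf_eq_right.mpr hWWW] at hcard
    have hWc : Nat.card W = Nat.card W0 := Subgroup.card_map_of_injective T.subtype_injective
    by_cases hab : IsMulCommutative W0
    · have := hrankT W0 ⟨hab, fun a ha => ha.2⟩
      calc Nat.card P ≤ Nat.card P * Nat.card WW := Nat.le_mul_of_pos_right _ Nat.card_pos
        _ = Nat.card W0 := by rw [hP, hcard, hWc]
        _ ≤ p ^ 2 := this
    have hWW1 : WW ≠ ⊥ := by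
      intro h
      rw [hWW, hW, ← Subgroup.map_commutator,
        Subgroup.map_eq_bot_iff_of_injective _ T.subtype_injective] at h
      exact hab (Subgroup.commutator_self_eq_bot_iff.mp h)
    have hW0p : IsPGroup p W0 := isPGroup_of_exponent fun x hx => hx.2
    obtain ⟨E, -, hE⟩ := exists_isMaxNormalEA p (isElementaryAbelian_bot (G := W0) (p := p))
    have := hE.1
    have hEcard : Nat.card E ≤ p ^ 2 := by
      rw [← Subgroup.card_map_of_injective W0.subtype_injective]
      refine hrankT _ ⟨⟨⟨?_⟩⟩, ?_⟩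
      · rintro ⟨_, a, ha, rfl⟩ ⟨_, b, hb, rfl⟩
        exact Subtype.ext (congrArg W0.subtype (ea_commute hE.2.1 ha hb).eq)
      · rintro _ ⟨a, ha, rfl⟩
        rw [← map_pow, hE.2.1.2 a ha, map_one]
    have hCE : Subgroup.centralizer (E : Set W0) ≤ E := fun x hx =>
      mem_of_isMaxNormalEA hp2 hW0p hE hx (Subtype.ext x.2.2)
    have h3 : Nat.card W0 ≤ p ^ 2 * p := by
      rw [← Subgroup.card_mul_index (Subgroup.centralizer (E : Set W0))]
      exact Nat.mul_le_mul ((Subgroup.card_le_of_le hCE).trans hEcard) (index_centralizer_le hW0p E hE.2.1 hEcard)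
    have hpWW : p ≤ Nat.card WW := by
      rcases (hWp.to_le hWWW).card_eq_or_dvd with h | h
      · exact absurd (Subgroup.eq_bot_of_card_eq WW h) hWW1
      · exact Nat.le_of_dvd Nat.card_pos h
    refine Nat.le_of_mul_le_mul_right ?_ hp.out.pos
    calc Nat.card P * p ≤ Nat.card P * Nat.card WW := Nat.mul_le_mul_left _ hpWW
      _ = Nat.card W0 := by rw [hP, hcard, hWc]
      _ ≤ p ^ 2 * p := h3
  -- `p'`-elements trivial on `W / [W, W]` are trivial
  have hWn' : WW.Normal := inferInstance
  have hPc : IsMulCommutative P := by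
    refine Subgroup.le_centralizer_iff_isMulCommutative.mp ?_
    rintro _ ⟨a, ha, rfl⟩
    rw [Subgroup.mem_centralizer_iff]
    rintro _ ⟨b, hb, rfl⟩
    have h1 : π ⁅b, a⁆ = 1 := (QuotientGroup.eq_one_iff _).mpr (Subgroup.commutator_mem_commutator hb ha)
    rw [map_commutatorElement] at h1
    exact commutatorElement_eq_one_iff_mul_comm.mp h1
  have hPe : ∀ a ∈ P, a ^ p = 1 := by
    rintro _ ⟨_, ⟨a, ha, rfl⟩, rfl⟩
    rw [← map_pow, ← map_pow, ha.2, map_one, map_one]
  have hkill : ∀ x : G, (orderOf x).Coprime p → π x ∈ Subgroup.centralizer (P : Set (G ⧸ WW)) →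
      x ∈ Subgroup.centralizer (T : Set G) := by
    intro x hxo hxc
    have hmod : ∀ u ∈ W, u⁻¹ * (x * u * x⁻¹) ∈ WW := by
      intro u hu
      have h := Subgroup.mem_centralizer_iff.mp hxc (π u) ⟨u, hu, rfl⟩
      rw [← QuotientGroup.eq_one_iff, ← QuotientGroup.mk'_apply, ← hπ, map_mul, map_mul, map_mul, map_inv,
        map_inv, ← h]
      group
    have hfixWW : ∀ c ∈ WW, Commute x c := by
      intro c hc
      rw [hWW, Subgroup.commutator_def] at hc
      induction hc using Subgroup.closure_induction with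
      | mem z hz =>
        obtain ⟨a, ha, b, hb, rfl⟩ := hz
        have hca := Subgroup.mem_centralizer_iff.mp (hWWc (hmod a ha))
        have hcb := Subgroup.mem_centralizer_iff.mp (hWWc (hmod b hb))
        have hT' : ∀ {u}, u ∈ W → u ∈ T := fun {u} hu => Subgroup.map_subtype_le _ hu
        have e : x * ⁅a, b⁆ * x⁻¹ = ⁅a, b⁆ := by
          set c₁ := a⁻¹ * (x * a * x⁻¹) with hc₁
          set c₂ := b⁻¹ * (x * b * x⁻¹) with hc₂
          have ea : x * a * x⁻¹ = a * c₁ := by rw [hc₁]; group
          have eb : x * b * x⁻¹ = b * c₂ := by rw [hc₂]; group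
          have k1 : Commute c₁ b := (hca b (hT' hb)).symm
          have k3 : Commute c₂ a := (hcb a (hT' ha)).symm
          have k5 : Commute c₁ c₂ := (hca c₂ (hT' (hWWW (hmod b hb)))).symm
          calc x * ⁅a, b⁆ * x⁻¹ = (x * a * x⁻¹) * (x * b * x⁻¹) * (x * a * x⁻¹)⁻¹ * (x * b * x⁻¹)⁻¹ := by
                rw [commutatorElement_def]; group
            _ = a * (c₁ * (b * c₂)) * c₁⁻¹ * a⁻¹ * c₂⁻¹ * b⁻¹ := by
                rw [ea, eb]; simp only [mul_inv_rev, mul_assoc]
            _ = a * ((b * c₂) * c₁) * c₁⁻¹ * a⁻¹ * c₂⁻¹ * b⁻¹ := by rw [(k1.mul_right k5).eq]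
            _ = a * b * (c₂ * a⁻¹) * c₂⁻¹ * b⁻¹ := by group
            _ = a * b * (a⁻¹ * c₂) * c₂⁻¹ * b⁻¹ := by rw [k3.inv_right.eq]
            _ = ⁅a, b⁆ := by rw [commutatorElement_def]; group
        exact mul_inv_eq_iff_eq_mul.mp e
      | one => exact Commute.one_right x
      | mul _ _ _ _ h1 h2 => exact h1.mul_right h2
      | inv _ _ h1 => exact h1.inv_right
    have hfixW : ∀ u ∈ W, Commute x u := by
      intro u hu
      obtain ⟨j, hj⟩ := hWp ⟨_, hWWW (hmod u hu)⟩
      exact LocalEvenA.comm_of_coprime_chain hxo ⟨j, congrArg Subtype.val hj⟩ (hfixWW _ (hmod u hu))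
    obtain ⟨E, -, hE⟩ := exists_isMaxNormalEA p (isElementaryAbelian_bot (G := T) (p := p))
    have := hE.1
    have hEW : E ≤ W0 := by
      intro e he
      refine ⟨?_, hE.2.1.2 e he⟩
      rw [Subgroup.mem_upperCentralSeries_succ_iff]
      intro y
      rw [Subgroup.upperCentralSeries_one]
      have h := (commutator_top_le_center hTp E (hrankT E hE.2.1)
        (Subgroup.commutator_mem_commutator he (Subgroup.mem_top y))).2
      rw [commutatorElement_def] at h
      exact h
    set E' := E.map T.subtype with hE'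
    have hQ : ¬ p ∣ Nat.card (Subgroup.zpowers x) := by
      rw [Nat.card_zpowers]; exact hp.out.coprime_iff_not_dvd.mp hxo.symm
    have hxE : ∀ e ∈ E', Commute x e := fun e he => hfixW e (Subgroup.map_mono hEW he)
    have hxN : Subgroup.zpowers x ≤ Subgroup.normalizer (T : Set G) := by
      rw [Subgroup.normalizer_eq_top]; exact le_top
    have hcent := centralizes_of_fixed_odd hp2 hTp (Q := Subgroup.zpowers x) (A := E') hQ
      (hTp.to_le (Subgroup.map_subtype_le _))
      (by
        intro e he
        refine Subgroup.centralizer_le_normalizer (Subgroup.zpowers x : Set G) ?_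
        rw [Subgroup.mem_centralizer_iff]
        rintro _ ⟨i, rfl⟩
        exact ((hxE e he).zpow_left i).eq)
      ((Subgroup.map_subtype_le _).trans Subgroup.le_normalizer) hxN (fun t ht htC htp => by
        rw [Subgroup.mem_centralizer_iff]
        rintro _ ⟨i, rfl⟩
        refine ((hxE t ?_).zpow_left i).eq
        refine ⟨⟨t, ht⟩, mem_of_isMaxNormalEA hp2 hTp hE ?_ (Subtype.ext htp), rfl⟩
        rw [Subgroup.mem_centralizer_iff]
        exact fun e he => Subtype.ext (Subgroup.mem_centralizer_iff.mp htC _ ⟨e, he, rfl⟩))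
    exact hcent (Subgroup.mem_zpowers x)
  exact ⟨WW, hWn', P, hPn, hWp.map π, hPcard, hPc, hPe, hkill⟩

/-- In an odd solvable group the derived subgroup acts as a `p`-group on a normal `p`-subgroup of rank two. -/
theorem derived_pPower_centralizes [hp : Fact p.Prime] [Group.IsSolvable G] (hodd : Odd (Nat.card G))
    (hp2 : p ≠ 2) {T : Subgroup G} [T.Normal] (hTp : IsPGroup p T)
    (hrankT : ∀ X : Subgroup T, IsElementaryAbelian p X → Nat.card X ≤ p ^ 2) {x : G}
    (hx : x ∈ commutator G) (hxo : (orderOf x).Coprime p) : x ∈ Subgroup.centralizer (T : Set G) := by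
  obtain ⟨WW, hWWn, P, hPn, hPp, hPcard, hPc, hPe, hkill⟩ := exists_small_section hp2 hTp hrankT
  refine hkill x hxo ?_
  set C := Subgroup.centralizer (P : Set (G ⧸ WW)) with hC
  have hCn : C.Normal := Subgroup.normal_centralizer
  set Q := (G ⧸ WW) ⧸ C
  set O := Cfsg.pCore p Q with hO
  have hoddW : Odd (Nat.card (G ⧸ WW)) := hodd.of_dvd_nat (Subgroup.card_quotient_dvd_card _)
  have hoddQ : Odd (Nat.card Q) := hoddW.of_dvd_nat (Subgroup.card_quotient_dvd_card _)
  -- all `p`-elements of `Q` lie in `O`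
  have hSylow : ∀ S : Sylow p (G ⧸ WW), (S : Subgroup (G ⧸ WW)).map (QuotientGroup.mk' C) ≤ O := by
    rintro S _ ⟨b, hb, rfl⟩
    refine quadratic_mem_pCore hoddW hp2 P hPp C hC b ?_
    intro v hv
    have hPS : P ≤ (S : Subgroup (G ⧸ WW)) := (Basics.le_pCore hPp).trans (Basics.pCore_le_sylow p S)
    set P' := P.subgroupOf (S : Subgroup (G ⧸ WW))
    have hPc' : Nat.card P' ≤ p ^ 2 := by rw [Basics.card_subgroupOf hPS]; exact hPcard
    have h := (commutator_top_le_center S.2 P' hPc'
      (Subgroup.commutator_mem_commutator (g₁ := ⟨v, hPS hv⟩) (g₂ := ⟨b, hb⟩) hv (Subgroup.mem_top _))).2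
    have hc : Commute b ⁅v, b⁆ := congrArg Subtype.val (Subgroup.mem_center_iff.mp h ⟨b, hb⟩)
    have e : b * v * b⁻¹ * v⁻¹ = ⁅v, b⁆⁻¹ := by rw [commutatorElement_def]; group
    rw [e]
    exact hc.inv_right
  obtain ⟨S⟩ : Nonempty (Sylow p (G ⧸ WW)) := inferInstance
  set SQ := S.mapSurjective (QuotientGroup.mk'_surjective C) with hSQ
  have hSO : (SQ : Subgroup Q) = O :=
    le_antisymm (hSylow S) (Basics.pCore_le_sylow p SQ)
  have hcop : (Nat.card O).Coprime O.index := by
    rw [← hSO]
    exact SQ.card_coprime_index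
  obtain ⟨K, hK⟩ := Subgroup.exists_right_complement'_of_coprime hcop
  have hKp : ¬ p ∣ Nat.card K := by
    rw [← hK.symm.index_eq_card, ← hSO]
    exact SQ.not_dvd_index
  -- `Q` acts faithfully on `P`, so `K` is commutative
  let ψ : G ⧸ WW →* MulAut P := MulAut.conjNormal
  have hker : ψ.ker = C := by
    ext g
    rw [MonoidHom.mem_ker, hC, Subgroup.mem_centralizer_iff]
    constructor
    · intro h a ha
      have h1 : g * a * g⁻¹ = a := congrArg Subtype.val (DFunLike.congr_fun h (⟨a, ha⟩ : P))
      exact (mul_inv_eq_iff_eq_mul.mp h1).symm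
    · intro h
      refine MulEquiv.ext fun a => Subtype.ext ?_
      exact mul_inv_eq_iff_eq_mul.mpr (h a a.2).symm
  let ψ' : Q →* MulAut P := QuotientGroup.lift C ψ hker.ge
  have hψ' : Function.Injective ψ' := by
    rw [← MonoidHom.ker_eq_bot_iff, eq_bot_iff]
    intro q hq
    induction q using QuotientGroup.induction_on with
    | H g =>
      rw [MonoidHom.mem_ker] at hq
      rw [Subgroup.mem_bot, QuotientGroup.eq_one_iff, ← hker, MonoidHom.mem_ker]
      exact hq
  let instP : CommGroup P := { (inferInstance : Group P) with mul_comm := hPc.is_comm.comm }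
  have hKc : ∀ k l : K, k * l = l * k :=
    commute_of_faithful_two (V := P) hp2 (fun a => Subtype.ext (hPe _ a.2)) hPcard
      (hoddQ.of_dvd_nat K.card_subgroup_dvd_card) hKp (ψ'.comp K.subtype)
      (hψ'.comp K.subtype_injective)
  have hder : commutator Q ≤ O := by
    rw [commutator_eq_closure, Subgroup.closure_le]
    rintro _ ⟨u, w, rfl⟩
    have hdec : ∀ z : Q, ∃ k : K, QuotientGroup.mk' O z = QuotientGroup.mk' O (k : Q) := by
      intro z
      obtain ⟨⟨o, k⟩, hok⟩ := hK.2 z
      refine ⟨k, ?_⟩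
      rw [← hok, map_mul]
      simp
    obtain ⟨k, hk⟩ := hdec u
    obtain ⟨l, hl⟩ := hdec w
    rw [SetLike.mem_coe, ← QuotientGroup.eq_one_iff, ← QuotientGroup.mk'_apply, map_commutatorElement, hk, hl,
      ← map_commutatorElement, commutatorElement_eq_one_iff_mul_comm.mpr (congrArg Subtype.val (hKc k l)), map_one]
  set f := (QuotientGroup.mk' C).comp (QuotientGroup.mk' WW)
  have hfx : f x ∈ O := by
    refine hder ?_
    have : (commutator G).map f ≤ commutator Q := by
      rw [commutator_def, Subgroup.map_commutator, commutator_def]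
      exact Subgroup.commutator_mono le_top le_top
    exact this ⟨x, hx, rfl⟩
  obtain ⟨j, hj⟩ := Basics.pCore_isPGroup (G := Q) p ⟨_, hfx⟩
  exact (QuotientGroup.eq_one_iff _).mp (LocalEvenA.eq_one_of_pPow_of_coprime (congrArg Subtype.val hj)
    (hxo.coprime_dvd_left (orderOf_map_dvd f x)))

/-- The derived subgroup is nilpotent when its elements of order prime to `s` centralize each `O_s(G)`. -/
theorem commutator_le_fittingSubgroup_of [Group.IsSolvable G]
    (hcent : ∀ s : ℕ, s.Prime → ∀ x ∈ commutator G, (orderOf x).Coprime s →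
      x ∈ Subgroup.centralizer (Cfsg.pCore s G : Set G)) :
    commutator G ≤ Cfsg.fittingSubgroup G := by
  set F := Cfsg.fittingSubgroup G with hF
  refine le_of_pElements_mem fun r hr' y hy hyo => ?_
  have : Fact r.Prime := ⟨hr'⟩
  set N : Subgroup G := commutator G ⊓
    ⨅ s : {s : Nat.Primes // (s : ℕ) ≠ r}, Subgroup.centralizer (Cfsg.pCore (s.1 : ℕ) G : Set G) with hN
  have hNn : N.Normal := by
    have : ∀ s : {s : Nat.Primes // (s : ℕ) ≠ r},
        (Subgroup.centralizer (Cfsg.pCore (s.1 : ℕ) G : Set G)).Normal := fun s => Subgroup.normal_centralizer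
    have h2 := Subgroup.normal_iInf_normal this
    exact inferInstance
  have hyN : y ∈ N := by
    refine ⟨hy, Subgroup.mem_iInf.mpr fun s => hcent _ s.1.2 y hy ?_⟩
    obtain ⟨j, hj⟩ := hyo
    exact Nat.Coprime.coprime_dvd_left (orderOf_dvd_of_pow_eq_one hj)
      (((Nat.coprime_primes hr' s.1.2).mpr (Ne.symm s.2)).pow_left j)
  -- the `r'`-elements of `N` are central
  have hcen : ∀ z ∈ N, (orderOf z).Coprime r → ∀ w ∈ N, w * z = z * w := by
    intro z hz hzo w hw
    have hzC : z ∈ Subgroup.centralizer (F : Set G) := by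
      have hle : F ≤ Subgroup.centralizer ({z} : Set G) := by
        rw [hF, Basics.fittingSubgroup_eq_iSup_pCore]
        refine iSup_le fun s f hf => Subgroup.mem_centralizer_singleton_iff.mpr ?_
        by_cases hsr : (s : ℕ) = r
        · exact Subgroup.mem_centralizer_iff.mp (hcent r hr' z hz.1 hzo) f (hsr ▸ hf)
        · exact Subgroup.mem_centralizer_iff.mp (Subgroup.mem_iInf.mp hz.2 ⟨s, hsr⟩) f hf
      rw [Subgroup.mem_centralizer_iff]
      exact fun f hf => Subgroup.mem_centralizer_singleton_iff.mp (hle hf)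
    have hzF : z ∈ F := Basics.centralizer_fittingSubgroup_le hzC
    have hcop : z ∈ ⨆ s : {s : Nat.Primes // (s : ℕ) ≠ r}, Cfsg.pCore (s.1 : ℕ) G := by
      obtain ⟨i, hi⟩ := exists_pow_eq_self_of_coprime
        (hzo.symm.pow_left (Nat.factorization (Nat.card G) r))
      have key : ∀ f ∈ F, f ^ r ^ Nat.factorization (Nat.card G) r ∈
          ⨆ s : {s : Nat.Primes // (s : ℕ) ≠ r}, Cfsg.pCore (s.1 : ℕ) G := by
        intro f hf
        have hle : F ≤ Cfsg.pCore r G ⊔ ⨆ s : {s : Nat.Primes // (s : ℕ) ≠ r}, Cfsg.pCore (s.1 : ℕ) G := by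
          rw [hF, Basics.fittingSubgroup_eq_iSup_pCore]
          refine iSup_le fun s => ?_
          by_cases hsr : (s : ℕ) = r
          · exact le_sup_of_le_left (le_of_eq (by rw [hsr]))
          · exact le_sup_of_le_right (le_iSup (fun s : {s : Nat.Primes // (s : ℕ) ≠ r} =>
              Cfsg.pCore (s.1 : ℕ) G) ⟨s, hsr⟩)
        set R' := ⨆ s : {s : Nat.Primes // (s : ℕ) ≠ r}, Cfsg.pCore (s.1 : ℕ) G with hR'
        have hR'n : R'.Normal := Subgroup.iSup_normal _
        obtain ⟨a, ha, b, hb, rfl⟩ := Subgroup.mem_sup_of_normal_right.mp (hle hf)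
        obtain ⟨n, hn⟩ := (IsPGroup.iff_card.mp ((Basics.pCore_isPGroup (G := G) r)))
        have hn' : n ≤ Nat.factorization (Nat.card G) r :=
          (hr'.pow_dvd_iff_le_factorization Nat.card_pos.ne').mp (hn ▸ Subgroup.card_subgroup_dvd_card _)
        have ha1 : a ^ r ^ Nat.factorization (Nat.card G) r = 1 := by
          refine orderOf_dvd_iff_pow_eq_one.mp ((Subgroup.orderOf_dvd_natCard _ ha).trans ?_)
          rw [hn]
          exact pow_dvd_pow r hn'
        have : QuotientGroup.mk' R' ((a * b) ^ r ^ Nat.factorization (Nat.card G) r) = 1 := by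
          rw [map_pow, map_mul, show QuotientGroup.mk' R' b = 1 from (QuotientGroup.eq_one_iff b).mpr hb,
            mul_one, ← map_pow, ha1, map_one]
        exact (QuotientGroup.eq_one_iff _).mp this
      rw [← hi]
      exact pow_mem (key z hzF) i
    have hle : (⨆ s : {s : Nat.Primes // (s : ℕ) ≠ r}, Cfsg.pCore (s.1 : ℕ) G) ≤
        Subgroup.centralizer ({w} : Set G) := iSup_le fun s f hf => Subgroup.mem_centralizer_singleton_iff.mpr
      (Subgroup.mem_centralizer_iff.mp (Subgroup.mem_iInf.mp hw.2 s) f hf)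
    exact (Subgroup.mem_centralizer_singleton_iff.mp (hle hcop)).symm
  have hnil : Group.IsNilpotent N := by
    refine Group.of_quotient_center_nilpotent ?_
    refine IsPGroup.isNilpotent (p := r) ?_
    intro q
    induction q using QuotientGroup.induction_on with
    | H z =>
      refine ⟨Nat.factorization (Nat.card N) r, ?_⟩
      rw [← QuotientGroup.mk_pow, QuotientGroup.eq_one_iff, Subgroup.mem_center_iff]
      intro w
      refine Subtype.ext (hcen _ (z ^ r ^ Nat.factorization (Nat.card N) r).2 ?_ w w.2)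
      rw [Subgroup.orderOf_coe]
      exact Nat.Coprime.coprime_dvd_left
        (orderOf_dvd_of_pow_eq_one (x := z ^ r ^ Nat.factorization (Nat.card N) r)
          (n := Nat.card N / r ^ Nat.factorization (Nat.card N) r) (by
            rw [← pow_mul, Nat.mul_div_cancel' (Nat.ordProj_dvd _ _), pow_card_eq_one']))
        ((hr'.coprime_iff_not_dvd.mpr (Nat.not_dvd_ordCompl hr' Nat.card_pos.ne')).symm)
  exact Basics.le_fittingSubgroup (hN := hNn) hnil hyN

/-- An odd solvable group whose Fitting subgroup has rank at most two has nilpotent derived subgroup. -/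
theorem commutator_le_fittingSubgroup [Group.IsSolvable G] (hodd : Odd (Nat.card G))
    (hr : ∀ r : ℕ, r.Prime → ∀ X : Subgroup G, X ≤ Cfsg.pCore r G → IsElementaryAbelian r X →
      Nat.card X ≤ r ^ 2) :
    commutator G ≤ Cfsg.fittingSubgroup G := by
  have hcent : ∀ s : ℕ, s.Prime → ∀ x ∈ commutator G, (orderOf x).Coprime s →
      x ∈ Subgroup.centralizer (Cfsg.pCore s G : Set G) := by
    intro s hs x hx hxo
    have : Fact s.Prime := ⟨hs⟩
    by_cases hsG : s ∣ Nat.card G
    · have hs2 : s ≠ 2 := fun e => by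
        rw [e] at hsG
        exact (Nat.not_even_iff_odd.mpr hodd) (even_iff_two_dvd.mpr hsG)
      refine derived_pPower_centralizes hodd hs2 (Basics.pCore_isPGroup s) ?_ hx hxo
      intro X hX
      rw [← Subgroup.card_map_of_injective (Cfsg.pCore s G).subtype_injective]
      exact hr s hs _ (Subgroup.map_subtype_le X) ⟨isMulCommutative_map hX.1 _, by
        rintro _ ⟨a, ha, rfl⟩; rw [← map_pow, hX.2 a ha, map_one]⟩
    · have hbot : Cfsg.pCore s G = ⊥ := by
        rcases (Basics.pCore_isPGroup (G := G) s).card_eq_or_dvd with e | e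
        · exact Subgroup.eq_bot_of_card_eq _ e
        · exact absurd (e.trans (Subgroup.card_subgroup_dvd_card _)) hsG
      rw [hbot, Subgroup.mem_centralizer_iff]
      intro z hz
      rw [Subgroup.mem_bot.mp hz, one_mul, mul_one]
  exact commutator_le_fittingSubgroup_of hcent

end Cfsg.Agent.OddLocal
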