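import Cfsg.Agent.Lib.OddLocal.Centralize
import Cfsg.Agent.Lib.OddLocal.Rank
import Cfsg.Agent.Lib.Basics.FrobeniusBasic
import Cfsg.Agent.Lib.Basics.CoprimeGen

/-! A Frobenius group of order `q p` extended by a central `p`-element, acting on a `t`-group with small
centralizers: `t` has order `p` modulo `q`. -/

set_option autoImplicit false
set_option maxHeartbeats 1600000

universe u

namespace Cfsg.Agent.OddLocal

open scoped commutatorElement

section

variable {G : Type u} [Group G]

theorem coprime_of_primes {a b m n : ℕ} (ha : a.Prime) (hb : b.Prime) (h : a ≠ b) :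
    (a ^ m).Coprime (b ^ n) := ((Nat.coprime_primes ha hb).mpr h).pow m n

theorem coprime_pGroups [Finite G] {a b : ℕ} [ha : Fact a.Prime] [hb : Fact b.Prime] (h : a ≠ b)
    {H K : Subgroup G} (hH : IsPGroup a H) (hK : IsPGroup b K) : (Nat.card H).Coprime (Nat.card K) := by
  obtain ⟨m, hm⟩ := IsPGroup.iff_card.mp hH
  obtain ⟨n, hn⟩ := IsPGroup.iff_card.mp hK
  rw [hm, hn]
  exact coprime_of_primes ha.out hb.out h

theorem isPGroup_zpowers_of_pow_eq_one {p : ℕ} {x : G} (hx : x ^ p = 1) : IsPGroup p (Subgroup.zpowers x) := by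
  rintro ⟨y, i, rfl⟩
  refine ⟨1, Subtype.ext ?_⟩
  change (x ^ i) ^ (p ^ 1) = 1
  rw [pow_one, ← zpow_natCast, ← zpow_mul, mul_comm, zpow_mul, zpow_natCast, hx, one_zpow]

theorem eq_top_of_card_prime {q : ℕ} [hq : Fact q.Prime] [Finite G] {L : Subgroup G} (hL : Nat.card L = q)
    {l : G} (hl : l ∈ L) (hl1 : l ≠ 1) : L = Subgroup.zpowers l := by
  refine (Subgroup.eq_of_le_of_card_ge (Subgroup.zpowers_le.mpr hl) ?_).symm
  have h1 := Subgroup.orderOf_dvd_natCard L hl
  rw [hL, Nat.dvd_prime hq.out, orderOf_eq_one_iff] at h1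
  rw [hL, Nat.card_zpowers, h1.resolve_left hl1]

/-- A group normalizing a cyclic subgroup has derived action trivial on it. -/
theorem commute_of_normalizes_cyclic [Finite G] {C : Subgroup G} (hC : IsCyclic C) {x y c : G}
    (hx : x ∈ Subgroup.normalizer (C : Set G)) (hy : y ∈ Subgroup.normalizer (C : Set G)) (hc : c ∈ C) :
    Commute ⁅x, y⁆ c := by
  obtain ⟨g, hg⟩ := hC.exists_generator
  have hpow : ∀ z ∈ Subgroup.normalizer (C : Set G), ∃ i : ℤ, z * (g : G) * z⁻¹ = (g : G) ^ i := by
    intro z hz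
    obtain ⟨i, hi⟩ := hg ⟨_, (Subgroup.mem_normalizer_iff.mp hz g).mp g.2⟩
    exact ⟨i, (congrArg Subtype.val hi).symm⟩
  obtain ⟨i, hi⟩ := hpow x hx
  obtain ⟨j, hj⟩ := hpow y hy
  have key : ∀ (z : G) (n : ℤ), z * (g : G) * z⁻¹ = (g : G) ^ n → ∀ m : ℤ, z * (g : G) ^ m * z⁻¹ = ((g : G) ^ n) ^ m :=
    fun z n hz m => by rw [← conj_zpow, hz]
  have hxy : x * y * (g : G) * (x * y)⁻¹ = y * x * (g : G) * (y * x)⁻¹ := by
    calc x * y * (g : G) * (x * y)⁻¹ = x * (y * g * y⁻¹) * x⁻¹ := by group
      _ = ((g : G) ^ i) ^ j := by rw [hj, key x i hi j]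
      _ = ((g : G) ^ j) ^ i := by rw [← zpow_mul, ← zpow_mul, mul_comm]
      _ = y * (x * g * x⁻¹) * y⁻¹ := by rw [hi, key y j hj i]
      _ = y * x * (g : G) * (y * x)⁻¹ := by group
  have h1 : ⁅x, y⁆ * (g : G) * ⁅x, y⁆⁻¹ = g := by
    calc ⁅x, y⁆ * (g : G) * ⁅x, y⁆⁻¹
        = x * y * ((y * x)⁻¹ * g * (y * x)) * (x * y)⁻¹ := by rw [commutatorElement_def]; group
      _ = g := by
        obtain ⟨k, hk⟩ := hpow (y * x)⁻¹ (inv_mem (mul_mem hy hx))
        rw [inv_inv] at hk
        rw [hk, ← conj_zpow, hxy, conj_zpow, ← hk]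
        group
  obtain ⟨m, hm⟩ := hg ⟨c, hc⟩
  rw [← show (g : G) ^ m = c from congrArg Subtype.val hm]
  exact (show Commute ⁅x, y⁆ (g : G) from mul_inv_eq_iff_eq_mul.mp h1).zpow_right m

end

/-- The core lemma, by induction on the order of `U`. -/
theorem pencil_aux {p q t : ℕ} [hp : Fact p.Prime] [hq : Fact q.Prime] [ht : Fact t.Prime]
    (hpq : p ≠ q) (hpt : p ≠ t) (hqt : q ≠ t) (n : ℕ) :
    ∀ {G : Type u} [Group G] [Finite G] (U L : Subgroup G) (e b : G), Nat.card U = n →
      IsPGroup t U → Nat.card L = q → L ≤ Subgroup.normalizer (U : Set G) →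
      e ∈ Subgroup.normalizer (U : Set G) → b ∈ Subgroup.normalizer (U : Set G) →
      e ∈ Subgroup.normalizer (L : Set G) → e ^ p = 1 → b ^ p = 1 → b ≠ 1 → Commute e b →
      (∀ l ∈ L, Commute b l) → (∀ l ∈ L, Commute e l → l = 1) →
      (∀ x ∈ Subgroup.zpowers e ⊔ Subgroup.zpowers b, x ≠ 1 →
        Nat.card ↥(U ⊓ Subgroup.centralizer ({x} : Set G)) ≤ t) →
      ¬ U ≤ Subgroup.centralizer (L : Set G) →
      (∃ u ∈ U, Commute u e ∧ u ∉ Subgroup.centralizer (L : Set G)) ∧ q ∣ t ^ p - 1 := by
  induction n using Nat.strong_induction_on with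
  | _ n ih =>
  intro G _ _ U L e b hn hU hL hLU heU hbU heL hep hbp hb1 heb hbL heF hcyc hnc
  subst hn
  have hLq : IsPGroup q L := IsPGroup.of_card (n := 1) (by rw [pow_one]; exact hL)
  have he1 : e ≠ 1 := by
    rintro rfl
    obtain ⟨l, hl, hl1⟩ := (Subgroup.bot_or_exists_ne_one L).resolve_left fun h => by
      rw [h, Subgroup.card_bot] at hL
      exact hq.out.one_lt.ne hL
    exact hl1 (heF l hl (Commute.one_left l))
  have hcopLU : (Nat.card L).Coprime (Nat.card U) := coprime_pGroups hqt hLq hU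
  -- `L = [L, e]`
  have hLsurj : ∀ z ∈ L, ∃ l ∈ L, z = l * (e * l⁻¹ * e⁻¹) := by
    intro z hz
    let f : L → L := fun l => ⟨l * (e * (l : G)⁻¹ * e⁻¹),
      mul_mem l.2 ((Subgroup.mem_normalizer_iff.mp heL _).mp (inv_mem l.2))⟩
    have hf : Function.Injective f := by
      intro l m h
      have h' : (l : G) * (e * (l : G)⁻¹ * e⁻¹) = m * (e * (m : G)⁻¹ * e⁻¹) := congrArg Subtype.val h
      have h2 : ((m : G)⁻¹ * l) * e = e * ((m : G)⁻¹ * l) := by
        calc ((m : G)⁻¹ * l) * e = (m : G)⁻¹ * ((l : G) * (e * (l : G)⁻¹ * e⁻¹)) * e * l := by group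
          _ = (m : G)⁻¹ * ((m : G) * (e * (m : G)⁻¹ * e⁻¹)) * e * l := by rw [h']
          _ = e * ((m : G)⁻¹ * l) := by group
      have := heF _ (mul_mem (inv_mem m.2) l.2) h2.symm
      exact Subtype.ext (inv_mul_eq_one.mp this).symm
    obtain ⟨l, hl⟩ := Finite.surjective_of_injective hf ⟨z, hz⟩
    exact ⟨l, l.2, (congrArg Subtype.val hl).symm⟩
  set N := ⁅U, U⁆ with hN
  by_cases hab : N = ⊥
  · -- `U` is abelian
    have hUc : IsMulCommutative U :=
      Subgroup.le_centralizer_iff_isMulCommutative.mp (Subgroup.commutator_eq_bot_iff_le_centralizer.mp hab)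
    set A := ⁅U, L⁆ with hA
    have hAU : A ≤ U := Subgroup.le_normalizer_iff_commutator_le_left.mp hLU
    have hAp : IsPGroup t A := hU.to_le hAU
    have hA1 : A ≠ ⊥ := fun h => hnc (Subgroup.commutator_eq_bot_iff_le_centralizer.mp h)
    have hAc : IsMulCommutative A :=
      ⟨⟨fun a c => Subtype.ext (show (a : G) * c = c * a from
        congrArg Subtype.val (hUc.is_comm.comm ⟨(a : G), hAU a.2⟩ ⟨(c : G), hAU c.2⟩))⟩⟩
    have hCL : A ⊓ Subgroup.centralizer (L : Set G) = ⊥ := by
      rw [eq_bot_iff, ← Basics.inf_centralizer_inf_commutator_eq_bot L U hLU hcopLU]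
      exact le_inf (inf_le_inf_right _ hAU) inf_le_left
    have hLA : L ≤ Subgroup.normalizer (A : Set G) := le_normalizer_commutator hLU Subgroup.le_normalizer
    have hnA : ∀ x ∈ Subgroup.normalizer (U : Set G), x ∈ Subgroup.normalizer (L : Set G) →
        x ∈ Subgroup.normalizer (A : Set G) := fun x h1 h2 =>
      le_normalizer_commutator (H := Subgroup.normalizer (U : Set G) ⊓ Subgroup.normalizer (L : Set G))
        inf_le_left inf_le_right ⟨h1, h2⟩
    have hbL' : b ∈ Subgroup.normalizer (L : Set G) :=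
      Subgroup.centralizer_le_normalizer (L : Set G) (Subgroup.mem_centralizer_iff.mpr fun l hl => (hbL l hl).eq.symm)
    have heA := hnA e heU heL
    have hbA := hnA b hbU hbL'
    -- `C_A(b) = 1`
    have hCb : A ⊓ Subgroup.centralizer ({b} : Set G) = ⊥ := by
      set C := U ⊓ Subgroup.centralizer ({b} : Set G) with hC
      have hCt : Nat.card C ≤ t := hcyc b (Subgroup.mem_sup_right (Subgroup.mem_zpowers b)) hb1
      have hCcyc : IsCyclic C := by
        obtain ⟨k, hk⟩ := IsPGroup.iff_card.mp (hU.to_le (inf_le_left : C ≤ U))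
        rw [hk] at hCt
        rcases Nat.le_one_iff_eq_zero_or_eq_one.mp ((Nat.pow_le_pow_iff_right ht.out.one_lt).mp
          (hCt.trans (pow_one t).ge)) with rfl | rfl
        · exact @isCyclic_of_subsingleton _ _ ((Nat.card_eq_one_iff_unique.mp (by rw [hk, pow_zero])).1)
        · exact isCyclic_of_prime_card (p := t) (by rw [hk, pow_one])
      have hnC : ∀ x ∈ Subgroup.normalizer (U : Set G), Commute x b → x ∈ Subgroup.normalizer (C : Set G) := by
        intro x hxU hxb
        rw [Subgroup.mem_normalizer_iff]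
        intro w
        have hcen : x ∈ Subgroup.normalizer ((Subgroup.centralizer ({b} : Set G) : Subgroup G) : Set G) :=
          Subgroup.le_normalizer (Subgroup.mem_centralizer_singleton_iff.mpr hxb.eq)
        exact and_congr (Subgroup.mem_normalizer_iff.mp hxU w) (Subgroup.mem_normalizer_iff.mp hcen w)
      refine le_bot_iff.mp ((le_inf inf_le_left ?_).trans hCL.le)
      intro w hw
      rw [Subgroup.mem_centralizer_iff]
      intro z hz
      obtain ⟨l, hl, rfl⟩ := hLsurj z hz
      have h := commute_of_normalizes_cyclic hCcyc (c := w) (hnC l (hLU hl) (hbL l hl).symm) (hnC e heU heb)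
        ⟨hAU hw.1, hw.2⟩
      have e2 : l * (e * l⁻¹ * e⁻¹) = ⁅l, e⁆ := by rw [commutatorElement_def]; group
      rw [e2]
      exact h.eq
    -- every complement has a fixed point
    have hfix : ∀ i : ℕ, A ⊓ Subgroup.centralizer ({e * b ^ i} : Set G) ≠ ⊥ := by
      intro i hbot
      set x := e * b ^ i with hx
      have hxp : x ^ p = 1 := by
        rw [hx, (heb.pow_right i).mul_pow, hep, ← pow_mul, mul_comm, pow_mul, hbp, one_pow, one_mul]
      have hxl : ∀ l ∈ L, x * l * x⁻¹ = e * l * e⁻¹ := by
        intro l hl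
        calc e * b ^ i * l * (e * b ^ i)⁻¹ = e * (b ^ i * l) * (b ^ i)⁻¹ * e⁻¹ := by group
          _ = e * (l * b ^ i) * (b ^ i)⁻¹ * e⁻¹ := by rw [((hbL l hl).pow_left i).eq]
          _ = e * l * e⁻¹ := by group
      have hxF : ∀ l ∈ L, Commute x l → l = 1 := fun l hl h =>
        heF l hl (mul_inv_eq_iff_eq_mul.mp ((hxl l hl).symm.trans (mul_inv_eq_iff_eq_mul.mpr h.eq)))
      have hxA : x ∈ Subgroup.normalizer (A : Set G) := mul_mem heA (pow_mem hbA i)
      have hxL : x ∈ Subgroup.normalizer (L : Set G) := mul_mem heL (pow_mem hbL' i)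
      have hzx : ∀ y ∈ Subgroup.zpowers x, y ≠ 1 → Subgroup.zpowers y = Subgroup.zpowers x := by
        intro y hy hy1
        refine Subgroup.eq_of_le_of_card_ge (Subgroup.zpowers_le.mpr hy) ?_
        rw [Nat.card_zpowers, Nat.card_zpowers]
        obtain ⟨j, hj⟩ := isPGroup_zpowers_of_pow_eq_one hxp ⟨y, hy⟩
        have h1 : orderOf y ∣ orderOf x := by
          rw [← Nat.card_zpowers x]; exact Subgroup.orderOf_dvd_natCard _ hy
        have h2 : orderOf x ∣ p := orderOf_dvd_of_pow_eq_one hxp
        rcases (Nat.dvd_prime hp.out).mp (h1.trans h2) with h3 | h3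
        · exact absurd (orderOf_eq_one_iff.mp h3) hy1
        · rw [h3]; exact Nat.le_of_dvd hp.out.pos h2
      have hsame : ∀ y ∈ Subgroup.zpowers x, y ≠ 1 → ∀ w, Commute w y → Commute w x := by
        intro y hy hy1 w hw
        obtain ⟨j, hj⟩ : x ∈ Subgroup.zpowers y := by rw [hzx y hy hy1]; exact Subgroup.mem_zpowers x
        rw [← hj]
        exact hw.zpow_right j
      have hfpf : ∀ y ∈ L ⊔ Subgroup.zpowers x, y ≠ 1 → A ⊓ Subgroup.centralizer ({y} : Set G) = ⊥ := by
        intro y hy hy1
        have hsup : Subgroup.zpowers x ≤ Subgroup.normalizer (L : Set G) := Subgroup.zpowers_le.mpr hxL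
        obtain ⟨l, hl, c, hc, rfl⟩ := (Basics.mem_sup_of_le_normalizer hsup).mp hy
        by_cases hc1 : c = 1
        · subst hc1
          rw [mul_one] at hy1 ⊢
          refine le_bot_iff.mp (le_trans ?_ hCL.le)
          refine inf_le_inf_left _ ?_
          intro w hw
          rw [eq_top_of_card_prime hL hl hy1, Subgroup.mem_centralizer_iff]
          rintro _ ⟨j, rfl⟩
          exact ((show Commute w l from Subgroup.mem_centralizer_singleton_iff.mp hw).symm.zpow_left j).eq
        · have hcN : c ∈ Subgroup.normalizer (L : Set G) := hsup hc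
          let f : L → L := fun m => ⟨m * (c * (m : G)⁻¹ * c⁻¹),
            mul_mem m.2 ((Subgroup.mem_normalizer_iff.mp hcN _).mp (inv_mem m.2))⟩
          have hf : Function.Injective f := by
            intro m m' h
            have h' : (m : G) * (c * (m : G)⁻¹ * c⁻¹) = m' * (c * (m' : G)⁻¹ * c⁻¹) := congrArg Subtype.val h
            have h2 : ((m' : G)⁻¹ * m) * c = c * ((m' : G)⁻¹ * m) := by
              calc ((m' : G)⁻¹ * m) * c = (m' : G)⁻¹ * ((m : G) * (c * (m : G)⁻¹ * c⁻¹)) * c * m := by group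
                _ = (m' : G)⁻¹ * ((m' : G) * (c * (m' : G)⁻¹ * c⁻¹)) * c * m := by rw [h']
                _ = c * ((m' : G)⁻¹ * m) := by group
            have := hxF _ (mul_mem (inv_mem m'.2) m.2) (hsame c hc hc1 _ h2).symm
            exact Subtype.ext (inv_mul_eq_one.mp this).symm
          obtain ⟨m, hm⟩ := Finite.surjective_of_injective hf ⟨l, hl⟩
          have hm' : (m : G) * (c * (m : G)⁻¹ * c⁻¹) = l := congrArg Subtype.val hm
          rw [eq_bot_iff]
          rintro w ⟨hwA, hw⟩
          have hw' : Commute ((m : G)⁻¹ * w * m) c := by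
            have h3 : Commute w (l * c) := Subgroup.mem_centralizer_singleton_iff.mp hw
            rw [← hm'] at h3
            change (m : G)⁻¹ * w * m * c = c * ((m : G)⁻¹ * w * m)
            calc (m : G)⁻¹ * w * m * c
                = (m : G)⁻¹ * (w * ((m : G) * (c * (m : G)⁻¹ * c⁻¹) * c)) * m := by group
              _ = (m : G)⁻¹ * (((m : G) * (c * (m : G)⁻¹ * c⁻¹) * c) * w) * m := by rw [h3.eq]
              _ = c * ((m : G)⁻¹ * w * m) := by group
          have hmem : (m : G)⁻¹ * w * m ∈ A ⊓ Subgroup.centralizer ({x} : Set G) :=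
            ⟨(Subgroup.mem_normalizer_iff''.mp (hLA m.2) w).mp hwA,
              Subgroup.mem_centralizer_singleton_iff.mpr (hsame c hc hc1 _ hw').eq⟩
          rw [hbot, Subgroup.mem_bot] at hmem
          rw [Subgroup.mem_bot]
          calc w = (m : G) * ((m : G)⁻¹ * w * m) * (m : G)⁻¹ := by group
            _ = 1 := by rw [hmem, mul_one, mul_inv_cancel]
      refine hA1 ((Subgroup.eq_bot_iff_forall A).mpr fun v hv => ?_)
      have h1 := Basics.fpf_pow_eq_one A L (Subgroup.zpowers x) hLA (Subgroup.zpowers_le.mpr hxA)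
        (Subgroup.zpowers_le.mpr hxL)
        (fun h => hq.out.one_lt.ne (by rw [← hL, h, Subgroup.card_bot]))
        (fun h => by
          rw [Subgroup.zpowers_eq_bot] at h
          obtain ⟨l, hl, hl1⟩ := (Subgroup.bot_or_exists_ne_one L).resolve_left fun e' =>
            hq.out.one_lt.ne (by rw [← hL, e', Subgroup.card_bot])
          exact hl1 (hxF l hl (h ▸ Commute.one_left l)))
        (fun d hd c hc hc1 hdc => hxF d hd (hsame c hc hc1 d hdc).symm) hfpf hv
      rw [← orderOf_eq_one_iff]
      exact Nat.eq_one_of_dvd_coprimes hcopLU (orderOf_dvd_of_pow_eq_one h1)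
        ((Subgroup.orderOf_dvd_natCard A hv).trans (Subgroup.card_dvd_of_le hAU))
    refine ⟨?_, ?_⟩
    · obtain ⟨u, ⟨huA, hu⟩, hu1⟩ := (Subgroup.bot_or_exists_ne_one _).resolve_left (hfix 0)
      rw [pow_zero, mul_one] at hu
      exact ⟨u, hAU huA, Subgroup.mem_centralizer_singleton_iff.mp hu,
        fun h => hu1 (Subgroup.mem_bot.mp (hCL.le ⟨huA, h⟩))⟩
    -- `A` is the direct product of the fixed point groups of the `p` complements
    set E2 := Subgroup.zpowers e ⊔ Subgroup.zpowers b with hE2
    have hE2c : IsMulCommutative E2 := by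
      rw [hE2, Subgroup.zpowers_eq_closure, Subgroup.zpowers_eq_closure, ← Subgroup.closure_union]
      refine Subgroup.isMulCommutative_closure ?_
      rintro x (rfl | rfl) y (rfl | rfl) <;> first | rfl | exact heb.eq | exact heb.eq.symm
    have hE2A : E2 ≤ Subgroup.normalizer (A : Set G) :=
      sup_le (Subgroup.zpowers_le.mpr heA) (Subgroup.zpowers_le.mpr hbA)
    have hE2p : IsPGroup p E2 := by
      refine (isPGroup_zpowers_of_pow_eq_one hep).to_sup_of_normal_right' (isPGroup_zpowers_of_pow_eq_one hbp) ?_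
      exact Subgroup.zpowers_le.mpr (Subgroup.centralizer_le_normalizer (Subgroup.zpowers b : Set G)
        (Subgroup.mem_centralizer_iff.mpr fun _ ⟨j, hj⟩ => by rw [← hj]; exact (heb.zpow_right j).eq.symm))
    set C : Fin p → Subgroup G := fun i => A ⊓ Subgroup.centralizer ({e * b ^ (i : ℕ)} : Set G) with hC
    have hgen : A ≤ ⨆ i, C i := by
      refine (Basics.le_genCent E2 p e b (Subgroup.mem_sup_left (Subgroup.mem_zpowers e))
        (Subgroup.mem_sup_right (Subgroup.mem_zpowers b)) A hE2A (coprime_pGroups hpt hE2p hAp)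
        (by obtain ⟨k, hk⟩ := IsPGroup.iff_card.mp hAp
            rw [hk, ← pow_one p]; exact coprime_of_primes hp.out ht.out hpt)
        (by rw [hep]; exact one_mem _) (by rw [hbp]; exact one_mem _)).trans ?_
      refine sup_le (iSup_le fun j => ?_) (by rw [hCb]; exact bot_le)
      refine le_iSup_of_le ⟨j % p, Nat.mod_lt _ hp.out.pos⟩ (le_of_eq ?_)
      simp only [hC]
      rw [show b ^ (j % p) = b ^ j from (pow_eq_pow_mod j hbp).symm]
    let _ : CommGroup A := { (inferInstance : Group A) with mul_comm := hAc.is_comm.comm }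
    let F : (∀ i, C i) →* A :=
      { toFun := fun w => ∏ i, (⟨(w i : G), (w i).2.1⟩ : A)
        map_one' := Finset.prod_eq_one fun i _ => Subtype.ext rfl
        map_mul' := fun w w' => by rw [← Finset.prod_mul_distrib]; rfl }
    have hFsurj : Function.Surjective F := by
      intro a
      have hle : A ≤ F.range.map A.subtype := by
        refine hgen.trans (iSup_le fun i w hw => ?_)
        refine ⟨F (Pi.mulSingle i ⟨w, hw⟩), ⟨_, rfl⟩, ?_⟩
        show ((∏ j, (⟨((Pi.mulSingle i (⟨w, hw⟩ : C i) : ∀ i, C i) j : G), _⟩ : A) : A) : G) = w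
        rw [Finset.prod_eq_single i]
        · simp
        · intro j _ hji; exact Subtype.ext (by rw [Pi.mulSingle_eq_of_ne hji]; rfl)
        · intro h; exact absurd (Finset.mem_univ i) h
      obtain ⟨_, ⟨w, rfl⟩, hw⟩ := hle a.2
      exact ⟨w, Subtype.ext hw⟩
    -- the norm of `⟨e b^i⟩` kills the other factors
    have hCE : ∀ w ∈ A, Commute w e → Commute w b → w = 1 := fun w hw _ h2 =>
      Subgroup.mem_bot.mp (hCb.le ⟨hw, Subgroup.mem_centralizer_singleton_iff.mpr h2.eq⟩)
    have hFinj : Function.Injective F := by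
      rw [injective_iff_map_eq_one]
      intro w hw
      funext i
      set x := e * b ^ (i : ℕ) with hx
      have hxp : x ^ p = 1 := by
        rw [hx, (heb.pow_right _).mul_pow, hep, ← pow_mul, mul_comm, pow_mul, hbp, one_pow, one_mul]
      have hxA : ∀ m : ℕ, x ^ m ∈ Subgroup.normalizer (A : Set G) := fun m =>
        pow_mem (mul_mem heA (pow_mem hbA _)) m
      let conj : ℕ → A →* A := fun m =>
        { toFun := fun a => ⟨x ^ m * a * (x ^ m)⁻¹, (Subgroup.mem_normalizer_iff.mp (hxA m) a).mp a.2⟩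
          map_one' := Subtype.ext (by simp)
          map_mul' := fun a a' => Subtype.ext (by simp [mul_assoc]) }
      let Nm : A →* A := ∏ m ∈ Finset.range p, conj m
      have hNm : ∀ a : A, Nm a = ∏ m ∈ Finset.range p, conj m a := fun a => MonoidHom.finsetProd_apply _ _ _
      have hshift : ∀ a : A, conj 1 (Nm a) = Nm a := by
        intro a
        rw [hNm, map_prod]
        have h1 : ∏ m ∈ Finset.range p, conj 1 (conj m a) = ∏ m ∈ Finset.range p, conj (m + 1) a := by
          refine Finset.prod_congr rfl fun m _ => Subtype.ext ?_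
          simp [conj, pow_succ', mul_assoc]
        have h2 := Finset.prod_range_succ' (fun m => conj m a) p
        have h3 := Finset.prod_range_succ (fun m => conj m a) p
        have h4 : conj p a = conj 0 a := Subtype.ext (by simp [conj, hxp])
        rw [h3, h4] at h2
        rw [h1]
        exact (mul_right_cancel h2).symm
      have hkill : ∀ j : Fin p, j ≠ i → Nm ⟨(w j : G), (w j).2.1⟩ = 1 := by
        intro j hji
        set v : A := ⟨(w j : G), (w j).2.1⟩
        have hy : Commute (v : G) (e * b ^ (j : ℕ)) := Subgroup.mem_centralizer_singleton_iff.mp (w j).2.2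
        have hfy : ∀ m, Commute ((conj m v : A) : G) (e * b ^ (j : ℕ)) := by
          intro m
          have hxy : Commute (x ^ m) (e * b ^ (j : ℕ)) := by
            refine Commute.pow_left ?_ m
            exact (((Commute.refl e).mul_right (heb.pow_right _)).mul_left
              ((heb.symm.mul_right (Commute.pow_right (Commute.refl b) _)).pow_left _))
          exact (hxy.mul_left hy).mul_left hxy.inv_left
        have h1 : Commute ((Nm v : A) : G) (e * b ^ (j : ℕ)) := by
          rw [hNm]
          refine Finset.prod_induction (fun m => conj m v) (fun a : A => Commute (a : G) (e * b ^ (j : ℕ)))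
            (fun a a' ha ha' => by rw [Subgroup.coe_mul]; exact ha.mul_left ha') (Commute.one_left _)
            fun m _ => hfy m
        have h2 : Commute ((Nm v : A) : G) x := by
          have h := congrArg Subtype.val (hshift v)
          simp only [conj, MonoidHom.coe_mk, OneHom.coe_mk, pow_one] at h
          exact (mul_inv_eq_iff_eq_mul.mp h).symm
        set w0 := ((Nm v : A) : G) with hw0
        -- `x⁻¹ y = b ^ (j - i)` generates `⟨b⟩`
        have h3 : Commute w0 (x⁻¹ * (e * b ^ (j : ℕ))) := h2.inv_right.mul_right h1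
        have e1 : x⁻¹ * (e * b ^ (j : ℕ)) = b ^ ((j : ℤ) - (i : ℤ)) := by
          rw [hx, mul_inv_rev, zpow_sub, zpow_natCast, zpow_natCast]
          calc (b ^ (i : ℕ))⁻¹ * e⁻¹ * (e * b ^ (j : ℕ)) = (b ^ (i : ℕ))⁻¹ * b ^ (j : ℕ) := by group
            _ = b ^ (j : ℕ) * (b ^ (i : ℕ))⁻¹ :=
              ((Commute.refl b).pow_pow _ _).inv_left.eq
        rw [e1] at h3
        have hcop : Int.gcd ((j : ℤ) - i) (p : ℤ) = 1 := by
          rw [← Int.isCoprime_iff_gcd_eq_one]
          refine ((Nat.prime_iff_prime_int.mp hp.out).coprime_iff_not_dvd.mpr fun hd => hji ?_).symm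
          obtain ⟨c, hc⟩ := hd
          have hj := j.2
          have hi := i.2
          have : c = 0 := by
            by_contra h0
            have : (p : ℤ) ≤ |(j : ℤ) - i| := by
              rw [hc, abs_mul, Int.natCast_nonneg p |> abs_of_nonneg]
              exact le_mul_of_one_le_right (Int.natCast_nonneg p) (Int.one_le_abs h0)
            rw [le_abs] at this
            omega
          rw [this, mul_zero] at hc
          exact Fin.ext (by omega)
        have hb : Commute w0 b := by
          obtain ⟨r, s, hrs⟩ := Int.isCoprime_iff_gcd_eq_one.mpr hcop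
          have : b = (b ^ ((j : ℤ) - i)) ^ r := by
            calc b = b ^ (r * ((j : ℤ) - i) + s * (p : ℤ)) := by rw [hrs, zpow_one]
              _ = (b ^ ((j : ℤ) - i)) ^ r := by
                rw [zpow_add, mul_comm r, zpow_mul, mul_comm s, zpow_mul, zpow_natCast, hbp, one_zpow, mul_one]
          rw [this]
          exact h3.zpow_right r
        have he : Commute w0 e := by
          have : e = x * (b ^ (i : ℕ))⁻¹ := by rw [hx, mul_inv_cancel_right]
          rw [this]
          exact h2.mul_right (hb.pow_right _).inv_right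
        exact Subtype.ext (hCE _ (Nm v).2 he hb)
      have h5 : Nm ⟨(w i : G), (w i).2.1⟩ = 1 := by
        have := congrArg Nm hw
        change Nm (∏ j, (⟨(w j : G), (w j).2.1⟩ : A)) = Nm 1 at this
        rw [map_one, map_prod, Finset.prod_eq_single i (fun j _ hji => hkill j hji)
          (fun h => absurd (Finset.mem_univ i) h)] at this
        exact this
      have hfix' : ∀ m, conj m ⟨(w i : G), (w i).2.1⟩ = ⟨(w i : G), (w i).2.1⟩ := fun m => Subtype.ext (by
        have h : Commute (w i : G) x := Subgroup.mem_centralizer_singleton_iff.mp (w i).2.2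
        exact mul_inv_eq_iff_eq_mul.mpr (h.pow_right m).eq.symm)
      rw [hNm, Finset.prod_congr rfl (fun m _ => hfix' m), Finset.prod_const, Finset.card_range] at h5
      refine Subtype.ext ?_
      have h6 : (w i : G) ^ p = 1 := congrArg Subtype.val h5
      rw [Pi.one_apply, OneMemClass.coe_one, ← orderOf_eq_one_iff]
      obtain ⟨k, hk⟩ := IsPGroup.iff_card.mp hAp
      exact Nat.eq_one_of_dvd_coprimes (coprime_of_primes (m := 1) (n := k) hp.out ht.out hpt)
        ((orderOf_dvd_of_pow_eq_one h6).trans (pow_one p).symm.dvd)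
        (hk ▸ Subgroup.orderOf_dvd_natCard A (w i).2.1)
    have hCcard : ∀ i, Nat.card (C i) = t := by
      intro i
      have h1 : Nat.card (C i) ≤ t := by
        refine (Subgroup.card_le_of_le (inf_le_inf_right _ hAU)).trans (hcyc _ (mul_mem
          (Subgroup.mem_sup_left (Subgroup.mem_zpowers e))
          (pow_mem (Subgroup.mem_sup_right (Subgroup.mem_zpowers b)) _)) fun h => ?_)
        obtain ⟨l, hl, hl1⟩ := (Subgroup.bot_or_exists_ne_one L).resolve_left fun e' =>
          hq.out.one_lt.ne (by rw [← hL, e', Subgroup.card_bot])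
        refine hl1 (heF l hl ?_)
        rw [eq_inv_of_mul_eq_one_left h]
        exact ((hbL l hl).pow_left _).inv_left
      rcases (hAp.to_le (inf_le_left : C i ≤ A)).card_eq_or_dvd with h2 | h2
      · exact absurd (Subgroup.eq_bot_of_card_eq _ h2) (hfix i)
      · exact le_antisymm h1 (Nat.le_of_dvd Nat.card_pos h2)
    have hAcard : Nat.card A = t ^ p := by
      rw [← Nat.card_congr (Equiv.ofBijective F ⟨hFinj, hFsurj⟩), Nat.card_pi]
      simp [hCcard]
    -- `L` acts on `A` without fixed points
    let φ : L →* MulAut A := A.normalizerMonoidHom.comp (Subgroup.inclusion hLA)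
    let _ : MulAction L A := MulAction.compHom A φ
    have hmod := hLq.card_modEq_card_fixedPoints A
    have hfp : Nat.card (MulAction.fixedPoints L A) = 1 := by
      have : MulAction.fixedPoints L A = {1} := by
        refine Set.eq_singleton_iff_unique_mem.mpr ⟨fun l => map_one (φ l), fun a ha => Subtype.ext ?_⟩
        refine Subgroup.mem_bot.mp (hCL.le ⟨a.2, ?_⟩)
        change (a : G) ∈ Subgroup.centralizer (L : Set G)
        rw [Subgroup.mem_centralizer_iff]
        intro l hl
        have h : l * (a : G) * l⁻¹ = a := congrArg Subtype.val (ha ⟨l, hl⟩)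
        exact mul_inv_eq_iff_eq_mul.mp h
      rw [this]; simp
    rw [hfp, hAcard] at hmod
    exact (Nat.modEq_iff_dvd' (Nat.one_le_pow _ _ ht.out.pos)).mp hmod.symm
  · have hNU : N ≤ U := Subgroup.commutator_le_self U
    have hNlt : N < U := lt_of_le_of_ne hNU (Basics.commutator_ne_self_of_isNilpotent hU.isNilpotent le_rfl le_rfl
      fun h => hab (le_bot_iff.mp (h ▸ hNU)))
    have hNn : ∀ x ∈ Subgroup.normalizer (U : Set G), x ∈ Subgroup.normalizer (N : Set G) := fun x hx =>
      le_normalizer_commutator (H := Subgroup.normalizer (U : Set G)) le_rfl le_rfl hx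
    by_cases hNL : N ≤ Subgroup.centralizer (L : Set G)
    swap
    · obtain ⟨⟨w, hw, h1, h2⟩, h3⟩ := ih _ (Basics.card_lt_of_lt hNlt) N L e b rfl (hU.to_le hNU) hL
        (fun l hl => hNn l (hLU hl)) (hNn e heU) (hNn b hbU) heL hep hbp hb1 heb hbL heF
        (fun x hx hx1 => (Subgroup.card_le_of_le (inf_le_inf_right _ hNU)).trans (hcyc x hx hx1)) hNL
      exact ⟨⟨w, hNU hw, h1, h2⟩, h3⟩
    -- pass to `N(N) / N`
    set X := Subgroup.normalizer (N : Set G)
    have hUX : U ≤ X := fun x hx => hNn x (Subgroup.le_normalizer hx)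
    have hLX : L ≤ X := fun x hx => hNn x (hLU hx)
    let e' : X := ⟨e, hNn e heU⟩
    let b' : X := ⟨b, hNn b hbU⟩
    set N' := N.subgroupOf X with hN'
    have hN'n : N'.Normal := Subgroup.normal_in_normalizer
    set π := QuotientGroup.mk' N'
    set U' := (U.subgroupOf X).map π
    set L' := (L.subgroupOf X).map π
    have hNt : IsPGroup t N := hU.to_le hNU
    have hkerN : ∀ x : X, π x = 1 → (x : G) ∈ N := fun x hx => (QuotientGroup.eq_one_iff x).mp hx
    have hmemN : ∀ x : X, (x : G) ∈ N → π x = 1 := fun x hx => (QuotientGroup.eq_one_iff x).mpr hx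
    have hLN : ∀ x : G, x ∈ L → x ∈ N → x = 1 := fun x h1 h2 => orderOf_eq_one_iff.mp
      (Nat.eq_one_of_dvd_coprimes (coprime_pGroups hqt hLq hNt) (Subgroup.orderOf_dvd_natCard L h1)
        (Subgroup.orderOf_dvd_natCard N h2))
    have hU' : Nat.card U' < Nat.card U := by
      have h := Basics.card_map_mul_card_inf_ker π (U.subgroupOf X)
      rw [QuotientGroup.ker_mk', Basics.card_subgroupOf hUX] at h
      have hle : U.subgroupOf X ⊓ N' = N' := inf_eq_right.mpr fun x hx => hNU hx
      rw [hle, show Nat.card N' = Nat.card N from Basics.card_subgroupOf Subgroup.le_normalizer] at h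
      have h2 : 1 < Nat.card N :=
        Finite.one_lt_card_iff_nontrivial.mpr ((Subgroup.nontrivial_iff_ne_bot N).mpr hab)
      rw [← h]
      exact lt_mul_of_one_lt_right Nat.card_pos h2
    have hnorm : ∀ (H : Subgroup G) (x : X), (x : G) ∈ Subgroup.normalizer (H : Set G) →
        π x ∈ Subgroup.normalizer ((H.subgroupOf X).map π : Set (X ⧸ N')) := fun H x hx =>
      Subgroup.le_normalizer_map π ⟨x, Subgroup.mem_normalizer_iff.mpr fun y =>
        Subgroup.mem_normalizer_iff.mp hx y, rfl⟩
    have hL' : Nat.card L' = q := by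
      have h := Basics.card_map_mul_card_inf_ker π (L.subgroupOf X)
      rw [QuotientGroup.ker_mk', Basics.card_subgroupOf hLX, hL] at h
      have hle : L.subgroupOf X ⊓ N' = ⊥ := by
        rw [eq_bot_iff]
        exact fun x hx => Subgroup.mem_bot.mpr (Subtype.ext (hLN _ hx.1 hx.2))
      rwa [hle, Subgroup.card_bot, mul_one] at h
    obtain ⟨⟨ū, hū, h1, h2⟩, h3⟩ := ih _ hU' U' L' (π e') (π b') rfl
      ((hU.comap_subtype (K := X)).map π) hL'
      (by rintro _ ⟨l, hl, rfl⟩; exact hnorm U l (hLU hl))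
      (hnorm U e' heU) (hnorm U b' hbU) (hnorm L e' heL)
      (by rw [← map_pow, show e' ^ p = 1 from Subtype.ext hep, map_one])
      (by rw [← map_pow, show b' ^ p = 1 from Subtype.ext hbp, map_one])
      (fun h => hb1 (orderOf_eq_one_iff.mp (Nat.eq_one_of_dvd_coprimes
        (coprime_pGroups hpt (isPGroup_zpowers_of_pow_eq_one hbp) hNt)
        (Subgroup.orderOf_dvd_natCard _ (Subgroup.mem_zpowers b))
        (Subgroup.orderOf_dvd_natCard N (hkerN b' h)))))
      ((show Commute e' b' from Subtype.ext heb.eq).map π)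
      (by rintro _ ⟨l, hl, rfl⟩; exact (show Commute b' l from Subtype.ext (hbL l hl).eq).map π)
      (by
        rintro _ ⟨l, hl, rfl⟩ h
        have hc : (l : G) * (e * (l : G)⁻¹ * e⁻¹) ∈ L :=
          mul_mem hl ((Subgroup.mem_normalizer_iff.mp heL _).mp (inv_mem hl))
        have h' : π (l * (e' * l⁻¹ * e'⁻¹)) = 1 := by
          simp only [map_mul, map_inv]
          rw [h.inv_right.eq]
          group
        have h1 := hLN _ hc (hkerN _ h')
        rw [show l = 1 from Subtype.ext (heF l hl ?_), map_one]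
        have : (l : G) * e = e * l := by
          calc (l : G) * e = ((l : G) * (e * (l : G)⁻¹ * e⁻¹))⁻¹ * ((l : G) * e) := by rw [h1, inv_one, one_mul]
            _ = e * l := by group
        exact this.symm)
      (by
        intro x hx hx1
        have hx' : x ∈ (Subgroup.zpowers e' ⊔ Subgroup.zpowers b').map π := by
          rwa [Subgroup.map_sup, MonoidHom.map_zpowers, MonoidHom.map_zpowers]
        obtain ⟨y, hy, rfl⟩ := hx'
        have hyG : (y : G) ∈ Subgroup.zpowers e ⊔ Subgroup.zpowers b := by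
          have := Subgroup.mem_map_of_mem X.subtype hy
          rwa [Subgroup.map_sup, MonoidHom.map_zpowers, MonoidHom.map_zpowers] at this
        have hy1 : (y : G) ≠ 1 := fun h => hx1 (by rw [show y = 1 from Subtype.ext h, map_one])
        refine le_trans ?_ (hcyc _ hyG hy1)
        have hlift : U' ⊓ Subgroup.centralizer ({π y} : Set (X ⧸ N')) ≤
            ((U ⊓ Subgroup.centralizer ({(y : G)} : Set G)).subgroupOf X).map π := by
          rintro _ ⟨⟨w, hwU, rfl⟩, hwC⟩
          have hyU : Subgroup.zpowers (y : G) ≤ Subgroup.normalizer (U : Set G) :=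
            Subgroup.zpowers_le.mpr (sup_le (Subgroup.zpowers_le.mpr heU) (Subgroup.zpowers_le.mpr hbU) hyG)
          have hE2p : IsPGroup p ↥(Subgroup.zpowers e ⊔ Subgroup.zpowers b) := by
            refine (isPGroup_zpowers_of_pow_eq_one hep).to_sup_of_normal_right'
              (isPGroup_zpowers_of_pow_eq_one hbp) ?_
            exact Subgroup.zpowers_le.mpr (Subgroup.centralizer_le_normalizer (Subgroup.zpowers b : Set G)
              (Subgroup.mem_centralizer_iff.mpr fun _ ⟨j, hj⟩ => by rw [← hj]; exact (heb.zpow_right j).eq.symm))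
          obtain ⟨c, ⟨hcU, hcC⟩, hcN⟩ := Basics.exists_inf_centralizer_mem_coset (Subgroup.zpowers (y : G)) U N
            hNU hUX (Subgroup.zpowers_le.mpr y.2)
            (coprime_pGroups hpt (hE2p.to_le (Subgroup.zpowers_le.mpr hyG)) hU)
            (Or.inl (Group.isSolvable_of_comm IsMulCommutative.is_comm.comm)) w hwU
            (by
              rintro _ ⟨j, rfl⟩
              refine hkerN (y ^ j * w * (y ^ j)⁻¹ * w⁻¹) ?_
              simp only [map_mul, map_inv, map_zpow]
              rw [((show Commute (π w) (π y) from Subgroup.mem_centralizer_singleton_iff.mp hwC).symm.zpow_left j).eq]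
              group)
          refine ⟨⟨c, hUX hcU⟩, ⟨hcU, Subgroup.mem_centralizer_singleton_iff.mpr
            (Subgroup.mem_centralizer_iff.mp hcC _ (Subgroup.mem_zpowers _)).symm⟩, ?_⟩
          have : π (w⁻¹ * ⟨c, hUX hcU⟩) = 1 := hmemN _ hcN
          rw [map_mul, map_inv, inv_mul_eq_one] at this
          exact this.symm
        refine (Subgroup.card_le_of_le hlift).trans ?_
        refine le_trans (Nat.le_of_dvd Nat.card_pos (Subgroup.card_map_dvd _ _)) ?_
        rw [Basics.card_subgroupOf (inf_le_left.trans hUX)])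
      (by
        intro hle
        refine hnc ?_
        have h1 : ⁅U, L⁆ ≤ N := by
          rw [Subgroup.commutator_le]
          intro w hw l hl
          refine hkerN ⁅(⟨w, hUX hw⟩ : X), ⟨l, hLX hl⟩⁆ ?_
          rw [map_commutatorElement, commutatorElement_eq_one_iff_mul_comm]
          exact (Subgroup.mem_centralizer_iff.mp (hle ⟨⟨w, hUX hw⟩, hw, rfl⟩) _ ⟨⟨l, hLX hl⟩, hl, rfl⟩).symm
        have h2 : ⁅⁅U, L⁆, L⁆ = ⊥ := le_bot_iff.mp
          ((Subgroup.commutator_mono h1 le_rfl).trans (Subgroup.commutator_eq_bot_iff_le_centralizer.mpr hNL).le)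
        exact Subgroup.le_centralizer_iff.mp
          (Basics.le_centralizer_of_commutator_commutator_eq_bot L U hLU hcopLU
            (Or.inr (by have := hU.isNilpotent; infer_instance)) h2))
    refine ⟨?_, h3⟩
    -- lift the fixed element
    obtain ⟨w, hwU, rfl⟩ := hū
    obtain ⟨c, ⟨hcU, hcC⟩, hcN⟩ := Basics.exists_inf_centralizer_mem_coset (Subgroup.zpowers e) U N
      hNU hUX (Subgroup.zpowers_le.mpr (hNn e heU))
      (coprime_pGroups hpt (isPGroup_zpowers_of_pow_eq_one hep) hU)
      (Or.inl (Group.isSolvable_of_comm IsMulCommutative.is_comm.comm)) w hwU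
      (by
        rintro _ ⟨j, rfl⟩
        refine hkerN (e' ^ j * w * (e' ^ j)⁻¹ * w⁻¹) ?_
        simp only [map_mul, map_inv, map_zpow]
        rw [((h1.symm).zpow_left j).eq]
        group)
    refine ⟨c, hcU, (Subgroup.mem_centralizer_iff.mp hcC e (Subgroup.mem_zpowers e)).symm, fun hc => h2 ?_⟩
    have heq : π ⟨c, hUX hcU⟩ = π w := by
      have : π (w⁻¹ * ⟨c, hUX hcU⟩) = 1 := hmemN _ hcN
      rw [map_mul, map_inv, inv_mul_eq_one] at this
      exact this.symm
    rw [← heq, Subgroup.mem_centralizer_iff]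
    rintro _ ⟨l, hl, rfl⟩
    exact (show Commute l ⟨c, hUX hcU⟩ from Subtype.ext (Subgroup.mem_centralizer_iff.mp hc _ hl)).map π

end Cfsg.Agent.OddLocal
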