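import Cfsg.Agent.Lib.OddLocal.UniqueG
import Cfsg.Agent.Lib.OddLocal.DerivedFitting
import Cfsg.Agent.Lib.OddLocal.Pencil
import Cfsg.Agent.Lib.Components.SigLemmas

/-! An elementary abelian `p`-group of rank three holding the central `p`-elements: the maximal subgroups
containing it according to the ranks of their Fitting subgroups. -/

set_option autoImplicit false
set_option maxHeartbeats 800000

namespace Cfsg.Agent.OddLocal

open scoped commutatorElement

variable {G : Type*} [Group G] [Finite G] {p : ℕ}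

/-- The standing hypotheses: `E` is not contained in a unique maximal subgroup. -/
structure Setting (p : ℕ) (E : Subgroup G) : Prop where
  mss : IsMinSimpleOddOrder G
  ea : IsElementaryAbelian p E
  three : p ^ 2 < Nat.card E
  omega : ∀ x ∈ Subgroup.centralizer (E : Set G), orderOf x = p → x ∈ E
  not_unique : ¬ InUniqueMaximal E

/-- `M` is a maximal subgroup over `E` with `q`-rank three in its Fitting subgroup, witnessed by `W`. -/
structure IsHigh (p : ℕ) (E : Subgroup G) (q : ℕ) (M W : Subgroup G) : Prop where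
  prime : q.Prime
  ne : q ≠ p
  coatom : IsCoatom M
  le : E ≤ M
  sub : W ≤ coreP q M
  norm : M ≤ Subgroup.normalizer (W : Set G)
  nc : ¬ IsCyclic W
  exponent : ∀ x ∈ W, x ^ q = 1
  unique : ∀ Y : Subgroup G, Y ≤ W → ¬ IsCyclic Y → InUniqueMaximal Y
  cent : ∀ x ∈ W, x ≠ 1 → Subgroup.centralizer ({x} : Set G) ≤ M

/-- `B` is a subgroup of index `p` of `E`. -/
def IsPlane (p : ℕ) (E B : Subgroup G) : Prop := B ≤ E ∧ B.relIndex E = p

theorem eq_of_unique {U M H : Subgroup G} (hU : InUniqueMaximal U) (hM : IsCoatom M) (hH : IsCoatom H)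
    (h1 : U ≤ M) (h2 : U ≤ H) : H = M :=
  hU.unique ⟨hH, h2⟩ ⟨hM, h1⟩

theorem le_of_unique {U M X : Subgroup G} (hU : InUniqueMaximal U) (hM : IsCoatom M) (h1 : U ≤ M) (hX : X ≠ ⊤)
    (h2 : U ≤ X) : X ≤ M := by
  obtain ⟨N, hN, hXN⟩ := exists_maximal_ge hX
  rwa [← eq_of_unique hU hM hN h1 (h2.trans hXN)]

theorem card_mul_relIndex {B E : Subgroup G} (h : B ≤ E) : Nat.card B * B.relIndex E = Nat.card E := by
  rw [← Basics.card_subgroupOf h, Subgroup.relIndex, Subgroup.card_mul_index]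

theorem card_le_of_cyclic_exponent {n : ℕ} (hn : 0 < n) {Y : Subgroup G} (hY : IsCyclic Y)
    (h : ∀ x ∈ Y, x ^ n = 1) : Nat.card Y ≤ n := by
  obtain ⟨g, hg⟩ := hY.exists_generator
  rw [← Subgroup.card_top, ← (eq_top_iff.mpr fun x _ => hg x : Subgroup.zpowers g = ⊤), Nat.card_zpowers]
  exact Nat.le_of_dvd hn (orderOf_dvd_of_pow_eq_one (Subtype.ext (h g g.2)))

theorem le_centralizer_singleton_of_mem {B : Subgroup G} {c : G} (hc : c ∈ B) :
    Subgroup.centralizer (B : Set G) ≤ Subgroup.centralizer ({c} : Set G) := fun _ hx =>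
  Subgroup.mem_centralizer_singleton_iff.mpr (Subgroup.mem_centralizer_iff.mp hx c hc).symm

theorem le_normalizer_inf_centralizer {H W B : Subgroup G} (h1 : H ≤ Subgroup.normalizer (W : Set G))
    (h2 : H ≤ Subgroup.centralizer (B : Set G)) :
    H ≤ Subgroup.normalizer ((W ⊓ Subgroup.centralizer (B : Set G) : Subgroup G) : Set G) := by
  intro x hx
  rw [Subgroup.mem_normalizer_iff]
  intro w
  exact and_congr (Subgroup.mem_normalizer_iff.mp (h1 hx) w)
    (Subgroup.mem_normalizer_iff.mp (Subgroup.le_normalizer (h2 hx)) w)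

/-- The normalizer of a subgroup normalizes its characteristic subgroups. -/
theorem normalizer_le_normalizer_map_characteristic {H : Subgroup G} (K : Subgroup H) [hK : K.Characteristic] :
    Subgroup.normalizer (H : Set G) ≤ Subgroup.normalizer ((K.map H.subtype : Subgroup G) : Set G) := by
  intro g hg
  have key : ∀ (u : G) (hu : u ∈ Subgroup.normalizer (H : Set G)) (y : G), y ∈ K.map H.subtype →
      u * y * u⁻¹ ∈ K.map H.subtype := by
    rintro u hu _ ⟨y, hy, rfl⟩
    refine ⟨H.normalizerMonoidHom ⟨u, hu⟩ y, ?_, rfl⟩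
    have h := Subgroup.characteristic_iff_comap_eq.mp hK (H.normalizerMonoidHom ⟨u, hu⟩)
    rw [← h] at hy
    exact hy
  rw [Subgroup.mem_normalizer_iff]
  refine fun y => ⟨key g hg y, fun hy => ?_⟩
  have := key g⁻¹ (inv_mem hg) _ hy
  simpa [mul_assoc] using this

namespace Setting

variable [hp : Fact p.Prime] {E : Subgroup G}

theorem dvd_card (S : Setting p E) : p ∣ Nat.card G :=
  dvd_card_of_ea S.ea (lt_of_le_of_lt (Nat.one_le_pow _ _ hp.out.pos) S.three)

theorem two_ne (S : Setting p E) : p ≠ 2 := prime_ne_two S.mss S.dvd_card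

theorem isPGroup (S : Setting p E) : IsPGroup p E := isPGroup_of_exponent S.ea.2

theorem le_centralizer (S : Setting p E) : E ≤ Subgroup.centralizer (E : Set G) :=
  Subgroup.le_centralizer_iff_isMulCommutative.mpr S.ea.1

theorem ne_bot (S : Setting p E) : E ≠ ⊥ := by
  intro e
  have h3 := S.three
  rw [e, Subgroup.card_bot] at h3
  exact absurd h3 (not_lt.mpr (Nat.one_le_pow _ _ hp.out.pos))

theorem le_centralizer_of_le (S : Setting p E) {B : Subgroup G} (h : B ≤ E) :
    E ≤ Subgroup.centralizer (B : Set G) := S.le_centralizer.trans (Subgroup.centralizer_le (SetLike.coe_subset_coe.mpr h))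

theorem coprime_card (S : Setting p E) {Y : Subgroup G} (hY : ¬ p ∣ Nat.card Y) :
    (Nat.card E).Coprime (Nat.card Y) := by
  obtain ⟨n, hn⟩ := IsPGroup.iff_card.mp S.isPGroup
  rw [hn]
  exact (hp.out.coprime_iff_not_dvd.mpr hY).pow_left n

omit hp in
theorem not_dvd_of_isPGroup {r : ℕ} [Fact r.Prime] [Fact p.Prime] (h : r ≠ p) {Y : Subgroup G} (hY : IsPGroup r Y) :
    ¬ p ∣ Nat.card Y := by
  obtain ⟨n, hn⟩ := IsPGroup.iff_card.mp hY
  exact fun hd => h ((Nat.prime_dvd_prime_iff_eq (Fact.out : p.Prime) (Fact.out : r.Prime)).mp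
    ((Fact.out : p.Prime).dvd_of_dvd_pow (hn ▸ hd))).symm

theorem member_le (S : Setting p E) {X : Subgroup G} (hX : X ≠ ⊤) (hEX : E ≤ X) {Y : Subgroup G}
    (hYX : Y ≤ X) (hY : ¬ p ∣ Nat.card Y) (hEY : E ≤ Subgroup.normalizer (Y : Set G)) :
    Y ≤ pPrimeCoreIn p X :=
  invariant_le_pPrimeCoreIn S.two_ne (isSolvable_of_ne_top S.mss hX) S.isPGroup hEX
    (fun x _ hxC hxo => S.omega x hxC hxo) hYX hY hEY

theorem not_centralizes (S : Setting p E) {B U : Subgroup G} (hB : B ≤ E) (hBc : p < Nat.card B)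
    (hU : InUniqueMaximal U) : ¬ U ≤ Subgroup.centralizer (B : Set G) := by
  intro h
  have hBe : IsElementaryAbelian p B :=
    ⟨⟨⟨fun a b => Subtype.ext (ea_commute S.ea (hB a.2) (hB b.2)).eq⟩⟩, fun a ha => S.ea.2 a (hB ha)⟩
  exact S.not_unique (inUniqueMaximal_mono (inUniqueMaximal_of_centralizes S.mss hU hBe hBc
    (Subgroup.le_centralizer_iff.mp h)) hB (ne_top_of_isMulCommutative S.mss S.ea.1))

theorem card_plane_mul {B : Subgroup G} (hB : IsPlane p E B) : Nat.card B * p = Nat.card E := by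
  rw [← card_mul_relIndex hB.1, hB.2]

theorem lt_card_plane (S : Setting p E) {B : Subgroup G} (hB : IsPlane p E B) : p < Nat.card B := by
  have h := card_plane_mul hB
  have h3 := S.three
  rw [← h, pow_two] at h3
  exact Nat.lt_of_mul_lt_mul_right h3

theorem le_iSup_planes (S : Setting p E) {X : Subgroup G} (hX : ¬ p ∣ Nat.card X)
    (hEX : E ≤ Subgroup.normalizer (X : Set G)) :
    X ≤ ⨆ B : {B : Subgroup G // IsPlane p E B}, X ⊓ Subgroup.centralizer ((B : Subgroup G) : Set G) :=
  Components.le_iSup_centralizer_index_eq S.ea S.three.le hX hEX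

theorem plane_inter_ne_bot (S : Setting p E) {B B' : Subgroup G} (hB : IsPlane p E B) (hB' : IsPlane p E B') :
    B ⊓ B' ≠ ⊥ := by
  intro h
  have h1 : (B ⊓ B').relIndex E ≤ p * p :=
    Subgroup.relIndex_inf_le.trans (le_of_eq (by rw [hB.2, hB'.2]))
  have h2 := card_mul_relIndex (inf_le_left.trans hB.1 : B ⊓ B' ≤ E)
  rw [h, Subgroup.card_bot, one_mul] at h2
  have h3 := S.three
  rw [h] at h1
  rw [h2] at h1
  rw [pow_two] at h3
  omega

theorem sup_planes (S : Setting p E) {B B' : Subgroup G} (hB : IsPlane p E B) (hB' : IsPlane p E B')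
    (h : B ≠ B') : B ⊔ B' = E := by
  have hle : B ⊔ B' ≤ E := sup_le hB.1 hB'.1
  have h1 : (B ⊔ B').relIndex E ∣ p := hB.2 ▸ Subgroup.relIndex_dvd_of_le_left E le_sup_left
  rcases (Nat.dvd_prime hp.out).mp h1 with h2 | h2
  · exact le_antisymm hle (Subgroup.relIndex_eq_one.mp h2)
  · exfalso
    have e1 := card_mul_relIndex hle
    have e2 := card_plane_mul hB
    have e3 := card_plane_mul hB'
    rw [h2] at e1
    refine h ?_
    rw [Subgroup.eq_of_le_of_card_ge (le_sup_left : B ≤ B ⊔ B')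
        (le_of_eq (Nat.eq_of_mul_eq_mul_right hp.out.pos (e1.trans e2.symm))),
      ← Subgroup.eq_of_le_of_card_ge (le_sup_right : B' ≤ B ⊔ B')
        (le_of_eq (Nat.eq_of_mul_eq_mul_right hp.out.pos (e1.trans e3.symm)))]

theorem transitivityHypothesis (S : Setting p E) : TransitivityHypothesis E :=
  transitivityHypothesis_of_omega S.mss S.dvd_card S.isPGroup S.ne_bot S.ea.1 S.omega

/-- Maximal invariant `r`-subgroups are conjugate under `C(E)`. -/
theorem conjugate (S : Setting p E) {r : ℕ} [hr : Fact r.Prime] (hrp : r ≠ p) {Q₁ Q₂ : Subgroup G}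
    (h1 : Q₁ ∈ maxInvSubgroups ⊤ E {r}) (h2 : Q₂ ∈ maxInvSubgroups ⊤ E {r}) :
    ∃ k ∈ Subgroup.centralizer (E : Set G), Q₂ = Q₁.map (MulAut.conj k).toMonoidHom := by
  have hrE : ¬ r ∣ Nat.card E := by
    obtain ⟨n, hn⟩ := IsPGroup.iff_card.mp S.isPGroup
    exact fun h => hrp ((Nat.prime_dvd_prime_iff_eq hr.out hp.out).mp (hr.out.dvd_of_dvd_pow (hn ▸ h)))
  have hZ : ¬ RankLE 2 ↥(E ⊓ Subgroup.centralizer (E : Set G)) := by
    rw [inf_eq_left.mpr S.le_centralizer]
    intro h
    have h3 := h p hp.out ⊤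
      ⟨⟨fun a b => Subtype.ext (Subtype.ext (ea_commute S.ea a.1.2 b.1.2).eq)⟩⟩
      (fun a _ => Subtype.ext (S.ea.2 a a.2))
    rw [Subgroup.card_top] at h3
    exact absurd h3 (not_le.mpr S.three)
  obtain ⟨k, hk, e⟩ := Cfsg.Agent.S1393.result S.mss E S.transitivityHypothesis hZ r hr.out hrE Q₁ h1 Q₂ h2
  exact ⟨k, piCoreOf_le _ _ hk, e⟩

theorem rank_p (S : Setting p E) {H : Subgroup G} (hH : IsCoatom H) {X : Subgroup G} (hX : X ≤ coreP p H)
    (hXe : IsElementaryAbelian p X) : Nat.card X ≤ p ^ 2 := by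
  by_contra h
  exact S.not_unique (inUniqueMaximal_rank_three S.mss hXe (not_le.mp h)
    (inUniqueMaximal_of_fitting_rank_three S.mss hH (hX.trans (coreP_le_fittingOf p H)) hXe (not_le.mp h))
    S.ea S.three)

/-- Rank three in `F(M)` makes `M` high. -/
theorem exists_high_of_rank (S : Setting p E) {M : Subgroup G} (hM : IsCoatom M) (hEM : E ≤ M) {q : ℕ}
    [hq : Fact q.Prime] {X : Subgroup G} (hX : X ≤ coreP q M) (hXe : IsElementaryAbelian q X)
    (hX3 : q ^ 2 < Nat.card X) : ∃ W, IsHigh p E q M W := by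
  have hqp : q ≠ p := by rintro rfl; exact absurd (S.rank_p hM hX hXe) (not_le.mpr hX3)
  have hXU := inUniqueMaximal_of_fitting_rank_three S.mss hM (hX.trans (coreP_le_fittingOf q M)) hXe hX3
  have hq2 : q ≠ 2 := prime_ne_two S.mss (dvd_card_of_ea hXe (lt_of_le_of_lt (Nat.one_le_pow _ _ hq.out.pos) hX3))
  set R := coreP q M with hR
  have hRq : IsPGroup q R := isPGroup_coreP q M
  have hne : ∀ {Y : Subgroup G}, Y ≤ R → Y ≠ ⊤ := fun h e =>
    hM.1 (top_le_iff.mp (e ▸ h.trans (coreP_le q M)))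
  set Z2 := Subgroup.upperCentralSeries R 2 with hZ2
  have hcomm : ∀ x ∈ Z2, ∀ y : R, ⁅x, y⁆ ∈ Subgroup.center R := by
    intro x hx y
    have h := (Subgroup.mem_upperCentralSeries_succ_iff (n := 1) (x := x)).mp hx y
    rw [Subgroup.upperCentralSeries_one] at h
    rw [commutatorElement_def]; exact h
  let W0 : Subgroup R :=
    { carrier := {x | x ∈ Z2 ∧ x ^ q = 1}
      one_mem' := ⟨one_mem _, one_pow _⟩
      mul_mem' := fun {a b} ha hb => ⟨mul_mem ha.1 hb.1, by
        have hc : ∀ z : R, Commute ⁅b, a⁆ z := fun z => (Subgroup.mem_center_iff.mp (hcomm b hb.1 a) z).symm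
        have hcp : ⁅b, a⁆ ^ q = 1 := by
          rw [← Transfer.commutator_pow_left (hc b).symm q, hb.2, commutatorElement_one_left]
        rw [Transfer.mul_pow_of_commute (hc a) (hc b), ha.2, hb.2, one_mul, one_mul]
        obtain ⟨m, hm⟩ : q ∣ q.choose 2 :=
          hq.out.dvd_choose_self two_ne_zero (lt_of_le_of_ne hq.out.two_le (Ne.symm hq2))
        rw [hm, pow_mul, hcp, one_pow]⟩
      inv_mem' := fun {a} ha => ⟨inv_mem ha.1, by rw [inv_pow, ha.2, inv_one]⟩ }
  have hW0char : W0.Characteristic := by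
    rw [Subgroup.characteristic_iff_comap_eq]
    intro φ
    ext x
    change φ x ∈ Z2 ∧ φ x ^ q = 1 ↔ x ∈ Z2 ∧ x ^ q = 1
    rw [← map_pow, map_eq_one_iff φ φ.injective]
    refine and_congr_left fun _ => ?_
    have h := Subgroup.characteristic_iff_comap_eq.mp (inferInstance : Z2.Characteristic) φ
    conv_rhs => rw [← h]
    rfl
  set W := W0.map R.subtype with hW
  have hWR : W ≤ R := Subgroup.map_subtype_le _
  have hnorm : M ≤ Subgroup.normalizer (W : Set G) :=
    (le_normalizer_coreP q M).trans (normalizer_le_normalizer_map_characteristic W0)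
  -- normal subgroups of order `≤ q ^ 2` of `R`
  have hsmall : ∀ X2 : Subgroup R, X2.Normal → IsElementaryAbelian q X2 → q < Nat.card X2 →
      InUniqueMaximal (X2.map R.subtype) := by
    intro X2 hn hX2e hX2c
    have hX2e' := ea_map hX2e R.subtype
    have hX2c' : q < Nat.card (X2.map R.subtype) := by
      rwa [Subgroup.card_map_of_injective R.subtype_injective]
    by_cases hbig : q ^ 2 < Nat.card X2
    · refine inUniqueMaximal_rank_three S.mss hXe hX3 hXU hX2e' ?_
      rwa [Subgroup.card_map_of_injective R.subtype_injective]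
    set C := Subgroup.centralizer (X2 : Set R) with hC
    have hCn : C.Normal := Subgroup.normal_centralizer
    set Y := C.map R.subtype ⊓ X with hY
    have hYc : q < Nat.card Y := by
      have hidx : C.relIndex (X.subgroupOf R) ≤ q :=
        (Nat.le_of_dvd (Nat.pos_of_ne_zero Subgroup.index_ne_zero_of_finite)
          (Subgroup.relIndex_dvd_index_of_normal C _)).trans (index_centralizer_le hRq X2 hX2e (not_lt.mp hbig))
      have h4 : q ^ 2 < Nat.card (X.subgroupOf R) := by rwa [Basics.card_subgroupOf hX]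
      have hcard : Nat.card (X.subgroupOf R) = Nat.card ↥(C ⊓ X.subgroupOf R) * C.relIndex (X.subgroupOf R) := by
        rw [← Subgroup.inf_relIndex_right, card_mul_relIndex inf_le_right]
      rw [hcard, pow_two] at h4
      have h5 : q < Nat.card ↥(C ⊓ X.subgroupOf R) := by
        by_contra h5
        exact absurd h4 (not_lt.mpr (Nat.mul_le_mul (not_lt.mp h5) hidx))
      refine lt_of_lt_of_le h5 ?_
      rw [← Subgroup.card_map_of_injective R.subtype_injective (K := C ⊓ X.subgroupOf R)]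
      refine Subgroup.card_le_of_le ?_
      rintro _ ⟨y, ⟨hy1, hy2⟩, rfl⟩
      exact ⟨⟨y, hy1, rfl⟩, hy2⟩
    have hYe : IsElementaryAbelian q Y :=
      ⟨⟨⟨fun a b => Subtype.ext (ea_commute hXe a.2.2 b.2.2).eq⟩⟩, fun a ha => hXe.2 a ha.2⟩
    have hYU := inUniqueMaximal_of_centralizes S.mss hXU hYe hYc
      (inf_le_right.trans (Subgroup.le_centralizer_iff_isMulCommutative.mpr hXe.1))
    refine inUniqueMaximal_of_centralizes S.mss hYU hX2e' hX2c' ?_
    rintro _ ⟨a, ha, rfl⟩
    rw [Subgroup.mem_centralizer_iff]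
    rintro _ ⟨⟨c, hc, rfl⟩, -⟩
    exact congrArg Subtype.val (Subgroup.mem_centralizer_iff.mp hc a ha).symm
  -- an elementary abelian subgroup of order `> q` of `W` is a uniqueness subgroup
  set Z1 : Subgroup R := W0 ⊓ Subgroup.center R with hZ1
  have hkey : ∀ X1 : Subgroup R, X1 ≤ W0 → IsElementaryAbelian q X1 → q < Nat.card X1 →
      InUniqueMaximal (X1.map R.subtype) := by
    intro X1 hX1W hX1e hX1c
    set X2 := X1 ⊔ Z1 with hX2
    have hX2W : X2 ≤ W0 := sup_le hX1W inf_le_left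
    have hn : X2.Normal := by
      refine ⟨fun a ha r => ?_⟩
      have h1 : ⁅a, r⁆ ∈ Z1 := by
        refine ⟨⟨?_, ?_⟩, hcomm a (hX2W ha).1 r⟩
        · have hc := hcomm a (hX2W ha).1 r
          rw [← Subgroup.upperCentralSeries_one] at hc
          exact Subgroup.upperCentralSeries_mono R (by norm_num) hc
        · rw [← Transfer.commutator_pow_left (show Commute a ⁅a, r⁆ from Subgroup.mem_center_iff.mp (hcomm a (hX2W ha).1 r) a) q,
            (hX2W ha).2, commutatorElement_one_left]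
      have e : r * a * r⁻¹ = ⁅a, r⁆⁻¹ * a := by rw [commutatorElement_def]; group
      rw [e]
      exact mul_mem (inv_mem (Subgroup.mem_sup_right h1)) ha
    have hX2e : IsElementaryAbelian q X2 := by
      refine ⟨?_, fun a ha => (hX2W ha).2⟩
      rw [hX2, ← Subgroup.closure_eq X1, ← Subgroup.closure_eq Z1, ← Subgroup.closure_union]
      refine Subgroup.isMulCommutative_closure ?_
      rintro a (ha | ha) b (hb | hb)
      · exact (ea_commute hX1e ha hb).eq
      · exact Subgroup.mem_center_iff.mp hb.2 a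
      · exact (Subgroup.mem_center_iff.mp ha.2 b).symm
      · exact Subgroup.mem_center_iff.mp hb.2 a
    refine inUniqueMaximal_of_centralizes S.mss
      (hsmall X2 hn hX2e (lt_of_lt_of_le hX1c (Subgroup.card_le_of_le le_sup_left))) (ea_map hX1e R.subtype)
      (by rwa [Subgroup.card_map_of_injective R.subtype_injective]) ?_
    exact (Subgroup.map_mono le_sup_left).trans
      (Subgroup.le_centralizer_iff_isMulCommutative.mpr (isMulCommutative_map hX2e.1 _))
  -- a normal elementary abelian subgroup of order `q ^ 2` inside `W`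
  obtain ⟨E₀, hE₀n, hE₀e, hE₀3⟩ := exists_normal_ea_three hq2 hRq
    (X := X.subgroupOf R) ⟨⟨⟨fun a b => Subtype.ext (Subtype.ext (ea_commute hXe a.2 b.2).eq)⟩⟩,
      fun a ha => Subtype.ext (hXe.2 _ ha)⟩ (by rwa [Basics.card_subgroupOf hX])
  obtain ⟨E₁, hE₁n, -, hE₁e, hE₁p, hE₁le⟩ := exists_normal_le_card_sq hRq E₀ hE₀e (lt_of_sq_lt hE₀3)
  have hE₁W : E₁ ≤ W0 := by
    intro a ha
    refine ⟨?_, hE₁e.2 a ha⟩
    rw [Subgroup.mem_upperCentralSeries_succ_iff]
    intro y
    rw [Subgroup.upperCentralSeries_one]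
    have h := (commutator_top_le_center hRq E₁ hE₁le
      (Subgroup.commutator_mem_commutator ha (Subgroup.mem_top y))).2
    rw [commutatorElement_def] at h
    exact h
  have hWexp : ∀ x ∈ W, x ^ q = 1 := by
    rintro _ ⟨a, ha, rfl⟩
    rw [← map_pow, ha.2, map_one]
  have hnc : ∀ X1 : Subgroup R, X1 ≤ W0 → q < Nat.card X1 → ¬ IsCyclic (X1.map R.subtype) := by
    intro X1 h1 h2 hc
    have := card_le_of_cyclic_exponent hq.out.pos hc fun x hx => hWexp x (Subgroup.map_mono h1 hx)
    rw [Subgroup.card_map_of_injective R.subtype_injective] at this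
    omega
  refine ⟨W, hq.out, hqp, hM, hEM, hWR, hnorm, fun hc => ?_, hWexp, fun Y hY hYnc => ?_, fun x hx hx1 => ?_⟩
  · exact hnc W0 le_rfl (lt_of_lt_of_le hE₁p (Subgroup.card_le_of_le hE₁W)) hc
  · obtain ⟨X1, hX1e, hX1c⟩ := exists_ea_two_of_not_isCyclic hq2 (hRq.to_le (hY.trans hWR)) hYnc
    set X1' := X1.map Y.subtype
    have hX1Y : X1' ≤ Y := Subgroup.map_subtype_le _
    have hX1R : X1' ≤ R := hX1Y.trans (hY.trans hWR)
    have hU := hkey (X1'.subgroupOf R) (fun a ha => by
        obtain ⟨w, hw, hwa⟩ := hY (hX1Y ha)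
        exact (Subtype.ext hwa : w = a) ▸ hw)
      ⟨⟨⟨fun a b => Subtype.ext (Subtype.ext (ea_commute (ea_map hX1e Y.subtype) a.2 b.2).eq)⟩⟩,
        fun a ha => Subtype.ext ((ea_map hX1e Y.subtype).2 _ ha)⟩
      (by rwa [Basics.card_subgroupOf hX1R, Subgroup.card_map_of_injective Y.subtype_injective])
    rw [Subgroup.map_subgroupOf_eq_of_le hX1R] at hU
    exact inUniqueMaximal_mono hU hX1Y (hne (hY.trans hWR))
  · have hCtop : Subgroup.centralizer ({x} : Set G) ≠ ⊤ := centralizer_ne_top S.mss rfl hx1 (s := ({x} : Set G))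
    obtain ⟨a, ha, rfl⟩ := hx
    by_cases hcen : a ∈ Subgroup.center R
    · refine le_of_unique (U := E₁.map R.subtype) (hkey E₁ hE₁W hE₁e hE₁p) hM
        ((Subgroup.map_subtype_le _).trans (coreP_le q M)) hCtop ?_
      rintro _ ⟨c, hc, rfl⟩
      exact Subgroup.mem_centralizer_singleton_iff.mpr
        (congrArg Subtype.val (Subgroup.mem_center_iff.mp hcen c))
    · obtain ⟨z, hz, hzc, hz1⟩ : ∃ z ∈ E₁, z ∈ Subgroup.center R ∧ z ≠ 1 := by
        obtain ⟨z, h1, h2, h3⟩ := exists_mem_center_ne_one_of_normal hRq E₁ fun e => by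
          rw [e, Subgroup.card_bot] at hE₁p
          exact absurd hE₁p (not_lt.mpr hq.out.one_lt.le)
        exact ⟨z, h1, h2, h3⟩
      have hae : IsElementaryAbelian q (Subgroup.zpowers z ⊔ Subgroup.zpowers a) :=
        ea_sup_zpowers ⟨⟨⟨fun u v => mul_comm' u v⟩⟩, fun u hu => (hE₁W ((Subgroup.zpowers_le.mpr hz) hu)).2⟩
          (Subgroup.mem_centralizer_iff.mpr fun _ ⟨i, hi⟩ => by
            rw [← hi]
            exact (show Commute z a from (Subgroup.mem_center_iff.mp hzc a).symm).zpow_left i |>.eq)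
          ha.2
      have hlt : q < Nat.card ↥(Subgroup.zpowers z ⊔ Subgroup.zpowers a) := by
        have hzq : Nat.card (Subgroup.zpowers z) = q := by
          rw [Nat.card_zpowers]; exact orderOf_eq_prime (hE₁W hz).2 hz1
        rw [← hzq]
        refine Basics.card_lt_of_lt (lt_of_le_of_ne le_sup_left fun e => hcen ?_)
        exact (Subgroup.zpowers_le.mpr hzc) (e.ge (Subgroup.mem_sup_right (Subgroup.mem_zpowers a)))
      have hW1 : Subgroup.zpowers z ⊔ Subgroup.zpowers a ≤ W0 :=
        sup_le (Subgroup.zpowers_le.mpr (hE₁W hz)) (Subgroup.zpowers_le.mpr ha)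
      refine le_of_unique (hkey _ hW1 hae hlt) hM ((Subgroup.map_subtype_le _).trans (coreP_le q M)) hCtop ?_
      rintro _ ⟨c, hc, rfl⟩
      exact Subgroup.mem_centralizer_singleton_iff.mpr
        (congrArg Subtype.val (ea_commute hae hc (Subgroup.mem_sup_right (Subgroup.mem_zpowers a))).eq)

end Setting

end Cfsg.Agent.OddLocal
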