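import Cfsg.Agent.Lib.OddLocal.FixPoint
import Cfsg.Agent.Lib.OddLocal.HighLow
import Cfsg.Agent.Lib.OddLocal.Centralize
import Cfsg.Agent.Lib.Basics.CoprimeAction
import Cfsg.Agent.Lib.Basics.CoprimeGen
import Cfsg.Agent.Lib.Coprime23.Omega

/-! Tools for actions of elementary abelian groups of order `p ^ 2`. -/

set_option autoImplicit false
set_option linter.unusedSectionVars false
set_option linter.style.haveILetI false

namespace Cfsg.Agent.OddLocal

open scoped commutatorElement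
open Cfsg

universe u

variable {G : Type u} [Group G] [Finite G]

/-- The elements of exponent `q` of an abelian subgroup, as a subgroup. -/
theorem exists_omega_abelian {Q : Subgroup G} (hQ : IsMulCommutative Q) (q : ℕ) :
    ∃ V : Subgroup G, IsElementaryAbelian q V ∧ (∀ x, x ∈ V ↔ x ∈ Q ∧ x ^ q = 1) ∧
      Subgroup.normalizer (Q : Set G) ≤ Subgroup.normalizer (V : Set G) := by
  have hc : ∀ a ∈ Q, ∀ b ∈ Q, Commute a b := fun a ha b hb =>
    congrArg Subtype.val (hQ.is_comm.comm ⟨a, ha⟩ ⟨b, hb⟩)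
  let V : Subgroup G :=
    { carrier := {x | x ∈ Q ∧ x ^ q = 1}
      one_mem' := ⟨one_mem Q, one_pow q⟩
      mul_mem' := fun {a b} ha hb => ⟨mul_mem ha.1 hb.1, by rw [(hc a ha.1 b hb.1).mul_pow, ha.2, hb.2, one_mul]⟩
      inv_mem' := fun {a} ha => ⟨inv_mem ha.1, by rw [inv_pow, ha.2, inv_one]⟩ }
  refine ⟨V, ⟨⟨⟨fun a b => Subtype.ext (hc a a.2.1 b b.2.1).eq⟩⟩, fun a ha => ha.2⟩, fun x => Iff.rfl,
    fun g hg => mem_normalizer_of_conj_mem fun a ha => ?_⟩
  refine ⟨(Subgroup.mem_normalizer_iff.mp hg a).mp ha.1, ?_⟩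
  rw [conj_pow, ha.2, mul_one, mul_inv_cancel]

theorem fpf_centralizes_abelian {q r : ℕ} [hq : Fact q.Prime] [hr : Fact r.Prime] {Q K X : Subgroup G}
    (hQ : IsPGroup q Q) (hQc : IsMulCommutative Q) (hX : Nat.card X = r) (hr2 : r ≠ 2) (hq2 : q ≠ 2) (hrq : r ≠ q)
    (hKodd : Odd (Nat.card K)) (hrK : ¬ r ∣ Nat.card K) (hqK : ¬ q ∣ Nat.card K)
    (hXK : X ≤ Subgroup.normalizer (K : Set G)) (hKQ : K ≤ Subgroup.normalizer (Q : Set G))
    (hXQ : X ≤ Subgroup.normalizer (Q : Set G)) (hfix : Q ⊓ Subgroup.centralizer (X : Set G) = ⊥) :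
    ⁅X, K⁆ ≤ Subgroup.centralizer (Q : Set G) := by
  obtain ⟨V, hV, hmem, hn⟩ := exists_omega_abelian hQc q
  have h1 := commutator_le_centralizer_of_fpf hV hX hr2 hrq hKodd hrK hqK hXK (hKQ.trans hn) (hXQ.trans hn)
    (eq_bot_iff.mpr fun x hx => hfix.le ⟨((hmem x).mp hx.1).1, hx.2⟩)
  intro c hc
  have hcK : c ∈ K := Subgroup.le_normalizer_iff_commutator_le_right.mp hXK hc
  have hcop : (orderOf (conjAut (hKQ hcK))).Coprime q := by
    refine Nat.Coprime.coprime_dvd_left (orderOf_dvd_of_pow_eq_one (MulEquiv.ext fun z => Subtype.ext ?_))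
      ((hq.out.coprime_iff_not_dvd.mpr hqK).symm)
    rw [coe_conjAut_pow, show c ^ Nat.card K = 1 from congrArg Subtype.val (pow_card_eq_one' (x := (⟨c, hcK⟩ : K)))]
    simp
  rw [Subgroup.mem_centralizer_iff]
  intro x hx
  have h2 := congrArg Subtype.val (Coprime23.fix_of_fix_omega hQ hq2 _ hcop (fun z hz => Subtype.ext (by
    change c * (z : G) * c⁻¹ = z
    rw [← Subgroup.mem_centralizer_iff.mp (h1 hc) z ((hmem z).mpr ⟨z.2, congrArg Subtype.val hz⟩),
      mul_inv_cancel_right])) ⟨x, hx⟩)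
  change c * x * c⁻¹ = x at h2
  exact (mul_inv_eq_iff_eq_mul.mp h2).symm

/-- An element of prime order without fixed points on a `q`-group centralizes, modulo the kernel, what it
normalizes. -/
theorem fpf_centralizes {q r : ℕ} [hq : Fact q.Prime] [hr : Fact r.Prime] {Q K X : Subgroup G}
    (hQ : IsPGroup q Q) (hX : Nat.card X = r) (hr2 : r ≠ 2) (hq2 : q ≠ 2) (hrq : r ≠ q)
    (hKodd : Odd (Nat.card K)) (hrK : ¬ r ∣ Nat.card K) (hqK : ¬ q ∣ Nat.card K)
    (hXK : X ≤ Subgroup.normalizer (K : Set G)) (hKQ : K ≤ Subgroup.normalizer (Q : Set G))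
    (hXQ : X ≤ Subgroup.normalizer (Q : Set G)) (hfix : Q ⊓ Subgroup.centralizer (X : Set G) = ⊥) :
    ⁅X, K⁆ ≤ Subgroup.centralizer (Q : Set G) := by
  induction hn : Nat.card Q using Nat.strong_induction_on generalizing Q with
  | _ n ih =>
  subst hn
  by_cases hQc : IsMulCommutative Q
  · exact fpf_centralizes_abelian hQ hQc hX hr2 hq2 hrq hKodd hrK hqK hXK hKQ hXQ hfix
  have hQne : Q ≠ ⊥ := fun e => hQc ⟨⟨fun a b => Subtype.ext (by
    subst e
    simp only [Subgroup.coe_mul, Subgroup.mem_bot.mp a.2, Subgroup.mem_bot.mp b.2])⟩⟩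
  haveI : Group.IsNilpotent Q := hQ.isNilpotent
  haveI : Nontrivial Q := (Subgroup.nontrivial_iff_ne_bot Q).mpr hQne
  set D := (commutator Q).map Q.subtype with hD
  have hDQ : D ≤ Q := Subgroup.map_subtype_le _
  have hDlt : Nat.card D < Nat.card Q := by
    rw [hD, Subgroup.card_map_of_injective Q.subtype_injective]
    refine lt_of_le_of_ne (Subgroup.card_le_card_group _) fun e => ?_
    exact (Group.IsSolvable.commutator_lt_top_of_nontrivial Q).ne (Subgroup.eq_top_of_card_eq _ e)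
  have hDn : Subgroup.normalizer (Q : Set G) ≤ Subgroup.normalizer (D : Set G) :=
    normalizer_le_normalizer_map_characteristic _
  have hD1 := ih _ hDlt (hQ.to_le hDQ) (hKQ.trans hDn) (hXQ.trans hDn)
    (eq_bot_iff.mpr ((inf_le_inf_right _ hDQ).trans hfix.le)) rfl
  -- pass to the quotient by the derived subgroup
  set L := Subgroup.normalizer (D : Set G) with hL
  have hQL : Q ≤ L := Subgroup.le_normalizer.trans hDn
  have hXL : X ≤ L := hXQ.trans hDn
  have hKL : K ≤ L := hKQ.trans hDn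
  haveI hDnormal : (D.subgroupOf L).Normal :=
    (Subgroup.normal_subgroupOf_iff_le_normalizer (Subgroup.le_normalizer)).mpr le_rfl
  set φ := QuotientGroup.mk' (D.subgroupOf L) with hφ
  have hmemN : ∀ {H : Subgroup G}, H ≤ L → ∀ {U : Subgroup G}, U ≤ Subgroup.normalizer (H : Set G) → U ≤ L →
      (U.subgroupOf L).map φ ≤ Subgroup.normalizer (((H.subgroupOf L).map φ : Subgroup (L ⧸ D.subgroupOf L)) : Set _) := by
    intro H hHL U hU hUL
    refine le_trans (Subgroup.map_mono ?_) (Subgroup.le_normalizer_map φ)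
    rw [← Subgroup.subgroupOf_normalizer_eq hHL]
    exact Subgroup.comap_mono hU
  have hcopD : (Nat.card X).Coprime (Nat.card (D.subgroupOf L)) := by
    rw [Basics.card_subgroupOf (Subgroup.le_normalizer), hX]
    obtain ⟨k, hk⟩ := IsPGroup.iff_card.mp (hQ.to_le hDQ)
    rw [hk]
    exact ((Nat.coprime_primes hr.out hq.out).mpr hrq).pow_right k
  have hXc : Nat.card ((X.subgroupOf L).map φ) = r := by
    have h1 := Basics.card_map_mul_card_inf_ker φ (X.subgroupOf L)
    have h2 : X.subgroupOf L ⊓ φ.ker = ⊥ := by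
      rw [hφ, QuotientGroup.ker_mk']
      exact (Subgroup.disjoint_of_coprime_natCard (by rwa [Basics.card_subgroupOf hXL])).eq_bot
    rwa [h2, Subgroup.card_bot, mul_one, Basics.card_subgroupOf hXL, hX] at h1
  have hQbp : IsPGroup q ((Q.subgroupOf L).map φ) := (hQ.comap_subtype).map φ
  have hQbc : IsMulCommutative ((Q.subgroupOf L).map φ) := by
    refine ⟨⟨fun a b => ?_⟩⟩
    obtain ⟨⟨_, a, ha, rfl⟩, ⟨_, b, hb, rfl⟩⟩ := a, b
    refine Subtype.ext (QuotientGroup.eq.mpr ?_)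
    rw [Subgroup.mem_subgroupOf]
    refine ⟨⁅(⟨b, hb⟩ : Q)⁻¹, (⟨a, ha⟩ : Q)⁻¹⁆, Subgroup.commutator_mem_commutator (Subgroup.mem_top _)
      (Subgroup.mem_top _), ?_⟩
    simp [commutatorElement_def, mul_assoc]
  have hKdvd : Nat.card ((K.subgroupOf L).map φ) ∣ Nat.card K := by
    refine (Subgroup.card_map_dvd _ _).trans ?_
    rw [Basics.card_subgroupOf hKL]
  have h2 := fpf_centralizes_abelian hQbp hQbc hXc hr2 hq2 hrq (hKodd.of_dvd_nat hKdvd)
    (fun h => hrK (h.trans hKdvd)) (fun h => hqK (h.trans hKdvd)) (hmemN hKL hXK hXL)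
    (hmemN hQL hKQ hKL) (hmemN hQL hXQ hXL) ?_
  swap
  · have hle : D.subgroupOf L ≤ Q.subgroupOf L := Subgroup.comap_mono hDQ
    rw [← Basics.map_inf_centralizer (X.subgroupOf L) (Q.subgroupOf L) _ hle (by rw [Basics.card_subgroupOf hXL]; exact hcopD)
      (Or.inl (by
        haveI := isCyclic_of_prime_card (α := X.subgroupOf L) (p := r) (by rw [Basics.card_subgroupOf hXL, hX])
        infer_instance))]
    rw [eq_bot_iff]
    rintro _ ⟨x, ⟨hx, hxc⟩, rfl⟩
    have h3 : (x : G) ∈ Q ⊓ Subgroup.centralizer (X : Set G) := ⟨hx, Subgroup.mem_centralizer_iff.mpr fun v hv =>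
      congrArg Subtype.val (Subgroup.mem_centralizer_iff.mp hxc ⟨v, hXL hv⟩ hv)⟩
    rw [hfix, Subgroup.mem_bot] at h3
    rw [Subgroup.mem_bot, show x = 1 from Subtype.ext h3, map_one]
  intro c hc
  have hcK : c ∈ K := Subgroup.le_normalizer_iff_commutator_le_right.mp hXK hc
  have hcb : φ ⟨c, hKL hcK⟩ ∈ ⁅(X.subgroupOf L).map φ, (K.subgroupOf L).map φ⁆ := by
    rw [← Subgroup.map_commutator]
    refine ⟨⟨c, hKL hcK⟩, ?_, rfl⟩
    have h4 : (⁅X.subgroupOf L, K.subgroupOf L⁆).map L.subtype = ⁅X, K⁆ := by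
      rw [Subgroup.map_commutator, Subgroup.map_subgroupOf_eq_of_le hXL, Subgroup.map_subgroupOf_eq_of_le hKL]
    obtain ⟨c', hc', e⟩ := h4.ge hc
    exact (Subtype.ext e : c' = ⟨c, hKL hcK⟩) ▸ hc'
  rw [Subgroup.mem_centralizer_iff]
  intro x hx
  have hxb := Subgroup.mem_centralizer_iff.mp (h2 hcb) (φ ⟨x, hQL hx⟩) ⟨⟨x, hQL hx⟩, hx, rfl⟩
  have hD2 : ⁅c, x⁆ ∈ D := by
    have h5 : φ ⁅(⟨c, hKL hcK⟩ : L), ⟨x, hQL hx⟩⁆ = 1 := by
      rw [map_commutatorElement, commutatorElement_eq_one_iff_mul_comm, hxb]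
    exact (QuotientGroup.eq_one_iff (N := D.subgroupOf L) _).mp h5
  have hcop : (orderOf c).Coprime q :=
    ((hq.out.coprime_iff_not_dvd.mpr hqK).symm).coprime_dvd_left (Subgroup.orderOf_dvd_natCard _ hcK)
  exact (commute_of_fixed_commutator (hQ.to_le hDQ) hcop hD2
    ((Subgroup.mem_centralizer_iff.mp (hD1 hc) _ hD2).symm)).symm.eq

/-- An element normalizing a nilpotent group fixes it when it fixes every Sylow subgroup. -/
theorem fpf_centralizes_nilpotent {r : ℕ} [hr : Fact r.Prime] {N K X : Subgroup G}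
    (hN : Group.IsNilpotent N) (hNodd : Odd (Nat.card N)) (hX : Nat.card X = r) (hr2 : r ≠ 2)
    (hrN : ¬ r ∣ Nat.card N) (hKodd : Odd (Nat.card K)) (hrK : ¬ r ∣ Nat.card K)
    (hKN : (Nat.card K).Coprime (Nat.card N))
    (hXK : X ≤ Subgroup.normalizer (K : Set G)) (hKQ : K ≤ Subgroup.normalizer (N : Set G))
    (hXQ : X ≤ Subgroup.normalizer (N : Set G)) (hfix : N ⊓ Subgroup.centralizer (X : Set G) = ⊥) :
    ⁅X, K⁆ ≤ Subgroup.centralizer (N : Set G) := by
  intro c hc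
  suffices h : N ≤ Subgroup.centralizer ({c} : Set G) by
    rw [Subgroup.mem_centralizer_iff]
    intro x hx
    exact Subgroup.mem_centralizer_singleton_iff.mp (h hx)
  have hdvd : Nat.card N ∣ Nat.card (N ⊓ Subgroup.centralizer ({c} : Set G) : Subgroup G) := by
    rw [Nat.dvd_iff_prime_pow_dvd_dvd]
    intro q i hq hqi
    rcases Nat.eq_zero_or_pos i with rfl | hi
    · simp
    haveI := Fact.mk hq
    have hqN : q ∣ Nat.card N := (dvd_pow_self q hi.ne').trans hqi
    obtain ⟨S⟩ : Nonempty (Sylow q N) := inferInstance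
    haveI : (S : Subgroup N).Normal := Sylow.normal_of_normalizerCondition normalizerCondition_of_isNilpotent S
    haveI : (S : Subgroup N).Characteristic := S.characteristic_of_normal inferInstance
    have hSN : Subgroup.normalizer (N : Set G) ≤
        Subgroup.normalizer (((S : Subgroup N).map N.subtype : Subgroup G) : Set G) :=
      normalizer_le_normalizer_map_characteristic _
    have h1 := fpf_centralizes (S.2.map N.subtype) hX hr2
      (fun e => (Nat.not_even_iff_odd.mpr hNodd) (even_iff_two_dvd.mpr (e ▸ hqN))) (fun e => hrN (e ▸ hqN)) hKodd hrK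
      (fun h => hq.ne_one (Nat.eq_one_of_dvd_coprimes hKN h hqN)) hXK (hKQ.trans hSN) (hXQ.trans hSN)
      (eq_bot_iff.mpr ((inf_le_inf_right _ (Subgroup.map_subtype_le _)).trans hfix.le)) hc
    refine dvd_trans ?_ (Subgroup.card_dvd_of_le (le_inf (Subgroup.map_subtype_le (S : Subgroup N))
      fun x hx => Subgroup.mem_centralizer_singleton_iff.mpr (Subgroup.mem_centralizer_iff.mp h1 x hx)))
    rw [Subgroup.card_map_of_injective N.subtype_injective, S.card_eq_multiplicity]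
    exact pow_dvd_pow q ((hq.pow_dvd_iff_le_factorization Nat.card_pos.ne').mp hqi)
  exact (Subgroup.eq_of_le_of_card_ge inf_le_left (Nat.le_of_dvd Nat.card_pos hdvd)).ge.trans inf_le_right

/-- Two different lines generate an elementary abelian group of order `p ^ 2`. -/
theorem sup_eq_of_lines {p : ℕ} [hp : Fact p.Prime] {A X Y : Subgroup G} (hA : Nat.card A = p ^ 2)
    (hXA : X ≤ A) (hYA : Y ≤ A) (hX : Nat.card X = p) (hY : Nat.card Y = p) (hne : X ≠ Y) : X ⊔ Y = A := by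
  refine Subgroup.eq_of_le_of_card_ge (sup_le hXA hYA) ?_
  obtain ⟨k, -, hk⟩ := (Nat.dvd_prime_pow hp.out).mp (hA ▸ Subgroup.card_dvd_of_le (sup_le hXA hYA))
  rw [hk, hA]
  refine Nat.pow_le_pow_right hp.out.pos ?_
  by_contra hlt
  have h1 : Nat.card (X ⊔ Y : Subgroup G) ≤ p := by
    rw [hk]; exact (Nat.pow_le_pow_right hp.out.pos (by omega : k ≤ 1)).trans (pow_one p).le
  have h2 := Subgroup.eq_of_le_of_card_ge (le_sup_left : X ≤ X ⊔ Y) (hX ▸ h1)
  have h3 := Subgroup.eq_of_le_of_card_ge (le_sup_right : Y ≤ X ⊔ Y) (hY ▸ h1)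
  exact hne (h2.trans h3.symm)

/-- The line through a nontrivial element. -/
theorem card_zpowers_of_ea {p : ℕ} [hp : Fact p.Prime] {A : Subgroup G} (hA : IsElementaryAbelian p A) {a : G}
    (ha : a ∈ A) (ha1 : a ≠ 1) : Nat.card (Subgroup.zpowers a) = p := by
  rw [Nat.card_zpowers, orderOf_eq_prime (hA.2 a ha) ha1]

/-- Coprime generation by the centralizers of the lines. -/
theorem le_of_lines {p : ℕ} [hp : Fact p.Prime] {A K T : Subgroup G} (hA : IsElementaryAbelian p A)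
    (hA2 : Nat.card A = p ^ 2) (hAK : A ≤ Subgroup.normalizer (K : Set G)) (hpK : ¬ p ∣ Nat.card K)
    (h : ∀ X : Subgroup G, X ≤ A → Nat.card X = p → K ⊓ Subgroup.centralizer (X : Set G) ≤ T) : K ≤ T := by
  haveI : IsMulCommutative A := hA.1
  have hnc : ¬ IsCyclic A := fun hc => by
    obtain ⟨g, hg⟩ := hc.exists_generator
    have h1 : Nat.card A = orderOf g := (orderOf_eq_card_of_forall_mem_zpowers hg).symm
    have h2 : orderOf g ∣ p := orderOf_dvd_of_pow_eq_one (Subtype.ext (hA.2 g g.2))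
    have := Nat.le_of_dvd hp.out.pos h2
    have := hp.out.two_le
    nlinarith
  rw [← Basics.iSup_inf_centralizer_eq A K hnc hAK
    (hA2 ▸ (hp.out.coprime_iff_not_dvd.mpr hpK).pow_left 2)]
  refine iSup₂_le fun a ha => ?_
  refine le_trans (inf_le_inf_left _ ?_) (h _ (Subgroup.zpowers_le.mpr ha.1) (card_zpowers_of_ea hA ha.1 ha.2))
  intro x hx
  rw [Subgroup.mem_centralizer_iff]
  rintro _ ⟨i, rfl⟩
  exact ((show Commute a x from (Subgroup.mem_centralizer_singleton_iff.mp hx).symm).zpow_left i).eq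

/-- Lines of `E` other than a line fixed by `y` form one orbit under `y`, if `y` moves some element. -/
theorem exists_conj_line {p : ℕ} [hp : Fact p.Prime] {E : Subgroup G} (hE : IsElementaryAbelian p E)
    (hE2 : Nat.card E = p ^ 2) {z e y : G} (hz : z ∈ E) (hz1 : z ≠ 1) (he : e ∈ E) (hy : y ∈ Subgroup.normalizer (E : Set G))
    {k : ℕ} (hyp : y ^ p ^ k = 1) (hyz : y * z * y⁻¹ = z) (hye : y * e * y⁻¹ ≠ e)
    {X : Subgroup G} (hXE : X ≤ E) (hX : Nat.card X = p) (hXz : X ≠ Subgroup.zpowers z) :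
    ∃ i : ℕ, (Subgroup.zpowers e).map (MulAut.conj (y ^ i)).toMonoidHom = X := by
  have he1 : e ≠ 1 := by rintro rfl; exact hye (by simp)
  have hez : Subgroup.zpowers e ≠ Subgroup.zpowers z := by
    intro h
    obtain ⟨j, hj⟩ := (h ▸ Subgroup.mem_zpowers e : e ∈ Subgroup.zpowers z)
    refine hye ?_
    rw [← hj]
    simp only [← conj_zpow, hyz]
  have hsup := sup_eq_of_lines hE2 (Subgroup.zpowers_le.mpr hz) (Subgroup.zpowers_le.mpr he)
    (card_zpowers_of_ea hE hz hz1) (card_zpowers_of_ea hE he he1) (Ne.symm hez)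
  have hcoord : ∀ v ∈ E, ∃ a b : ℤ, v = z ^ a * e ^ b := by
    intro v hv
    have hcomm : Subgroup.zpowers e ≤ Subgroup.normalizer (Subgroup.zpowers z : Set G) := by
      refine le_trans ?_ (Subgroup.centralizer_le_normalizer _)
      intro x hx
      rw [Subgroup.mem_centralizer_iff]
      exact fun w hw => (ea_commute hE (Subgroup.zpowers_le.mpr hz hw) (Subgroup.zpowers_le.mpr he hx)).eq
    obtain ⟨u, ⟨a, rfl⟩, w, ⟨b, rfl⟩, e'⟩ := (Basics.mem_sup_of_le_normalizer hcomm).mp (hsup.symm ▸ hv)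
    exact ⟨a, b, e'⟩
  obtain ⟨a, b, hab⟩ := hcoord _ ((Subgroup.mem_normalizer_iff.mp hy e).mp he)
  have hconj : ∀ u v : G, y * (u * v) * y⁻¹ = (y * u * y⁻¹) * (y * v * y⁻¹) := fun u v => by group
  -- the image modulo `z`
  have hiter : ∀ n : ℕ, ∃ c : ℤ, y ^ n * e * (y ^ n)⁻¹ = z ^ c * e ^ (b ^ n) := by
    intro n
    induction n with
    | zero => exact ⟨0, by simp⟩
    | succ n ihn =>
      obtain ⟨c, hc⟩ := ihn
      refine ⟨c + a * b ^ n, ?_⟩
      have hce : Commute (z ^ a) (e ^ b) := (show Commute z e from ea_commute hE hz he).zpow_zpow a b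
      calc y ^ (n + 1) * e * (y ^ (n + 1))⁻¹ = y * (y ^ n * e * (y ^ n)⁻¹) * y⁻¹ := by rw [pow_succ']; group
        _ = (y * z * y⁻¹) ^ c * (y * e * y⁻¹) ^ (b ^ n) := by rw [hc, hconj, conj_zpow, conj_zpow]
        _ = z ^ c * (z ^ a * e ^ b) ^ (b ^ n) := by rw [hyz, hab]
        _ = z ^ c * ((z ^ a) ^ (b ^ n) * (e ^ b) ^ (b ^ n)) := by rw [hce.mul_zpow]
        _ = _ := by rw [← zpow_mul, ← zpow_mul, ← mul_assoc, ← zpow_add, pow_succ']
  obtain ⟨c, hc⟩ := hiter (p ^ k)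
  rw [hyp, one_mul, inv_one, mul_one] at hc
  have hzp : z ^ p = 1 := hE.2 z hz
  have hep : e ^ p = 1 := hE.2 e he
  have hdiv : ∀ m : ℤ, e ^ m ∈ Subgroup.zpowers z → (p : ℤ) ∣ m := by
    intro m hm
    by_contra hne
    have hcop : IsCoprime (p : ℤ) m :=
      (Nat.prime_iff_prime_int.mp hp.out).coprime_iff_not_dvd.mpr hne
    obtain ⟨u, v, huv⟩ := hcop
    refine hez (Subgroup.eq_of_le_of_card_ge (Subgroup.zpowers_le.mpr ?_)
      (by rw [card_zpowers_of_ea hE hz hz1, card_zpowers_of_ea hE he he1]))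
    have : e = (e ^ m) ^ v := by
      calc e = e ^ (u * p + v * m) := by rw [huv, zpow_one]
        _ = (e ^ (p : ℤ)) ^ u * (e ^ m) ^ v := by rw [zpow_add, mul_comm u, mul_comm v, zpow_mul, zpow_mul]
        _ = (e ^ m) ^ v := by rw [zpow_natCast, hep, one_zpow, one_mul]
    rw [this]
    exact zpow_mem hm v
  have hb1 : (p : ℤ) ∣ b - 1 := by
    have h1 : (p : ℤ) ∣ b ^ (p ^ k) - 1 := by
      refine hdiv _ ⟨-c, ?_⟩
      have : e ^ (b ^ p ^ k) = (z ^ c)⁻¹ * e := eq_inv_mul_of_mul_eq hc.symm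
      rw [zpow_sub, zpow_one, this, mul_inv_cancel_right, ← zpow_neg]
    rw [← ZMod.intCast_zmod_eq_zero_iff_dvd, Int.cast_sub, Int.cast_pow, Int.cast_one, ZMod.pow_card_pow] at h1
    rwa [← ZMod.intCast_zmod_eq_zero_iff_dvd, Int.cast_sub, Int.cast_one]
  obtain ⟨t, ht⟩ := hb1
  have heb : e ^ b = e := by
    rw [show b = (p : ℤ) * t + 1 by omega, zpow_add, zpow_mul, zpow_natCast, hep, one_zpow, one_mul, zpow_one]
  rw [heb] at hab
  have hza : ¬ (p : ℤ) ∣ a := by
    rintro ⟨s, rfl⟩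
    exact hye (by rw [hab, zpow_mul, zpow_natCast, hzp, one_zpow, one_mul])
  have hiter2 : ∀ n : ℕ, y ^ n * e * (y ^ n)⁻¹ = z ^ (a * n) * e := by
    intro n
    induction n with
    | zero => simp
    | succ n ihn =>
      calc y ^ (n + 1) * e * (y ^ (n + 1))⁻¹ = y * (y ^ n * e * (y ^ n)⁻¹) * y⁻¹ := by rw [pow_succ']; group
        _ = (y * z * y⁻¹) ^ (a * (n : ℤ)) * (y * e * y⁻¹) := by rw [ihn, hconj, conj_zpow]
        _ = _ := by rw [hyz, hab, ← mul_assoc, ← zpow_add]; congr 2; push_cast; ring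
  -- a generator of `X`
  haveI : IsCyclic X := isCyclic_of_prime_card (p := p) hX
  obtain ⟨x, hx, hx1⟩ : ∃ x ∈ X, x ≠ 1 := by
    by_contra h
    push Not at h
    rw [(Subgroup.eq_bot_iff_forall X).mpr h, Subgroup.card_bot] at hX
    exact hp.out.ne_one hX.symm
  have hXx : Subgroup.zpowers x = X := Subgroup.eq_of_le_of_card_ge (Subgroup.zpowers_le.mpr hx)
    (by rw [hX, card_zpowers_of_ea hE (hXE hx) hx1])
  obtain ⟨c', d, hcd⟩ := hcoord x (hXE hx)
  have hd : ¬ (p : ℤ) ∣ d := by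
    rintro ⟨s, rfl⟩
    refine hXz ?_
    rw [← hXx]
    refine Subgroup.eq_of_le_of_card_ge (Subgroup.zpowers_le.mpr ?_)
      (by rw [card_zpowers_of_ea hE hz hz1, card_zpowers_of_ea hE (hXE hx) hx1])
    rw [hcd, zpow_mul, zpow_natCast, hep, one_zpow, mul_one]
    exact zpow_mem (Subgroup.mem_zpowers z) c'
  -- solve `a * i * d ≡ c'`
  obtain ⟨i, hi⟩ : ∃ i : ℕ, (p : ℤ) ∣ a * i * d - c' := by
    refine ⟨(((c' : ZMod p) * ((a : ZMod p) * (d : ZMod p))⁻¹)).val, ?_⟩
    have hne : (a : ZMod p) * (d : ZMod p) ≠ 0 := mul_ne_zero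
      (fun h => hza ((ZMod.intCast_zmod_eq_zero_iff_dvd a p).mp h)) (fun h => hd ((ZMod.intCast_zmod_eq_zero_iff_dvd d p).mp h))
    rw [← ZMod.intCast_zmod_eq_zero_iff_dvd]
    push_cast
    rw [ZMod.natCast_zmod_val]
    have ha0 := left_ne_zero_of_mul hne
    have hd0 := right_ne_zero_of_mul hne
    field_simp
    simp
  refine ⟨i, ?_⟩
  rw [MonoidHom.map_zpowers]
  change Subgroup.zpowers (y ^ i * e * (y ^ i)⁻¹) = X
  rw [hiter2]
  refine (Subgroup.eq_of_le_of_card_ge ?_ ?_).symm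
  · rw [← hXx, Subgroup.zpowers_le]
    refine ⟨d, ?_⟩
    have hce : Commute (z ^ (a * (i : ℤ))) e := (show Commute z e from ea_commute hE hz he).zpow_left _
    obtain ⟨s, hs⟩ := hi
    change (z ^ (a * (i : ℤ)) * e) ^ d = x
    rw [hcd, hce.mul_zpow, ← zpow_mul, show a * (i : ℤ) * d = (p : ℤ) * s + c' by omega, zpow_add, zpow_mul,
      zpow_natCast, hzp, one_zpow, one_mul]
  · rw [hX, card_zpowers_of_ea hE (mul_mem (zpow_mem hz _) he) fun h => hez ?_]
    refine Subgroup.eq_of_le_of_card_ge (Subgroup.zpowers_le.mpr ?_)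
      (by rw [card_zpowers_of_ea hE hz hz1, card_zpowers_of_ea hE he he1])
    rw [eq_inv_of_mul_eq_one_right h]
    exact inv_mem (zpow_mem (Subgroup.mem_zpowers z) _)

end Cfsg.Agent.OddLocal
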