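import Cfsg.Prelude.Def_OddOrderLocal
import Mathlib.GroupTheory.SpecificGroups.Cyclic
import Mathlib.GroupTheory.Complement
import Mathlib.GroupTheory.Index

/-! Elementary facts on complements inside a subgroup, cyclic groups and normalizers. -/

set_option autoImplicit false

namespace Cfsg.Agent.OddLocal

variable {G : Type*} [Group G]

/-- In a cyclic group, disjoint subgroups have coprime orders. -/
theorem coprime_card_of_disjoint_of_cyclic [Finite G] [IsCyclic G] {A B : Subgroup G}
    (h : A ⊓ B = ⊥) : (Nat.card A).Coprime (Nat.card B) := by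
  let _ : CommGroup G := IsCyclic.commGroup
  apply Nat.coprime_of_dvd
  intro p hp hA hB
  have : Fact p.Prime := ⟨hp⟩
  obtain ⟨a, ha⟩ := exists_prime_orderOf_dvd_card' p hA
  obtain ⟨b, hb⟩ := exists_prime_orderOf_dvd_card' p hB
  have ha' : orderOf (a : G) = p := by simpa using ha
  have hb' : orderOf (b : G) = p := by simpa using hb
  have hk : Nat.card (powMonoidHom p : G →* G).ker = p := by
    rw [IsCyclic.card_powMonoidHom_ker]
    exact Nat.gcd_eq_right ((ha'.symm ▸ orderOf_dvd_natCard (a : G)))
  have key : ∀ x : G, orderOf x = p → Subgroup.zpowers x = (powMonoidHom p : G →* G).ker := by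
    intro x hx
    apply Subgroup.eq_of_le_of_card_ge
    · rw [Subgroup.zpowers_le, MonoidHom.mem_ker, powMonoidHom_apply, ← hx, pow_orderOf_eq_one]
    · rw [hk, Nat.card_zpowers, hx]
  have hm : (a : G) ∈ A ⊓ B := by
    refine ⟨a.2, ?_⟩
    have : (a : G) ∈ Subgroup.zpowers (b : G) := by
      rw [key _ hb', ← key _ ha']; exact Subgroup.mem_zpowers _
    exact (Subgroup.zpowers_le.mpr b.2) this
  rw [h, Subgroup.mem_bot] at hm
  rw [hm, orderOf_one] at ha'
  exact hp.ne_one ha'.symm

/-- Disjoint subgroups of a cyclic subgroup have coprime orders. -/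
theorem coprime_card_of_disjoint_of_le_cyclic [Finite G] {A B W : Subgroup G} [IsCyclic W]
    (hA : A ≤ W) (hB : B ≤ W) (h : A ⊓ B = ⊥) : (Nat.card A).Coprime (Nat.card B) := by
  have := coprime_card_of_disjoint_of_cyclic (A := A.subgroupOf W) (B := B.subgroupOf W)
    (by
      rw [eq_bot_iff]
      intro x hx
      have : (x : G) ∈ A ⊓ B := hx
      rw [h, Subgroup.mem_bot] at this
      exact Subgroup.mem_bot.mpr (Subtype.ext this))
  rwa [Nat.card_congr (Subgroup.subgroupOfEquivOfLe hA).toEquiv,
    Nat.card_congr (Subgroup.subgroupOfEquivOfLe hB).toEquiv] at this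

theorem card_of_isComplIn [Finite G] {A B M : Subgroup G} (h : IsComplIn A B M) :
    Nat.card M = Nat.card A * Nat.card B := by
  obtain ⟨hA, hB, hi, hm⟩ := h
  rw [← Nat.card_prod]
  symm
  refine Nat.card_congr (Equiv.ofBijective (fun x : A × B => (⟨x.1 * x.2, M.mul_mem (hA x.1.2) (hB x.2.2)⟩ : M)) ⟨?_, ?_⟩)
  · intro x y hxy
    have h' : (x.1 : G) * x.2 = y.1 * y.2 := congrArg Subtype.val hxy
    exact Subgroup.mul_injective_of_disjoint (disjoint_iff.mpr hi) h'
  · intro m
    obtain ⟨a, ha, b, hb, he⟩ := hm m m.2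
    exact ⟨(⟨a, ha⟩, ⟨b, hb⟩), Subtype.ext he.symm⟩

theorem relIndex_left_of_isComplIn [Finite G] {A B M : Subgroup G} (h : IsComplIn A B M) :
    A.relIndex M = Nat.card B := by
  have h1 := Subgroup.card_mul_index (A.subgroupOf M)
  rw [Nat.card_congr (Subgroup.subgroupOfEquivOfLe h.1).toEquiv, card_of_isComplIn h] at h1
  exact Nat.eq_of_mul_eq_mul_left Nat.card_pos h1

theorem relIndex_right_of_isComplIn [Finite G] {A B M : Subgroup G} (h : IsComplIn A B M) :
    B.relIndex M = Nat.card A := by
  have h1 := Subgroup.card_mul_index (B.subgroupOf M)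
  rw [Nat.card_congr (Subgroup.subgroupOfEquivOfLe h.2.1).toEquiv, card_of_isComplIn h, mul_comm (Nat.card A)] at h1
  exact Nat.eq_of_mul_eq_mul_left Nat.card_pos h1

end Cfsg.Agent.OddLocal

namespace Cfsg.Agent.OddLocal

variable {G : Type*} [Group G]

/-- The join of normal subgroups of order coprime to their index has order coprime to its index. -/
theorem hall_sup_of_normal [Finite G] {N K : Subgroup G} [N.Normal] (hN : (Nat.card N).Coprime N.index)
    (hK : (Nat.card K).Coprime K.index) : (Nat.card ↥(N ⊔ K)).Coprime (N ⊔ K).index := by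
  apply Nat.coprime_of_dvd
  intro p hp h1 h2
  have hc : Nat.card ↥(N ⊔ K) ∣ Nat.card N * Nat.card K := by
    rw [← Subgroup.card_mul_index (N.subgroupOf (N ⊔ K)),
      Nat.card_congr (Subgroup.subgroupOfEquivOfLe le_sup_left).toEquiv]
    change Nat.card N * N.relIndex (N ⊔ K) ∣ _
    rw [sup_comm, Subgroup.relIndex_sup_right]
    exact mul_dvd_mul_left _ (Subgroup.relIndex_dvd_card N K)
  rcases hp.dvd_mul.mp (h1.trans hc) with h | h
  · exact Nat.not_coprime_of_dvd_of_dvd hp.one_lt h (h2.trans (Subgroup.index_dvd_of_le le_sup_left)) hN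
  · exact Nat.not_coprime_of_dvd_of_dvd hp.one_lt h (h2.trans (Subgroup.index_dvd_of_le le_sup_right)) hK

theorem fittingHall_hall (M : Type*) [Group M] [Finite M] :
    (Nat.card (fittingHall M)).Coprime (fittingHall M).index := by
  let S : Set (Subgroup M) := {N | N.Normal ∧ Group.IsNilpotent N ∧ (Nat.card N).Coprime N.index}
  suffices ∀ T : Set (Subgroup M), T ⊆ S →
      (sSup T).Normal ∧ (Nat.card ↥(sSup T)).Coprime (sSup T).index from (this S le_rfl).2
  intro T
  induction T, Set.toFinite T using Set.Finite.induction_on with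
  | empty => intro _; rw [sSup_empty]; exact ⟨inferInstance, by simp⟩
  | insert _ _ ih =>
    intro h
    obtain ⟨hn, hc⟩ := ih ((Set.subset_insert _ _).trans h)
    obtain ⟨an, -, ac⟩ := h (Set.mem_insert _ _)
    rw [sSup_insert]
    exact ⟨Subgroup.sup_normal _ _, hall_sup_of_normal ac hc⟩

theorem fittingHallOf_le (M : Subgroup G) : fittingHallOf M ≤ M := Subgroup.map_subtype_le _

theorem le_normalizer_fittingHallOf (M : Subgroup G) :
    M ≤ Subgroup.normalizer (fittingHallOf M : Set G) := by
  have h := Subgroup.le_normalizer_map (H := fittingHall ↥M) M.subtype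
  rwa [Subgroup.normalizer_eq_top, ← MonoidHom.range_eq_map, Subgroup.range_subtype] at h

theorem fittingHallOf_hall [Finite G] (M : Subgroup G) :
    (Nat.card (fittingHallOf M)).Coprime ((fittingHallOf M).relIndex M) := by
  have h := fittingHall_hall ↥M
  have e : (fittingHallOf M).relIndex M = (fittingHall ↥M).index := by
    rw [Subgroup.relIndex, fittingHallOf, ← Subgroup.comap_subtype,
      Subgroup.comap_map_eq_self_of_injective M.subtype_injective]
  rwa [e, fittingHallOf,
    ← Nat.card_congr (Subgroup.equivMapOfInjective (fittingHall ↥M) M.subtype M.subtype_injective).toEquiv]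

/-- If `x` commutes with `h`, centralizes `H ∋ h`, and `x⁻¹h` has order prime to that of `h`, then `h⁻¹x`
centralizes `H`. -/
theorem left_factor_mem_centralizer [Finite G] {H U : Subgroup G} {h u x : G} (hh : h ∈ H) (hu : u ∈ U)
    (he : x = h * u) (hx : x ∈ Subgroup.centralizer (H : Set G))
    (hcop : (Nat.card H).Coprime (Nat.card U)) : u ∈ Subgroup.centralizer (H : Set G) := by
  have hc : Commute x h := (Subgroup.mem_centralizer_iff.mp hx h hh).symm
  have hu' : u = h⁻¹ * x := by rw [he, inv_mul_cancel_left]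
  have h1 : u ^ Nat.card U = 1 := congrArg Subtype.val (pow_card_eq_one' (G := U) (x := ⟨u, hu⟩))
  rw [hu', (hc.symm.inv_left).mul_pow, inv_pow, inv_mul_eq_one] at h1
  have hcU : (orderOf h).Coprime (Nat.card U) := by
    refine hcop.coprime_dvd_left ?_
    have := orderOf_dvd_natCard (⟨h, hh⟩ : H)
    rwa [Subgroup.orderOf_mk] at this
  obtain ⟨m, hm⟩ := exists_pow_eq_self_of_coprime hcU.symm
  have hhC : h ∈ Subgroup.centralizer (H : Set G) := by
    rw [← hm, h1]; exact pow_mem (pow_mem hx _) _
  rw [hu']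
  exact mul_mem (inv_mem hhC) hx

theorem le_normalizer_centralizer {A M : Subgroup G} (h : M ≤ Subgroup.normalizer (A : Set G)) :
    M ≤ Subgroup.normalizer (Subgroup.centralizer (A : Set G) : Set G) := by
  intro m hm
  have key : ∀ m ∈ Subgroup.normalizer (A : Set G), ∀ c ∈ Subgroup.centralizer (A : Set G),
      m * c * m⁻¹ ∈ Subgroup.centralizer (A : Set G) := by
    intro m hm c hc
    rw [Subgroup.mem_centralizer_iff] at hc ⊢
    intro a ha
    have ha' : m⁻¹ * a * m ∈ A := (Subgroup.mem_normalizer_iff''.mp hm a).mp ha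
    have := hc _ ha'
    calc a * (m * c * m⁻¹) = m * ((m⁻¹ * a * m) * c) * m⁻¹ := by group
      _ = m * (c * (m⁻¹ * a * m)) * m⁻¹ := by rw [this]
      _ = (m * c * m⁻¹) * a := by group
  rw [Subgroup.mem_normalizer_iff]
  intro c
  refine ⟨key m (h hm) c, fun hc => ?_⟩
  have := key m⁻¹ (inv_mem (h hm)) _ hc
  simpa [mul_assoc] using this

end Cfsg.Agent.OddLocal
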