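import Cfsg.Agent.S1442
import Cfsg.Agent.Lib.OddLocal.FitFacts
import Cfsg.Agent.Lib.OddLocal.PAction
import Cfsg.Agent.Lib.ClassK.AxB
import Cfsg.Agent.Lib.Components.Signalizer
import Cfsg.Agent.Lib.Components.PLocal2
import Cfsg.Agent.Lib.Coprime23.PiSubnormal

/-! Bender's lemma: coprime invariant subgroups for a self-centralizing subgroup of the Fitting subgroup of a
maximal local subgroup. -/

set_option autoImplicit false
set_option maxHeartbeats 1000000

namespace Cfsg.Agent.OddLocal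

open Cfsg
open scoped commutatorElement

variable {G : Type*} [Group G] [Finite G]

theorem piCore_quotient_eq_bot (π : Set ℕ) {X : Type*} [Group X] [Finite X] :
    piCore π (X ⧸ piCore π X) = ⊥ := by
  set N := (piCore π (X ⧸ piCore π X)).comap (QuotientGroup.mk' (piCore π X)) with hN
  have h : N ≤ piCore π X := by
    refine le_sSup ⟨Subgroup.Normal.comap inferInstance _, fun r hr hd => ?_⟩
    rw [hN, Basics.card_comap_mk'] at hd
    rcases hr.dvd_mul.mp hd with h | h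
    · first | exact piCore_primes π hr h
    · first | exact piCore_primes π hr h
  rw [← Subgroup.map_comap_eq_self_of_surjective (QuotientGroup.mk'_surjective (piCore π X))
    (piCore π (X ⧸ piCore π X)), ← hN]
  rwa [Subgroup.map_eq_bot_iff, QuotientGroup.ker_mk']

/-- A solvable subgroup normalized by `C_H(F(H))` meets it inside `F(H)`. -/
theorem inf_centralizer_le_fitting {H S : Subgroup G} (hS : Group.IsSolvable S)
    (hXS : H ⊓ Subgroup.centralizer (Cfsg.fittingOf H : Set G) ≤ Subgroup.normalizer (S : Set G)) :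
    S ⊓ (H ⊓ Subgroup.centralizer (Cfsg.fittingOf H : Set G)) ≤ Cfsg.fittingOf H := by
  set X := H ⊓ Subgroup.centralizer (Cfsg.fittingOf H : Set G) with hX
  have hHX : H ≤ Subgroup.normalizer (X : Set G) := by
    intro g hg
    have h2 := Components.normalizer_le_normalizer_centralizer _ (le_normalizer_fittingOf H hg)
    refine Subgroup.mem_normalizer_iff.mpr fun x => ?_
    simp only [hX, Subgroup.mem_inf]
    rw [← Subgroup.mem_normalizer_iff.mp (Subgroup.le_normalizer hg) x, ← Subgroup.mem_normalizer_iff.mp h2 x]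
  obtain ⟨N, hSN, ⟨hNX, hNs, hXN⟩, hmax⟩ := Finite.exists_le_maximal
    (p := fun N : Subgroup G => N ≤ X ∧ Group.IsSolvable N ∧ X ≤ Subgroup.normalizer (N : Set G))
    (a := S ⊓ X) ⟨inf_le_right, Basics.isSolvable_of_le inf_le_left hS, fun g hg => by
      refine Subgroup.mem_normalizer_iff.mpr fun x => ?_
      simp only [Subgroup.mem_inf]
      rw [← Subgroup.mem_normalizer_iff.mp (hXS hg) x, ← Subgroup.mem_normalizer_iff.mp (Subgroup.le_normalizer hg) x]⟩
  have hHN : H ≤ Subgroup.normalizer (N : Set G) := by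
    intro g hg
    have hgX : X.map (MulAut.conj g).toMonoidHom = X := Subgroup.mem_normalizer_iff_map_conj_eq.mp (hHX hg)
    set N' := N.map (MulAut.conj g).toMonoidHom with hN'
    have h1 : N' ≤ X := (Subgroup.map_mono hNX).trans hgX.le
    have h2 : X ≤ Subgroup.normalizer (N' : Set G) :=
      le_trans (hgX.ge.trans (Subgroup.map_mono hXN)) (Subgroup.le_normalizer_map _)
    have h3 : Group.IsSolvable N' := Basics.isSolvable_map _ hNs
    have h4 := hmax (y := N ⊔ N') ⟨sup_le hNX h1, Components.isSolvable_sup (h1.trans hXN) hNs h3, fun x hx => by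
      rw [Subgroup.mem_normalizer_iff_map_conj_eq]
      change (N ⊔ N').map (MulAut.conj x).toMonoidHom = N ⊔ N'
      rw [Subgroup.map_sup]
      exact congrArg₂ (· ⊔ ·) (Subgroup.mem_normalizer_iff_map_conj_eq.mp (hXN hx))
        (Subgroup.mem_normalizer_iff_map_conj_eq.mp (h2 hx))⟩ le_sup_left
    rw [Subgroup.mem_normalizer_iff_map_conj_eq]
    exact Subgroup.eq_of_le_of_card_ge (le_sup_right.trans h4)
      (Subgroup.card_map_of_injective (MulEquiv.injective _)).ge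
  refine hSN.trans ?_
  have hNH : N ≤ H := hNX.trans inf_le_left
  haveI hn : (N.subgroupOf H).Normal := (Subgroup.normal_subgroupOf_iff_le_normalizer hNH).mpr hHN
  haveI hs : Group.IsSolvable (N.subgroupOf H) := Basics.isSolvable_subgroupOf hNH hNs
  set M := N.subgroupOf H with hM
  have hle : (Cfsg.fittingSubgroup M).map M.subtype ≤ Cfsg.fittingSubgroup H := by
    haveI : Group.IsNilpotent ((Cfsg.fittingSubgroup M).map M.subtype : Subgroup H) :=
      Group.nilpotent_of_surjective (M.subtype.subgroupMap (Cfsg.fittingSubgroup M)) (M.subtype.subgroupMap_surjective _)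
    exact Basics.le_fittingSubgroup this
  have htop : (⊤ : Subgroup M) ≤ Cfsg.fittingSubgroup M := by
    refine le_trans ?_ Basics.centralizer_fittingSubgroup_le
    intro x _
    refine Subgroup.mem_centralizer_iff.mpr fun y hy => Subtype.ext (Subtype.ext ?_)
    exact Subgroup.mem_centralizer_iff.mp (hNX x.2).2 _ ⟨(y : H), hle ⟨y, hy, rfl⟩, rfl⟩
  intro x hx
  exact ⟨⟨x, hNH hx⟩, hle ⟨⟨⟨x, hNH hx⟩, hx⟩, htop trivial, rfl⟩, rfl⟩

variable {H M R : Subgroup G}

theorem coreP_ne_bot_of_dvd {H : Subgroup G} {s : ℕ} [Fact s.Prime] (hd : s ∣ Nat.card (Cfsg.fittingOf H)) :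
    coreP s H ≠ ⊥ := by
  intro h
  obtain ⟨x, hx⟩ := exists_prime_orderOf_dvd_card' (G := Cfsg.fittingOf H) s hd
  have h1 : (x : G) ∈ coreP s H := mem_coreP_of_mem_fittingOf x.2 ⟨1, by
    have := pow_orderOf_eq_one (x : G)
    rw [Subgroup.orderOf_coe, hx] at this
    rw [pow_one]; exact this⟩
  rw [h, Subgroup.mem_bot] at h1
  exact (Fact.out : s.Prime).one_lt.ne (by rw [← hx, ← Subgroup.orderOf_coe, h1, orderOf_one])

/-- The centre of a core of a maximal local subgroup. -/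
theorem coreCentre_facts (hH : Cfsg.IsLocalSubgroup H)
    (hHmax : ∀ L : Subgroup G, Cfsg.IsLocalSubgroup L → H ≤ L → L = H) {s : ℕ} [hs : Fact s.Prime]
    (hd : s ∣ Nat.card (Cfsg.fittingOf H)) :
    let Zs : Subgroup G := coreP s H ⊓ Subgroup.centralizer (coreP s H : Set G)
    IsPGroup s Zs ∧ H ≤ Subgroup.normalizer (Zs : Set G) ∧ Subgroup.centralizer (Zs : Set G) ≤ H ∧
      Zs ≤ Cfsg.fittingOf H ⊓ Subgroup.centralizer (Cfsg.fittingOf H : Set G) := by
  intro Zs
  have hne : Zs ≠ ⊥ := by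
    intro h
    haveI : Nontrivial (coreP s H) := (Subgroup.nontrivial_iff_ne_bot _).mpr (coreP_ne_bot_of_dvd hd)
    haveI := (isPGroup_coreP s H).center_nontrivial
    obtain ⟨z, hz⟩ := exists_ne (1 : Subgroup.center (coreP s H))
    have : ((z : coreP s H) : G) ∈ Zs :=
      Subgroup.mem_inf.mpr ⟨(z : coreP s H).2, Subgroup.mem_centralizer_iff.mpr fun w hw =>
        congrArg Subtype.val (Subgroup.mem_center_iff.mp z.2 ⟨w, hw⟩)⟩
    rw [h, Subgroup.mem_bot] at this
    exact hz (Subtype.ext (Subtype.ext this))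
  have hp : IsPGroup s Zs := (isPGroup_coreP s H).to_le inf_le_left
  have hn : H ≤ Subgroup.normalizer (Zs : Set G) := by
    intro g hg
    have h1 := le_normalizer_coreP s H hg
    have h2 := Components.normalizer_le_normalizer_centralizer _ h1
    refine Subgroup.mem_normalizer_iff.mpr fun x => ?_
    simp only [Zs, Subgroup.mem_inf]
    rw [← Subgroup.mem_normalizer_iff.mp h1 x, ← Subgroup.mem_normalizer_iff.mp h2 x]
  refine ⟨hp, hn, ?_, fun z hz => Subgroup.mem_inf.mpr ⟨coreP_le_fittingOf s H hz.1,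
      mem_centralizer_fittingOf fun r hr f hf => ?_⟩⟩
  · have heq := hHmax _ ⟨s, Zs, hs.out, hp, hne, rfl⟩ hn
    exact (Subgroup.centralizer_le_normalizer _).trans heq.le
  · haveI := Fact.mk hr
    by_cases hrs : r = s
    · subst hrs; exact (Subgroup.mem_centralizer_iff.mp hz.2 f hf).symm
    · exact (commute_coreP hrs hf hz.1).symm

theorem coprime_of_primesNotDvd_fitting {Y B : Subgroup G} (hB : B ≤ Cfsg.fittingOf H)
    (hY : ∀ r : ℕ, r.Prime → r ∣ Nat.card Y → r ∈ Cfsg.primesNotDvd (Nat.card (Cfsg.fittingOf H))) :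
    (Nat.card B).Coprime (Nat.card Y) :=
  Nat.coprime_of_dvd fun r hr h1 h2 => (hY r hr h2).2 (h1.trans (Subgroup.card_dvd_of_le hB))

/-- A coprime element centralizing `M` is trivial. -/
theorem eq_one_of_centralizes (hM : M ≤ Cfsg.fittingOf H)
    (hCM : Cfsg.fittingOf H ⊓ Subgroup.centralizer (M : Set G) ≤ M)
    (hR : Group.IsSolvable R)
    (hXR : H ⊓ Subgroup.centralizer (Cfsg.fittingOf H : Set G) ≤ Subgroup.normalizer (R : Set G))
    {Y : Subgroup G} (hYR : Y ≤ R)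
    (hY : ∀ r : ℕ, r.Prime → r ∣ Nat.card Y → r ∈ Cfsg.primesNotDvd (Nat.card (Cfsg.fittingOf H)))
    {x : G} (hx : x ∈ Y) (hxH : x ∈ H) (hxM : x ∈ Subgroup.centralizer (M : Set G)) : x = 1 := by
  have hz : Subgroup.zpowers x ≤ Y := Subgroup.zpowers_le.mpr hx
  have hcop : (Nat.card (Subgroup.zpowers x)).Coprime (Nat.card (Cfsg.fittingOf H)) :=
    ((coprime_of_primesNotDvd_fitting le_rfl hY).coprime_dvd_right (Subgroup.card_dvd_of_le hz)).symm
  have hMC : M ≤ Cfsg.fittingOf H ⊓ Subgroup.centralizer (Subgroup.zpowers x : Set G) :=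
    le_inf hM (Subgroup.le_centralizer_iff.mp (Subgroup.zpowers_le.mpr hxM))
  have hxF := S1442.result (Cfsg.fittingOf H) (Subgroup.zpowers x) (isNilpotent_fittingOf H)
    (Subgroup.zpowers_le.mpr (le_normalizer_fittingOf H hxH)) hcop
    ((inf_le_inf_left _ (Subgroup.centralizer_le (SetLike.coe_subset_coe.mpr hMC))).trans (hCM.trans hMC))
  have hxF' := inf_centralizer_le_fitting hR hXR
    (Subgroup.mem_inf.mpr ⟨hYR hx, Subgroup.mem_inf.mpr ⟨hxH, hxF (Subgroup.mem_zpowers x)⟩⟩)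
  exact Subgroup.mem_bot.mp ((Subgroup.disjoint_of_coprime_natCard
    (coprime_of_primesNotDvd_fitting le_rfl hY)).eq_bot ▸ Subgroup.mem_inf.mpr ⟨hxF', hx⟩)

theorem invariant_le_piCoreOf (hH : Cfsg.IsLocalSubgroup H)
    (hHmax : ∀ L : Subgroup G, Cfsg.IsLocalSubgroup L → H ≤ L → L = H)
    (hF2 : 2 ≤ (Nat.card (Cfsg.fittingOf H)).primeFactors.card)
    (hM : M ≤ Cfsg.fittingOf H) (hCM : Cfsg.fittingOf H ⊓ Subgroup.centralizer (M : Set G) ≤ M)
    (hR : Group.IsSolvable R) (hMR : M ≤ Subgroup.normalizer (R : Set G))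
    (hXR : H ⊓ Subgroup.centralizer (Cfsg.fittingOf H : Set G) ≤ Subgroup.normalizer (R : Set G))
    {q : ℕ} [hq : Fact q.Prime] (hqn : ¬ q ∣ Nat.card (Cfsg.fittingOf H))
    {Q : Subgroup G} (hQR : Q ≤ R) (hQ : IsPGroup q Q) (hMQ : M ≤ Subgroup.normalizer (Q : Set G)) :
    Q ≤ Cfsg.piCoreOf (Cfsg.primesNotDvd (Nat.card (Cfsg.fittingOf H))) R := by
  set π' := Cfsg.primesNotDvd (Nat.card (Cfsg.fittingOf H)) with hπ'
  set F := Cfsg.fittingOf H with hF
  have hQπ : ∀ r : ℕ, r.Prime → r ∣ Nat.card Q → r ∈ π' := by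
    intro r hr hd
    obtain ⟨n, hn⟩ := hQ.exists_card_eq
    rw [(Nat.prime_dvd_prime_iff_eq hr hq.out).mp (hr.dvd_of_dvd_pow (hn ▸ hd))]
    exact ⟨hq.out, hqn⟩
  have hZM : F ⊓ Subgroup.centralizer (F : Set G) ≤ M :=
    (inf_le_inf_left _ (Subgroup.centralizer_le (SetLike.coe_subset_coe.mpr hM))).trans hCM
  haveI := hR
  set Kr := Cfsg.piCore π' R with hKr
  set K := Cfsg.piCoreOf π' R with hK
  have main : ∀ (p : ℕ) [Fact p.Prime], p ∣ Nat.card F → ∀ x ∈ Q, ∀ u : R,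
      QuotientGroup.mk' Kr u ∈ Cfsg.pCore p (R ⧸ Kr) → x * (u : G) * x⁻¹ * (u : G)⁻¹ ∈ K := by
    intro p hp hpd
    obtain ⟨r, hr, hrp⟩ := Finset.exists_mem_ne (s := (Nat.card F).primeFactors) (by omega) p
    have hrd := Nat.dvd_of_mem_primeFactors hr
    haveI hrf : Fact r.Prime := ⟨Nat.prime_of_mem_primeFactors hr⟩
    obtain ⟨hpp, hpn, hpC, hpF⟩ := coreCentre_facts hH hHmax hpd
    obtain ⟨hrp', hrn, hrC, hrF⟩ := coreCentre_facts hH hHmax hrd
    set Zp := coreP p H ⊓ Subgroup.centralizer (coreP p H : Set G) with hZp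
    set Zr := coreP r H ⊓ Subgroup.centralizer (coreP r H : Set G) with hZr
    have hZpM : Zp ≤ M := hpF.trans hZM
    have hZrM : Zr ≤ M := hrF.trans hZM
    -- the preimage of the core of the quotient
    set Ur := (Cfsg.pCore p (R ⧸ Kr)).comap (QuotientGroup.mk' Kr) with hUr
    set U := Ur.map R.subtype with hU
    have hUK : K ≤ U := Subgroup.map_mono ((QuotientGroup.ker_mk' Kr).ge.trans (Subgroup.ker_le_comap _ _))
    have hUR : U ≤ R := Subgroup.map_subtype_le _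
    have hNU : Subgroup.normalizer (R : Set G) ≤ Subgroup.normalizer (U : Set G) := by
      intro g hg
      rw [Subgroup.mem_normalizer_iff_map_conj_eq]
      refine Subgroup.eq_of_le_of_card_ge ?_ (Subgroup.card_map_of_injective (MulEquiv.injective _)).ge
      rintro _ ⟨_, ⟨y, hy, rfl⟩, rfl⟩
      let φ : MulAut R := R.normalizerMonoidHom ⟨g, hg⟩
      have hφK : Kr.map φ.toMonoidHom = Kr := Subgroup.characteristic_iff_map_eq.mp inferInstance φ
      refine ⟨φ y, ?_, rfl⟩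
      change QuotientGroup.mk' Kr (φ y) ∈ Cfsg.pCore p (R ⧸ Kr)
      have h2 : (Cfsg.pCore p (R ⧸ Kr)).map (QuotientGroup.congr Kr Kr φ hφK).toMonoidHom = Cfsg.pCore p (R ⧸ Kr) :=
        Subgroup.characteristic_iff_map_eq.mp inferInstance _
      rw [← h2]
      exact ⟨QuotientGroup.mk' Kr y, hy, rfl⟩
    set Γ := Subgroup.normalizer (K : Set G) ⊓ Subgroup.normalizer (U : Set G) with hΓ
    have hRΓ : Subgroup.normalizer (R : Set G) ≤ Γ := le_inf (normalizer_le_normalizer_piCoreOf π' R) hNU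
    have hRle : R ≤ Γ := Subgroup.le_normalizer.trans hRΓ
    haveI hKn : (K.subgroupOf Γ).Normal :=
      (Subgroup.normal_subgroupOf_iff_le_normalizer ((hUK.trans hUR).trans hRle)).mpr inf_le_left
    let f := QuotientGroup.mk' (K.subgroupOf Γ)
    set P := (U.subgroupOf Γ).map f with hP
    have hPp : IsPGroup p P := by
      rintro ⟨_, ⟨v, hv, rfl⟩⟩
      obtain ⟨y, hy, hyv⟩ := hv
      obtain ⟨k, hk⟩ := Basics.pCore_isPGroup (G := R ⧸ Kr) p ⟨_, hy⟩
      refine ⟨k, Subtype.ext ?_⟩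
      have h1 : y ^ p ^ k ∈ Kr := by
        rw [← QuotientGroup.eq_one_iff]
        exact congrArg Subtype.val hk
      change f v ^ p ^ k = 1
      rw [← map_pow]
      refine (QuotientGroup.eq_one_iff _).mpr ?_
      change (v : G) ^ p ^ k ∈ K
      have hyv' : (y : G) = (v : G) := hyv
      rw [← hyv', ← Subgroup.coe_pow]
      exact ⟨_, h1, rfl⟩
    haveI hPn : P.Normal := Subgroup.Normal.map
      ((Subgroup.normal_subgroupOf_iff_le_normalizer (hUR.trans hRle)).mpr inf_le_right) f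
      (QuotientGroup.mk'_surjective _)
    have hMΓ : M ≤ Γ := hMR.trans hRΓ
    set Zb := (Zp.subgroupOf Γ).map f with hZb
    have hZbp : IsPGroup p Zb := ((hpp.comap_subtype (K := Γ))).map f
    have hKp : (Nat.card Zp).Coprime (Nat.card K) :=
      coprime_of_primesNotDvd_fitting (hpF.trans inf_le_left) fun l hl hd => piCoreOf_primes π' R hl hd
    -- `Zr` centralizes the section
    have hz : ∀ z : Γ, (z : G) ∈ Zr → ∀ a ∈ P, Commute (f z) a := by
      intro z hzZ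
      refine ClassK.axb_lemma (p := p) (U := Zb) hZbp hPp
        (by rw [Subgroup.normalizer_eq_top]; exact le_top)
        (by rw [Subgroup.normalizer_eq_top]; trivial) ?_ ?_ ?_
      · obtain ⟨k, hk⟩ := hrp' ⟨z, hzZ⟩
        have hzk : z ^ r ^ k = 1 := Subtype.ext (by simpa using congrArg Subtype.val hk)
        exact (((Nat.coprime_primes hrf.out hp.out).mpr hrp).pow_left k).coprime_dvd_left
          (orderOf_dvd_of_pow_eq_one (by rw [← map_pow, hzk, map_one]))
      · rintro _ ⟨u, hu, rfl⟩ a _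
        have hzu : Commute z u := Subtype.ext (commute_coreP hrp hzZ.1 hu.1).eq
        rw [(hzu.map f).eq, mul_inv_cancel_right, mul_inv_cancel]
        exact Commute.one_left a
      · rintro _ ⟨v, hv, rfl⟩ hav
        have hvR : (v : G) ∈ R := hUR hv
        obtain ⟨c, hc, hcK⟩ := Basics.exists_centralizer_mem_coset Zp K
          (hZpM.trans (hMΓ.trans inf_le_left)) hKp
          (Or.inl (Basics.isSolvable_of_le (hpF.trans inf_le_left) (haveI := isNilpotent_fittingOf H; inferInstance)))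
          (v : G) v.2.1 (fun a ha => by
            have h1 : a * (v : G) * a⁻¹ * (v : G)⁻¹ = (((⟨a, hMΓ (hZpM ha)⟩ : Γ) * v * (⟨a, hMΓ (hZpM ha)⟩ : Γ)⁻¹ * v⁻¹ : Γ) : G) := rfl
            have h2 : f ((⟨a, hMΓ (hZpM ha)⟩ : Γ) * v * (⟨a, hMΓ (hZpM ha)⟩ : Γ)⁻¹ * v⁻¹) = 1 := by
              rw [map_mul, map_mul, map_mul, map_inv, map_inv,
                (hav (f ⟨a, hMΓ (hZpM ha)⟩) ⟨_, ha, rfl⟩).eq, mul_inv_cancel_right, mul_inv_cancel]
            rw [h1]
            exact Subgroup.mem_subgroupOf.mp ((QuotientGroup.eq_one_iff (N := K.subgroupOf Γ) _).mp h2))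
        have hcU : c ∈ U := by
          rw [show c = (v : G) * ((v : G)⁻¹ * c) by group]
          exact mul_mem hv (hUK hcK)
        have hcH : c ∈ H := hpC hc
        -- `[z, c]` lies in `Zr ∩ U = 1`
        have hcz : (z : G) * c * (z : G)⁻¹ * c⁻¹ = 1 := by
          have h1 : (z : G) * c * (z : G)⁻¹ * c⁻¹ ∈ U :=
            mul_mem ((Subgroup.mem_normalizer_iff.mp z.2.2 c).mp hcU) (inv_mem hcU)
          have h2 : (z : G) * c * (z : G)⁻¹ * c⁻¹ ∈ Zr := by
            rw [show (z : G) * c * (z : G)⁻¹ * c⁻¹ = (z : G) * (c * (z : G)⁻¹ * c⁻¹) by group]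
            exact mul_mem hzZ ((Subgroup.mem_normalizer_iff.mp (hrn hcH) _).mp (inv_mem hzZ))
          obtain ⟨y, hy, hy'⟩ := h1
          obtain ⟨k, hk⟩ := Basics.pCore_isPGroup (G := R ⧸ Kr) p ⟨_, hy⟩
          have h3 : y ^ p ^ k ∈ Kr := by
            rw [← QuotientGroup.eq_one_iff]
            exact congrArg Subtype.val hk
          have h4 : ((z : G) * c * (z : G)⁻¹ * c⁻¹) ^ p ^ k ∈ K := by
            rw [← hy']; exact ⟨_, h3, rfl⟩
          have h5 : ((z : G) * c * (z : G)⁻¹ * c⁻¹) ^ p ^ k = 1 := Subgroup.mem_bot.mp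
            ((Subgroup.disjoint_of_coprime_natCard (coprime_of_primesNotDvd_fitting (hrF.trans inf_le_left)
              fun l hl hd => piCoreOf_primes π' R hl hd)).eq_bot ▸
              Subgroup.mem_inf.mpr ⟨pow_mem h2 _, h4⟩)
          exact Subgroup.mem_bot.mp ((IsPGroup.disjoint_of_ne r p hrp _ _ hrp'
            (IsPGroup.of_card_dvd_pow (n := k) (by rw [Nat.card_zpowers]; exact orderOf_dvd_of_pow_eq_one h5))).eq_bot ▸
              Subgroup.mem_inf.mpr ⟨h2, Subgroup.mem_zpowers _⟩)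
        have hcΓ : c ∈ Γ := hRle (hUR hcU)
        have hcv : f ⟨c, hcΓ⟩ = f v := by
          refine (QuotientGroup.eq.mpr ?_).symm
          exact hcK
        rw [← hcv]
        exact Commute.map (x := z) (y := ⟨c, hcΓ⟩)
          (Subtype.ext (mul_inv_eq_iff_eq_mul.mp (mul_inv_eq_one.mp hcz))) f
    -- `Q = [Q, Zr]` centralizes the section
    have hQfix : Q ⊓ Subgroup.centralizer (Zr : Set G) = ⊥ := by
      refine eq_bot_iff.mpr fun x hx => Subgroup.mem_bot.mpr ?_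
      have hxH : x ∈ H := hrC hx.2
      refine eq_one_of_centralizes hM hCM hR hXR hQR hQπ hx.1 hxH (Subgroup.mem_centralizer_iff.mpr fun m hm => ?_)
      have h1 : m * x * m⁻¹ * x⁻¹ ∈ Q := mul_mem ((Subgroup.mem_normalizer_iff.mp (hMQ hm) x).mp hx.1) (inv_mem hx.1)
      have h2 : m * x * m⁻¹ * x⁻¹ ∈ F := by
        rw [show m * x * m⁻¹ * x⁻¹ = m * (x * m⁻¹ * x⁻¹) by group]
        exact mul_mem (hM hm) ((Subgroup.mem_normalizer_iff.mp (le_normalizer_fittingOf H hxH) _).mp (inv_mem (hM hm)))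
      have h3 : m * x * m⁻¹ * x⁻¹ = 1 := Subgroup.mem_bot.mp
        ((Subgroup.disjoint_of_coprime_natCard (coprime_of_primesNotDvd_fitting le_rfl hQπ)).eq_bot ▸
          Subgroup.mem_inf.mpr ⟨h2, h1⟩)
      exact mul_inv_eq_iff_eq_mul.mp (mul_inv_eq_one.mp h3)
    have hQ' : ⁅Q, Zr⁆ = Q := by
      have h := Basics.commutator_sup_inf_centralizer Zr Q (hZrM.trans hMQ)
        (coprime_of_primesNotDvd_fitting (hrF.trans inf_le_left) hQπ)
        (Or.inr (haveI := hQ.isNilpotent; inferInstance))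
      rwa [hQfix, sup_bot_eq] at h
    let D := ((Subgroup.centralizer (P : Set (Γ ⧸ K.subgroupOf Γ))).comap f).map Γ.subtype
    have hQD : Q ≤ D := by
      rw [← hQ']
      refine Subgroup.commutator_le.mpr fun x hx z hz' => ?_
      refine ⟨⁅(⟨x, hRle (hQR hx)⟩ : Γ), (⟨z, hMΓ (hZrM hz')⟩ : Γ)⁆, ?_, rfl⟩
      have hzc : f ⟨z, hMΓ (hZrM hz')⟩ ∈ Subgroup.centralizer (P : Set (Γ ⧸ K.subgroupOf Γ)) :=
        Subgroup.mem_centralizer_iff.mpr fun a ha => (hz _ hz' a ha).eq.symm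
      refine Subgroup.mem_comap.mpr ?_
      rw [map_commutatorElement, commutatorElement_def]
      exact mul_mem ((Subgroup.Normal.conj_mem inferInstance _ hzc _)) (inv_mem hzc)
    intro x hx u hu
    obtain ⟨w, hw, rfl⟩ := hQD hx
    have huΓ : (u : G) ∈ Γ := hRle u.2
    have h1 := Subgroup.mem_centralizer_iff.mp hw (f ⟨u, huΓ⟩) ⟨_, ⟨u, hu, rfl⟩, rfl⟩
    have h2 : f (w * ⟨u, huΓ⟩ * w⁻¹ * (⟨u, huΓ⟩ : Γ)⁻¹) = 1 := by
      rw [map_mul, map_mul, map_mul, map_inv, map_inv, ← h1, mul_inv_cancel_right, mul_inv_cancel]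
    exact Subgroup.mem_subgroupOf.mp ((QuotientGroup.eq_one_iff (N := K.subgroupOf Γ) _).mp h2)
  intro x hx
  refine ⟨⟨x, hQR hx⟩, ?_, rfl⟩
  let g := QuotientGroup.mk' Kr
  change (⟨x, hQR hx⟩ : R) ∈ Kr
  rw [← QuotientGroup.eq_one_iff]
  change g ⟨x, hQR hx⟩ = 1
  have hbot : Cfsg.piCore π' (R ⧸ Kr) = ⊥ := piCore_quotient_eq_bot π'
  have hnot : ∀ (p : ℕ) [Fact p.Prime], ¬ p ∣ Nat.card F → Cfsg.pCore p (R ⧸ Kr) = ⊥ := by
    intro p hp hnd
    refine le_bot_iff.mp (hbot ▸ le_sSup ⟨inferInstance, fun l hl hd => ?_⟩)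
    obtain ⟨n, hn⟩ := (Basics.pCore_isPGroup (G := R ⧸ Kr) p).exists_card_eq
    rw [(Nat.prime_dvd_prime_iff_eq hl hp.out).mp (hl.dvd_of_dvd_pow (hn ▸ hd))]
    exact ⟨hp.out, hnd⟩
  have hcent : g ⟨x, hQR hx⟩ ∈ Subgroup.centralizer (Cfsg.fittingSubgroup (R ⧸ Kr) : Set (R ⧸ Kr)) := by
    refine Subgroup.zpowers_le.mp ?_
    rw [Subgroup.le_centralizer_iff, Basics.fittingSubgroup_eq_iSup_pCore]
    refine iSup_le fun p => ?_
    haveI : Fact (p : ℕ).Prime := ⟨p.2⟩
    by_cases hpd : (p : ℕ) ∣ Nat.card F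
    swap
    · rw [hnot _ hpd]; exact bot_le
    rw [← Subgroup.le_centralizer_iff, Subgroup.zpowers_le, Subgroup.mem_centralizer_iff]
    intro a ha
    obtain ⟨u, rfl⟩ := QuotientGroup.mk'_surjective Kr a
    obtain ⟨v, hv, hv'⟩ := main p hpd x hx u ha
    have hv1 : v = ⟨x, hQR hx⟩ * u * (⟨x, hQR hx⟩ : R)⁻¹ * u⁻¹ := Subtype.ext hv'
    have h1 := (QuotientGroup.eq_one_iff v).mpr hv
    rw [hv1] at h1
    change g _ = 1 at h1
    rw [map_mul, map_mul, map_mul, map_inv, map_inv, mul_inv_eq_one] at h1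
    exact (mul_inv_eq_iff_eq_mul.mp h1).symm
  have hFπ : Cfsg.fittingSubgroup (R ⧸ Kr) ≤ Cfsg.piCore {l | l.Prime ∧ l ∣ Nat.card F} (R ⧸ Kr) := by
    rw [Basics.fittingSubgroup_eq_iSup_pCore]
    refine iSup_le fun p => ?_
    haveI : Fact (p : ℕ).Prime := ⟨p.2⟩
    by_cases hpd : (p : ℕ) ∣ Nat.card F
    · refine le_sSup ⟨inferInstance, fun l hl hd => ?_⟩
      obtain ⟨n, hn⟩ := (Basics.pCore_isPGroup (G := R ⧸ Kr) (p : ℕ)).exists_card_eq
      rw [(Nat.prime_dvd_prime_iff_eq hl p.2).mp (hl.dvd_of_dvd_pow (hn ▸ hd))]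
      exact ⟨p.2, hpd⟩
    · rw [hnot _ hpd]; exact bot_le
  have hmem := hFπ (Basics.centralizer_fittingSubgroup_le hcent)
  refine orderOf_eq_one_iff.mp (Nat.eq_one_iff_not_exists_prime_dvd.mpr fun l hl hd => ?_)
  have hl1 : l ∈ π' := by
    refine hQπ l hl (hd.trans ((orderOf_map_dvd g _).trans ?_))
    rw [← Subgroup.orderOf_coe]
    exact Subgroup.orderOf_dvd_natCard Q hx
  exact hl1.2 (piCore_primes _ hl (hd.trans (Subgroup.orderOf_dvd_natCard _ hmem))).2

theorem existsUnique_maxInv (hH : Cfsg.IsLocalSubgroup H)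
    (hHmax : ∀ L : Subgroup G, Cfsg.IsLocalSubgroup L → H ≤ L → L = H)
    (hF2 : 2 ≤ (Nat.card (Cfsg.fittingOf H)).primeFactors.card)
    (hM : M ≤ Cfsg.fittingOf H) (hCM : Cfsg.fittingOf H ⊓ Subgroup.centralizer (M : Set G) ≤ M)
    (hR : Group.IsSolvable R) (hMR : M ≤ Subgroup.normalizer (R : Set G))
    (hXR : H ⊓ Subgroup.centralizer (Cfsg.fittingOf H : Set G) ≤ Subgroup.normalizer (R : Set G))
    (q : ℕ) [hq : Fact q.Prime] (hqn : ¬ q ∣ Nat.card (Cfsg.fittingOf H)) :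
    ∃! Q : Subgroup G, Q ∈ Cfsg.maxInvSubgroups R M {q} ∧
      (∀ Q' : Subgroup G, Q' ∈ Cfsg.maxInvSubgroups R M {q} →
        Q' ≤ Cfsg.piCoreOf (Cfsg.primesNotDvd (Nat.card (Cfsg.fittingOf H))) R ∧
        ¬ q ∣ Q'.relIndex (Cfsg.piCoreOf (Cfsg.primesNotDvd (Nat.card (Cfsg.fittingOf H))) R)) := by
  set F := Cfsg.fittingOf H with hF
  set π' := Cfsg.primesNotDvd (Nat.card F)
  set K := Cfsg.piCoreOf π' R with hK
  have hKπ : ∀ r : ℕ, r.Prime → r ∣ Nat.card K → r ∈ π' := fun r hr hd => piCoreOf_primes π' R hr hd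
  have hKR : K ≤ R := piCoreOf_le π' R
  have hcop : (Nat.card M).Coprime (Nat.card K) := coprime_of_primesNotDvd_fitting hM hKπ
  have hMK : M ≤ Subgroup.normalizer (K : Set G) := hMR.trans (normalizer_le_normalizer_piCoreOf π' R)
  have hKs : Group.IsSolvable K := Basics.isSolvable_of_le hKR hR
  have hZM : F ⊓ Subgroup.centralizer (F : Set G) ≤ M :=
    (inf_le_inf_left _ (Subgroup.centralizer_le (SetLike.coe_subset_coe.mpr hM))).trans hCM
  have hfix : ∀ c ∈ K, c ∈ Subgroup.centralizer (M : Set G) → c = 1 := by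
    intro c hc hcM
    obtain ⟨p, hp⟩ : (Nat.card F).primeFactors.Nonempty := Finset.card_pos.mp (by omega)
    haveI : Fact p.Prime := ⟨Nat.prime_of_mem_primeFactors hp⟩
    obtain ⟨-, -, hC, hZ⟩ := coreCentre_facts hH hHmax (Nat.dvd_of_mem_primeFactors hp)
    exact eq_one_of_centralizes hM hCM hR hXR hKR hKπ hc
      (hC (Subgroup.centralizer_le (SetLike.coe_subset_coe.mpr (hZ.trans hZM)) hcM)) hcM
  obtain ⟨S, hS, hMS⟩ := Basics.exists_invariant_isSylowIn M K hMK hcop (Or.inr hKs) q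
  have hmem : ∀ T : Subgroup G, Basics.IsSylowIn q K T → M ≤ Subgroup.normalizer (T : Set G) →
      T ∈ Cfsg.invSubgroups R M {q} := fun T hT hMT => ⟨hT.1.trans hKR, fun r hr hd => by
    rw [hT.2] at hd
    exact (Nat.prime_dvd_prime_iff_eq hr hq.out).mp (hr.dvd_of_dvd_pow hd), hMT⟩
  have hpg : ∀ Y ∈ Cfsg.invSubgroups R M {q}, IsPGroup q Y := fun Y hY => IsPGroup.of_card
    (Nat.eq_prime_pow_of_unique_prime_dvd Nat.card_pos.ne' fun hr hd => hY.2.1 _ hr hd)
  have hin : ∀ Y ∈ Cfsg.invSubgroups R M {q}, Y ≤ S := by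
    intro Y hY
    have hYK := invariant_le_piCoreOf hH hHmax hF2 hM hCM hR hMR hXR hqn hY.1 (hpg Y hY) hY.2.2
    obtain ⟨T, hT, hYT, hMT⟩ := Basics.exists_invariant_isSylowIn_ge M K hMK hcop (Or.inr hKs) q Y hYK
      (hpg Y hY) hY.2.2
    obtain ⟨c, hc, hcST⟩ := Basics.invariant_isSylowIn_conj M K hMK hcop (Or.inr hKs) q hT hS hMT hMS
    rw [hfix c hc.1 hc.2, Basics.conj_smul_one] at hcST
    exact hYT.trans hcST.le
  have huniq : ∀ Q' ∈ Cfsg.maxInvSubgroups R M {q}, Q' = S := fun Q' hQ' =>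
    (hQ'.2 S (hmem S hS hMS) (hin Q' hQ'.1)).symm
  refine ⟨S, ⟨⟨hmem S hS hMS, fun Y hY hle => le_antisymm (hin Y hY) hle⟩, fun Q' hQ' => ?_⟩, fun Q' hQ' => huniq Q' hQ'.1⟩
  rw [huniq Q' hQ']
  refine ⟨hS.1, fun hd => ?_⟩
  have h1 := Subgroup.relIndex_mul_relIndex (⊥ : Subgroup G) S K bot_le hS.1
  rw [Subgroup.relIndex_bot_left, Subgroup.relIndex_bot_left, hS.2] at h1
  refine Nat.pow_succ_factorization_not_dvd (Nat.card_pos (α := K)).ne' hq.out ?_
  rw [pow_succ]
  exact (Nat.mul_dvd_mul_left _ hd).trans (dvd_of_eq h1)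

end Cfsg.Agent.OddLocal
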