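import Cfsg.Agent.Lib.OddLocal.FrobeniusCase
import Cfsg.Agent.Lib.OddLocal.FixPoint
import Cfsg.Agent.Lib.Basics.Cores
import Cfsg.Agent.Lib.Basics.Hall
import Cfsg.Agent.Lib.Basics.FpfAbelian
import Cfsg.Agent.Lib.Coprime23.PLength
import Cfsg.Agent.Lib.LocalEvenA.InvariantComplement
import Cfsg.Agent.Lib.LocalEvenB.FixedOrder

/-! BG 3.6: a coprime commutator group with small fixed points has `p`-length one. -/

set_option autoImplicit false
set_option maxHeartbeats 1600000

namespace Cfsg.Agent.OddLocal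

open scoped commutatorElement
open Basics (IsSylowIn)

universe u

variable {G : Type u} [Group G] [Finite G]

theorem isZGroup_map {G' : Type*} [Group G'] {H : Subgroup G} (f : G →* G') (hH : IsZGroup H) :
    IsZGroup (H.map f) :=
  IsZGroup.of_surjective (hG := hH) (f.subgroupMap_surjective H)

theorem isCyclic_of_le_isZGroup {p : ℕ} [Fact p.Prime] {Z S : Subgroup G} (hZ : IsZGroup Z) (hSZ : S ≤ Z)
    (hS : IsPGroup p S) : IsCyclic S := by
  have h : IsCyclic (S.subgroupOf Z) :=
    IsPGroup.isCyclic_of_isZGroup (hS.of_equiv (Subgroup.subgroupOfEquivOfLe hSZ).symm)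
  exact isCyclic_of_surjective _ (Subgroup.subgroupOfEquivOfLe hSZ).surjective

/-- The heart of BG 3.6. -/
theorem not_dvd_relIndex_of_fixed [Group.IsSolvable G] {p : ℕ} [hp : Fact p.Prime] (hodd : Odd (Nat.card G))
    (L V R R₀ : Subgroup G) [L.Normal] [V.Normal] (hcop : (Nat.card L).Coprime (Nat.card R)) (hR₀ : R₀ ≤ R)
    (hR₀p : (Nat.card R₀).Prime) (hLR : ⁅L, R⁆ = L) (hZ : IsZGroup ↥(L ⊓ Subgroup.centralizer (R₀ : Set G)))
    (hVL : V ≤ L) (hV : IsElementaryAbelian p V) (hcent : L ⊓ Subgroup.centralizer (V : Set G) ≤ V)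
    (hmax : ∀ N : Subgroup G, N.Normal → N ≤ L → IsPGroup p N → N ≤ V) : ¬ p ∣ V.relIndex L := by
  classical
  rcases eq_or_ne (Nat.card L % p) 0 with hpL | hpL
  swap
  · intro h
    exact hpL (Nat.mod_eq_zero_of_dvd (h.trans (Subgroup.relIndex_dvd_card V L)))
  have hpL' : p ∣ Nat.card L := Nat.dvd_of_mod_eq_zero hpL
  have hodd' : ∀ {q : ℕ} {S : Subgroup G}, q.Prime → q ∣ Nat.card S → q ≠ 2 := by
    intro q S _ hd e
    exact Nat.not_even_iff_odd.mpr hodd (even_iff_two_dvd.mpr ((e ▸ hd).trans (Subgroup.card_subgroup_dvd_card S)))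
  have hp2 : p ≠ 2 := hodd' hp.out hpL'
  set r := Nat.card R₀ with hr
  have : Fact r.Prime := ⟨hR₀p⟩
  have hr2 : r ≠ 2 := hodd' hR₀p dvd_rfl
  have hrL : ¬ r ∣ Nat.card L := fun h =>
    hR₀p.ne_one (Nat.eq_one_of_dvd_coprimes hcop h (Subgroup.card_dvd_of_le hR₀))
  have hrp : r ≠ p := fun e => hrL (e ▸ hpL')
  have hRs : Group.IsSolvable R := inferInstance
  have hVp : IsPGroup p V := fun v => ⟨1, Subtype.ext (by rw [pow_one]; exact hV.2 _ v.2)⟩
  -- the `p'`-core modulo `V`
  set π := QuotientGroup.mk' V with hπ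
  set L₁ := L.map π with hL₁
  have hL₁n : L₁.Normal := Subgroup.Normal.map inferInstance _ (QuotientGroup.mk'_surjective V)
  set W₁ := (Cfsg.pPrimeCore p L₁).map L₁.subtype with hW₁
  have hchar := Basics.pPrimeCore_characteristic (G := L₁) p
  have hW₁n : W₁.Normal := inferInstance
  have hW₁L : W₁ ≤ L₁ := Subgroup.map_subtype_le _
  have hW₁card : ¬ p ∣ Nat.card W₁ := by
    rw [hW₁, Subgroup.card_map_of_injective L₁.subtype_injective]
    exact Basics.not_dvd_card_pPrimeCore p
  have hOp : Cfsg.pCore p L₁ = ⊥ := by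
    have hc := Basics.pCore_characteristic (G := L₁) p
    set O := (Cfsg.pCore p L₁).map L₁.subtype with hO
    have hOn : O.Normal := inferInstance
    have hle : O.comap π ≤ V := by
      refine hmax _ inferInstance ?_ (((Basics.pCore_isPGroup p).map _).comap_of_ker_isPGroup _
        (by rw [hπ, QuotientGroup.ker_mk']; exact hVp))
      refine (Subgroup.comap_mono (Subgroup.map_subtype_le _)).trans ?_
      rw [hL₁, Subgroup.comap_map_eq, hπ, QuotientGroup.ker_mk']
      exact sup_le le_rfl hVL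
    have hObot : O = ⊥ := by
      rw [eq_bot_iff, ← Subgroup.map_comap_eq_self_of_surjective (QuotientGroup.mk'_surjective V) O]
      refine (Subgroup.map_mono hle).trans ?_
      rw [Subgroup.map_le_iff_le_comap, MonoidHom.comap_bot, QuotientGroup.ker_mk']
    exact (Subgroup.map_eq_bot_iff_of_injective _ L₁.subtype_injective).mp hObot
  have hW₁c : L₁ ⊓ Subgroup.centralizer (W₁ : Set (G ⧸ V)) ≤ W₁ := by
    have hF : Cfsg.fittingSubgroup L₁ ≤ Cfsg.pPrimeCore p L₁ := by
      rw [Basics.fittingSubgroup_eq_iSup_pCore]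
      refine iSup_le fun q => ?_
      rcases eq_or_ne (q : ℕ) p with hq | hq
      · rw [hq, hOp]; exact bot_le
      · have : Fact (q : ℕ).Prime := ⟨q.2⟩
        refine Basics.le_pPrimeCore ?_
        obtain ⟨k, hk⟩ := IsPGroup.iff_card.mp (Basics.pCore_isPGroup (G := L₁) (q : ℕ))
        rw [hk]
        exact Nat.Coprime.pow_left _ ((Nat.coprime_primes q.2 hp.out).mpr hq)
    rintro x ⟨hx, hxc⟩
    refine ⟨⟨x, hx⟩, hF (Basics.centralizer_fittingSubgroup_le ?_), rfl⟩
    intro y hy
    exact Subtype.ext (hxc _ ⟨y, hF hy, rfl⟩)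
  set W := W₁.comap π with hW
  have hWn : W.Normal := inferInstance
  have hVW : V ≤ W := by
    intro v hv
    rw [hW, Subgroup.mem_comap, show π v = 1 from (QuotientGroup.eq_one_iff v).mpr hv]
    exact one_mem _
  have hWL : W ≤ L := by
    refine (Subgroup.comap_mono hW₁L).trans ?_
    rw [hL₁, Subgroup.comap_map_eq, hπ, QuotientGroup.ker_mk']
    exact sup_le le_rfl hVL
  -- an invariant complement
  have hWcard : Nat.card W = Nat.card V * Nat.card W₁ := Basics.card_comap_mk' W₁
  obtain ⟨U, hUW, hUV, hVU, hRU⟩ : ∃ U : Subgroup G, U ≤ W ∧ U ⊓ V = ⊥ ∧ V ⊔ U = W ∧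
      R ≤ Subgroup.normalizer (U : Set G) := by
    have hVn : (V.subgroupOf W).Normal := inferInstance
    have hidx : (V.subgroupOf W).index = Nat.card W₁ := by
      have h := Subgroup.card_mul_index (V.subgroupOf W)
      rw [Basics.card_subgroupOf hVW, hWcard] at h
      exact Nat.eq_of_mul_eq_mul_left Nat.card_pos h
    obtain ⟨K, hK⟩ := Subgroup.exists_right_complement'_of_coprime (N := V.subgroupOf W) (by
      rw [Basics.card_subgroupOf hVW, hidx]
      obtain ⟨k, hk⟩ := IsPGroup.iff_card.mp hVp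
      rw [hk]
      exact Nat.Coprime.pow_left _ (hp.out.coprime_iff_not_dvd.mpr hW₁card))
    refine LocalEvenA.exists_invariant_complement W V (K.map W.subtype) R hVW
      (fun a ha b hb => congrArg Subtype.val (hV.1.is_comm.comm ⟨a, ha⟩ ⟨b, hb⟩)) (Subgroup.map_subtype_le _) ?_ ?_
      (hcop.coprime_dvd_left (Subgroup.card_dvd_of_le hVL))
    · rw [eq_bot_iff]
      rintro _ ⟨⟨x, hx, rfl⟩, hxV⟩
      have : x ∈ (V.subgroupOf W) ⊓ K := ⟨hxV, hx⟩
      rw [hK.disjoint.eq_bot, Subgroup.mem_bot] at this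
      simp [this]
    · rw [← Subgroup.map_subgroupOf_eq_of_le hVW, ← Subgroup.map_sup, hK.sup_eq_top, ← MonoidHom.range_eq_map,
        Subgroup.range_subtype]
  have hUπ : U.map π = W₁ := by
    rw [← Subgroup.map_comap_eq_self_of_surjective (QuotientGroup.mk'_surjective V) W₁, ← hW, ← hVU, Subgroup.map_sup,
      show V.map π = ⊥ from (Subgroup.map_eq_bot_iff V).mpr (QuotientGroup.ker_mk' V).ge, bot_sup_eq]
  have hUcard : Nat.card U = Nat.card W₁ := by
    rw [← hUπ]
    exact (Basics.card_map_of_inf_ker_eq_bot π (by rw [hπ, QuotientGroup.ker_mk']; exact hUV)).symm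
  have hpU : ¬ p ∣ Nat.card U := hUcard ▸ hW₁card
  have hUL : U ≤ L := hUW.trans hWL
  set D := L ⊓ Subgroup.normalizer (U : Set G) with hD
  have hUD : U ≤ D := le_inf hUL Subgroup.le_normalizer
  have hLD : L = V ⊔ D := by
    refine le_antisymm (fun x hx => ?_) (sup_le hVL inf_le_left)
    have h := Basics.sup_normalizer_hall W inferInstance U hUW (by
      have h1 := Subgroup.card_mul_index (U.subgroupOf W)
      rw [Basics.card_subgroupOf hUW, hWcard, ← hUcard, mul_comm (Nat.card V)] at h1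
      rw [Subgroup.relIndex, Nat.eq_of_mul_eq_mul_left Nat.card_pos h1]
      obtain ⟨k, hk⟩ := IsPGroup.iff_card.mp hVp
      rw [hk]
      exact (hp.out.coprime_iff_not_dvd.mpr hpU).symm.pow_right k)
    obtain ⟨w, hw, n, hn, rfl⟩ := Subgroup.mem_sup_of_normal_left.mp (h.symm ▸ Subgroup.mem_top x)
    have hnD : n ∈ D := ⟨by simpa using mul_mem (inv_mem (hWL hw)) hx, hn⟩
    have hwsup : w ∈ V ⊔ D := (hVU.symm ▸ (sup_le_sup_left hUD V) : W ≤ V ⊔ D) hw
    exact mul_mem hwsup (Subgroup.mem_sup_right hnD)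
  have hRD : R ≤ Subgroup.normalizer (D : Set G) := by
    intro g hg
    refine mem_normalizer_of_conj_mem fun a ha => ⟨(inferInstance : L.Normal).conj_mem a ha.1 g, ?_⟩
    change g * a * g⁻¹ ∈ Subgroup.normalizer (U : Set G)
    exact mul_mem (mul_mem (hRU hg) (show a ∈ Subgroup.normalizer (U : Set G) from ha.2)) (inv_mem (hRU hg))
  obtain ⟨P, hP, hRP⟩ := Basics.exists_invariant_isSylowIn R D hRD
    ((hcop.coprime_dvd_left (Subgroup.card_dvd_of_le inf_le_left)).symm) (Or.inl hRs) p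
  have hPD : P ≤ D := hP.1
  have hPL : P ≤ L := hPD.trans inf_le_left
  have hPU : P ≤ Subgroup.normalizer (U : Set G) := hPD.trans inf_le_right
  suffices hPV : P ≤ V by
    rw [hLD, sup_comm, Subgroup.relIndex_sup_right]
    intro h
    have h1 := h.trans (Subgroup.relIndex_dvd_of_le_left D hPV)
    have h2 := Subgroup.card_mul_index (P.subgroupOf D)
    rw [Basics.card_subgroupOf hPD, hP.2] at h2
    rw [Subgroup.relIndex] at h1
    have h3 : p ^ ((Nat.card D).factorization p + 1) ∣ Nat.card D := by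
      conv_rhs => rw [← h2]
      rw [pow_succ]
      exact mul_dvd_mul dvd_rfl h1
    exact absurd ((hp.out.pow_dvd_iff_le_factorization Nat.card_pos.ne').mp h3) (by omega)
  -- it is enough that `P` centralizes each invariant Sylow subgroup of `U`
  suffices key : ∀ q : ℕ, q.Prime → ∀ Q : Subgroup G, IsSylowIn q U Q → R ≤ Subgroup.normalizer (Q : Set G) →
      P ≤ Subgroup.normalizer (Q : Set G) → P ≤ Subgroup.centralizer (Q : Set G) by
    have hPRn : R ≤ Subgroup.normalizer (P : Set G) := hRP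
    have hcard : Nat.card (P ⊔ R : Subgroup G) ∣ Nat.card P * Nat.card R := by
      rw [Basics.card_mul_card_eq_card_sup_mul_card_inf hPRn]
      exact dvd_mul_right _ _
    have hcopPR : (Nat.card (P ⊔ R : Subgroup G)).Coprime (Nat.card U) := by
      refine Nat.Coprime.coprime_dvd_left hcard (Nat.Coprime.mul_left ?_ ?_)
      · rw [hP.2]; exact (hp.out.coprime_iff_not_dvd.mpr hpU).pow_left _
      · exact (hcop.coprime_dvd_left (Subgroup.card_dvd_of_le hUL)).symm
    have hUC : U ≤ Subgroup.centralizer (P : Set G) := by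
      have h1 : Nat.card U ∣ Nat.card (U ⊓ Subgroup.centralizer (P : Set G) : Subgroup G) := by
        rw [← Nat.factorization_prime_le_iff_dvd Nat.card_pos.ne' Nat.card_pos.ne']
        intro q hq
        have : Fact q.Prime := ⟨hq⟩
        obtain ⟨Q, hQ, hQn⟩ := Basics.exists_invariant_isSylowIn (P ⊔ R) U (sup_le hPU hRU) hcopPR
          (Or.inr inferInstance) q
        have hle : Q ≤ U ⊓ Subgroup.centralizer (P : Set G) :=
          le_inf hQ.1 (Subgroup.le_centralizer_iff.mp
            (key q hq Q hQ (le_sup_right.trans hQn) (le_sup_left.trans hQn)))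
        refine (hq.pow_dvd_iff_le_factorization Nat.card_pos.ne').mp ?_
        rw [← hQ.2]
        exact Subgroup.card_dvd_of_le hle
      have h2 : U ⊓ Subgroup.centralizer (P : Set G) = U :=
        Subgroup.eq_of_le_of_card_ge inf_le_left (Nat.le_of_dvd Nat.card_pos h1)
      exact h2 ▸ inf_le_right
    intro x hx
    have hxW : π x ∈ W₁ := by
      refine hW₁c ⟨⟨x, hPL hx, rfl⟩, ?_⟩
      rw [← hUπ]
      rintro _ ⟨y, hy, rfl⟩
      rw [← map_mul, ← map_mul, (Subgroup.mem_centralizer_iff.mp (hUC hy) x hx).symm]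
    have h1 : π x = 1 := by
      obtain ⟨k, hk⟩ := hP.isPGroup ⟨x, hx⟩
      refine orderOf_eq_one_iff.mp (Nat.eq_one_of_dvd_coprimes ((hp.out.coprime_iff_not_dvd.mpr hW₁card).pow_left k)
        (orderOf_dvd_of_pow_eq_one (by rw [← map_pow, show x ^ p ^ k = 1 from congrArg Subtype.val hk, map_one]))
        (Subgroup.orderOf_dvd_natCard _ hxW))
    exact (QuotientGroup.eq_one_iff x).mp h1
  intro q hq Q hQ hRQ hPQ
  have : Fact q.Prime := ⟨hq⟩
  by_cases hqU : q ∣ Nat.card U
  swap
  · have : Q = ⊥ := by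
      rw [← Subgroup.card_eq_one, hQ.2, Nat.factorization_eq_zero_of_not_dvd hqU, pow_zero]
    intro x _
    rw [this]
    simp [Subgroup.mem_centralizer_iff]
  have hqp : q ≠ p := fun e => hpU (e ▸ hqU)
  have hq2 : q ≠ 2 := hodd' hq hqU
  have hqr : q ≠ r := fun e => hrL ((e ▸ hqU).trans (Subgroup.card_dvd_of_le hUL))
  have hQp : IsPGroup q Q := hQ.isPGroup
  have hQU : Q ≤ U := hQ.1
  -- the part of `V` moved by `U`
  set V' := ⁅V, U⁆ with hV'
  have hV'V : V' ≤ V := Subgroup.commutator_le_left V U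
  have hV'e : IsElementaryAbelian p V' := ⟨⟨⟨fun a b => Subtype.ext (congrArg (fun z : V => (z : G))
    (hV.1.is_comm.comm ⟨a, hV'V a.2⟩ ⟨b, hV'V b.2⟩))⟩⟩, fun a ha => hV.2 a (hV'V ha)⟩
  have hV'n : ∀ g ∈ Subgroup.normalizer (U : Set G), g ∈ Subgroup.normalizer (V' : Set G) := fun g hg =>
    conj_mem_commutator (by rw [Subgroup.normalizer_eq_top]; trivial) hg
  have hVc : IsMulCommutative V := hV.1
  have hVUcop : (Nat.card U).Coprime (Nat.card V) := by
    obtain ⟨k, hk⟩ := IsPGroup.iff_card.mp hVp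
    rw [hk]
    exact (hp.out.coprime_iff_not_dvd.mpr hpU).symm.pow_right k
  have hUVn : U ≤ Subgroup.normalizer (V : Set G) := by rw [Subgroup.normalizer_eq_top]; exact le_top
  have hfaith : U ⊓ Subgroup.centralizer (V' : Set G) = ⊥ := by
    rw [eq_bot_iff, ← hUV]
    rintro u ⟨hu, huc⟩
    refine ⟨hu, hcent ⟨hUL hu, ?_⟩⟩
    have hle : V ≤ Subgroup.centralizer ({u} : Set G) := by
      rw [← Basics.commutator_sup_inf_centralizer U V hUVn hVUcop (Or.inr inferInstance)]
      refine sup_le (fun v hv => Subgroup.mem_centralizer_singleton_iff.mpr ?_)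
        (fun v hv => Subgroup.mem_centralizer_singleton_iff.mpr ?_)
      · exact Subgroup.mem_centralizer_iff.mp huc v hv
      · exact (Subgroup.mem_centralizer_iff.mp hv.2 u hu).symm
    change u ∈ Subgroup.centralizer (V : Set G)
    rw [Subgroup.mem_centralizer_iff]
    exact fun v hv => Subgroup.mem_centralizer_singleton_iff.mp (hle hv)
  by_cases hfix : V' ⊓ Subgroup.centralizer (R₀ : Set G) = ⊥
  · -- `R₀` centralizes `U`, so its Sylow subgroups are cyclic
    have hR0U : ⁅R₀, U⁆ ≤ Subgroup.centralizer (V' : Set G) :=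
      commutator_le_centralizer_of_fpf hV'e hr.symm hr2 hrp
        (Odd.of_dvd_nat hodd (Subgroup.card_subgroup_dvd_card U))
        (fun h => hrL (h.trans (Subgroup.card_dvd_of_le hUL))) hpU (hR₀.trans hRU)
        (fun u hu => hV'n u (Subgroup.le_normalizer hu)) (fun g hg => hV'n g (hRU (hR₀ hg))) hfix
    have hR0U' : ⁅R₀, U⁆ ≤ U := Subgroup.le_normalizer_iff_commutator_le_right.mp (hR₀.trans hRU)
    have hbot : ⁅R₀, U⁆ = ⊥ := eq_bot_iff.mpr ((le_inf hR0U' hR0U).trans hfaith.le)
    have hUC : U ≤ L ⊓ Subgroup.centralizer (R₀ : Set G) :=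
      le_inf hUL (Subgroup.commutator_eq_bot_iff_le_centralizer.mp (by rw [Subgroup.commutator_comm]; exact hbot))
    have hQc : IsCyclic Q := isCyclic_of_le_isZGroup hZ (hQU.trans hUC) hQp
    set E := D ⊓ Subgroup.normalizer (Q : Set G) with hE
    set φ := Q.normalizerMonoidHom with hφ
    have hker : ∀ {a : G} (ha : a ∈ Subgroup.normalizer (Q : Set G)), φ ⟨a, ha⟩ = 1 ↔
        a ∈ Subgroup.centralizer (Q : Set G) := by
      intro a ha
      rw [← MonoidHom.mem_ker, hφ, Subgroup.normalizerMonoidHom_ker, Subgroup.mem_subgroupOf]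
    have hcomm : ∀ α β : MulAut Q, α * β = β * α := by
      intro α β
      have hinj := (hQc.mulAutMulEquiv Q).injective
      exact hinj (by rw [map_mul, map_mul, mul_comm])
    have hsub : ⁅E, R⁆ ≤ Subgroup.centralizer (Q : Set G) := by
      rw [Subgroup.commutator_le]
      intro a ha b hb
      have h1 : φ ⁅(⟨a, ha.2⟩ : Subgroup.normalizer (Q : Set G)), ⟨b, hRQ hb⟩⁆ = 1 := by
        rw [map_commutatorElement, commutatorElement_eq_one_iff_mul_comm]
        exact hcomm _ _
      exact (hker _).mp h1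
    -- `L = W [E, R]`
    have hLW : L ≤ W ⊔ Subgroup.centralizer (Q : Set G) ⊓ L := by
      have hDE : D ≤ U ⊔ E := by
        intro x hx
        have hQH : (Nat.card Q).Coprime (Q.relIndex U) := by
          have h2 := Subgroup.card_mul_index (Q.subgroupOf U)
          rw [Basics.card_subgroupOf hQU] at h2
          rw [hQ.2]
          refine (Nat.Coprime.pow_left _ ?_)
          rw [hq.coprime_iff_not_dvd, Subgroup.relIndex]
          intro hd
          have h3 : q ^ ((Nat.card U).factorization q + 1) ∣ Nat.card U := by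
            conv_rhs => rw [← h2]
            rw [pow_succ, hQ.2]
            exact mul_dvd_mul dvd_rfl hd
          exact absurd ((hq.pow_dvd_iff_le_factorization Nat.card_pos.ne').mp h3) (by omega)
        have hUn : (U.subgroupOf D).Normal :=
          (Subgroup.normal_subgroupOf_iff_le_normalizer hUD).mpr inf_le_right
        have h := Basics.sup_normalizer_hall (U.subgroupOf D) inferInstance (Q.subgroupOf D)
          (fun y hy => hQU hy) (by
            rw [Basics.card_subgroupOf (hQU.trans hUD), Subgroup.relIndex_subgroupOf hUD]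
            exact hQH)
        obtain ⟨u, hu, n, hn, e⟩ := Subgroup.mem_sup_of_normal_left.mp (h.symm ▸ Subgroup.mem_top (⟨x, hx⟩ : D))
        rw [← Subgroup.subgroupOf_normalizer_eq (hQU.trans hUD)] at hn
        rw [show x = (u : G) * n from (congrArg Subtype.val e).symm]
        exact mul_mem (Subgroup.mem_sup_left hu) (Subgroup.mem_sup_right ⟨n.2, hn⟩)
      set M := W ⊔ Subgroup.centralizer (Q : Set G) ⊓ L
      have hLWE : L ≤ W ⊔ E := by
        rw [hLD]
        exact sup_le (hVW.trans le_sup_left) (hDE.trans (sup_le (hUW.trans le_sup_left) le_sup_right))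
      conv_lhs => rw [← hLR]
      refine Subgroup.commutator_le.mpr fun x hx b hb => ?_
      obtain ⟨w, hw, e, he, rfl⟩ := Subgroup.mem_sup_of_normal_left.mp (hLWE hx)
      have e1 : ⁅w * e, b⁆ = w * ⁅e, b⁆ * w⁻¹ * ⁅w, b⁆ := by
        simp only [commutatorElement_def]; group
      have hwW : ⁅w, b⁆ ∈ W := by
        rw [commutatorElement_def, mul_assoc, mul_assoc]
        exact mul_mem hw (by simpa [mul_assoc] using hWn.conj_mem _ (inv_mem hw) b)
      have heb : ⁅e, b⁆ ∈ Subgroup.centralizer (Q : Set G) ⊓ L := by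
        refine ⟨hsub (Subgroup.commutator_mem_commutator he hb), ?_⟩
        exact (Subgroup.commutator_le_left L R) (Subgroup.commutator_mem_commutator he.1.1 hb)
      rw [e1]
      exact mul_mem (mul_mem (mul_mem (Subgroup.mem_sup_left hw) (Subgroup.mem_sup_right heb))
        (Subgroup.mem_sup_left (inv_mem hw))) (Subgroup.mem_sup_left hwW)
    intro x hx
    obtain ⟨w, hw, e, he, hxe⟩ := Subgroup.mem_sup_of_normal_left.mp (hLW (hPL hx))
    have heN : e ∈ Subgroup.normalizer (Q : Set G) := Subgroup.centralizer_le_normalizer _ he.1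
    have hwN : w ∈ Subgroup.normalizer (Q : Set G) := by
      have h := mul_mem (hPQ hx) (inv_mem heN)
      rwa [← hxe, mul_inv_cancel_right] at h
    -- split off the part in `V`
    rw [← hVU] at hw
    obtain ⟨v, hv, u, hu, rfl⟩ := Subgroup.mem_sup_of_normal_left.mp hw
    have hvC : v ∈ Subgroup.centralizer (Q : Set G) ∧ u ∈ Subgroup.normalizer (Q : Set G) := by
      have hQV : Subgroup.normalizer (Q : Set G) ⊓ V ≤ Subgroup.centralizer (Q : Set G) := by
        rintro y ⟨hy, hyV⟩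
        rw [Subgroup.mem_centralizer_iff]
        intro z hz
        have h1 : y * z * y⁻¹ * z⁻¹ ∈ Q := mul_mem ((Subgroup.mem_normalizer_iff.mp hy z).mp hz) (inv_mem hz)
        have h2 : y * z * y⁻¹ * z⁻¹ ∈ V := by
          rw [mul_assoc, mul_assoc]
          exact mul_mem hyV (by simpa [mul_assoc] using (inferInstance : V.Normal).conj_mem _ (inv_mem hyV) z)
        have h3 : y * z * y⁻¹ * z⁻¹ ∈ U ⊓ V := ⟨hQU h1, h2⟩
        rw [hUV, Subgroup.mem_bot, mul_inv_eq_one, mul_inv_eq_iff_eq_mul] at h3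
        exact h3.symm
      have huQ : u ∈ Subgroup.normalizer (Q : Set G) := by
        refine mem_normalizer_of_conj_mem fun z hz => ?_
        set z' := u * z * u⁻¹ with hz'
        have h1 : v * z' * v⁻¹ ∈ Q := by
          have := (Subgroup.mem_normalizer_iff.mp hwN z).mp hz
          rwa [show v * u * z * (v * u)⁻¹ = v * z' * v⁻¹ by rw [hz']; group] at this
        have h2 : z' ∈ U := mul_mem (mul_mem hu (hQU hz)) (inv_mem hu)
        have h3 : v * z' * v⁻¹ * z'⁻¹ ∈ U ⊓ V := by
          refine Subgroup.mem_inf.mpr ⟨mul_mem (hQU h1) (inv_mem h2), ?_⟩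
          rw [mul_assoc, mul_assoc]
          exact mul_mem hv (by simpa [mul_assoc] using (inferInstance : V.Normal).conj_mem _ (inv_mem hv) z')
        rw [hUV, Subgroup.mem_bot, mul_inv_eq_one] at h3
        rwa [h3] at h1
      refine ⟨hQV ⟨?_, hv⟩, huQ⟩
      have := mul_mem hwN (inv_mem huQ)
      rwa [mul_inv_cancel_right] at this
    rw [← hker (hPQ hx)]
    have heq : φ ⟨x, hPQ hx⟩ = φ ⟨u, hvC.2⟩ := by
      have e2 : (⟨x, hPQ hx⟩ : Subgroup.normalizer (Q : Set G)) =
          ⟨v, Subgroup.centralizer_le_normalizer _ hvC.1⟩ * ⟨u, hvC.2⟩ * ⟨e, heN⟩ := Subtype.ext hxe.symm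
      rw [e2, map_mul, map_mul, (hker _).mpr hvC.1, (hker _).mpr he.1, one_mul, mul_one]
    obtain ⟨k, hk⟩ := hP.isPGroup ⟨x, hx⟩
    refine orderOf_eq_one_iff.mp (Nat.eq_one_of_dvd_coprimes ((hp.out.coprime_iff_not_dvd.mpr hpU).pow_left k)
      (orderOf_dvd_of_pow_eq_one ?_) ?_)
    · rw [← map_pow, show (⟨x, hPQ hx⟩ : Subgroup.normalizer (Q : Set G)) ^ p ^ k = 1 from
        Subtype.ext (by simpa using congrArg Subtype.val hk), map_one]
    · rw [heq]
      refine (orderOf_map_dvd φ _).trans ?_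
      rw [← Subgroup.orderOf_coe]
      exact Subgroup.orderOf_dvd_natCard _ hu
  · -- `R₀` has a fixed point on `V'`
    obtain ⟨t, ht, ht1⟩ := (Subgroup.bot_or_exists_ne_one R₀).resolve_left (fun e => hR₀p.ne_one (by
      rw [hr, e, Subgroup.card_bot]))
    have htr : t ^ r = 1 := congrArg Subtype.val (pow_card_eq_one' (x := (⟨t, ht⟩ : R₀)))
    have hgen : Subgroup.zpowers t = R₀ := by
      refine Subgroup.eq_of_le_of_card_ge (Subgroup.zpowers_le.mpr ht) ?_
      rw [Nat.card_zpowers, orderOf_eq_prime htr ht1]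
    have hC : ∀ {x : G}, t * x = x * t → x ∈ Subgroup.centralizer (R₀ : Set G) := fun h =>
      hgen ▸ centralizes_zpowers h
    have hcyc : ∀ {q : ℕ} [Fact q.Prime] (S : Subgroup G), IsPGroup q S → S ≤ L →
        IsCyclic ↥(S ⊓ Subgroup.centralizer ({t} : Set G)) := fun S hS hSL =>
      isCyclic_of_le_isZGroup hZ
        (le_inf (inf_le_left.trans hSL) fun x hx => hC (Subgroup.mem_centralizer_singleton_iff.mp hx.2).symm)
        (hS.to_le inf_le_left)
    obtain ⟨v₀, hv₀, hv₀1⟩ := (Subgroup.bot_or_exists_ne_one _).resolve_left hfix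
    have hfree : ∀ a ∈ P, t * a = a * t → a = 1 := by
      by_contra hcon
      push Not at hcon
      obtain ⟨a, ha, hta, ha1⟩ := hcon
      obtain ⟨y, hy, hyord⟩ : ∃ y : G, y ∈ Subgroup.zpowers a ∧ orderOf y = p := by
        have hpa : p ∣ orderOf a := by
          obtain ⟨k, hk⟩ := hP.isPGroup ⟨a, ha⟩
          obtain ⟨j, -, hj⟩ := (Nat.dvd_prime_pow hp.out).mp
            (orderOf_dvd_of_pow_eq_one (show a ^ p ^ k = 1 from congrArg Subtype.val hk))
          rcases j with _ | j
          · exact absurd (orderOf_eq_one_iff.mp (by rw [hj, pow_zero])) ha1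
          · exact hj ▸ dvd_pow_self p (Nat.succ_ne_zero j)
        refine ⟨a ^ (orderOf a / p), Subgroup.npow_mem_zpowers _ _, ?_⟩
        exact orderOf_pow_orderOf_div (orderOf_pos a).ne' hpa
      have hyP : y ∈ P := (Subgroup.zpowers_le.mpr ha) hy
      have hty : t * y = y * t := by
        obtain ⟨n, rfl⟩ := hy
        exact ((show Commute t a from hta).zpow_right n).eq
      set S := Subgroup.zpowers y ⊔ V ⊓ Subgroup.centralizer ({t} : Set G) with hS
      have hSp : IsPGroup p S := by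
        have h1 : IsPGroup p (Subgroup.zpowers y ⊔ V : Subgroup G) :=
          (hP.isPGroup.to_le (Subgroup.zpowers_le.mpr hyP)).to_sup_of_normal_right hVp
        exact h1.to_le (sup_le le_sup_left (inf_le_left.trans le_sup_right))
      have hSc : IsCyclic S := by
        refine isCyclic_of_le_isZGroup hZ (sup_le (Subgroup.zpowers_le.mpr ⟨hPL hyP, hC hty⟩)
          (le_inf (inf_le_left.trans hVL) fun x hx => hC (Subgroup.mem_centralizer_singleton_iff.mp hx.2).symm)) hSp
      have hv₀S : v₀ ∈ S := Subgroup.mem_sup_right ⟨hV'V hv₀.1, Subgroup.mem_centralizer_singleton_iff.mpr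
        (Subgroup.mem_centralizer_iff.mp hv₀.2 t ht).symm⟩
      have hyS : y ∈ S := Subgroup.mem_sup_left (Subgroup.mem_zpowers y)
      have hord : orderOf v₀ = p := orderOf_eq_prime (hV.2 _ (hV'V hv₀.1)) hv₀1
      have heq : Subgroup.zpowers (⟨y, hyS⟩ : S) = Subgroup.zpowers (⟨v₀, hv₀S⟩ : S) := by
        refine Basics.cyclic_subgroup_eq_of_card_eq ?_
        rw [Nat.card_zpowers, Nat.card_zpowers, Subgroup.orderOf_mk, Subgroup.orderOf_mk, hyord, hord]
      have hyV' : y ∈ V' := by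
        obtain ⟨n, hn⟩ : (⟨y, hyS⟩ : S) ∈ Subgroup.zpowers (⟨v₀, hv₀S⟩ : S) := heq ▸ Subgroup.mem_zpowers _
        rw [show y = v₀ ^ n from (congrArg Subtype.val hn).symm]
        exact zpow_mem (show v₀ ∈ V' from hv₀.1) n
      have hyC : y ∈ Subgroup.centralizer (U : Set G) := by
        rw [Subgroup.mem_centralizer_iff]
        intro u hu
        have h1 : y * u * y⁻¹ * u⁻¹ ∈ U :=
          mul_mem ((Subgroup.mem_normalizer_iff.mp (hPU hyP) u).mp hu) (inv_mem hu)
        have h2 : y * u * y⁻¹ * u⁻¹ ∈ V := by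
          rw [mul_assoc, mul_assoc]
          exact mul_mem (hV'V hyV') (by simpa [mul_assoc] using (inferInstance : V.Normal).conj_mem _ (inv_mem (hV'V hyV')) u)
        have h3 : y * u * y⁻¹ * u⁻¹ ∈ U ⊓ V := ⟨h1, h2⟩
        rw [hUV, Subgroup.mem_bot, mul_inv_eq_one, mul_inv_eq_iff_eq_mul] at h3
        exact h3.symm
      have h4 : y ∈ (V ⊓ Subgroup.centralizer (U : Set G)) ⊓ ⁅V, U⁆ := ⟨⟨hV'V hyV', hyC⟩, hyV'⟩
      rw [Basics.inf_centralizer_inf_commutator_eq_bot U V hUVn hVUcop, Subgroup.mem_bot] at h4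
      rw [h4, orderOf_one] at hyord
      exact hp.out.ne_one hyord.symm
    have hfix' : Nat.card ↥(V' ⊓ Subgroup.centralizer ({t} : Set G)) ≤ p := by
      have hc := hcyc (q := p) V' (hVp.to_le hV'V) (hV'V.trans hVL)
      obtain ⟨g, hg⟩ := hc.exists_generator
      rw [← Subgroup.card_top (G := ↥(V' ⊓ Subgroup.centralizer ({t} : Set G))),
        ← show Subgroup.zpowers g = ⊤ from eq_top_iff.mpr fun x _ => hg x, Nat.card_zpowers]
      exact Nat.le_of_dvd hp.out.pos (orderOf_dvd_of_pow_eq_one (Subtype.ext (hV'e.2 _ g.2.1)))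
    exact le_centralizer_of_small_fixed hqp hrp hqr hp2 hq2 hr2 hV'e hP.isPGroup hQp
      (fun a ha => hV'n a (hPU ha)) (fun a ha => hV'n a (Subgroup.le_normalizer (hQU ha)))
      (hV'n t (hRU (hR₀ ht))) hPQ (hRQ (hR₀ ht)) (hRP (hR₀ ht)) htr hfree (hcyc Q hQp (hQU.trans hUL)) hfix'
      (eq_bot_iff.mpr ((inf_le_inf_right _ hQU).trans hfaith.le))

/-- The hypotheses pass to a quotient by a normal subgroup inside `L`. -/
theorem fixed_hyp_quotient [Group.IsSolvable G] (hodd : Odd (Nat.card G)) (L R R₀ N : Subgroup G) [N.Normal]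
    (hNL : N ≤ L) (hcop : (Nat.card L).Coprime (Nat.card R)) (hR₀ : R₀ ≤ R) (hR₀p : (Nat.card R₀).Prime)
    (hLR : ⁅L, R⁆ = L) (hZ : IsZGroup ↥(L ⊓ Subgroup.centralizer (R₀ : Set G))) :
    Odd (Nat.card (G ⧸ N)) ∧
      (Nat.card (L.map (QuotientGroup.mk' N))).Coprime (Nat.card (R.map (QuotientGroup.mk' N))) ∧
      (Nat.card (R₀.map (QuotientGroup.mk' N))).Prime ∧
      ⁅L.map (QuotientGroup.mk' N), R.map (QuotientGroup.mk' N)⁆ = L.map (QuotientGroup.mk' N) ∧
      IsZGroup ↥(L.map (QuotientGroup.mk' N) ⊓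
        Subgroup.centralizer (R₀.map (QuotientGroup.mk' N) : Set (G ⧸ N))) := by
  have hR₀N : R₀ ⊓ (QuotientGroup.mk' N).ker = ⊥ := by
    rw [QuotientGroup.ker_mk', eq_bot_iff]
    intro x hx
    exact Subgroup.mem_bot.mpr (orderOf_eq_one_iff.mp (Nat.eq_one_of_dvd_coprimes hcop
      (Subgroup.orderOf_dvd_natCard _ (hNL hx.2)) (Subgroup.orderOf_dvd_natCard _ (hR₀ hx.1))))
  refine ⟨?_, ?_, ?_, ?_, ?_⟩
  · refine Odd.of_dvd_nat hodd ?_
    exact Subgroup.card_quotient_dvd_card N
  · exact (hcop.coprime_dvd_left (Subgroup.card_map_dvd _ _)).coprime_dvd_right (Subgroup.card_map_dvd _ _)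
  · rwa [Basics.card_map_of_inf_ker_eq_bot _ hR₀N]
  · rw [← Subgroup.map_commutator, hLR]
  · rw [← Basics.map_inf_centralizer R₀ L N hNL
      ((hcop.coprime_dvd_left (Subgroup.card_dvd_of_le hNL)).coprime_dvd_right (Subgroup.card_dvd_of_le hR₀)).symm
      (Or.inr inferInstance)]
    exact isZGroup_map _ hZ

theorem pLengthLE_one_of_fixed [Group.IsSolvable G] (hodd : Odd (Nat.card G)) (L R R₀ : Subgroup G) [L.Normal]
    (hcop : (Nat.card L).Coprime (Nat.card R)) (hR₀ : R₀ ≤ R) (hR₀p : (Nat.card R₀).Prime) (hLR : ⁅L, R⁆ = L)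
    (hZ : IsZGroup ↥(L ⊓ Subgroup.centralizer (R₀ : Set G))) (p : ℕ) [hp : Fact p.Prime] :
    Cfsg.PLengthLE p 1 L := by
  -- modulo the `p'`-core
  have hc1 := Basics.pPrimeCore_characteristic (G := L) p
  set A := (Cfsg.pPrimeCore p L).map L.subtype with hA
  have hAn : A.Normal := inferInstance
  have hAL : A ≤ L := Subgroup.map_subtype_le _
  set π₁ := QuotientGroup.mk' A
  obtain ⟨hodd1, hcop1, hp1, hLR1, hZ1⟩ := fixed_hyp_quotient hodd L R R₀ A hAL hcop hR₀ hR₀p hLR hZ
  set L₁ := L.map π₁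
  have hL₁n : L₁.Normal := Subgroup.Normal.map inferInstance _ (QuotientGroup.mk'_surjective A)
  have hO : Cfsg.pPrimeCore p L₁ = ⊥ := by
    have hc := Basics.pPrimeCore_characteristic (G := L₁) p
    set O := (Cfsg.pPrimeCore p L₁).map L₁.subtype with hO
    have hOn : O.Normal := inferInstance
    have hle : O.comap π₁ ≤ A := by
      have hOL : O.comap π₁ ≤ L := by
        refine (Subgroup.comap_mono (Subgroup.map_subtype_le _)).trans ?_
        rw [Subgroup.comap_map_eq, QuotientGroup.ker_mk']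
        exact sup_le le_rfl hAL
      have hOc : (O.comap π₁).Normal := inferInstance
      refine le_trans (Subgroup.map_subgroupOf_eq_of_le hOL).symm.le (Subgroup.map_mono (Basics.le_pPrimeCore ?_))
      rw [Basics.card_subgroupOf hOL, Basics.card_comap_mk' O]
      refine Nat.Coprime.mul_left ?_ ?_
      · exact Basics.pPrimeCore_coprime (G := L) p |> fun h => by
          rwa [show Nat.card A = Nat.card (Cfsg.pPrimeCore p L) from Subgroup.card_map_of_injective L.subtype_injective]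
      · rw [show Nat.card O = Nat.card (Cfsg.pPrimeCore p L₁) from Subgroup.card_map_of_injective L₁.subtype_injective]
        exact Basics.pPrimeCore_coprime p
    have hObot : O = ⊥ := by
      rw [eq_bot_iff, ← Subgroup.map_comap_eq_self_of_surjective (QuotientGroup.mk'_surjective A) O]
      refine (Subgroup.map_mono hle).trans ?_
      rw [Subgroup.map_le_iff_le_comap, MonoidHom.comap_bot, QuotientGroup.ker_mk']
    exact (Subgroup.map_eq_bot_iff_of_injective _ L₁.subtype_injective).mp hObot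
  have hc2 := Basics.pCore_characteristic (G := L₁) p
  set V₀ := (Cfsg.pCore p L₁).map L₁.subtype with hV₀
  have hV₀n : V₀.Normal := inferInstance
  have hV₀L : V₀ ≤ L₁ := Subgroup.map_subtype_le _
  have hV₀p : IsPGroup p V₀ := (Basics.pCore_isPGroup p).map _
  have hmax₀ : ∀ N : Subgroup (G ⧸ A), N.Normal → N ≤ L₁ → IsPGroup p N → N ≤ V₀ := by
    intro N hN hNL hNp
    rw [hV₀, ← Subgroup.map_subgroupOf_eq_of_le hNL]
    exact Subgroup.map_mono (Basics.le_pCore (hNp.of_equiv (Subgroup.subgroupOfEquivOfLe hNL).symm))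
  have hcent₀ : L₁ ⊓ Subgroup.centralizer (V₀ : Set (G ⧸ A)) ≤ V₀ := by
    rintro x ⟨hx, hxc⟩
    refine ⟨⟨x, hx⟩, Basics.centralizer_pCore_le hO ?_, rfl⟩
    intro y hy
    exact Subtype.ext (hxc _ ⟨y, hy, rfl⟩)
  -- modulo the Frattini subgroup
  set Φ := (frattini ↥V₀).map V₀.subtype with hΦdef
  have hΦc : (frattini ↥V₀).Characteristic := frattini_characteristic
  have hΦn : Φ.Normal := inferInstance
  have hΦV : Φ ≤ V₀ := Subgroup.map_subtype_le _
  have hΦL : Φ ≤ L₁ := hΦV.trans hV₀L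
  obtain ⟨hodd2, hcop2, hp2, hLR2, hZ2⟩ :=
    fixed_hyp_quotient hodd1 L₁ (R.map π₁) (R₀.map π₁) Φ hΦL hcop1 (Subgroup.map_mono hR₀) hp1 hLR1 hZ1
  set π₂ := QuotientGroup.mk' Φ
  set L₂ := L₁.map π₂
  set V := V₀.map π₂
  have hL₂n : L₂.Normal := Subgroup.Normal.map inferInstance _ (QuotientGroup.mk'_surjective Φ)
  have hVn : V.Normal := Subgroup.Normal.map inferInstance _ (QuotientGroup.mk'_surjective Φ)
  have hV : IsElementaryAbelian p V := by
    have hV₀nil : Group.IsNilpotent V₀ := hV₀p.isNilpotent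
    constructor
    · constructor
      constructor
      rintro ⟨_, a, ha, rfl⟩ ⟨_, b, hb, rfl⟩
      refine Subtype.ext ?_
      change π₂ a * π₂ b = π₂ b * π₂ a
      rw [← commutatorElement_eq_one_iff_mul_comm, ← map_commutatorElement]
      refine (QuotientGroup.eq_one_iff _).mpr ⟨⁅(⟨a, ha⟩ : V₀), ⟨b, hb⟩⁆, ?_, rfl⟩
      exact Basics.commutator_le_frattini (Subgroup.commutator_mem_commutator trivial trivial)
    · rintro _ ⟨a, ha, rfl⟩
      rw [← map_pow]
      exact (QuotientGroup.eq_one_iff _).mpr ⟨⟨a, ha⟩ ^ p, Basics.pow_mem_frattini hV₀p _, rfl⟩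
  have hback : ∀ N : Subgroup ((G ⧸ A) ⧸ Φ), N ≤ L₂ → N.comap π₂ ≤ L₁ := by
    intro N hN
    refine (Subgroup.comap_mono hN).trans ?_
    rw [Subgroup.comap_map_eq, QuotientGroup.ker_mk']
    exact sup_le le_rfl hΦL
  have hVcomap : V.comap π₂ = V₀ := by
    rw [Subgroup.comap_map_eq, QuotientGroup.ker_mk', sup_eq_left.mpr hΦV]
  have hmax₂ : ∀ N : Subgroup ((G ⧸ A) ⧸ Φ), N.Normal → N ≤ L₂ → IsPGroup p N → N ≤ V := by
    intro N hN hNL hNp
    rw [← Subgroup.map_comap_eq_self_of_surjective (QuotientGroup.mk'_surjective Φ) N]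
    refine Subgroup.map_mono (hmax₀ _ inferInstance (hback N hNL) (hNp.comap_of_ker_isPGroup _ ?_))
    rw [QuotientGroup.ker_mk']
    exact hV₀p.to_le hΦV
  have hcent₂ : L₂ ⊓ Subgroup.centralizer (V : Set ((G ⧸ A) ⧸ Φ)) ≤ V := by
    set C := (L₂ ⊓ Subgroup.centralizer (V : Set ((G ⧸ A) ⧸ Φ))).comap π₂ with hC
    have : (Subgroup.centralizer (V : Set ((G ⧸ A) ⧸ Φ))).Normal := Subgroup.normal_centralizer
    have hCn : C.Normal := inferInstance
    have hCL : C ≤ L₁ := hback _ inf_le_left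
    have hCp : IsPGroup p C := by
      intro c
      obtain ⟨k, m, hm, hkm⟩ := Nat.exists_eq_pow_mul_and_not_dvd (orderOf_pos (c : G ⧸ A)).ne' p hp.out.ne_one
      refine ⟨k, Subtype.ext ?_⟩
      set x := (c : G ⧸ A) ^ p ^ k with hx
      change x = 1
      have hxC : x ∈ C := pow_mem c.2 _
      have hxcop : (orderOf x).Coprime p := by
        rw [hx, orderOf_pow' _ (pow_ne_zero _ hp.out.ne_zero), hkm, Nat.gcd_eq_right (dvd_mul_right _ _),
          Nat.mul_div_cancel_left _ (pow_pos hp.out.pos k)]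
        exact (hp.out.coprime_iff_not_dvd.mpr hm).symm
      have hfix := LocalEvenB.commute_of_frattini hV₀p (x := x) (by rw [Subgroup.normalizer_eq_top]; trivial) hxcop
        (fun y hy => by
          change x * y * x⁻¹ * y⁻¹ ∈ Φ
          refine (QuotientGroup.eq_one_iff _).mp ?_
          change π₂ (x * y * x⁻¹ * y⁻¹) = 1
          rw [map_mul, map_mul, map_mul, map_inv, map_inv, mul_inv_eq_one, mul_inv_eq_iff_eq_mul]
          exact (Subgroup.mem_centralizer_iff.mp hxC.2 _ ⟨y, hy, rfl⟩).symm)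
      have hxV : x ∈ V₀ := hcent₀ ⟨hCL hxC, by
        change x ∈ Subgroup.centralizer (V₀ : Set (G ⧸ A))
        rw [Subgroup.mem_centralizer_iff]; exact fun y hy => (hfix y hy).eq.symm⟩
      obtain ⟨j, hj⟩ := hV₀p ⟨x, hxV⟩
      exact orderOf_eq_one_iff.mp (Nat.eq_one_of_dvd_coprimes (hxcop.pow_right j) dvd_rfl
        (orderOf_dvd_of_pow_eq_one (congrArg Subtype.val hj)))
    intro y hy
    obtain ⟨c, rfl⟩ := QuotientGroup.mk'_surjective Φ y
    exact ⟨c, hmax₀ C hCn hCL hCp hy, rfl⟩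
  have hcore := not_dvd_relIndex_of_fixed hodd2 L₂ V ((R.map π₁).map π₂) ((R₀.map π₁).map π₂) hcop2
    (Subgroup.map_mono (Subgroup.map_mono hR₀)) hp2 hLR2 hZ2 (Subgroup.map_mono hV₀L) hV hcent₂ hmax₂
  -- the series
  set B := (V.comap π₂).comap π₁ with hB
  have hBn : (B.subgroupOf L).Normal := inferInstance
  have hAn' : (A.subgroupOf L).Normal := inferInstance
  have hBL : B ≤ L := by
    rw [hB, hVcomap]
    refine (Subgroup.comap_mono hV₀L).trans ?_
    rw [Subgroup.comap_map_eq, QuotientGroup.ker_mk']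
    exact sup_le le_rfl hAL
  refine Coprime23.pLengthLE_one_of_series (A.subgroupOf L) (B.subgroupOf L) ?_ ?_ ?_
  · rw [Basics.card_subgroupOf hAL, hA, Subgroup.card_map_of_injective L.subtype_injective]
    exact Basics.pPrimeCore_coprime p
  · rw [Subgroup.relIndex_subgroupOf hBL]
    obtain ⟨k, hk⟩ := IsPGroup.iff_card.mp hV₀p
    refine ⟨k, ?_⟩
    conv_lhs => rw [← QuotientGroup.ker_mk' A]
    rw [Subgroup.relIndex_ker, hB, hVcomap,
      Subgroup.map_comap_eq_self_of_surjective (QuotientGroup.mk'_surjective A) V₀, hk]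
  · rw [show (B.subgroupOf L).index = V.relIndex L₂ by
      rw [← Subgroup.relIndex, hB, Subgroup.relIndex_comap, Subgroup.relIndex_comap]]
    exact (hp.out.coprime_iff_not_dvd.mpr hcore).symm

end Cfsg.Agent.OddLocal
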