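import Cfsg.Agent.Lib.OddLocal.HighLow
import Mathlib.GroupTheory.Transfer

/-! Odd solvable groups of rank at most two: automorphisms, `p`-structure and the Sylow tower. -/

set_option autoImplicit false
set_option maxHeartbeats 800000

namespace Cfsg.Agent.OddLocal

open scoped commutatorElement

variable {G : Type*} [Group G] [Finite G] {p : ℕ}

theorem rank_of_pRankLE [hp : Fact p.Prime] {R : Subgroup G} (hr : PRankLE p 2 R) (X : Subgroup R)
    (hX : IsElementaryAbelian p X) : Nat.card X ≤ p ^ 2 := hr X hX.1 hX.2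

theorem rank_of_le [hp : Fact p.Prime] {K : Subgroup G} (hr : ∀ X : Subgroup G, X ≤ K → IsElementaryAbelian p X →
    Nat.card X ≤ p ^ 2) (X : Subgroup K) (hX : IsElementaryAbelian p X) : Nat.card X ≤ p ^ 2 := by
  rw [← Subgroup.card_map_of_injective K.subtype_injective]
  exact hr _ (Subgroup.map_subtype_le X) (ea_map hX K.subtype)

theorem pRankLE_iff_le [hp : Fact p.Prime] {K : Subgroup G} :
    PRankLE p 2 K ↔ ∀ X : Subgroup G, X ≤ K → IsElementaryAbelian p X → Nat.card X ≤ p ^ 2 := by
  refine ⟨fun h X hXK hX => ?_, fun h X hc he => rank_of_le h X ⟨hc, he⟩⟩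
  rw [← Basics.card_subgroupOf hXK]
  exact h _ ⟨⟨fun a b => Subtype.ext (Subtype.ext (ea_commute hX a.2 b.2).eq)⟩⟩
    fun a ha => Subtype.ext (hX.2 _ ha)

/-- Elements of order a prime larger than `r` centralize `r`-groups of rank at most two. -/
theorem large_prime_centralizes {r q : ℕ} [hr : Fact r.Prime] [hq : Fact q.Prime] (hr2 : r ≠ 2) (hrq : r < q)
    {T : Subgroup G} [T.Normal] (hT : IsPGroup r T)
    (hrank : ∀ X : Subgroup T, IsElementaryAbelian r X → Nat.card X ≤ r ^ 2) {x : G} (hx : ∃ j, x ^ q ^ j = 1) :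
    x ∈ Subgroup.centralizer (T : Set G) := by
  obtain ⟨WW, hWWn, P, hPn, hPr, hPcard, -, -, hkill⟩ := exists_small_section hr2 hT hrank
  obtain ⟨j, hj⟩ := hx
  have hcop : (orderOf x).Coprime r :=
    Nat.Coprime.coprime_dvd_left (orderOf_dvd_of_pow_eq_one hj)
      (((Nat.coprime_primes hq.out hr.out).mpr hrq.ne').pow_left j)
  refine hkill x hcop ?_
  set π := QuotientGroup.mk' WW
  set L := Subgroup.zpowers (π x)
  have hLq : IsPGroup q L := by
    refine IsPGroup.of_card_dvd_pow (n := j) ?_
    rw [Nat.card_zpowers]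
    exact orderOf_dvd_of_pow_eq_one (by rw [← map_pow, hj, map_one])
  let φ : L →* MulAut P := MulAut.conjNormal.comp L.subtype
  let _ : MulAction L P := MulAction.compHom P φ
  have hmod := hLq.card_modEq_card_fixedPoints P
  let C : Subgroup P :=
    { carrier := MulAction.fixedPoints L P
      one_mem' := fun l => map_one (φ l)
      mul_mem' := fun {a b} ha hb l => by
        change φ l (a * b) = a * b
        rw [map_mul]
        exact congrArg₂ (· * ·) (ha l) (hb l)
      inv_mem' := fun {a} ha l => by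
        change φ l a⁻¹ = a⁻¹
        rw [map_inv]
        exact congrArg (·⁻¹) (ha l) }
  have hC : C = ⊤ := by
    by_contra hne
    obtain ⟨a, ha⟩ := IsPGroup.iff_card.mp hPr
    obtain ⟨b, hb⟩ := IsPGroup.iff_card.mp (hPr.to_subgroup C)
    rw [show Nat.card (MulAction.fixedPoints L P) = Nat.card C from rfl, hb, ha] at hmod
    have hba : b < a := by
      refine (Nat.pow_lt_pow_iff_right hr.out.one_lt).mp ?_
      rw [← hb, ← ha, ← Subgroup.card_top (G := P)]
      exact Basics.card_lt_of_lt (lt_top_iff_ne_top.mpr hne)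
    have ha2 : a ≤ 2 := (Nat.pow_le_pow_iff_right hr.out.one_lt).mp (ha ▸ hPcard)
    have hd : q ∣ r ^ a - r ^ b := (Nat.modEq_iff_dvd' (Nat.pow_le_pow_right hr.out.pos hba.le)).mp hmod.symm
    have hsmall : ∀ n, 0 < n → n < q → ¬ q ∣ n := fun n h1 h2 h3 => by
      have := Nat.le_of_dvd h1 h3
      omega
    have hr1 := hr.out.one_lt
    have hqodd : r + 1 < q := by
      rcases eq_or_lt_of_le (Nat.succ_le_of_lt hrq) with e | e
      · exfalso
        have hro : Odd r := hr.out.odd_of_ne_two hr2
        have hqo : Odd q := hq.out.odd_of_ne_two (by omega)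
        rw [← e] at hqo
        exact (Nat.not_even_iff_odd.mpr hqo) hro.add_one
      · exact e
    have hrn : ¬ q ∣ r := hsmall r hr.out.pos hrq
    interval_cases a <;> interval_cases b
    · simp only [pow_zero, pow_one] at hd
      exact hsmall (r - 1) (by omega) (by omega) hd
    · rw [show r ^ 2 - r ^ 0 = (r + 1) * (r - 1) by rw [pow_zero, ← Nat.sq_sub_sq, one_pow]] at hd
      rcases hq.out.dvd_mul.mp hd with h | h
      · exact hsmall _ (by omega) hqodd h
      · exact hsmall _ (by omega) (by omega) h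
    · rw [show r ^ 2 - r ^ 1 = r * (r - 1) by rw [pow_one, pow_two, Nat.mul_sub_one]] at hd
      rcases hq.out.dvd_mul.mp hd with h | h
      · exact hrn h
      · exact hsmall _ (by omega) (by omega) h
  rw [Subgroup.mem_centralizer_iff]
  intro v hv
  have h1 : (⟨v, hv⟩ : P) ∈ C := hC ▸ Subgroup.mem_top _
  have h2 : π x * v * (π x)⁻¹ = v := congrArg Subtype.val (h1 ⟨π x, Subgroup.mem_zpowers _⟩)
  exact (mul_inv_eq_iff_eq_mul.mp h2).symm

theorem pPrimeCore_ne_two [hp : Fact p.Prime] (hodd : Odd (Nat.card G)) (hpG : p ∣ Nat.card G) : p ≠ 2 := fun e => by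
  rw [e] at hpG
  exact (Nat.not_even_iff_odd.mpr hodd) (even_iff_two_dvd.mpr hpG)

/-- A `p`-subgroup of `G/O_{p'}(G)` has rank at most two when `G` has. -/
theorem rank_quotient [hp : Fact p.Prime] (hr : PRankLE p 2 G) (S : Sylow p (G ⧸ Cfsg.pPrimeCore p G))
    (X : Subgroup (G ⧸ Cfsg.pPrimeCore p G)) (hXS : X ≤ (S : Subgroup _)) (hX : IsElementaryAbelian p X) :
    Nat.card X ≤ p ^ 2 := by
  obtain ⟨T, hT⟩ := Sylow.mapSurjective_surjective (QuotientGroup.mk'_surjective (Cfsg.pPrimeCore p G)) p S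
  set π := QuotientGroup.mk' (Cfsg.pPrimeCore p G)
  set X' := X.comap π ⊓ (T : Subgroup G) with hX'
  have hker : ∀ a ∈ (T : Subgroup G), π a = 1 → a = 1 := by
    intro a ha h1
    obtain ⟨n, hn⟩ := IsPGroup.iff_card.mp T.2
    have h2 : orderOf a ∣ p ^ n := hn ▸ Subgroup.orderOf_dvd_natCard _ ha
    have h3 : orderOf a ∣ Nat.card (Cfsg.pPrimeCore p G) :=
      Subgroup.orderOf_dvd_natCard _ ((QuotientGroup.eq_one_iff a).mp h1)
    exact orderOf_eq_one_iff.mp (Nat.eq_one_of_dvd_coprimes
      ((Basics.pPrimeCore_coprime (G := G) p).symm.pow_left n) h2 h3)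
  have hmap : X'.map π = X := by
    refine le_antisymm (Subgroup.map_le_iff_le_comap.mpr inf_le_left) fun y hy => ?_
    have hyS : y ∈ (T : Subgroup G).map π := by
      rw [← hT] at hXS
      exact hXS hy
    obtain ⟨a, ha, rfl⟩ := hyS
    exact ⟨a, ⟨hy, ha⟩, rfl⟩
  have hinj : X' ⊓ π.ker = ⊥ := by
    rw [eq_bot_iff]
    exact fun a ha => Subgroup.mem_bot.mpr (hker a ha.1.2 ha.2)
  have hcard : Nat.card X = Nat.card X' := by
    have h := Basics.card_map_mul_card_inf_ker π X'
    rw [hmap, hinj, Subgroup.card_bot, mul_one] at h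
    exact h
  rw [hcard]
  refine hr X' ⟨⟨fun a b => Subtype.ext ?_⟩⟩ fun a ha => ?_
  · have h1 : π ((a : G) * b * ((b : G) * a)⁻¹) = 1 := by
      rw [map_mul, map_inv, map_mul, map_mul, (ea_commute hX (show π a ∈ X from a.2.1) (show π b ∈ X from b.2.1)).eq,
        mul_inv_cancel]
    exact mul_inv_eq_one.mp (hker _ (mul_mem (mul_mem a.2.2 b.2.2) (inv_mem (mul_mem b.2.2 a.2.2))) h1)
  · exact hker _ (pow_mem ha.2 p) (by rw [map_pow]; exact hX.2 _ ha.1)

/-- `O_{p'}(G/O_{p'}(G))` is trivial and the image of a Sylow subgroup is `O_p`. -/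
theorem quotient_structure [hp : Fact p.Prime] [Group.IsSolvable G] (hodd : Odd (Nat.card G)) (hp2 : p ≠ 2)
    (hr : PRankLE p 2 G) :
    Cfsg.pPrimeCore p (G ⧸ Cfsg.pPrimeCore p G) = ⊥ ∧
      ∀ S : Sylow p (G ⧸ Cfsg.pPrimeCore p G), (S : Subgroup _) = Cfsg.pCore p (G ⧸ Cfsg.pPrimeCore p G) := by
  have hO : Cfsg.pPrimeCore p (G ⧸ Cfsg.pPrimeCore p G) = ⊥ := Basics.pPrimeCore_quotient_eq_bot p
  exact ⟨hO, fun S => sylow_normal_of_rank_two (hodd.of_dvd_nat (Subgroup.card_quotient_dvd_card _)) hp2 hO S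
    (rank_quotient hr S)⟩

/-- In an odd solvable group with `O_{p'} = 1` and a normal rank two Sylow `p`-subgroup the primes dividing
the order are at most `p` and the derived group is a `p`-group. -/
theorem structure_of_reduced [hp : Fact p.Prime] [Group.IsSolvable G] (hodd : Odd (Nat.card G)) (hp2 : p ≠ 2)
    (hO : Cfsg.pPrimeCore p G = ⊥) (hrk : ∀ X : Subgroup G, X ≤ Cfsg.pCore p G → IsElementaryAbelian p X →
      Nat.card X ≤ p ^ 2) :
    (∀ q : ℕ, q.Prime → q ∣ Nat.card G → q ≤ p) ∧ commutator G ≤ Cfsg.pCore p G := by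
  have hP : IsPGroup p (Cfsg.pCore p G) := Basics.pCore_isPGroup p
  refine ⟨fun q hq hqd => ?_, ?_⟩
  · by_contra hqp
    have : Fact q.Prime := ⟨hq⟩
    obtain ⟨x, hx⟩ := exists_prime_orderOf_dvd_card' q hqd
    have h1 := Basics.centralizer_pCore_le hO (large_prime_centralizes (q := q) hp2 (by omega) hP
      (rank_of_le hrk) ⟨1, by rw [pow_one, ← hx, pow_orderOf_eq_one]⟩)
    obtain ⟨k, hk⟩ := hP ⟨x, h1⟩
    have h2 : orderOf x ∣ p ^ k := orderOf_dvd_of_pow_eq_one (congrArg Subtype.val hk)
    rw [hx] at h2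
    exact hqp ((Nat.prime_dvd_prime_iff_eq hq hp.out).mp (hq.dvd_of_dvd_pow h2)).le
  · refine Basics.le_pCore (N := commutator G) fun y => ?_
    set n := Nat.factorization (Nat.card G) p
    refine ⟨n, Subtype.ext ?_⟩
    rw [Subgroup.coe_pow, Subgroup.coe_one]
    have hz : ((y : G) ^ p ^ n) ^ (Nat.card G / p ^ n) = 1 := by
      rw [← pow_mul, Nat.mul_div_cancel' (Nat.ordProj_dvd _ _), pow_card_eq_one']
    have hcop : (orderOf ((y : G) ^ p ^ n)).Coprime p :=
      Nat.Coprime.coprime_dvd_left (orderOf_dvd_of_pow_eq_one hz)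
        (hp.out.coprime_iff_not_dvd.mpr (Nat.not_dvd_ordCompl hp.out Nat.card_pos.ne')).symm
    have h1 := Basics.centralizer_pCore_le hO
      (derived_pPower_centralizes hodd hp2 hP (rank_of_le hrk) (pow_mem y.2 _) hcop)
    obtain ⟨k, hk⟩ := hP ⟨_, h1⟩
    exact orderOf_eq_one_iff.mp (Nat.eq_one_of_dvd_coprimes (hcop.pow_right k) dvd_rfl
      (orderOf_dvd_of_pow_eq_one (congrArg Subtype.val hk)))

/-- The elements of an odd automorphism group of a rank two group: derived elements are `p`-elements. -/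
theorem derived_isPGroup [hp : Fact p.Prime] (hp2 : p ≠ 2) {R A : Subgroup G} (hR : IsPGroup p R)
    (hr : PRankLE p 2 R) (hA : A ≤ Subgroup.normalizer (R : Set G)) (hAs : Group.IsSolvable A)
    (hAodd : Odd (Nat.card A)) (hf : A ⊓ Subgroup.centralizer (R : Set G) = ⊥) : IsPGroup p ↥⁅A, A⁆ := by
  set X := R ⊔ A with hX
  have hRX : X ≤ Subgroup.normalizer (R : Set G) := sup_le Subgroup.le_normalizer hA
  have hRn : (R.subgroupOf X).Normal := (Subgroup.normal_subgroupOf_iff_le_normalizer le_sup_left).mpr hRX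
  have hRs : Group.IsSolvable R := by have := hR.isNilpotent; infer_instance
  have hXs : Group.IsSolvable X := Components.isSolvable_sup hA hRs hAs
  have hXodd : Odd (Nat.card X) := by
    obtain ⟨n, hn⟩ := IsPGroup.iff_card.mp hR
    refine (Odd.mul (hn ▸ (hp.out.odd_of_ne_two hp2).pow : Odd (Nat.card R)) hAodd).of_dvd_nat ?_
    have h := Subgroup.card_dvd_of_le (le_refl X)
    have h2 : (R.subgroupOf X).index ∣ Nat.card A := by
      have e1 : R.subgroupOf X ⊔ A.subgroupOf X = ⊤ := by
        rw [← Subgroup.subgroupOf_sup le_sup_left le_sup_right, Subgroup.subgroupOf_self]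
      have h3 := Subgroup.relIndex_sup_left (A.subgroupOf X) (R.subgroupOf X)
      rw [e1, Subgroup.relIndex_top_right] at h3
      rw [h3, ← Basics.card_subgroupOf (le_sup_right : A ≤ X)]
      exact Subgroup.relIndex_dvd_card _ _
    calc Nat.card X = Nat.card (R.subgroupOf X) * (R.subgroupOf X).index := (Subgroup.card_mul_index _).symm
      _ ∣ Nat.card R * Nat.card A := by
        rw [Basics.card_subgroupOf le_sup_left]
        exact mul_dvd_mul_left _ h2
  have hrankT : ∀ Y : Subgroup (R.subgroupOf X), IsElementaryAbelian p Y → Nat.card Y ≤ p ^ 2 := by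
    intro Y hY
    rw [← Subgroup.card_map_of_injective (f := (Subgroup.subgroupOfEquivOfLe (le_sup_left : R ≤ X)).toMonoidHom)
      (Subgroup.subgroupOfEquivOfLe (le_sup_left : R ≤ X)).injective]
    exact hr _ (isMulCommutative_map hY.1 _) (by
      rintro _ ⟨a, ha, rfl⟩
      rw [← map_pow, hY.2 a ha, map_one])
  intro y
  refine ⟨Nat.factorization (Nat.card G) p, Subtype.ext ?_⟩
  rw [Subgroup.coe_pow, Subgroup.coe_one]
  set n := Nat.factorization (Nat.card G) p
  have hyA : (y : G) ^ p ^ n ∈ A := pow_mem (Subgroup.commutator_le_self A y.2) _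
  let z : X := ⟨(y : G) ^ p ^ n, Subgroup.mem_sup_right hyA⟩
  have hcop : (orderOf z).Coprime p := by
    rw [← Subgroup.orderOf_coe]
    refine Nat.Coprime.coprime_dvd_left (orderOf_dvd_of_pow_eq_one (n := Nat.card G / p ^ n) ?_)
      ((hp.out.coprime_iff_not_dvd.mpr (Nat.not_dvd_ordCompl hp.out Nat.card_pos.ne')).symm)
    change ((y : G) ^ p ^ n) ^ (Nat.card G / p ^ n) = 1
    rw [← pow_mul, Nat.mul_div_cancel' (Nat.ordProj_dvd _ _), pow_card_eq_one']
  have hzc : z ∈ commutator X := by
    have hle : ⁅A, A⁆.subgroupOf X ≤ commutator X := by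
      intro u hu
      have h1 : ⁅A, A⁆ ≤ (commutator X).map X.subtype := by
        rw [X.map_subtype_commutator]
        exact Subgroup.commutator_mono le_sup_right le_sup_right
      obtain ⟨v, hv, e⟩ := h1 hu
      exact (Subtype.ext e : v = u) ▸ hv
    exact hle (show (z : G) ∈ ⁅A, A⁆ from pow_mem y.2 _)
  have h := derived_pPower_centralizes (T := R.subgroupOf X) hXodd hp2 (hR.comap_subtype (K := X)) hrankT hzc hcop
  have hmem : (y : G) ^ p ^ n ∈ A ⊓ Subgroup.centralizer (R : Set G) := ⟨hyA, Subgroup.mem_centralizer_iff.mpr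
    fun r hr' => congrArg Subtype.val (Subgroup.mem_centralizer_iff.mp h ⟨r, Subgroup.mem_sup_left hr'⟩ hr')⟩
  rw [hf, Subgroup.mem_bot] at hmem
  exact hmem

theorem mem_pCore_of_mem_fitting [hp : Fact p.Prime] {y : G} (hy : y ∈ Cfsg.fittingSubgroup G)
    (hyp : ∃ j, y ^ p ^ j = 1) : y ∈ Cfsg.pCore p G := by
  have hN : Group.IsNilpotent (Cfsg.fittingSubgroup G) := Components.fitting_isNilpotent
  obtain ⟨j, hj⟩ := hyp
  have hzp : IsPGroup p (Subgroup.zpowers (⟨y, hy⟩ : Cfsg.fittingSubgroup G)) := by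
    refine IsPGroup.of_card_dvd_pow (n := j) ?_
    rw [Nat.card_zpowers]
    exact orderOf_dvd_of_pow_eq_one (Subtype.ext hj)
  obtain ⟨S, hS⟩ := hzp.exists_le_sylow
  have hSn : (S : Subgroup (Cfsg.fittingSubgroup G)).Normal :=
    S.normal_of_normalizerCondition Group.normalizerCondition_of_isNilpotent
  have hSc := S.characteristic_of_normal hSn
  have : ((S : Subgroup (Cfsg.fittingSubgroup G)).map (Cfsg.fittingSubgroup G).subtype).Normal :=
    ConjAct.normal_of_characteristic_of_normal
  exact Basics.le_pCore (N := (S : Subgroup (Cfsg.fittingSubgroup G)).map (Cfsg.fittingSubgroup G).subtype)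
    (S.2.map _) ⟨⟨y, hy⟩, hS (Subgroup.mem_zpowers _), rfl⟩

/-- The Sylow tower of an odd solvable group with Fitting subgroup of rank at most two. -/
theorem exists_hall_large [Group.IsSolvable G] (hodd : Odd (Nat.card G))
    (hrF : ∀ r : ℕ, r.Prime → ∀ X : Subgroup G, X ≤ Cfsg.pCore r G → IsElementaryAbelian r X →
      Nat.card X ≤ r ^ 2) (p : ℕ) :
    ∃ N : Subgroup G, N.Characteristic ∧ Cfsg.IsPiHall {q | q.Prime ∧ p < q} N := by
  set gens : Set G := {x | ∃ q : ℕ, q.Prime ∧ p < q ∧ ∃ j, x ^ q ^ j = 1}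
  set N := Subgroup.closure gens with hN
  have hgen : ∀ φ : G ≃* G, ∀ x ∈ gens, φ x ∈ gens := by
    rintro φ x ⟨q, hq, hpq, j, hj⟩
    exact ⟨q, hq, hpq, j, by rw [← map_pow, hj, map_one]⟩
  have hNc : N.Characteristic := by
    rw [Subgroup.characteristic_iff_map_le]
    intro φ
    rw [hN, MonoidHom.map_closure, Subgroup.closure_le]
    rintro _ ⟨x, hx, rfl⟩
    exact Subgroup.subset_closure (hgen φ x hx)
  refine ⟨N, hNc, fun r hr hrN => ⟨hr, ?_⟩, ?_⟩
  · by_contra hrp
    rw [not_lt] at hrp
    have : Fact r.Prime := ⟨hr⟩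
    have hr2 : r ≠ 2 := fun e => by
      rw [e] at hrN
      exact (Nat.not_even_iff_odd.mpr hodd) (even_iff_two_dvd.mpr (hrN.trans N.card_subgroup_dvd_card))
    have hcent : N ≤ Subgroup.centralizer (Cfsg.pCore r G : Set G) := by
      refine (le_of_eq hN).trans ((Subgroup.closure_le _).mpr ?_)
      rintro x ⟨q, hq, hpq, hxq⟩
      have : Fact q.Prime := ⟨hq⟩
      exact large_prime_centralizes hr2 (lt_of_le_of_lt hrp hpq) (Basics.pCore_isPGroup r)
        (rank_of_le (hrF r hr)) hxq
    -- the `r`-elements of `N` are central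
    obtain ⟨S⟩ : Nonempty (Sylow r N) := inferInstance
    have hNn : N.Normal := inferInstance
    have hSle : ∀ s ∈ (S : Subgroup N), (s : G) ∈ Cfsg.pCore r G := by
      intro s hs
      obtain ⟨j, hj⟩ := S.2 ⟨s, hs⟩
      have hj' : (s : G) ^ r ^ j = 1 :=
        congrArg (fun z : (S : Subgroup N) => ((z : N) : G)) hj
      -- `N / (N ∩ F)` is an abelian group generated by elements of larger prime order
      have hder := commutator_le_fittingSubgroup hodd hrF
      set F := Cfsg.fittingSubgroup G with hF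
      have hFn : F.Normal := Components.fitting_normal
      set π := QuotientGroup.mk' F
      have hsπ : (orderOf (π s)).Coprime r := by
        let D : Subgroup (G ⧸ F) :=
          { carrier := {z | (orderOf z).Coprime r}
            one_mem' := by simp
            mul_mem' := fun {a b} ha hb => by
              have hab : Commute a b := by
                induction a using QuotientGroup.induction_on with
                | H a' =>
                  induction b using QuotientGroup.induction_on with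
                  | H b' =>
                    rw [Commute, SemiconjBy, ← commutatorElement_eq_one_iff_mul_comm, ← QuotientGroup.mk'_apply,
                      ← QuotientGroup.mk'_apply, ← map_commutatorElement]
                    exact (QuotientGroup.eq_one_iff _).mpr (hder (Subgroup.commutator_mem_commutator
                      (Subgroup.mem_top _) (Subgroup.mem_top _)))
              exact (Nat.Coprime.mul_left ha hb).coprime_dvd_left hab.orderOf_mul_dvd_mul_orderOf
            inv_mem' := fun {a} ha => by simpa using ha }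
        have hle : N ≤ D.comap π := by
          rw [hN, Subgroup.closure_le]
          rintro x ⟨q, hq, hpq, i, hi⟩
          exact (((Nat.coprime_primes hq hr).mpr (by omega)).pow_left i).coprime_dvd_left
            (orderOf_dvd_of_pow_eq_one (by rw [← map_pow, hi, map_one]))
        exact hle s.2
      have h1 : π s = 1 := orderOf_eq_one_iff.mp (Nat.eq_one_of_dvd_coprimes (hsπ.pow_right j) dvd_rfl
        (orderOf_dvd_of_pow_eq_one (by rw [← map_pow, hj', map_one])))
      exact mem_pCore_of_mem_fitting ((QuotientGroup.eq_one_iff _).mp h1) ⟨j, hj'⟩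
    have hcen : Subgroup.normalizer ((S : Subgroup N) : Set N) ≤ Subgroup.centralizer ((S : Subgroup N) : Set N) := by
      intro w _
      rw [Subgroup.mem_centralizer_iff]
      exact fun s hs => Subtype.ext (Subgroup.mem_centralizer_iff.mp (hcent w.2) _ (hSle s hs))
    set f := MonoidHom.transferSylow S hcen
    have hker : ∀ x : N, (x : G) ∈ gens → f x = 1 := by
      rintro x ⟨q, hq, hpq, j, hj⟩
      obtain ⟨m, hm⟩ := S.2 (f x)
      have h1 : f x ^ q ^ j = 1 := by rw [← map_pow, show x ^ q ^ j = 1 from Subtype.ext hj, map_one]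
      exact eq_one_of_pow_primes hr hq (by omega) hm h1
    have htop : (f.ker).map N.subtype = N := by
      refine le_antisymm (Subgroup.map_subtype_le _) ?_
      refine (le_of_eq hN).trans ((Subgroup.closure_le _).mpr ?_)
      exact fun x hx => ⟨⟨x, Subgroup.subset_closure hx⟩, hker _ hx, rfl⟩
    have hk : f.ker = ⊤ := Subgroup.map_injective N.subtype_injective
      (htop.trans (by rw [← MonoidHom.range_eq_map, Subgroup.range_subtype]))
    have hS1 : (S : Subgroup N) = ⊥ := by
      have h := (MonoidHom.ker_transferSylow_isComplement' S hcen).disjoint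
      rw [hk] at h
      exact le_bot_iff.mp (h le_top le_rfl)
    exact Sylow.ne_bot_of_dvd_card S hrN hS1
  · rintro q hq ⟨-, hpq⟩
    have : Fact q.Prime := ⟨hq⟩
    obtain ⟨S⟩ : Nonempty (Sylow q G) := inferInstance
    have hSN : (S : Subgroup G) ≤ N := fun x hx => by
      obtain ⟨j, hj⟩ := S.2 ⟨x, hx⟩
      exact Subgroup.subset_closure ⟨q, hq, hpq, j, congrArg Subtype.val hj⟩
    exact fun hd => S.not_dvd_index (hd.trans (Subgroup.index_dvd_of_le hSN))

end Cfsg.Agent.OddLocal
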