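import Cfsg.Agent.Lib.OddLocal.UniqueH

/-! The uniqueness theorem for minimal simple groups of odd order. -/

set_option autoImplicit false
set_option maxHeartbeats 800000

namespace Cfsg.Agent.OddLocal

variable {G : Type*} [Group G] [Finite G] {p : ℕ}

/-- An element of order `p` centralizing a maximal normal elementary abelian subgroup of a Sylow subgroup lies
in it. -/
theorem mem_of_centralizes_maxNormalEA [hp : Fact p.Prime] (hp2 : p ≠ 2) (P : Sylow p G)
    {E' : Subgroup (P : Subgroup G)} (hE : IsMaxNormalEA p E') {x : G}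
    (hx : x ∈ Subgroup.centralizer ((E'.map (P : Subgroup G).subtype : Subgroup G) : Set G))
    (hxo : orderOf x = p) : x ∈ E'.map (P : Subgroup G).subtype := by
  set A := E'.map (P : Subgroup G).subtype with hA
  have := hE.1
  have hPN : (P : Subgroup G) ≤ Subgroup.normalizer (A : Set G) := le_normalizer_map_subtype E'
  set N := Subgroup.normalizer (A : Set G) with hN
  let C := (Subgroup.centralizer (A : Set G)).subgroupOf N
  have hCn : C.Normal := (Subgroup.normal_subgroupOf_iff_le_normalizer (Subgroup.centralizer_le_normalizer (A : Set G))).mpr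
    (normalizer_le_normalizer_centralizer A)
  let T : Sylow p N := P.subtype hPN
  obtain ⟨S, hS⟩ := LocalEvenA.exists_sylow_subgroupOf_normal T C
  have hxN : x ∈ N := Subgroup.centralizer_le_normalizer (A : Set G) hx
  have hxp' : IsPGroup p (Subgroup.zpowers (⟨⟨x, hxN⟩, hx⟩ : C)) :=
    IsPGroup.of_card (n := 1) (by rw [pow_one, Nat.card_zpowers, ← Subgroup.orderOf_coe, ← Subgroup.orderOf_coe, hxo])
  obtain ⟨S', hS'⟩ := hxp'.exists_le_sylow
  obtain ⟨c, hc⟩ := MulAction.exists_smul_eq C S S'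
  have hxS : (⟨⟨x, hxN⟩, hx⟩ : C) ∈ (S' : Subgroup C) := hS' (Subgroup.mem_zpowers _)
  rw [← hc, Sylow.coe_subgroup_smul, Subgroup.mem_pointwise_smul_iff_inv_smul_mem, hS] at hxS
  set y := ((c : N) : G)⁻¹ * x * ((c : N) : G) with hy
  have hyP : y ∈ (P : Subgroup G) := by
    simp [MulAut.smul_def, T, Subgroup.mem_subgroupOf] at hxS
    exact hxS
  have hyC : y ∈ Subgroup.centralizer (A : Set G) := mul_mem (mul_mem (inv_mem c.2) hx) c.2
  have hyA : y ∈ A := by
    refine ⟨⟨y, hyP⟩, mem_of_isMaxNormalEA hp2 P.2 hE ?_ ?_, rfl⟩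
    · rw [Subgroup.mem_centralizer_iff]
      exact fun a ha => Subtype.ext (Subgroup.mem_centralizer_iff.mp hyC _ ⟨a, ha, rfl⟩)
    · refine Subtype.ext ?_
      change y ^ p = 1
      have h1 : x ^ p = 1 := by rw [← hxo]; exact pow_orderOf_eq_one x
      have e : (((c : N) : G)⁻¹ * x * (((c : N) : G)⁻¹)⁻¹) ^ p = ((c : N) : G)⁻¹ * x ^ p * (((c : N) : G)⁻¹)⁻¹ := conj_pow
      rw [inv_inv, h1, mul_one, inv_mul_cancel] at e
      exact e
  have hcomm := Subgroup.mem_centralizer_iff.mp (show ((c : N) : G) ∈ Subgroup.centralizer (A : Set G) from c.2) _ hyA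
  have hxe : x = y :=
    calc x = ((c : N) : G) * y * ((c : N) : G)⁻¹ := by rw [hy]; group
      _ = y := by rw [← hcomm, mul_inv_cancel_right]
  rw [hxe]; exact hyA

/-- Every elementary abelian subgroup of rank three is a uniqueness subgroup. -/
theorem inUniqueMaximal_of_rank_three (hG : IsMinSimpleOddOrder G) [hp : Fact p.Prime] {X : Subgroup G}
    (hX : IsElementaryAbelian p X) (hX3 : p ^ 2 < Nat.card X) : InUniqueMaximal X := by
  have hp2 := prime_ne_two hG (dvd_card_of_ea hX (lt_of_le_of_lt (Nat.one_le_pow _ _ hp.out.pos) hX3))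
  obtain ⟨P, hXP⟩ := (isPGroup_of_exponent hX.2).exists_le_sylow
  have hXe : IsElementaryAbelian p (X.subgroupOf (P : Subgroup G)) :=
    ⟨⟨⟨fun a b => Subtype.ext (Subtype.ext (ea_commute hX a.2 b.2).eq)⟩⟩, fun a ha => Subtype.ext (hX.2 _ ha)⟩
  obtain ⟨E₀, hE₀n, hE₀e, hE₀3⟩ := exists_normal_ea_three hp2 P.2 hXe (by rwa [Basics.card_subgroupOf hXP])
  obtain ⟨E', hle, hE'⟩ := exists_isMaxNormalEA p hE₀e
  have hE3 : p ^ 2 < Nat.card (E'.map (P : Subgroup G).subtype) := by
    rw [Subgroup.card_map_of_injective (P : Subgroup G).subtype_injective]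
    exact lt_of_lt_of_le hE₀3 (Subgroup.card_le_of_le hle)
  have hEe : IsElementaryAbelian p (E'.map (P : Subgroup G).subtype) := ea_map hE'.2.1 _
  refine inUniqueMaximal_rank_three hG hEe hE3 ?_ hX hX3
  by_contra hU
  exact Setting.false_of_setting ⟨hG, hEe, hE3, fun x hx hxo => mem_of_centralizes_maxNormalEA hp2 P hE' hx hxo, hU⟩

theorem inUniqueMaximal_of_not_pRankLE (hG : IsMinSimpleOddOrder G) [hp : Fact p.Prime] {K : Subgroup G}
    (hK : K ≠ ⊤) (h : ¬ PRankLE p 2 K) : InUniqueMaximal K := by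
  obtain ⟨X, hXK, hXe, hX3⟩ := pRankLE_not_iff h
  exact inUniqueMaximal_mono (inUniqueMaximal_of_rank_three hG hXe hX3) hXK hK

/-- The uniqueness theorem. -/
theorem inUniqueMaximal_of_rank (hG : IsMinSimpleOddOrder G) {K : Subgroup G} (hK : K ≠ ⊤)
    (hK2 : ¬ RankLE 1 K) (hK3 : ¬ RankLE 2 K ∨ ¬ RankLE 2 (Subgroup.centralizer (K : Set G))) :
    InUniqueMaximal K := by
  rcases hK3 with h | h
  · simp only [RankLE, not_forall] at h
    obtain ⟨q, hq, h⟩ := h
    have : Fact q.Prime := ⟨hq⟩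
    exact inUniqueMaximal_of_not_pRankLE hG hK h
  · simp only [RankLE, not_forall] at h
    obtain ⟨q, hq, h⟩ := h
    have : Fact q.Prime := ⟨hq⟩
    obtain ⟨X, hXC, hXe, hX3⟩ := pRankLE_not_iff h
    simp only [RankLE, PRankLE, not_forall, not_le] at hK2
    obtain ⟨r, hr, B, hBc, hBp, hB⟩ := hK2
    have : Fact r.Prime := ⟨hr⟩
    rw [pow_one] at hB
    refine inUniqueMaximal_mono (inUniqueMaximal_of_centralizes hG (inUniqueMaximal_of_rank_three hG hXe hX3)
      (ea_map ⟨hBc, hBp⟩ K.subtype) (by rwa [Subgroup.card_map_of_injective K.subtype_injective]) ?_)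
      (Subgroup.map_subtype_le B) hK
    exact (Subgroup.map_subtype_le B).trans (Subgroup.le_centralizer_iff.mp hXC)

end Cfsg.Agent.OddLocal
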