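import Cfsg.Agent.Lib.OddLocal.SigmaCore
import Cfsg.Agent.Lib.OddLocal.UniqueI
import Cfsg.Agent.Lib.OddLocal.RankTwo
import Cfsg.Agent.Lib.OddLocal.PLen
import Cfsg.Agent.Lib.OddLocal.PLengthOne
import Cfsg.Agent.Lib.Coprime23.Omega
import Cfsg.Agent.Lib.Basics.CoprimeGen
import Cfsg.Agent.Lib.Basics.Hall
import Cfsg.Agent.Lib.Basics.FpfAbelian
import Cfsg.Agent.S1450

/-! BG Section 10: `C(x)` for primes outside `σ(M)`, and `p`-length one. -/

set_option autoImplicit false
set_option maxHeartbeats 800000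

namespace Cfsg.Agent.OddLocal

open scoped commutatorElement Pointwise
open Basics (IsSylowIn)

variable {G : Type*} [Group G] [Finite G] {p : ℕ} [hp : Fact p.Prime]

theorem le_of_pGroup_hall {π : Set ℕ} {H M B : Subgroup G} (hH : Cfsg.IsPiHallOf π H M)
    (hn : M ≤ Subgroup.normalizer (H : Set G)) (hBM : B ≤ M) (hB : IsPGroup p B) (hpπ : p ∈ π) : B ≤ H := by
  have : (H.subgroupOf M).Normal := (Subgroup.normal_subgroupOf_iff_le_normalizer hH.1).mpr hn
  intro x hx
  obtain ⟨k, hk⟩ := hB ⟨x, hx⟩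
  have h1 : orderOf ((⟨x, hBM hx⟩ : M) : M ⧸ H.subgroupOf M) = 1 := by
    refine Nat.eq_one_of_dvd_coprimes (((hp.out.coprime_iff_not_dvd).mpr (hH.2.2 p hp.out hpπ)).pow_left k)
      (orderOf_dvd_of_pow_eq_one ?_) (orderOf_dvd_natCard _)
    rw [← QuotientGroup.mk_pow, show (⟨x, hBM hx⟩ : M) ^ p ^ k = 1 from
      Subtype.ext (by simpa using congrArg Subtype.val hk), QuotientGroup.mk_one]
  exact (QuotientGroup.eq_one_iff (N := H.subgroupOf M) _).mp (orderOf_eq_one_iff.mp h1)

omit hp in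
theorem alphaCore_le (M : Subgroup G) : Cfsg.alphaCore M ≤ M := Subgroup.map_subtype_le _

omit hp in
theorem le_normalizer_alphaCore (M : Subgroup G) : M ≤ Subgroup.normalizer (Cfsg.alphaCore M : Set G) :=
  le_normalizer_piCoreOf_self _ M

theorem pRankLE_two_of_not_mem_sigma (hG : IsMinSimpleOddOrder G) {M : Subgroup G} (hM : IsCoatom M)
    (h : p ∉ Cfsg.sigma M) : PRankLE p 2 M := by
  by_contra hr
  exact h (alpha_subset_sigma hG hM ⟨hp.out, hr⟩)

theorem not_normalizer_le {M : Subgroup G} (h : p ∉ Cfsg.sigma M) (hpM : p ∣ Nat.card M) (P : Sylow p M) :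
    ¬ Subgroup.normalizer (((P : Subgroup M).map M.subtype : Subgroup G) : Set G) ≤ M :=
  fun h' => h ⟨hp.out, hpM, P, h'⟩

/-- BG 10.3. -/
theorem inUniqueMaximal_centralizer (hG : IsMinSimpleOddOrder G) {M : Subgroup G} (hM : IsCoatom M)
    {X : Subgroup G} (hXM : X ≤ M) (hXα : ∀ q : ℕ, q.Prime → q ∣ Nat.card X → q ∉ Cfsg.alpha M)
    {A : Subgroup G} (hA : IsElementaryAbelian p A) (hA2 : p < Nat.card A)
    (hAC : A ≤ Cfsg.alphaCore M ⊓ Subgroup.centralizer (X : Set G)) :
    Cfsg.InUniqueMaximal (M ⊓ Subgroup.centralizer (X : Set G)) := by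
  set H := Cfsg.alphaCore M with hHdef
  have hAH : A ≤ H := hAC.trans inf_le_left
  have hne : M ⊓ Subgroup.centralizer (X : Set G) ≠ ⊤ := fun e => hM.1 (top_le_iff.mp (e.symm.le.trans inf_le_left))
  have hAle : A ≤ M ⊓ Subgroup.centralizer (X : Set G) :=
    le_inf (hAH.trans (alphaCore_le M)) (hAC.trans inf_le_right)
  have hAne : A ≠ ⊤ := fun e => hne (top_le_iff.mp (e.symm.le.trans hAle))
  have hAp : IsPGroup p A := isPGroup_of_exponent hA.2
  by_cases hr : PRankLE p 2 (Subgroup.centralizer (A : Set G))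
  swap
  · refine inUniqueMaximal_mono (inUniqueMaximal_of_rank hG hAne (fun h => ?_) (Or.inr fun h => hr (h p hp.out))) hAle hne
    have h1 := h p hp.out ⊤ ⟨⟨fun a b => Subtype.ext (Subtype.ext (ea_commute hA a.1.2 b.1.2).eq)⟩⟩
      (fun a _ => Subtype.ext (hA.2 _ a.2))
    rw [Subgroup.card_top, pow_one] at h1
    omega
  have hpH : p ∣ Nat.card H := by
    rcases hAp.card_eq_or_dvd with e | e
    · have := hp.out.two_le; omega
    · exact e.trans (Subgroup.card_dvd_of_le hAH)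
  have hpα : p ∈ Cfsg.alpha M := piCoreOf_primes _ M hp.out hpH
  have hp2 : p ≠ 2 := prime_ne_two hG (hpH.trans (Subgroup.card_subgroup_dvd_card H))
  have hsol : Group.IsSolvable M := isSolvable_of_ne_top hG hM.1
  have hXn : X ≤ Subgroup.normalizer (H : Set G) := hXM.trans (le_normalizer_alphaCore M)
  have hcop : (Nat.card X).Coprime (Nat.card H) :=
    Nat.coprime_of_dvd fun q hq h1 h2 => hXα q hq h1 (piCoreOf_primes _ M hq h2)
  have hXA : X ≤ Subgroup.centralizer (A : Set G) := Subgroup.le_centralizer_iff.mp (hAC.trans inf_le_right)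
  obtain ⟨P, hP, hAP, hXP⟩ := Basics.exists_invariant_isSylowIn_ge X H hXn hcop
    (Or.inr (Basics.isSolvable_of_le (alphaCore_le M) hsol)) p A hAH hAp (hXA.trans (Subgroup.centralizer_le_normalizer _))
  have hPp : IsPGroup p P := hP.isPGroup
  have hXp : (Nat.card X).Coprime p := by
    rw [Nat.coprime_comm, hp.out.coprime_iff_not_dvd]
    exact fun h => hXα p hp.out h hpα
  set R := P ⊓ Subgroup.centralizer (A : Set G) with hR
  have hfix : R ≤ Subgroup.centralizer (X : Set G) := by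
    intro y hy
    rw [Subgroup.mem_centralizer_iff]
    intro x hx
    have hxR : x ∈ Subgroup.normalizer (R : Set G) := by
      refine mem_normalizer_of_conj_mem fun a ha => ⟨(Subgroup.mem_normalizer_iff.mp (hXP hx) a).mp ha.1, ?_⟩
      change x * a * x⁻¹ ∈ Subgroup.centralizer (A : Set G)
      exact mul_mem (mul_mem (hXA hx) (show a ∈ Subgroup.centralizer (A : Set G) from ha.2)) (inv_mem (hXA hx))
    have hord : (orderOf (conjAut hxR)).Coprime p := by
      refine Nat.Coprime.coprime_dvd_left (orderOf_dvd_of_pow_eq_one (MulEquiv.ext fun z => Subtype.ext ?_)) hXp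
      rw [coe_conjAut_pow, show x ^ Nat.card X = 1 from congrArg Subtype.val (pow_card_eq_one' (x := (⟨x, hx⟩ : X)))]
      simp
    have h := congrArg Subtype.val (Coprime23.fix_of_fix_omega (hPp.to_le inf_le_left) hp2 (conjAut hxR) hord
      (fun z hz => Subtype.ext (by
        have hzA : (z : G) ∈ A := by
          have he := ea_sup_zpowers hA z.2.2 (congrArg Subtype.val hz)
          have h1 : A ⊔ Subgroup.zpowers (z : G) ≤ Subgroup.centralizer (A : Set G) :=
            sup_le (Subgroup.le_centralizer_iff_isMulCommutative.mpr hA.1) (Subgroup.zpowers_le.mpr z.2.2)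
          have h2 := pRankLE_iff_le.mp hr _ h1 he
          have h3 : p ^ 2 ≤ Nat.card A := by
            obtain ⟨n, hn⟩ := IsPGroup.iff_card.mp hAp
            rw [hn] at hA2 ⊢
            refine Nat.pow_le_pow_right hp.out.pos ?_
            by_contra hlt
            have h4 := Nat.pow_le_pow_right hp.out.pos (show n ≤ 1 by omega)
            rw [pow_one] at h4
            omega
          have h5 : A = A ⊔ Subgroup.zpowers (z : G) := Subgroup.eq_of_le_of_card_ge le_sup_left (h2.trans h3)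
          exact h5.ge (Subgroup.mem_sup_right (Subgroup.mem_zpowers (z : G)))
        change x * (z : G) * x⁻¹ = z
        rw [← Subgroup.mem_centralizer_iff.mp (hXA hx) _ hzA, mul_inv_cancel_right])) ⟨y, hy⟩)
    exact mul_inv_eq_iff_eq_mul.mp h
  have hXP' : X ≤ Subgroup.centralizer (P : Set G) :=
    Basics.pq_lemma p A X P hAp hXp hPp (hAC.trans inf_le_right)
      (hAP.trans Subgroup.le_normalizer) hXP hfix
  -- the Sylow subgroup has rank three
  obtain ⟨B, hBM, hBe, hB3⟩ := pRankLE_not_iff hpα.2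
  have hBH : B ≤ H := le_of_pGroup_hall (alphaCore_hall hG hM).1 (le_normalizer_alphaCore M) hBM
    (isPGroup_of_exponent hBe.2) hpα
  obtain ⟨T, hT⟩ := ((isPGroup_of_exponent hBe.2).of_equiv (Subgroup.subgroupOfEquivOfLe hBH).symm).exists_le_sylow
  obtain ⟨k, -, hk⟩ := (Basics.isSylowIn_map T).exists_conj hP
  set B' := B.map (MulAut.conj k).toMonoidHom with hB'
  have hB'P : B' ≤ P := by
    rw [← hk]
    refine Subgroup.map_mono ?_
    intro b hb
    exact ⟨⟨b, hBH hb⟩, hT hb, rfl⟩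
  refine inUniqueMaximal_mono (inUniqueMaximal_of_rank_three hG (ea_map hBe _)
    (hB3.trans_le (Subgroup.card_map_of_injective (show Function.Injective (MulAut.conj k).toMonoidHom from
      (MulAut.conj k).injective)).ge))
    (le_inf ((hB'P.trans hP.1).trans (alphaCore_le M)) (hB'P.trans (Subgroup.le_centralizer_iff.mp hXP'))) hne

omit hp in
theorem exists_ea_of_not_isZGroup (hG : IsMinSimpleOddOrder G) {H : Subgroup G} (h : ¬ IsZGroup H) :
    ∃ (q : ℕ) (A : Subgroup G), q.Prime ∧ IsElementaryAbelian q A ∧ q < Nat.card A ∧ A ≤ H := by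
  rw [isZGroup_iff] at h
  push Not at h
  obtain ⟨q, hq, S, hS⟩ := h
  have : Fact q.Prime := ⟨hq⟩
  have hq2 : q ≠ 2 := by
    intro e
    have h1 : Nat.card (S : Subgroup H) ≠ 1 := fun h1 => hS (by
      rw [Subgroup.card_eq_one] at h1
      exact h1 ▸ Bot.isCyclic)
    have h2 : q ∣ Nat.card G := by
      rcases S.2.card_eq_or_dvd with e | e
      · exact absurd e h1
      · exact (e.trans (Subgroup.card_subgroup_dvd_card _)).trans (Subgroup.card_subgroup_dvd_card _)
    exact prime_ne_two hG h2 e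
  obtain ⟨X, hX, hX2⟩ := exists_ea_two_of_not_isCyclic hq2 S.2 hS
  refine ⟨q, (X.map (S : Subgroup H).subtype).map H.subtype, hq, ea_map (ea_map hX _) _, ?_, Subgroup.map_subtype_le _⟩
  rwa [Subgroup.card_map_of_injective H.subtype_injective, Subgroup.card_map_of_injective (Subgroup.subtype_injective _)]

omit hp in
theorem centralizer_le_of_inUniqueMaximal (hG : IsMinSimpleOddOrder G) {M : Subgroup G} (hM : IsCoatom M) {x : G}
    (hx : x ≠ 1) (h : Cfsg.InUniqueMaximal (M ⊓ Subgroup.centralizer ({x} : Set G))) :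
    Subgroup.centralizer ({x} : Set G) ≤ M ∧
      ∀ L : Subgroup G, IsCoatom L → Subgroup.centralizer ({x} : Set G) ≤ L → L = M := by
  have huniq : ∀ L : Subgroup G, IsCoatom L → Subgroup.centralizer ({x} : Set G) ≤ L → L = M := fun L hL hle =>
    h.unique ⟨hL, inf_le_right.trans hle⟩ ⟨hM, inf_le_left⟩
  obtain ⟨L, hL, hle⟩ := exists_maximal_ge (centralizer_ne_top hG (Set.mem_singleton x) hx)
  exact ⟨huniq L hL hle ▸ hle, huniq⟩

/-- BG 10.4. -/
theorem exists_central_element (hG : IsMinSimpleOddOrder G) {M : Subgroup G} (hM : IsCoatom M)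
    (hpM : p ∣ Nat.card M) (hps : p ∉ Cfsg.sigma M) (P : Sylow p M) :
    ∃ x : G, x ∈ ((Subgroup.center ↥(P : Subgroup M)).map (P : Subgroup M).subtype).map M.subtype ∧ orderOf x = p ∧
        IsZGroup ↥(Cfsg.alphaCore M ⊓ Subgroup.centralizer ({x} : Set G)) ∧
        ¬ (Subgroup.centralizer ({x} : Set G) ≤ M ∧
          ∀ L : Subgroup G, IsCoatom L → Subgroup.centralizer ({x} : Set G) ≤ L → L = M) := by
  set PG := (P : Subgroup M).map M.subtype with hPG
  set Z := ((Subgroup.center ↥(P : Subgroup M)).map (P : Subgroup M).subtype).map M.subtype with hZ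
  have hne : (P : Subgroup M) ≠ ⊥ := P.ne_bot_of_dvd_card hpM
  have : Nontrivial (P : Subgroup M) := (Subgroup.nontrivial_iff_ne_bot _).mpr hne
  have hzc : Nontrivial (Subgroup.center ↥(P : Subgroup M)) := P.2.center_nontrivial
  have hpz : p ∣ Nat.card (Subgroup.center ↥(P : Subgroup M)) := by
    rcases (P.2.to_subgroup (Subgroup.center ↥(P : Subgroup M))).card_eq_or_dvd with e | e
    · exact absurd e Finite.one_lt_card.ne'
    · exact e
  obtain ⟨z0, hz0⟩ := exists_prime_orderOf_dvd_card' p hpz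
  -- membership in the centre
  have hmem : ∀ {y : G}, y ∈ Z ↔ y ∈ PG ∧ ∀ w ∈ PG, w * y = y * w := by
    intro y
    constructor
    · rintro ⟨_, ⟨c, hc, rfl⟩, rfl⟩
      refine ⟨⟨_, c.2, rfl⟩, ?_⟩
      rintro _ ⟨w, hw, rfl⟩
      exact congrArg (fun u : (P : Subgroup M) => ((u : M) : G)) (Subgroup.mem_center_iff.mp hc ⟨w, hw⟩)
    · rintro ⟨⟨c, hc, rfl⟩, h⟩
      refine ⟨c, ⟨⟨c, hc⟩, Subgroup.mem_center_iff.mpr fun w => ?_, rfl⟩, rfl⟩
      exact Subtype.ext (Subtype.ext (h _ ⟨w, w.2, rfl⟩))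
  by_contra hcon
  push Not at hcon
  have hall : ∀ x ∈ Z, orderOf x = p → Subgroup.centralizer ({x} : Set G) ≤ M ∧
      ∀ L : Subgroup G, IsCoatom L → Subgroup.centralizer ({x} : Set G) ≤ L → L = M := by
    intro x hx hxo
    by_cases hzg : IsZGroup ↥(Cfsg.alphaCore M ⊓ Subgroup.centralizer ({x} : Set G))
    · exact hcon x hx hxo hzg
    obtain ⟨q, A, hq, hA, hA2, hAC⟩ := exists_ea_of_not_isZGroup hG hzg
    have : Fact q.Prime := ⟨hq⟩
    have hx1 : x ≠ 1 := fun e => hp.out.ne_one (by rw [← hxo, e, orderOf_one])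
    have hxM : x ∈ M := (Subgroup.map_subtype_le _) hx
    refine centralizer_le_of_inUniqueMaximal hG hM hx1 ?_
    rw [← Subgroup.centralizer_closure, ← Subgroup.zpowers_eq_closure] at hAC ⊢
    refine inUniqueMaximal_centralizer hG hM (Subgroup.zpowers_le.mpr hxM) (fun r hr hd hrα => hps ?_) hA hA2 hAC
    rw [Nat.card_zpowers, hxo] at hd
    exact (Nat.prime_dvd_prime_iff_eq hr hp.out).mp hd ▸ alpha_subset_sigma hG hM hrα
  obtain ⟨g, hgN, hgM⟩ := SetLike.not_le_iff_exists.mp (not_normalizer_le hps hpM P)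
  set x : G := ((((z0 : ↥(P : Subgroup M)) : M)) : G) with hx
  have hxZ : x ∈ Z := ⟨_, ⟨z0, z0.2, rfl⟩, rfl⟩
  have hxo : orderOf x = p := by rw [hx, Subgroup.orderOf_coe, Subgroup.orderOf_coe, Subgroup.orderOf_coe, hz0]
  have hgx : g * x * g⁻¹ ∈ Z := by
    rw [hmem] at hxZ ⊢
    refine ⟨(Subgroup.mem_normalizer_iff.mp hgN x).mp hxZ.1, fun w hw => ?_⟩
    have hw' : g⁻¹ * w * g ∈ PG := by
      have := (Subgroup.mem_normalizer_iff.mp (inv_mem hgN) w).mp hw
      rwa [inv_inv] at this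
    calc w * (g * x * g⁻¹) = g * ((g⁻¹ * w * g) * x) * g⁻¹ := by group
      _ = g * (x * (g⁻¹ * w * g)) * g⁻¹ := by rw [hxZ.2 _ hw']
      _ = g * x * g⁻¹ * w := by group
  have h1 := hall x hxZ hxo
  have h2 := hall (g * x * g⁻¹) hgx (by
    rw [show g * x * g⁻¹ = (MulAut.conj g).toMonoidHom x from rfl,
      orderOf_injective (MulAut.conj g).toMonoidHom (MulAut.conj g).injective, hxo])
  refine hgM (mem_of_map_conj_eq hG hM (h2.2 _ (isCoatom_map_conj hM g) ?_))
  intro c hc
  refine ⟨g⁻¹ * c * g, h1.1 ?_, by simp [mul_assoc]⟩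
  rw [Subgroup.mem_centralizer_singleton_iff] at hc ⊢
  calc g⁻¹ * c * g * x = g⁻¹ * (c * (g * x * g⁻¹)) * g := by group
    _ = g⁻¹ * ((g * x * g⁻¹) * c) * g := by rw [hc]
    _ = x * (g⁻¹ * c * g) := by group

theorem ea_card_eq_sq {M A : Subgroup G} (hr : PRankLE p 2 M) (hA : IsElementaryAbelian p A) (hAM : A ≤ M)
    (h : p < Nat.card A) : Nat.card A = p ^ 2 := by
  obtain ⟨n, hn⟩ := IsPGroup.iff_card.mp (isPGroup_of_exponent hA.2)
  have h2 := pRankLE_iff_le.mp hr A hAM hA
  rw [hn] at h h2 ⊢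
  have h3 : n ≤ 2 := (Nat.pow_le_pow_iff_right hp.out.one_lt).mp h2
  have h4 : 1 < n := (Nat.pow_lt_pow_iff_right hp.out.one_lt).mp (by rwa [pow_one])
  rw [show n = 2 by omega]

theorem exists_ea_of_not_pRankLE_one {M : Subgroup G} (h : ¬ PRankLE p 1 M) :
    ∃ A : Subgroup G, A ≤ M ∧ IsElementaryAbelian p A ∧ p < Nat.card A := by
  simp only [PRankLE, not_forall, not_le, pow_one] at h
  obtain ⟨X, hXc, hXp, hX⟩ := h
  exact ⟨X.map M.subtype, Subgroup.map_subtype_le X, ea_map ⟨hXc, hXp⟩ M.subtype,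
    by rwa [Subgroup.card_map_of_injective M.subtype_injective]⟩

/-- BG 10.5. -/
theorem ea_maximal_of_not_sigma (hG : IsMinSimpleOddOrder G) {M : Subgroup G} (hM : IsCoatom M)
    (hps : p ∉ Cfsg.sigma M) {A B : Subgroup G} (hAM : A ≤ M) (hA : IsElementaryAbelian p A)
    (hAc : Nat.card A = p ^ 2) (hB : IsElementaryAbelian p B) (hAB : A ≤ B) : B = A := by
  refine le_antisymm ?_ hAB
  by_contra hne
  have hlt : p ^ 2 < Nat.card B := by
    rw [← hAc]
    refine lt_of_le_of_ne (Subgroup.card_le_of_le hAB) fun e => hne ?_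
    exact (Subgroup.eq_of_le_of_card_ge hAB e.ge).ge
  have hAne : A ≠ ⊤ := fun e => hM.1 (top_le_iff.mp (e.symm.le.trans hAM))
  have h1 : p < p ^ 2 := by nlinarith [hp.out.two_le]
  have hA2 : p < Nat.card A := hAc ▸ h1
  have hU : InUniqueMaximal A := by
    refine inUniqueMaximal_of_rank hG hAne (fun h => ?_) (Or.inr fun h => ?_)
    · have h2 := h p hp.out ⊤ ⟨⟨fun a b => Subtype.ext (Subtype.ext (ea_commute hA a.1.2 b.1.2).eq)⟩⟩
        (fun a _ => Subtype.ext (hA.2 _ a.2))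
      rw [Subgroup.card_top, pow_one] at h2
      omega
    · have h2 := pRankLE_iff_le.mp (h p hp.out) B
        (le_trans (Subgroup.le_centralizer_iff_isMulCommutative.mpr hB.1) (Subgroup.centralizer_le hAB)) hB
      omega
  obtain ⟨S, hS⟩ := ((isPGroup_of_exponent hA.2).of_equiv (Subgroup.subgroupOfEquivOfLe hAM).symm).exists_le_sylow
  have hAS : A ≤ (S : Subgroup M).map M.subtype := fun a ha => ⟨⟨a, hAM ha⟩, hS ha, rfl⟩
  have hpM : p ∣ Nat.card M := ((dvd_pow_self p two_ne_zero).trans hAc.symm.dvd).trans (Subgroup.card_dvd_of_le hAM)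
  have hNne : Subgroup.normalizer (((S : Subgroup M).map M.subtype : Subgroup G) : Set G) ≠ ⊤ := by
    refine normalizer_ne_top hG (fun e => ?_) (fun e => hM.1 (top_le_iff.mp (e.symm.le.trans (Subgroup.map_subtype_le _))))
    rw [e] at hAS
    rw [eq_bot_iff.mpr hAS, Subgroup.card_bot] at hAc
    exact absurd hAc.symm (Nat.one_lt_pow two_ne_zero hp.out.one_lt).ne'
  obtain ⟨L, hL, hle⟩ := exists_maximal_ge hNne
  refine not_normalizer_le hps hpM S ?_
  exact hle.trans (hU.unique ⟨hM, hAM⟩ ⟨hL, (hAS.trans Subgroup.le_normalizer).trans hle⟩).ge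

theorem not_isIdealPrime_of_not_sigma (hG : IsMinSimpleOddOrder G) {M : Subgroup G} (hM : IsCoatom M)
    (hps : p ∉ Cfsg.sigma M) (hr1 : ¬ PRankLE p 1 M) : ¬ Cfsg.IsIdealPrime p G := by
  intro hI
  obtain ⟨A, hAM, hA, hA2⟩ := exists_ea_of_not_pRankLE_one hr1
  have hAc := ea_card_eq_sq (pRankLE_two_of_not_mem_sigma hG hM hps) hA hAM hA2
  obtain ⟨P, hAP⟩ := (isPGroup_of_exponent hA.2).exists_le_sylow
  obtain ⟨B, -, hB, hlt⟩ := hI.2.2 P A hAP hA hAc
  exact hlt.ne (ea_maximal_of_not_sigma hG hM hps hAM hA hAc hB hlt.le).symm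

/-- BG 10.6. -/
theorem rank_two_of_normalizer_le (hG : IsMinSimpleOddOrder G) {M : Subgroup G} (hM : IsCoatom M)
    (hps : p ∉ Cfsg.sigma M) {X : Subgroup G} (hX : Nat.card X = p)
    (hNX : Subgroup.normalizer (X : Set G) ≤ M) :
    (¬ PRankLE p 1 M) ∧ ∃ A : Subgroup G, IsElementaryAbelian p A ∧ Nat.card A = p ^ 2 ∧ X ≤ A := by
  have hXM : X ≤ M := Subgroup.le_normalizer.trans hNX
  have hXp : IsPGroup p X := IsPGroup.of_card (n := 1) (by rw [hX, pow_one])
  have hpM : p ∣ Nat.card M := hX ▸ Subgroup.card_dvd_of_le hXM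
  have hp2 : p ≠ 2 := prime_ne_two hG (hX ▸ X.card_subgroup_dvd_card)
  obtain ⟨S, hS⟩ := (hXp.of_equiv (Subgroup.subgroupOfEquivOfLe hXM).symm).exists_le_sylow
  set PG := (S : Subgroup M).map M.subtype with hPG
  have hXS : X ≤ PG := fun a ha => ⟨⟨a, hXM ha⟩, hS ha, rfl⟩
  have hPGM : PG ≤ M := Subgroup.map_subtype_le _
  have hPp : IsPGroup p PG := S.2.map _
  have hnc : ¬ IsCyclic PG := by
    intro hc
    refine not_normalizer_le hps hpM S (le_trans (fun g hg => ?_) hNX)
    refine mem_normalizer_of_conj_mem fun a ha => ?_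
    have hga : g * a * g⁻¹ ∈ PG := (Subgroup.mem_normalizer_iff.mp hg a).mp (hXS ha)
    have hle : X.map (MulAut.conj g).toMonoidHom ≤ PG := by
      rintro _ ⟨b, hb, rfl⟩
      exact (Subgroup.mem_normalizer_iff.mp hg b).mp (hXS hb)
    have heq : (X.map (MulAut.conj g).toMonoidHom).subgroupOf PG = X.subgroupOf PG := by
      refine Basics.cyclic_subgroup_eq_of_card_eq ?_
      rw [Basics.card_subgroupOf hle, Basics.card_subgroupOf hXS]
      exact Subgroup.card_map_of_injective (MulAut.conj g).injective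
    have h2 : (⟨g * a * g⁻¹, hga⟩ : PG) ∈ X.subgroupOf PG := heq ▸ (⟨a, ha, rfl⟩ : g * a * g⁻¹ ∈ X.map _)
    exact h2
  obtain ⟨E, hE, hE2⟩ := exists_ea_two_of_not_isCyclic hp2 hPp hnc
  set E' := E.map PG.subtype
  have hE'c : p < Nat.card E' := by rwa [Subgroup.card_map_of_injective PG.subtype_injective]
  have hE'P : E' ≤ PG := Subgroup.map_subtype_le _
  have hE'e : IsElementaryAbelian p E' := ea_map hE _
  have hr1 : ¬ PRankLE p 1 M := fun h => by
    have h1 := h (E'.subgroupOf M) ⟨⟨fun a b => Subtype.ext (Subtype.ext (ea_commute hE'e a.2 b.2).eq)⟩⟩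
      (fun a ha => Subtype.ext (hE'e.2 _ ha))
    rw [Basics.card_subgroupOf (hE'P.trans hPGM), pow_one] at h1
    omega
  refine ⟨hr1, ?_⟩
  have hXe : IsElementaryAbelian p X := by
    have : IsCyclic X := isCyclic_of_prime_card hX
    refine ⟨⟨⟨fun a b => (IsCyclic.commGroup (α := X)).mul_comm a b⟩⟩, fun a ha => ?_⟩
    rw [← hX]
    exact congrArg Subtype.val (pow_card_eq_one' (x := (⟨a, ha⟩ : X)))
  -- it is enough to find an element of order `p` outside `X` centralizing `X`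
  suffices key : ∃ y ∈ PG, y ∉ X ∧ y ^ p = 1 ∧ y ∈ Subgroup.centralizer (X : Set G) by
    obtain ⟨y, hy, hyX, hyp, hyc⟩ := key
    refine ⟨X ⊔ Subgroup.zpowers y, ea_sup_zpowers hXe hyc hyp, ea_card_eq_sq
      (pRankLE_two_of_not_mem_sigma hG hM hps) (ea_sup_zpowers hXe hyc hyp)
      (sup_le hXM (Subgroup.zpowers_le.mpr (hPGM hy))) ?_, le_sup_left⟩
    rw [← hX]
    refine lt_of_le_of_ne (Subgroup.card_le_of_le le_sup_left) fun e => hyX ?_
    rw [Subgroup.eq_of_le_of_card_ge (le_sup_left : X ≤ X ⊔ Subgroup.zpowers y) e.ge]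
    exact Subgroup.mem_sup_right (Subgroup.mem_zpowers y)
  by_cases hXZ : ∀ y ∈ PG, y ∈ Subgroup.centralizer (X : Set G)
  · obtain ⟨y, hy, hyX⟩ : ∃ y ∈ E', y ∉ X := by
      by_contra h
      push Not at h
      have := Subgroup.card_le_of_le (show E' ≤ X from h)
      omega
    exact ⟨y, hE'P hy, hyX, hE'e.2 y hy, hXZ y (hE'P hy)⟩
  · have : Nontrivial PG := by
      by_contra hn
      rw [not_nontrivial_iff_subsingleton] at hn
      exact hnc isCyclic_of_subsingleton
    have hzn : Nontrivial (Subgroup.center PG) := hPp.center_nontrivial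
    have hpz : p ∣ Nat.card (Subgroup.center PG) := by
      rcases (hPp.to_subgroup (Subgroup.center PG)).card_eq_or_dvd with e | e
      · exact absurd e Finite.one_lt_card.ne'
      · exact e
    obtain ⟨z, hz⟩ := exists_prime_orderOf_dvd_card' p hpz
    have hzo : orderOf ((z : PG) : G) = p := by rw [Subgroup.orderOf_coe, Subgroup.orderOf_coe, hz]
    have hzc : ∀ w ∈ PG, w * ((z : PG) : G) = ((z : PG) : G) * w := fun w hw =>
      congrArg Subtype.val (Subgroup.mem_center_iff.mp z.2 ⟨w, hw⟩)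
    refine ⟨((z : PG) : G), (z : PG).2, fun hzX => hXZ fun y hy => ?_, hzo ▸ pow_orderOf_eq_one _,
      Subgroup.mem_centralizer_iff.mpr fun w hw => hzc w (hXS hw)⟩
    have heq : Subgroup.zpowers ((z : PG) : G) = X := Subgroup.eq_of_le_of_card_ge (Subgroup.zpowers_le.mpr hzX)
      (by rw [Nat.card_zpowers, hzo, hX])
    rw [← heq]
    exact centralizes_zpowers (hzc y hy).symm

omit hp in
theorem sigmaCore_le_commutator (hG : IsMinSimpleOddOrder G) {M : Subgroup G} (hM : IsCoatom M) :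
    Cfsg.piCore (Cfsg.sigma M) ↥M ≤ commutator M := by
  intro x hx
  refine (QuotientGroup.eq_one_iff x).mp (orderOf_eq_one_iff.mp ?_)
  refine Nat.eq_one_iff_not_exists_prime_dvd.mpr fun q hq hd => ?_
  have : Fact q.Prime := ⟨hq⟩
  have h1 : q ∣ orderOf x := hd.trans (orderOf_map_dvd (QuotientGroup.mk' (commutator M)) x)
  have hqσ : q ∈ Cfsg.sigma M := piCore_primes _ hq (h1.trans (Subgroup.orderOf_dvd_natCard _ hx))
  obtain ⟨S⟩ : Nonempty (Sylow q M) := inferInstance
  exact S.not_dvd_index ((hd.trans (orderOf_dvd_natCard _)).trans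
    (Subgroup.index_dvd_of_le (sigma_sylow_le_commutator hG hM hqσ S)))

omit hp in
theorem exists_prime_not_sigma (hG : IsMinSimpleOddOrder G) {M : Subgroup G} (hM : IsCoatom M) (hne : M ≠ ⊥) :
    ∃ q : ℕ, q.Prime ∧ q ∣ Nat.card M ∧ q ∉ Cfsg.sigma M := by
  have hsol : Group.IsSolvable M := isSolvable_of_ne_top hG hM.1
  have : Nontrivial M := (Subgroup.nontrivial_iff_ne_bot M).mpr hne
  have hlt : commutator M ≠ ⊤ := (Group.IsSolvable.commutator_lt_top_of_nontrivial M).ne
  obtain ⟨q, hq, hd⟩ := Nat.exists_prime_and_dvd (mt Subgroup.index_eq_one.mp hlt)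
  refine ⟨q, hq, hd.trans (Subgroup.index_dvd_card _), fun hs => ?_⟩
  have : Fact q.Prime := ⟨hq⟩
  obtain ⟨S⟩ : Nonempty (Sylow q M) := inferInstance
  exact S.not_dvd_index (hd.trans (Subgroup.index_dvd_of_le (sigma_sylow_le_commutator hG hM hs S)))

/-- BG 10.7: proper subgroups have `p`-length one. -/
theorem pLengthLE_one_of_proper (hG : IsMinSimpleOddOrder G) {H : Subgroup G} (hH : H ≠ ⊤) :
    Cfsg.PLengthLE p 1 H := by
  obtain ⟨M, hM, hHM⟩ := exists_maximal_ge hH
  refine pLengthLE_one_of_le hHM ?_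
  have hsol : Group.IsSolvable M := isSolvable_of_ne_top hG hM.1
  by_cases hpM : p ∣ Nat.card M
  swap
  · refine Coprime23.pLengthLE_one_of_series (⊤ : Subgroup M) ⊤ ?_ ⟨0, by simp⟩ (by simp)
    rw [Subgroup.card_top, Nat.coprime_comm]
    exact hp.out.coprime_iff_not_dvd.mpr hpM
  by_cases hr : PRankLE p 2 M
  · obtain ⟨-, -, -, -, -, hidx⟩ := Cfsg.Agent.S1450.result (odd_card_subgroup hG M) p hpM hr
    have : (Cfsg.pPrimePCore p M).Normal := by unfold Cfsg.pPrimePCore; infer_instance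
    have hA := Basics.pPrimeCore_characteristic (G := M) p
    refine Coprime23.pLengthLE_one_of_series (Cfsg.pPrimeCore p M) (Cfsg.pPrimePCore p M)
      (Basics.pPrimeCore_coprime p) ?_ hidx
    obtain ⟨k, hk⟩ := IsPGroup.iff_card.mp (Basics.pCore_isPGroup (G := M ⧸ Cfsg.pPrimeCore p M) p)
    refine ⟨k, (congrArg (fun K => Subgroup.relIndex K (Cfsg.pPrimePCore p M))
      (QuotientGroup.ker_mk' (Cfsg.pPrimeCore p M)).symm).trans ?_⟩
    change (QuotientGroup.mk' (Cfsg.pPrimeCore p M)).ker.relIndex _ = _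
    rw [Subgroup.relIndex_ker, Cfsg.pPrimePCore,
      Subgroup.map_comap_eq_self_of_surjective (QuotientGroup.mk'_surjective _), hk]
  have hpα : p ∈ Cfsg.alpha M := ⟨hp.out, hr⟩
  obtain ⟨q, hq, hqM, hqσ⟩ := exists_prime_not_sigma hG hM (fun e => by
    rw [e, Subgroup.card_bot] at hpM; exact hp.out.not_dvd_one hpM)
  have : Fact q.Prime := ⟨hq⟩
  obtain ⟨S⟩ : Nonempty (Sylow q M) := inferInstance
  obtain ⟨x, hxZ, hxo, hxzg, -⟩ := exists_central_element hG hM hqM hqσ S
  have hxM : x ∈ M := (Subgroup.map_subtype_le _) hxZ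
  set A := Cfsg.piCore (Cfsg.alpha M) ↥M with hA
  have hidx : ∀ r ∈ Cfsg.alpha M, ¬ r ∣ A.index := fun r hr => by
    rw [Subgroup.index_eq_card]; exact (alpha_quotient hG hM).2.2 r hr
  have hcop : (Nat.card A).Coprime A.index :=
    Nat.coprime_of_dvd fun r hr h1 h2 => hidx r (piCore_primes _ hr h1) h2
  obtain ⟨K, hK⟩ := Subgroup.exists_right_complement'_of_coprime hcop
  have hKcard : Nat.card K = A.index := hK.symm.index_eq_card.symm
  have hKi : (Nat.card K).Coprime K.index := by rw [hKcard, hK.index_eq_card]; exact hcop.symm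
  obtain ⟨g, hg⟩ := Basics.exists_le_conj_hall (K := Subgroup.zpowers (⟨x, hxM⟩ : M)) hKi (by
    rw [Nat.card_zpowers, Subgroup.orderOf_mk, hxo, hK.index_eq_card, hq.coprime_iff_not_dvd]
    exact fun h => hqσ (alpha_subset_sigma hG hM (piCore_primes _ hq h)))
  set R := MulAut.conj g • K with hR
  have hRcard : Nat.card R = A.index := (Basics.card_conj_smul g K).trans hKcard
  have hAR : A.IsComplement' R := Subgroup.isComplement'_of_coprime (by rw [hRcard, Subgroup.card_mul_index])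
    (hRcard ▸ hcop)
  have hAle : A ≤ commutator M := (piCore_alpha_le_sigma hG hM).trans (sigmaCore_le_commutator hG hM)
  have hcomm := eq_commutator_of_le_derived A R inferInstance hAR.sup_eq_top hAR.disjoint.eq_bot hAle
  refine pLengthLE_one_of_index A (hidx p hpα) ?_
  refine pLengthLE_one_of_fixed (odd_card_subgroup hG M) A R (Subgroup.zpowers (⟨x, hxM⟩ : M)) (hRcard ▸ hcop) hg
    (by rw [Nat.card_zpowers, Subgroup.orderOf_mk, hxo]; exact hq) hcomm ?_ p
  set f := M.subtype.subgroupMap (A ⊓ Subgroup.centralizer (Subgroup.zpowers (⟨x, hxM⟩ : M) : Set M))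
  have hle : (A ⊓ Subgroup.centralizer (Subgroup.zpowers (⟨x, hxM⟩ : M) : Set M)).map M.subtype ≤
      Cfsg.alphaCore M ⊓ Subgroup.centralizer ({x} : Set G) := by
    rintro _ ⟨a, ha, rfl⟩
    refine ⟨⟨a, ha.1, rfl⟩, Subgroup.mem_centralizer_singleton_iff.mpr ?_⟩
    exact congrArg Subtype.val (eq_of_mem_centralizer_zpowers (x := a) ha.2).symm
  refine IsZGroup.of_injective (hG' := hxzg) (f := (Subgroup.inclusion hle).comp f) ?_
  intro a b e
  have h := congrArg (fun y : Subgroup.map M.subtype _ => (y : G)) (Subgroup.inclusion_injective hle e)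
  exact Subtype.ext (M.subtype_injective h)

end Cfsg.Agent.OddLocal
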