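import Cfsg.Agent.Lib.OddLocal.NarrowAction
import Cfsg.Agent.Lib.OddLocal.PLen
import Cfsg.Agent.Lib.Components.PConstrained

/-! Odd solvable groups with a narrow Sylow `p`-subgroup (BG 5.6). -/

set_option autoImplicit false
set_option maxHeartbeats 1000000

namespace Cfsg.Agent.OddLocal

open scoped commutatorElement
open Cfsg

universe u

/-- The structural consequences of `G/O_{p'}(G)` having a normal Sylow `p`-subgroup containing the derived group,
with all primes at most `p`. -/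
theorem facts_of_quotient {G : Type u} [Group G] [Finite G] {p : ℕ} [Fact p.Prime] (hodd : Odd (Nat.card G))
    (hqp : ∀ q : ℕ, q.Prime → q ∣ Nat.card (G ⧸ Cfsg.pPrimeCore p G) → q ≤ p)
    (hder : commutator (G ⧸ Cfsg.pPrimeCore p G) ≤ Cfsg.pCore p (G ⧸ Cfsg.pPrimeCore p G))
    (S : Sylow p (G ⧸ Cfsg.pPrimeCore p G))
    (hS : (S : Subgroup (G ⧸ Cfsg.pPrimeCore p G)) = Cfsg.pCore p (G ⧸ Cfsg.pPrimeCore p G)) :
    (∀ q : ℕ, q.Prime → q ∣ (Cfsg.pPrimeCore p G).index → q ≤ p) ∧
      ((p = 3 ∨ ∀ q : ℕ, q.Prime → q ∣ Nat.card G → p ≤ q) → Cfsg.HasNormalPComplement p G) ∧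
      Cfsg.HasNormalPComplement p ↥(commutator G) ∧
      (∀ L : Subgroup ↥(commutator G), (Nat.card L).Coprime p → L ≤ Cfsg.pPrimeCore p ↥(commutator G)) ∧
      commutator G ≤ Cfsg.pPrimePCore p G ∧ ((Cfsg.pPrimePCore p G).index).Coprime p := by
  set O := Cfsg.pPrimeCore p G with hO
  have hidx : O.index = Nat.card (G ⧸ O) := Subgroup.index_eq_card O
  have hOp : ¬ p ∣ Nat.card O := fun h =>
    ((Fact.out : p.Prime).coprime_iff_not_dvd.mp (Basics.pPrimeCore_coprime (G := G) p).symm) h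
  have hle : commutator G ≤ Cfsg.pPrimePCore p G := by
    intro y hy
    refine hder ?_
    have h : (commutator G).map (QuotientGroup.mk' O) ≤ commutator (G ⧸ O) := by
      rw [commutator, Subgroup.map_commutator]
      exact Subgroup.commutator_mono le_top le_top
    exact h ⟨y, hy, rfl⟩
  have hquo : IsPGroup p (↥(commutator G) ⧸ O.subgroupOf (commutator G)) := by
    intro z
    induction z using QuotientGroup.induction_on with
    | H z =>
      obtain ⟨k, hk⟩ := Basics.pCore_isPGroup p (⟨QuotientGroup.mk' O z, hle z.2⟩ : Cfsg.pCore p (G ⧸ O))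
      refine ⟨k, ?_⟩
      rw [← QuotientGroup.mk_pow, QuotientGroup.eq_one_iff]
      have h := congrArg Subtype.val hk
      rw [Subgroup.coe_pow, Subgroup.coe_one, ← map_pow] at h
      exact (QuotientGroup.eq_one_iff (N := O) _).mp h
  have hc : (Nat.card (O.subgroupOf (commutator G))).Coprime p := by
    refine Nat.Coprime.coprime_dvd_left ?_ (Basics.pPrimeCore_coprime (G := G) p)
    rw [← Subgroup.card_map_of_injective (commutator G).subtype_injective, Subgroup.subgroupOf_map_subtype]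
    exact Subgroup.card_dvd_of_le inf_le_left
  refine ⟨fun q hq hqd => hqp q hq (hidx ▸ hqd), ?_, ?_, ?_, hle, ?_⟩
  · intro hcase
    refine Transfer.hasNormalPComplement_of_normal O hOp ?_
    have hall : ∀ q : ℕ, q.Prime → q ∣ Nat.card (G ⧸ O) → q = p := by
      intro q hq hqd
      have hqG : q ∣ Nat.card G := hqd.trans (Subgroup.card_quotient_dvd_card _)
      rcases hcase with h | h
      · have h1 := hqp q hq hqd
        have h2 : q ≠ 2 := OddLocal.pPrimeCore_ne_two (hp := ⟨hq⟩) hodd hqG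
        have := hq.two_le
        omega
      · exact le_antisymm (hqp q hq hqd) (h q hq hqG)
    obtain ⟨k, hk⟩ : ∃ k, Nat.card (G ⧸ O) = p ^ k :=
      ⟨_, Nat.eq_prime_pow_of_unique_prime_dvd Nat.card_pos.ne' fun {d} hd hdd => hall d hd hdd⟩
    exact IsPGroup.of_card hk
  · exact Transfer.hasNormalPComplement_of_normal (O.subgroupOf (commutator G))
      ((Fact.out : p.Prime).coprime_iff_not_dvd.mp hc.symm) hquo
  · intro L hL
    refine le_trans ?_ (Basics.le_pPrimeCore (N := O.subgroupOf (commutator G)) hc)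
    intro l hl
    rw [← QuotientGroup.eq_one_iff (N := O.subgroupOf (commutator G))]
    obtain ⟨k, hk⟩ := hquo (l : ↥(commutator G) ⧸ O.subgroupOf (commutator G))
    exact orderOf_eq_one_iff.mp (Nat.eq_one_of_dvd_coprimes (hL.pow_right k)
      ((orderOf_map_dvd (QuotientGroup.mk' (O.subgroupOf (commutator G))) l).trans
        (Subgroup.orderOf_dvd_natCard _ hl)) (orderOf_dvd_of_pow_eq_one hk))
  · refine ((Fact.out : p.Prime).coprime_iff_not_dvd.mpr ?_).symm
    have h : (Cfsg.pPrimePCore p G).index = (S : Subgroup (G ⧸ O)).index := by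
      rw [hS]
      exact Subgroup.index_comap_of_surjective _ (QuotientGroup.mk'_surjective O)
    rw [h]
    exact S.not_dvd_index

variable {G : Type u} [Group G] [Finite G] {p : ℕ} [hp : Fact p.Prime]

theorem MaxEATwo.map_equiv {R R' : Type u} [Group R] [Group R'] {E : Subgroup R} (h : MaxEATwo p E) (e : R ≃* R') :
    MaxEATwo p (E.map e.toMonoidHom) := by
  refine ⟨⟨isMulCommutative_map h.ea.1 _, ?_⟩, ?_, fun x hx hxC => ?_⟩
  · rintro _ ⟨v, hv, rfl⟩
    rw [← map_pow, h.ea.2 v hv, map_one]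
  · rw [Subgroup.card_map_of_injective (MulEquiv.injective e), h.card]
  · refine ⟨e.symm x, h.mem _ (by rw [← map_pow, hx, map_one]) ?_, e.apply_symm_apply x⟩
    refine Subgroup.mem_centralizer_iff.mpr fun v hv => e.injective ?_
    rw [map_mul, map_mul, e.apply_symm_apply]
    exact Subgroup.mem_centralizer_iff.mp hxC _ ⟨v, hv, rfl⟩

/-- The reduced form: a normal Sylow subgroup with a maximal elementary abelian subgroup of order `p ^ 2`. -/
theorem reduced_of_maxEATwo [Group.IsSolvable G] (hodd : Odd (Nat.card G)) (hp2 : p ≠ 2)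
    (hO : Cfsg.pPrimeCore p G = ⊥) (hr : ¬ PRankLE p 2 ↥(Cfsg.pCore p G)) {E : Subgroup ↥(Cfsg.pCore p G)}
    (hE : MaxEATwo p E) :
    (∀ q : ℕ, q.Prime → q ∣ Nat.card G → q ≤ p) ∧ commutator G ≤ Cfsg.pCore p G := by
  have hP : IsPGroup p (Cfsg.pCore p G) := Basics.pCore_isPGroup p
  have hsmall : ∀ x ∈ Subgroup.centralizer (Cfsg.pCore p G : Set G), (orderOf x).Coprime p → x = 1 := by
    intro x hx hxo
    obtain ⟨k, hk⟩ := hP ⟨x, Basics.centralizer_pCore_le hO hx⟩
    exact orderOf_eq_one_iff.mp (Nat.eq_one_of_dvd_coprimes (hxo.pow_right k) dvd_rfl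
      (orderOf_dvd_of_pow_eq_one (congrArg Subtype.val hk)))
  refine ⟨fun q hq hqd => ?_, ?_⟩
  · by_contra hqp
    haveI : Fact q.Prime := ⟨hq⟩
    obtain ⟨x, hx⟩ := exists_prime_orderOf_dvd_card' q hqd
    have hxo : (orderOf x).Coprime p := hx.symm ▸ (Nat.coprime_primes hq hp.out).mpr (by omega)
    set φ : MulAut ↥(Cfsg.pCore p G) := MulAut.conjNormal x with hφdef
    have hφ : φ ^ (p - 1) = 1 :=
      hE.aut_pow hp2 hP hr φ (hxo.coprime_dvd_left (orderOf_map_dvd _ _))
    have h1 : x ^ (p - 1) = 1 := by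
      refine hsmall _ (Subgroup.mem_centralizer_iff.mpr fun v hv => ?_)
        (hxo.coprime_dvd_left (orderOf_pow_dvd _))
      have h2 : (φ ^ (p - 1)) ⟨v, hv⟩ = (⟨v, hv⟩ : Cfsg.pCore p G) := by rw [hφ]; rfl
      rw [hφdef, ← map_pow] at h2
      have h3 := congrArg Subtype.val h2
      rw [MulAut.conjNormal_apply] at h3
      exact (mul_inv_eq_iff_eq_mul.mp h3).symm
    have h4 : q ∣ p - 1 := hx ▸ orderOf_dvd_of_pow_eq_one h1
    have := Nat.le_of_dvd (by have := hp.out.two_le; omega) h4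
    omega
  · refine Basics.le_pCore (N := commutator G) fun y => ?_
    set n := Nat.factorization (Nat.card G) p
    refine ⟨n, Subtype.ext ?_⟩
    rw [Subgroup.coe_pow, Subgroup.coe_one]
    have hcop : (orderOf ((y : G) ^ p ^ n)).Coprime p :=
      Nat.Coprime.coprime_dvd_left (orderOf_dvd_of_pow_eq_one (n := Nat.card G / p ^ n)
        (by rw [← pow_mul, Nat.mul_div_cancel' (Nat.ordProj_dvd _ _), pow_card_eq_one']))
        (hp.out.coprime_iff_not_dvd.mpr (Nat.not_dvd_ordCompl hp.out Nat.card_pos.ne')).symm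
    refine hsmall _ (derived_centralizes_narrow hodd hp2 (P := Cfsg.pCore p G) hP
      (Subgroup.map_subtype_le E) ⟨isMulCommutative_map hE.ea.1 _, ?_⟩ ?_ (pow_mem y.2 _) hcop) hcop
    · rintro _ ⟨v, hv, rfl⟩
      rw [← map_pow, hE.ea.2 v hv, map_one]
    · intro Y hY hYe
      rw [← hE.card, ← Subgroup.card_map_of_injective (K := E) (Cfsg.pCore p G).subtype_injective]
      refine Subgroup.card_le_of_le fun v hv => ?_
      refine ⟨⟨v, (hY hv).1⟩, hE.mem _ (Subtype.ext (hYe.2 v hv)) ?_, rfl⟩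
      exact Subgroup.mem_centralizer_iff.mpr fun e he => Subtype.ext
        (Subgroup.mem_centralizer_iff.mp (hY hv).2 _ ⟨e, he, rfl⟩)

/-- A narrow Sylow subgroup of rank at least three in an odd solvable group of `p`-length one. -/
theorem facts_of_narrow_pLength [Group.IsSolvable G] (hodd : Odd (Nat.card G)) (hp2 : p ≠ 2) (T : Sylow p G)
    (hT : IsNarrow p ↥(T : Subgroup G)) (hr : ¬ PRankLE p 2 ↥(T : Subgroup G)) (hpl : Cfsg.PLengthLE p 1 G) :
    (∀ q : ℕ, q.Prime → q ∣ (Cfsg.pPrimeCore p G).index → q ≤ p) ∧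
      ((p = 3 ∨ ∀ q : ℕ, q.Prime → q ∣ Nat.card G → p ≤ q) → Cfsg.HasNormalPComplement p G) ∧
      Cfsg.HasNormalPComplement p ↥(commutator G) ∧
      (∀ L : Subgroup ↥(commutator G), (Nat.card L).Coprime p → L ≤ Cfsg.pPrimeCore p ↥(commutator G)) ∧
      commutator G ≤ Cfsg.pPrimePCore p G ∧ ((Cfsg.pPrimePCore p G).index).Coprime p := by
  set O := Cfsg.pPrimeCore p G
  set f := QuotientGroup.mk' O
  let S : Sylow p (G ⧸ O) := T.mapSurjective (QuotientGroup.mk'_surjective O)
  have hScoe : (S : Subgroup (G ⧸ O)) = (T : Subgroup G).map f := Sylow.coe_mapSurjective _ _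
  obtain ⟨A, B, hA, hB, hAc, -, -, -, hBT⟩ := exists_series_of_pLengthLE_one hpl
  haveI := hA
  have hSB : (S : Subgroup (G ⧸ O)) = B.map f := by
    rw [hBT T, Subgroup.map_sup, hScoe, (Subgroup.map_eq_bot_iff A).mpr (by
      rw [QuotientGroup.ker_mk']; exact Basics.le_pPrimeCore hAc), bot_sup_eq]
  haveI : (S : Subgroup (G ⧸ O)).Normal := hSB ▸ hB.map f (QuotientGroup.mk'_surjective O)
  have hS : (S : Subgroup (G ⧸ O)) = Cfsg.pCore p (G ⧸ O) :=
    le_antisymm (Basics.le_pCore S.2) (Basics.pCore_le_sylow p S)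
  let g : ↥(T : Subgroup G) →* ↥(Cfsg.pCore p (G ⧸ O)) :=
    MonoidHom.codRestrict (f.comp (T : Subgroup G).subtype) (Cfsg.pCore p (G ⧸ O))
      (fun t => hS ▸ hScoe ▸ ⟨t, t.2, rfl⟩)
  have hginj : Function.Injective g := by
    rw [injective_iff_map_eq_one]
    intro t ht
    obtain ⟨k, hk⟩ := T.2 t
    have h1 : (t : G) ∈ O := (QuotientGroup.eq_one_iff (t : G)).mp (congrArg Subtype.val ht)
    exact Subtype.ext (orderOf_eq_one_iff.mp (Nat.eq_one_of_dvd_coprimes
      ((Basics.pPrimeCore_coprime (G := G) p).symm.pow_left k)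
      (orderOf_dvd_of_pow_eq_one (congrArg Subtype.val hk)) (Subgroup.orderOf_dvd_natCard _ h1)))
  have hgsurj : Function.Surjective g := by
    rintro ⟨v, hv⟩
    rw [← hS, hScoe] at hv
    obtain ⟨t, ht, rfl⟩ := hv
    exact ⟨⟨t, ht⟩, rfl⟩
  let e := MulEquiv.ofBijective g ⟨hginj, hgsurj⟩
  obtain ⟨E, hE⟩ := exists_maxEATwo_of_narrow T.2 hT hr
  have hr' : ¬ PRankLE p 2 ↥(Cfsg.pCore p (G ⧸ O)) := fun h => hr fun X hXc hXe => by
    rw [← Subgroup.card_map_of_injective (f := e.toMonoidHom) (MulEquiv.injective e)]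
    exact h _ (isMulCommutative_map hXc _) (by rintro _ ⟨v, hv, rfl⟩; rw [← map_pow, hXe v hv, map_one])
  obtain ⟨hqp, hder⟩ := reduced_of_maxEATwo (hodd.of_dvd_nat (Subgroup.card_quotient_dvd_card O)) hp2
    (Basics.pPrimeCore_quotient_eq_bot p) hr' (hE.map_equiv e)
  exact facts_of_quotient hodd hqp hder S hS

/-- The rank of a group is the rank of a Sylow subgroup. -/
theorem pRankLE_of_sylow (T : Sylow p G) (h : PRankLE p 2 ↥(T : Subgroup G)) : PRankLE p 2 G := by
  intro X hXc hXe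
  obtain ⟨g, hg⟩ := (isPGroup_of_exponent hXe).exists_le_sylow
  obtain ⟨x, hx⟩ := MulAction.exists_smul_eq G g T
  have hle : X.map (MulAut.conj x).toMonoidHom ≤ (T : Subgroup G) := by
    rw [← hx]
    exact Subgroup.map_mono hg
  rw [← Subgroup.card_map_of_injective (f := (MulAut.conj x).toMonoidHom) (MulEquiv.injective _),
    ← Basics.card_subgroupOf hle]
  have hc := isMulCommutative_map hXc (MulAut.conj x).toMonoidHom
  refine h _ ⟨⟨fun a b => Subtype.ext (Subtype.ext (congrArg Subtype.val (hc.is_comm.comm ⟨_, a.2⟩ ⟨_, b.2⟩) :))⟩⟩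
    fun a ha => Subtype.ext ?_
  obtain ⟨v, hv, e⟩ := ha
  rw [Subgroup.coe_pow, show (a : G) = _ from e.symm, ← map_pow, hXe v hv, map_one, Subgroup.coe_one]

end Cfsg.Agent.OddLocal
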