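import Cfsg.Agent.Lib.OddLocal.NarrowSylow
import Cfsg.Agent.Lib.OddLocal.SectionTen
import Cfsg.Agent.S1450
import Cfsg.Agent.S1455

/-! Primes outside `β(M)` and the subgroup `M_β` (BG 10.8). -/

set_option autoImplicit false
set_option maxHeartbeats 1000000

namespace Cfsg.Agent.OddLocal

open scoped commutatorElement
open Cfsg

universe u

variable {R : Type u} [Group R] [Finite R] {p : ℕ} [hp : Fact p.Prime]

/-- The centralizer of an element of a maximal elementary abelian subgroup of order `p ^ 2`. -/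
theorem MaxEATwo.narrow_of_mem (hp2 : p ≠ 2) (hR : IsPGroup p R) {E : Subgroup R} (h : MaxEATwo p E)
    (hr : ¬ PRankLE p 2 R) {r : R} (hrE : r ∈ E) (hrT : r ∉ Subgroup.centralizer (omegaSecond (R := R) hp2 : Set R)) :
    ∃ R₁ : Subgroup R, IsCyclic R₁ ∧ Subgroup.zpowers r ⊓ R₁ = ⊥ ∧
      (∀ a ∈ Subgroup.zpowers r, ∀ b ∈ R₁, a * b = b * a) ∧
      Subgroup.zpowers r ⊔ R₁ = Subgroup.centralizer (Subgroup.zpowers r : Set R) := by
  obtain ⟨-, -, hEW, hidx, -, -⟩ := h.second hp2 hR hr
  set W := omegaSecond (R := R) hp2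
  set Z := omegaCentre p R
  set T := Subgroup.centralizer (W : Set R)
  haveI hWc : W.Characteristic := omegaSecond_characteristic (R := R) hp2
  haveI : T.Normal := inferInstance
  have hro : orderOf r = p := orderOf_eq_prime (h.ea.2 r hrE) (fun e => hrT (e ▸ one_mem T))
  have hZc : Nat.card Z = p := h.card_omegaCentre hp2 hR hr
  have hZE : Z < E := h.omegaCentre_lt hp2 hR hr
  have hEgen : Z ⊔ Subgroup.zpowers r = E := by
    refine Subgroup.eq_of_le_of_card_ge (sup_le hZE.le (Subgroup.zpowers_le.mpr hrE)) ?_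
    obtain ⟨k, hk⟩ := (hR.to_subgroup (Z ⊔ Subgroup.zpowers r : Subgroup R)).exists_card_eq
    have h1 := Basics.card_lt_of_lt (lt_of_le_of_ne (le_sup_left (a := Z) (b := Subgroup.zpowers r)) fun e =>
      hrT (Subgroup.mem_centralizer_iff.mpr fun w _ =>
        Subgroup.mem_center_iff.mp (e.ge (Subgroup.mem_sup_right (Subgroup.mem_zpowers r))).1 w))
    rw [hk, hZc] at h1
    rw [hk, h.card]
    refine Nat.pow_le_pow_right hp.out.pos ?_
    by_contra hlt
    exact absurd h1 (not_lt.mpr ((Nat.pow_le_pow_right hp.out.pos (by omega : k ≤ 1)).trans (pow_one p).le))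
  set R₁ := Subgroup.centralizer ({r} : Set R) ⊓ T with hR₁
  refine ⟨R₁, ?_, ?_, ?_, ?_⟩
  · by_contra hnc
    obtain ⟨F, -, hF, -, hFp⟩ := PGroup23.exists_normal_elementary_sq hp2 (hR.to_subgroup R₁) hnc
    have hle : F.map R₁.subtype ≤ Z := by
      rintro _ ⟨v, hv, rfl⟩
      have hvp : (v : R) ^ p = 1 := congrArg Subtype.val (hFp v hv)
      have hvE : (v : R) ∈ E := by
        refine h.mem _ hvp (Subgroup.mem_centralizer_iff.mpr fun e he => ?_)
        have : E ≤ Subgroup.centralizer ({(v : R)} : Set R) := by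
          rw [← hEgen]
          exact sup_le (fun z hz => Subgroup.mem_centralizer_singleton_iff.mpr
            (Subgroup.mem_center_iff.mp hz.1 v).symm)
            (Subgroup.zpowers_le.mpr (Subgroup.mem_centralizer_singleton_iff.mpr
              (Subgroup.mem_centralizer_singleton_iff.mp v.2.1).symm))
        exact Subgroup.mem_centralizer_singleton_iff.mp (this he)
      obtain ⟨z, hz, s, ⟨i, rfl⟩, e⟩ := (Basics.mem_sup_of_le_normalizer (N := Z) (H := Subgroup.zpowers r)
        (fun s _ => Subgroup.centralizer_le_normalizer _ (Subgroup.mem_centralizer_iff.mpr fun z hz =>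
          (Subgroup.mem_center_iff.mp hz.1 s).symm))).mp (hEgen.symm ▸ hvE)
      change (v : R) ∈ Z
      have hzT : z ∈ T := Subgroup.mem_centralizer_iff.mpr fun w _ => Subgroup.mem_center_iff.mp hz.1 w
      have hriT : r ^ i ∈ T := by
        have h1 := mul_mem (inv_mem hzT) v.2.2
        change z⁻¹ * (v : R) ∈ T at h1
        rwa [e, inv_mul_cancel_left] at h1
      have hri : r ^ i = 1 := by
        by_contra hne
        refine hrT ?_
        have hgen : Subgroup.zpowers (r ^ i) = Subgroup.zpowers r := by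
          refine Subgroup.eq_of_le_of_card_ge (Subgroup.zpowers_le.mpr (zpow_mem (Subgroup.mem_zpowers r) i)) ?_
          rw [Nat.card_zpowers, Nat.card_zpowers, hro]
          rw [orderOf_eq_prime (p := p) (by
            rw [← zpow_natCast, ← zpow_mul, mul_comm, zpow_mul, zpow_natCast, ← hro, pow_orderOf_eq_one, one_zpow]) hne]
        exact (Subgroup.zpowers_le.mpr hriT) (hgen.symm ▸ Subgroup.mem_zpowers r)
      dsimp only at e
      rw [e, hri, mul_one]
      exact hz
    have h2 := Subgroup.card_le_of_le hle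
    rw [Subgroup.card_map_of_injective R₁.subtype_injective, hF, hZc] at h2
    nlinarith [hp.out.two_le]
  · rw [eq_bot_iff]
    intro v hv
    rw [Subgroup.mem_bot]
    by_contra hne
    refine hrT ?_
    have hgen : Subgroup.zpowers v = Subgroup.zpowers r := by
      refine Subgroup.eq_of_le_of_card_ge (Subgroup.zpowers_le.mpr hv.1) ?_
      have hd : orderOf v ∣ p := hro ▸ Nat.card_zpowers r ▸ Subgroup.orderOf_dvd_natCard _ hv.1
      rw [Nat.card_zpowers, Nat.card_zpowers, hro,
        ((Nat.dvd_prime hp.out).mp hd).resolve_left (fun e => hne (orderOf_eq_one_iff.mp e))]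
    exact (Subgroup.zpowers_le.mpr hv.2.2) (hgen.symm ▸ Subgroup.mem_zpowers r)
  · rintro a ⟨i, rfl⟩ b hb
    have hc : Commute r b := (Subgroup.mem_centralizer_singleton_iff.mp hb.1).symm
    exact (hc.zpow_left i).eq
  · refine le_antisymm (sup_le ?_ ?_) fun x hx => ?_
    · haveI : IsCyclic (Subgroup.zpowers r) := inferInstance
      exact Subgroup.le_centralizer_iff_isMulCommutative.mpr IsCyclic.isMulCommutative
    · intro b hb
      rw [Subgroup.mem_centralizer_iff]
      rintro _ ⟨i, rfl⟩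
      have hc : Commute r b := (Subgroup.mem_centralizer_singleton_iff.mp hb.1).symm
      exact (hc.zpow_left i).eq
    · have hcard : Nat.card (R ⧸ T) = p := by rw [← Subgroup.index_eq_card, hidx]
      obtain ⟨i, hi⟩ := mem_zpowers_of_prime_card hcard (g := QuotientGroup.mk' T r) (g' := QuotientGroup.mk' T x)
        (fun e => hrT ((QuotientGroup.eq_one_iff r).mp e))
      have hxr : Commute x r := (Subgroup.mem_centralizer_iff.mp hx r (Subgroup.mem_zpowers r)).symm
      have hm : (r ^ i)⁻¹ * x ∈ R₁ := by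
        refine Subgroup.mem_inf.mpr ⟨Subgroup.mem_centralizer_singleton_iff.mpr
          (((Commute.refl r).zpow_left i).inv_left.mul_left hxr).eq, ?_⟩
        refine (QuotientGroup.eq_one_iff _).mp ?_
        change QuotientGroup.mk' T _ = 1
        rw [map_mul, map_inv, map_zpow]
        exact inv_mul_eq_one.mpr hi
      have := mul_mem (Subgroup.mem_sup_left (T := R₁) (zpow_mem (Subgroup.mem_zpowers r) i))
        (Subgroup.mem_sup_right (S := Subgroup.zpowers r) hm)
      rwa [mul_inv_cancel_left] at this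

/-- A group of rank at least three with a maximal elementary abelian subgroup of order `p ^ 2` is narrow. -/
theorem MaxEATwo.isNarrow (hp2 : p ≠ 2) (hR : IsPGroup p R) {E : Subgroup R} (h : MaxEATwo p E) :
    IsNarrow p R := by
  by_cases hr : PRankLE p 2 R
  · exact Or.inl hr
  obtain ⟨-, -, hEW, -, -, -⟩ := h.second hp2 hR hr
  obtain ⟨r, hrE, hrT⟩ := SetLike.not_le_iff_exists.mp hEW
  obtain ⟨R₁, h1, h2, h3, h4⟩ := h.narrow_of_mem hp2 hR hr hrE hrT
  exact Or.inr ⟨Subgroup.zpowers r, R₁, by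
    rw [Nat.card_zpowers, orderOf_eq_prime (h.ea.2 r hrE) (fun e => hrT (e ▸ one_mem _))], h1, h2, h3, h4⟩

/-- Noncentral elements of such a subgroup lie outside the centralizer of the second omega subgroup. -/
theorem MaxEATwo.notMem_of_noncentral (hp2 : p ≠ 2) (hR : IsPGroup p R) {E : Subgroup R} (h : MaxEATwo p E)
    (hr : ¬ PRankLE p 2 R) {r : R} (hrE : r ∈ E) (hrc : r ∉ Subgroup.center R) :
    r ∉ Subgroup.centralizer (omegaSecond (R := R) hp2 : Set R) := by
  intro hrT
  obtain ⟨-, -, hEW, -, -, -⟩ := h.second hp2 hR hr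
  refine hEW ?_
  have hlt := h.omegaCentre_lt hp2 hR hr
  have hgen : omegaCentre p R ⊔ Subgroup.zpowers r = E := by
    refine Subgroup.eq_of_le_of_card_ge (sup_le hlt.le (Subgroup.zpowers_le.mpr hrE)) ?_
    obtain ⟨k, hk⟩ := (hR.to_subgroup (omegaCentre p R ⊔ Subgroup.zpowers r : Subgroup R)).exists_card_eq
    have h1 := Basics.card_lt_of_lt (lt_of_le_of_ne (le_sup_left (a := omegaCentre p R) (b := Subgroup.zpowers r))
      fun e => hrc (e.ge (Subgroup.mem_sup_right (Subgroup.mem_zpowers r))).1)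
    rw [hk, h.card_omegaCentre hp2 hR hr] at h1
    rw [hk, h.card]
    refine Nat.pow_le_pow_right hp.out.pos ?_
    by_contra hlt'
    exact absurd h1 (not_lt.mpr ((Nat.pow_le_pow_right hp.out.pos (by omega : k ≤ 1)).trans (pow_one p).le))
  rw [← hgen]
  exact sup_le (fun z hz => Subgroup.mem_centralizer_iff.mpr fun w _ => Subgroup.mem_center_iff.mp hz.1 w)
    (Subgroup.zpowers_le.mpr hrT)

/-- The centralizer of a noncentral element of a maximal elementary abelian subgroup of order `p ^ 2` is abelian. -/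
theorem MaxEATwo.centralizer_abelian (hp2 : p ≠ 2) (hR : IsPGroup p R) {E : Subgroup R} (h : MaxEATwo p E)
    (hr : ¬ PRankLE p 2 R) {r : R} (hrE : r ∈ E) (hrc : r ∉ Subgroup.center R) :
    IsMulCommutative (Subgroup.centralizer ({r} : Set R)) := by
  have hrT := h.notMem_of_noncentral hp2 hR hr hrE hrc
  obtain ⟨R₁, h1, -, h3, h4⟩ := h.narrow_of_mem hp2 hR hr hrE hrT
  rw [show Subgroup.centralizer ({r} : Set R) = Subgroup.zpowers r ⊔ R₁ by
    rw [h4, Subgroup.zpowers_eq_closure, Subgroup.centralizer_closure]]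
  refine Subgroup.le_centralizer_iff_isMulCommutative.mp (sup_le ?_ ?_) <;>
    rw [Subgroup.le_centralizer_iff] <;> refine sup_le ?_ ?_
  · haveI : IsCyclic (Subgroup.zpowers r) := inferInstance
    exact Subgroup.le_centralizer_iff_isMulCommutative.mpr IsCyclic.isMulCommutative
  · exact fun b hb => Subgroup.mem_centralizer_iff.mpr fun a ha => h3 a ha b hb
  · exact fun a ha => Subgroup.mem_centralizer_iff.mpr fun b hb => (h3 a ha b hb).symm
  · exact Subgroup.le_centralizer_iff_isMulCommutative.mpr IsCyclic.isMulCommutative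

variable {G : Type u} [Group G] [Finite G]

/-- A normal `p'`-subgroup absorbing a `p`-power of every element. -/
def HasPComplementIn (p : ℕ) (W N : Subgroup G) : Prop :=
  N ≤ W ∧ W ≤ Subgroup.normalizer (N : Set G) ∧ (Nat.card N).Coprime p ∧ ∀ x ∈ W, ∃ n : ℕ, x ^ p ^ n ∈ N

theorem HasPComplementIn.mono {W N V : Subgroup G} (h : HasPComplementIn p W N) (hVW : V ≤ W) :
    HasPComplementIn p V (N ⊓ V) := by
  refine ⟨inf_le_right, (le_inf (hVW.trans h.2.1) Subgroup.le_normalizer).trans le_normalizer_inf',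
    h.2.2.1.coprime_dvd_left (Subgroup.card_dvd_of_le inf_le_left), fun x hx => ?_⟩
  obtain ⟨n, hn⟩ := h.2.2.2 x (hVW hx)
  exact ⟨n, Subgroup.mem_inf.mpr ⟨hn, pow_mem hx _⟩⟩

theorem HasPComplementIn.hasNormalPComplement {W N : Subgroup G} (h : HasPComplementIn p W N) :
    Cfsg.HasNormalPComplement p ↥W := by
  haveI : (N.subgroupOf W).Normal := (Subgroup.normal_subgroupOf_iff_le_normalizer h.1).mpr h.2.1
  refine Transfer.hasNormalPComplement_of_normal (N.subgroupOf W) ?_ fun z => ?_
  · rw [Basics.card_subgroupOf h.1]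
    exact hp.out.coprime_iff_not_dvd.mp h.2.2.1.symm
  · induction z using QuotientGroup.induction_on with
    | H z =>
      obtain ⟨n, hn⟩ := h.2.2.2 z z.2
      exact ⟨n, by rw [← QuotientGroup.mk_pow, QuotientGroup.eq_one_iff]; exact hn⟩

/-- For a prime outside `β(M)`: a bound on the primes and a normal complement in `M'`. -/
theorem facts_of_not_beta (hG : IsMinSimpleOddOrder G) {M : Subgroup G} (hM : IsCoatom M) (hpM : p ∣ Nat.card M)
    (hb : p ∉ Cfsg.beta M) :
    (∀ q : ℕ, q.Prime → q ∣ (Cfsg.pPrimeCore p ↥M).index → q ≤ p) ∧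
      HasPComplementIn p ⁅M, M⁆ ((Cfsg.pPrimeCore p ↥(commutator ↥M)).map ((M.subtype).comp (commutator ↥M).subtype)) := by
  haveI : Group.IsSolvable M := isSolvable_of_ne_top hG hM.1
  have hodd : Odd (Nat.card M) := odd_card_subgroup hG M
  have hp2 : p ≠ 2 := pPrimeCore_ne_two hodd hpM
  have key : (∀ q : ℕ, q.Prime → q ∣ (Cfsg.pPrimeCore p ↥M).index → q ≤ p) ∧
      ∀ L : Subgroup ↥(commutator M), (Nat.card L).Coprime p → L ≤ Cfsg.pPrimeCore p ↥(commutator M) := by
    by_cases hr : PRankLE p 2 M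
    · obtain ⟨h1, -, -, h4, -⟩ := S1450.result hodd p hpM hr
      exact ⟨h1, h4⟩
    have hpα : p ∈ Cfsg.alpha M := ⟨hp.out, hr⟩
    obtain ⟨S⟩ : Nonempty (Sylow p M) := inferInstance
    obtain ⟨P', hP'⟩ := sigma_sylow hG hM (alpha_subset_sigma hG hM hpα) S
    have hrG : ¬ PRankLE p 2 G := fun h => hr fun X hXc hXe => by
      rw [← Subgroup.card_map_of_injective M.subtype_injective]
      exact h _ (isMulCommutative_map hXc _) (by rintro _ ⟨v, hv, rfl⟩; rw [← map_pow, hXe v hv, map_one])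
    have hid : ¬ IsIdealPrime p G := fun h => hb ⟨hpα, h⟩
    simp only [IsIdealPrime, not_and, not_forall] at hid
    obtain ⟨P, A, hAP, hA, hA2, hmax⟩ := hid hp.out hrG
    push Not at hmax
    have hE : MaxEATwo p (A.subgroupOf (P : Subgroup G)) := by
      refine MaxEATwo.of_maximal ⟨⟨⟨fun a b => Subtype.ext (Subtype.ext (ea_commute hA a.2 b.2).eq)⟩⟩,
        fun a ha => Subtype.ext (hA.2 _ ha)⟩ (by rw [Basics.card_subgroupOf hAP, hA2]) fun B hB hAB => ?_
      by_contra hne
      refine hmax (B.map (P : Subgroup G).subtype) (Subgroup.map_subtype_le B)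
        ⟨isMulCommutative_map hB.1 _, by rintro _ ⟨v, hv, rfl⟩; rw [← map_pow, hB.2 v hv, map_one]⟩
        (lt_of_le_of_ne (fun a ha => ⟨⟨a, hAP ha⟩, hAB ha, rfl⟩) fun e => hne ?_)
      rw [e, Subgroup.subgroupOf, Subgroup.comap_map_eq_self_of_injective (P : Subgroup G).subtype_injective]
    obtain ⟨g, hg⟩ := MulAction.exists_smul_eq G P P'
    have hmap : (P : Subgroup G).map (MulAut.conj g).toMonoidHom = (S : Subgroup M).map M.subtype := by
      rw [← hP', ← hg]
      rfl
    let e : ↥(P : Subgroup G) ≃* ↥(S : Subgroup M) :=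
      (((P : Subgroup G).equivMapOfInjective (MulAut.conj g).toMonoidHom (MulEquiv.injective _)).trans
        (MulEquiv.subgroupCongr hmap)).trans ((S : Subgroup M).equivMapOfInjective M.subtype M.subtype_injective).symm
    have hS : IsNarrow p ↥(S : Subgroup M) := (hE.map_equiv e).isNarrow hp2 S.2
    obtain ⟨h1, -, -, h4, -⟩ := S1455.result hodd p hpM S hS (fun _ => pLengthLE_one_of_proper hG hM.1)
    exact ⟨h1, h4⟩
  refine ⟨key.1, ?_⟩
  set N₀ := Cfsg.pPrimeCore p ↥(commutator M)
  set ι := (M.subtype).comp (commutator M).subtype with hι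
  have hrange : ∀ x, x ∈ ⁅M, M⁆ ↔ ∃ y : ↥(commutator M), ι y = x := by
    intro x
    rw [← M.map_subtype_commutator]
    constructor
    · rintro ⟨y, hy, rfl⟩
      exact ⟨⟨y, hy⟩, rfl⟩
    · rintro ⟨y, rfl⟩
      exact ⟨y, y.2, rfl⟩
  refine ⟨?_, fun x hx => ?_, ?_, fun x hx => ?_⟩
  · rintro _ ⟨y, -, rfl⟩
    exact (hrange _).mpr ⟨y, rfl⟩
  · obtain ⟨y, rfl⟩ := (hrange x).mp hx
    rw [Subgroup.mem_normalizer_iff]
    intro v
    constructor
    · rintro ⟨w, hw, rfl⟩
      exact ⟨y * w * y⁻¹, (inferInstance : N₀.Normal).conj_mem w hw y, by simp⟩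
    · rintro ⟨w, hw, e⟩
      refine ⟨y⁻¹ * w * y, by simpa using (inferInstance : N₀.Normal).conj_mem w hw y⁻¹, ?_⟩
      rw [map_mul, map_mul, map_inv, e]; group
  · exact (Basics.pPrimeCore_coprime p).coprime_dvd_left (Subgroup.card_map_dvd _ _)
  · obtain ⟨y, rfl⟩ := (hrange x).mp hx
    refine ⟨Nat.factorization (Nat.card ↥(commutator M)) p, _, key.2 (Subgroup.zpowers _) ?_ (Subgroup.mem_zpowers _),
      map_pow ι y _⟩
    rw [Nat.card_zpowers]
    refine Nat.Coprime.coprime_dvd_left (orderOf_dvd_of_pow_eq_one (n := Nat.card ↥(commutator M) / p ^ Nat.factorization (Nat.card ↥(commutator M)) p) ?_)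
      (hp.out.coprime_iff_not_dvd.mpr (Nat.not_dvd_ordCompl hp.out Nat.card_pos.ne')).symm
    rw [← pow_mul, Nat.mul_div_cancel' (Nat.ordProj_dvd _ _), pow_card_eq_one']

/-- The subgroup of `M'` cut out by the complements for the primes outside `β(M)`. -/
theorem betaCore_facts (hG : IsMinSimpleOddOrder G) {M : Subgroup G} (hM : IsCoatom M) :
    (∀ r ∈ Cfsg.beta M, r.Prime → ¬ r ∣ (Cfsg.piCore (Cfsg.beta M) ↥M).index) ∧
      ∀ V : Subgroup ↥M, V ≤ commutator ↥M → ∃ H : Subgroup ↥M, Cfsg.IsPiHallOf {q | q.Prime ∧ q ∉ Cfsg.beta M} H V ∧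
        Group.IsNilpotent H := by
  classical
  set I := {q : ℕ // q ∈ (Nat.card ↥(commutator M)).primeFactors ∧ q ∉ Cfsg.beta M}
  haveI hI : ∀ i : I, Fact i.1.Prime := fun i => ⟨Nat.prime_of_mem_primeFactors i.2.1⟩
  haveI : Fintype I := Fintype.subtype ((Nat.card ↥(commutator M)).primeFactors.filter (· ∉ Cfsg.beta M)) (by simp)
  have hdvdM : ∀ i : I, i.1 ∣ Nat.card M := fun i =>
    (Nat.dvd_of_mem_primeFactors i.2.1).trans (Subgroup.card_subgroup_dvd_card _)
  let N : I → Subgroup ↥(commutator M) := fun i => Cfsg.pPrimeCore i.1 ↥(commutator M)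
  haveI hNn : ∀ i, (N i).Normal := fun i => inferInstance
  have hquo : ∀ i, IsPGroup i.1 (↥(commutator M) ⧸ N i) := by
    intro i z
    induction z using QuotientGroup.induction_on with
    | H z =>
      obtain ⟨n, hn⟩ := (facts_of_not_beta hG hM (hdvdM i) i.2.2).2.2.2.2 (M.subtype ((commutator M).subtype z))
        (by rw [← M.map_subtype_commutator]; exact ⟨_, z.2, rfl⟩)
      obtain ⟨w, hw, e⟩ := hn
      refine ⟨n, ?_⟩
      rw [← QuotientGroup.mk_pow, QuotientGroup.eq_one_iff]
      have e' : w = z ^ i.1 ^ n := Subtype.ext (Subtype.ext (by simpa using e))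
      exact e' ▸ hw
  set ψ : ↥(commutator M) →* (∀ i : I, ↥(commutator M) ⧸ N i) := MonoidHom.mk'
    (fun z i => QuotientGroup.mk' (N i) z) (fun a b => funext fun i => map_mul _ a b) with hψ
  haveI : ∀ i : I, Group.IsNilpotent (↥(commutator M) ⧸ N i) := fun i => (hquo i).isNilpotent
  haveI hnilpi : Group.IsNilpotent (∀ i : I, ↥(commutator M) ⧸ N i) := inferInstance
  set K₀ := ψ.ker with hK₀
  have hK₀mem : ∀ z, z ∈ K₀ ↔ ∀ i, z ∈ N i := fun z => by
    rw [hK₀, MonoidHom.mem_ker]
    constructor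
    · intro h i
      exact (QuotientGroup.eq_one_iff z).mp (congrFun h i)
    · intro h
      exact funext fun i => (QuotientGroup.eq_one_iff z).mpr (h i)
  haveI hK₀c : K₀.Characteristic := by
    rw [Subgroup.characteristic_iff_comap_eq]
    intro φ
    ext z
    rw [Subgroup.mem_comap, hK₀mem, hK₀mem]
    refine forall_congr' fun i => ?_
    have hc : (N i).Characteristic := inferInstance
    conv_rhs => rw [← Subgroup.characteristic_iff_comap_eq.mp hc φ]
    rfl
  have hKprimes : ∀ r : ℕ, r.Prime → r ∣ Nat.card K₀ → r ∈ Cfsg.beta M := by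
    intro r hr hd
    by_contra hb
    have hr' : r ∈ (Nat.card ↥(commutator M)).primeFactors :=
      Nat.mem_primeFactors.mpr ⟨hr, hd.trans (Subgroup.card_subgroup_dvd_card _), Nat.card_pos.ne'⟩
    have h2 : r ∣ Nat.card (N ⟨r, hr', hb⟩) :=
      hd.trans (Subgroup.card_dvd_of_le fun z hz => (hK₀mem z).mp hz _)
    exact hr.not_dvd_one (by
      have := Nat.eq_one_of_dvd_coprimes (Basics.pPrimeCore_coprime (G := ↥(commutator M)) r) h2 dvd_rfl
      exact this ▸ dvd_rfl)
  haveI : ((K₀).map (commutator M).subtype).Normal := ConjAct.normal_of_characteristic_of_normal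
  set K := K₀.map (commutator M).subtype with hK
  have hKle : K ≤ Cfsg.piCore (Cfsg.beta M) ↥M := le_sSup ⟨inferInstance, fun r hr hd =>
    hKprimes r hr (by rwa [hK, Subgroup.card_map_of_injective (commutator M).subtype_injective] at hd)⟩
  have hbel : ∀ x ∈ commutator M, ∀ r ∈ Cfsg.beta M, (∃ j, x ^ r ^ j = 1) → x ∈ K := by
    intro x hx r hrb ⟨j, hj⟩
    refine ⟨⟨x, hx⟩, (hK₀mem _).mpr fun i => ?_, rfl⟩
    refine (QuotientGroup.eq_one_iff (N := N i) _).mp ?_
    obtain ⟨k, hk⟩ := hquo i (QuotientGroup.mk' (N i) ⟨x, hx⟩)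
    refine eq_one_of_pow_primes (j := j) (i.2.1 |> Nat.prime_of_mem_primeFactors) hrb.1.1
      (fun e => i.2.2 (e ▸ hrb)) hk ?_
    change QuotientGroup.mk' (N i) (⟨x, hx⟩ : commutator M) ^ r ^ j = 1
    rw [← map_pow, show (⟨x, hx⟩ : commutator M) ^ r ^ j = 1 from Subtype.ext hj, map_one]
  refine ⟨fun r hrb hr hd => ?_, fun V hV => ?_⟩
  · haveI := Fact.mk hr
    obtain ⟨S⟩ : Nonempty (Sylow r M) := inferInstance
    refine S.not_dvd_index (hd.trans (Subgroup.index_dvd_of_le (le_trans ?_ hKle)))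
    intro s hs
    obtain ⟨j, hj⟩ := S.2 ⟨s, hs⟩
    exact hbel s (sigma_sylow_le_commutator hG hM (alpha_subset_sigma hG hM hrb.1) S hs) r hrb
      ⟨j, congrArg Subtype.val hj⟩
  · have hcop : (Nat.card (K.subgroupOf V)).Coprime (K.subgroupOf V).index := by
      refine Nat.coprime_of_dvd fun r hr h1 h2 => ?_
      haveI := Fact.mk hr
      have hrb : r ∈ Cfsg.beta M := by
        refine hKprimes r hr ?_
        rw [← Subgroup.card_map_of_injective (K := K₀) (commutator M).subtype_injective, ← hK]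
        exact h1.trans (Subgroup.card_comap_dvd_of_injective K V.subtype V.subtype_injective)
      obtain ⟨S⟩ : Nonempty (Sylow r V) := inferInstance
      refine S.not_dvd_index (h2.trans (Subgroup.index_dvd_of_le fun s hs => ?_))
      obtain ⟨j, hj⟩ := S.2 ⟨s, hs⟩
      exact hbel s (hV s.2) r hrb ⟨j, congrArg (fun v : (S : Subgroup V) => ((v : V) : M)) hj⟩
    haveI : (K.subgroupOf V).Normal := inferInstance
    obtain ⟨H, hH⟩ := Subgroup.exists_right_complement'_of_coprime hcop
    refine ⟨H.map V.subtype, ⟨Subgroup.map_subtype_le H, fun r hr hd => ⟨hr, fun hb => ?_⟩, fun r hr hrπ => ?_⟩, ?_⟩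
    · rw [Subgroup.card_map_of_injective V.subtype_injective, ← hH.symm.index_eq_card] at hd
      haveI := Fact.mk hr
      obtain ⟨S⟩ : Nonempty (Sylow r V) := inferInstance
      refine S.not_dvd_index (hd.trans (Subgroup.index_dvd_of_le fun s hs => ?_))
      obtain ⟨j, hj⟩ := S.2 ⟨s, hs⟩
      exact hbel s (hV s.2) r hb ⟨j, congrArg (fun v : (S : Subgroup V) => ((v : V) : M)) hj⟩
    · intro hd
      rw [Subgroup.relIndex, Subgroup.subgroupOf, Subgroup.comap_map_eq_self_of_injective V.subtype_injective,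
        hH.index_eq_card] at hd
      refine hrπ.2 (hKprimes r hr ?_)
      rw [← Subgroup.card_map_of_injective (K := K₀) (commutator M).subtype_injective, ← hK]
      exact hd.trans (Subgroup.card_comap_dvd_of_injective K V.subtype V.subtype_injective)
    · let j : ↥(H.map V.subtype) →* ↥(commutator M) := Subgroup.inclusion ((Subgroup.map_subtype_le H).trans hV)
      refine Subgroup.isNilpotent_of_ker_le_center (ψ.comp j) (le_trans ?_ bot_le)
      rintro ⟨_, h, hh, rfl⟩ he
      rw [Subgroup.mem_bot]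
      have hmem : (h : M) ∈ K := ⟨_, (MonoidHom.mem_ker.mpr he : j ⟨V.subtype h, h, hh, rfl⟩ ∈ K₀), rfl⟩
      have h0 := hH.disjoint.le_bot (⟨hmem, hh⟩ : h ∈ K.subgroupOf V ⊓ H)
      rw [Subgroup.mem_bot] at h0
      exact Subtype.ext (by simp [h0])

end Cfsg.Agent.OddLocal
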