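import Cfsg.Agent.Lib.OddLocal.RankTwoOmega
import Cfsg.Agent.Lib.OddLocal.RankTwo
import Cfsg.Agent.Lib.PGroup23.NormalSq
import Cfsg.Agent.Lib.Transfer.ClassTwo
import Cfsg.Agent.Lib.Basics.CoprimeAction

/-! Blackburn: odd `p`-groups of rank two equal to their commutator with a coprime group of odd order. -/

set_option autoImplicit false
set_option maxHeartbeats 1000000

namespace Cfsg.Agent.OddLocal

open scoped commutatorElement Pointwise
open Cfsg

universe u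

variable {G : Type u} [Group G] [Finite G] {p : ℕ} [hp : Fact p.Prime]

theorem mem_zpowers_sup_iff {N : Subgroup G} {x v : G} (hx : x ∈ Subgroup.normalizer (N : Set G)) :
    v ∈ Subgroup.zpowers x ⊔ N ↔ ∃ (i : ℤ) (n : G), n ∈ N ∧ v = x ^ i * n := by
  rw [sup_comm, Basics.mem_sup_of_le_normalizer' (Subgroup.zpowers_le.mpr hx)]
  constructor
  · rintro ⟨_, ⟨i, rfl⟩, n, hn, rfl⟩; exact ⟨i, n, hn, rfl⟩
  · rintro ⟨i, n, hn, rfl⟩; exact ⟨x ^ i, ⟨i, rfl⟩, n, hn, rfl⟩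

omit [Finite G] in
theorem zpow_p_dvd {c : G} (hc : c ≠ 1) (hcp : c ^ p = 1) {n : ℤ} (h : c ^ n = 1) : (p : ℤ) ∣ n := by
  have := orderOf_dvd_iff_zpow_eq_one.mpr h
  rwa [orderOf_eq_prime hcp hc] at this

omit [Finite G] in
theorem int_unit (hp2 : p ≠ 2) {i : ℤ} : (p : ℤ) ∣ i ∨ IsCoprime (p : ℤ) i := by
  by_cases h : (p : ℤ) ∣ i
  · exact Or.inl h
  · exact Or.inr ((Prime.coprime_iff_not_dvd (Nat.prime_iff_prime_int.mp hp.out)).mpr h)

/-- An automorphism of odd order does not invert a nontrivial coset. -/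
theorem mem_of_inverted {M : Subgroup G} {a y : G} (ha : a ∈ Subgroup.normalizer (M : Set G)) (haodd : Odd (orderOf a))
    (hy : a * y * a⁻¹ * y ∈ M) (hyM : y ∈ Subgroup.normalizer (M : Set G)) (hy2 : Odd (orderOf y)) : y ∈ M := by
  set Γ := Subgroup.normalizer (M : Set G)
  haveI : (M.subgroupOf Γ).Normal := (Subgroup.normal_subgroupOf_iff_le_normalizer Subgroup.le_normalizer).mpr le_rfl
  let f := QuotientGroup.mk' (M.subgroupOf Γ)
  set A := f ⟨a, ha⟩
  set Y := f ⟨y, hyM⟩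
  have h1 : A * Y * A⁻¹ = Y⁻¹ := by
    have h : f (⟨a, ha⟩ * ⟨y, hyM⟩ * (⟨a, ha⟩ : Γ)⁻¹ * ⟨y, hyM⟩) = 1 := (QuotientGroup.eq_one_iff _).mpr hy
    rw [map_mul, map_mul, map_mul, map_inv] at h
    exact eq_inv_of_mul_eq_one_left h
  have h2 : ∀ n : ℕ, A ^ (2 * n) * Y * (A ^ (2 * n))⁻¹ = Y := by
    intro n
    induction n with
    | zero => simp
    | succ n ih =>
      calc A ^ (2 * (n + 1)) * Y * (A ^ (2 * (n + 1)))⁻¹
          = A ^ (2 * n) * (A * (A * Y * A⁻¹) * A⁻¹) * (A ^ (2 * n))⁻¹ := by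
            rw [show 2 * (n + 1) = 2 * n + 1 + 1 by omega, pow_succ, pow_succ]; group
        _ = A ^ (2 * n) * ((A * Y * A⁻¹)⁻¹) * (A ^ (2 * n))⁻¹ := by rw [h1, inv_inv, ← conj_inv, h1, inv_inv]
        _ = A ^ (2 * n) * Y * (A ^ (2 * n))⁻¹ := by rw [h1, inv_inv]
        _ = Y := ih
  have hA1 : A ^ orderOf a = 1 := by
    rw [← map_pow, show (⟨a, ha⟩ : Γ) ^ orderOf a = 1 from Subtype.ext (pow_orderOf_eq_one a), map_one]
  obtain ⟨m, hm⟩ := haodd
  have h3 := h2 m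
  have h4 : A ^ (2 * m) = A⁻¹ := eq_inv_of_mul_eq_one_left (by rw [← pow_succ, ← hm]; exact hA1)
  rw [h4, inv_inv] at h3
  have h5 : A * Y * A⁻¹ = Y := by
    calc A * Y * A⁻¹ = A * (A⁻¹ * Y * A) * A⁻¹ := by rw [h3]
      _ = Y := by group
  rw [h1] at h5
  have h6 : Y * Y = 1 := by nth_rw 1 [← h5]; exact inv_mul_cancel Y
  have hYo : Y ^ orderOf y = 1 := by
    rw [← map_pow, show (⟨y, hyM⟩ : Γ) ^ orderOf y = 1 from Subtype.ext (pow_orderOf_eq_one y), map_one]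
  obtain ⟨n, hn⟩ := hy2
  rw [hn, pow_succ, pow_mul, sq, h6, one_pow, one_mul] at hYo
  exact (QuotientGroup.eq_one_iff (N := M.subgroupOf Γ) _).mp hYo

/-- No fixed point on an abelian section when `R = [R, A]`. -/
theorem mem_of_fixed_coset {M R A : Subgroup G} (hR : IsPGroup p R) (hA : A ≤ Subgroup.normalizer (R : Set G))
    (hAM : A ≤ Subgroup.normalizer (M : Set G)) (hRM : R ≤ Subgroup.normalizer (M : Set G))
    (hcop : (Nat.card A).Coprime p) (hRA : ⁅R, A⁆ = R) (habel : ⁅R, R⁆ ≤ M) {y : G} (hy : y ∈ R)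
    (hfix : ∀ a ∈ A, a * y * a⁻¹ * y⁻¹ ∈ M) : y ∈ M := by
  set Γ := Subgroup.normalizer (M : Set G)
  haveI : (M.subgroupOf Γ).Normal := (Subgroup.normal_subgroupOf_iff_le_normalizer Subgroup.le_normalizer).mpr le_rfl
  let f := QuotientGroup.mk' (M.subgroupOf Γ)
  set V := (R.subgroupOf Γ).map f
  set B := (A.subgroupOf Γ).map f
  have hmapc : ∀ {S T : Subgroup G}, S ≤ Γ → T ≤ Γ →
      (⁅S, T⁆.subgroupOf Γ).map f = ⁅(S.subgroupOf Γ).map f, (T.subgroupOf Γ).map f⁆ := by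
    intro S T hS hT
    rw [← Subgroup.map_commutator]
    congr 1
    refine Subgroup.map_injective Γ.subtype_injective ?_
    rw [Subgroup.map_commutator, Subgroup.map_subgroupOf_eq_of_le hS, Subgroup.map_subgroupOf_eq_of_le hT,
      Subgroup.map_subgroupOf_eq_of_le ((Subgroup.commutator_mono hS hT).trans Γ.commutator_le_self)]
  haveI : IsMulCommutative V := by
    refine ⟨⟨fun a b => Subtype.ext ?_⟩⟩
    obtain ⟨_, u, hu, rfl⟩ := a
    obtain ⟨_, v, hv, rfl⟩ := b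
    change f u * f v = f v * f u
    rw [← commutatorElement_eq_one_iff_mul_comm, ← map_commutatorElement]
    exact (QuotientGroup.eq_one_iff _).mpr (habel (Subgroup.commutator_mem_commutator hu hv))
  have hBV : B ≤ Subgroup.normalizer (V : Set _) := by
    refine (Subgroup.map_mono ?_).trans (Subgroup.le_normalizer_map _)
    intro b hb
    rw [← Subgroup.subgroupOf_normalizer_eq hRM, Subgroup.mem_subgroupOf]
    exact hA hb
  have hcop' : (Nat.card B).Coprime (Nat.card V) := by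
    obtain ⟨n, hn⟩ : ∃ n, Nat.card V = p ^ n := ((hR.comap_subtype (K := Γ)).map f).exists_card_eq
    rw [hn]
    exact ((hcop.coprime_dvd_left ((Subgroup.card_map_dvd _ f).trans
      (Nat.card_congr (Subgroup.subgroupOfEquivOfLe hAM).toEquiv).dvd))).pow_right n
  have hVB : ⁅V, B⁆ = V := by rw [← hmapc hRM hAM, hRA]
  have h := Basics.inf_centralizer_inf_commutator_eq_bot B V hBV hcop'
  rw [hVB, inf_assoc, inf_comm (Subgroup.centralizer (B : Set _)) V, ← inf_assoc, inf_idem] at h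
  have hy' : f ⟨y, hRM hy⟩ ∈ V ⊓ Subgroup.centralizer (B : Set _) := by
    refine Subgroup.mem_inf.mpr ⟨⟨_, hy, rfl⟩, Subgroup.mem_centralizer_iff.mpr ?_⟩
    rintro _ ⟨b, hb, rfl⟩
    have h1 : f (b * ⟨y, hRM hy⟩ * b⁻¹ * (⟨y, hRM hy⟩ : Γ)⁻¹) = 1 := (QuotientGroup.eq_one_iff _).mpr (hfix b hb)
    rw [map_mul, map_mul, map_mul, map_inv, map_inv] at h1
    exact mul_inv_eq_iff_eq_mul.mp (mul_inv_eq_one.mp h1)
  rw [h, Subgroup.mem_bot] at hy'
  exact (QuotientGroup.eq_one_iff (N := M.subgroupOf Γ) _).mp hy'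

/-- The case of derived subgroup of exponent `p` in the centre. -/
theorem not_class_two (hp3 : 3 < p) {R A : Subgroup G} (hR : IsPGroup p R) (hA : A ≤ Subgroup.normalizer (R : Set G))
    (hcop : (Nat.card A).Coprime p) (hRA : ⁅R, A⁆ = R) (hs : SmallExponent p R) (hne : ⁅R, R⁆ ≠ ⊥)
    (hc2 : ⁅⁅R, R⁆, R⁆ = ⊥) (hexp : ∀ c ∈ ⁅R, R⁆, c ^ p = 1) : False := by
  classical
  have hp2 : p ≠ 2 := by omega
  have hDcomm : ∀ c ∈ ⁅R, R⁆, ∀ r ∈ R, Commute c r := fun c hc r hr =>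
    commutatorElement_eq_one_iff_mul_comm.mp (Subgroup.mem_bot.mp (hc2 ▸ Subgroup.commutator_mem_commutator hc hr))
  have hcl : ∀ u ∈ R, ∀ w ∈ R, ∀ n : ℕ, ⁅u ^ n, w⁆ = ⁅u, w⁆ ^ n := fun u hu w hw n =>
    Transfer.commutator_pow_left (hDcomm _ (Subgroup.commutator_mem_commutator hu hw) u hu).symm n
  have hpcomm : ∀ u ∈ R, ∀ w ∈ R, Commute (u ^ p) w := fun u hu w hw => by
    have h := hcl u hu w hw p
    rw [hexp _ (Subgroup.commutator_mem_commutator hu hw)] at h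
    exact commutatorElement_eq_one_iff_mul_comm.mp h
  have hmulp : ∀ u ∈ R, ∀ w ∈ R, (u * w) ^ p = u ^ p * w ^ p := by
    intro u hu w hw
    rw [Transfer.mul_pow_of_commute (hDcomm _ (Subgroup.commutator_mem_commutator hw hu) u hu)
      (hDcomm _ (Subgroup.commutator_mem_commutator hw hu) w hw)]
    obtain ⟨m, hm⟩ : p ∣ p.choose 2 := hp.out.dvd_choose_self two_ne_zero (by omega)
    rw [hm, pow_mul, hexp _ (Subgroup.commutator_mem_commutator hw hu), one_pow, mul_one]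
  have hmul : ∀ (m : ℕ), ∀ u ∈ R, ∀ w ∈ R, (u * w) ^ p ^ m = u ^ p ^ m * w ^ p ^ m := by
    intro m
    induction m with
    | zero => intro u _ w _; simp
    | succ m ih =>
      intro u hu w hw
      rw [pow_succ, pow_mul, pow_mul, pow_mul, ih u hu w hw]
      exact hmulp _ (pow_mem hu _) _ (pow_mem hw _)
  have hzmul : ∀ (m : ℕ) (u : G) (i : ℤ), (u ^ i) ^ p ^ m = (u ^ p ^ m) ^ i := fun m u i => by
    rw [← zpow_natCast (u ^ i), ← zpow_natCast u (p ^ m), ← zpow_mul, ← zpow_mul, mul_comm]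
  let P1 : Subgroup G :=
    { carrier := {v | ∃ u ∈ R, u ^ p = v}
      one_mem' := ⟨1, one_mem R, one_pow p⟩
      mul_mem' := by
        rintro _ _ ⟨u, hu, rfl⟩ ⟨w, hw, rfl⟩
        exact ⟨u * w, mul_mem hu hw, hmulp u hu w hw⟩
      inv_mem' := by
        rintro _ ⟨u, hu, rfl⟩
        exact ⟨u⁻¹, inv_mem hu, inv_pow u p⟩ }
  have hP1R : P1 ≤ R := by rintro _ ⟨u, hu, rfl⟩; exact pow_mem hu p
  have hNP1 : Subgroup.normalizer (R : Set G) ≤ Subgroup.normalizer (P1 : Set G) := by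
    intro g hg
    rw [Subgroup.mem_normalizer_iff_map_conj_eq]
    refine Subgroup.eq_of_le_of_card_ge ?_ (Subgroup.card_map_of_injective (MulEquiv.injective _)).ge
    rintro _ ⟨_, ⟨u, hu, rfl⟩, rfl⟩
    exact ⟨g * u * g⁻¹, (Subgroup.mem_normalizer_iff.mp hg u).mp hu, by
      change (g * u * g⁻¹) ^ p = g * u ^ p * g⁻¹
      exact conj_pow⟩
  have hRP1 : R ≤ Subgroup.normalizer (P1 : Set G) := Subgroup.le_normalizer.trans hNP1
  haveI : (P1.subgroupOf R).Normal := (Subgroup.normal_subgroupOf_iff_le_normalizer hP1R).mpr hRP1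
  let f := QuotientGroup.mk' (P1.subgroupOf R)
  have hquot : Nat.card (R ⧸ P1.subgroupOf R) ≤ p ^ 2 := by
    rw [← Subgroup.card_top (G := R ⧸ P1.subgroupOf R)]
    refine smallExponent_quotient hp3 _ R rfl hR hs _ ⊤ fun v _ => ?_
    obtain ⟨u, rfl⟩ := QuotientGroup.mk'_surjective _ v
    rw [← map_pow]
    exact (QuotientGroup.eq_one_iff _).mpr ⟨u, u.2, rfl⟩
  have hfcomm : ∀ u v : R, f u * f v = f v * f u := by
    obtain ⟨n, hn⟩ := (hR.to_quotient (P1.subgroupOf R)).exists_card_eq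
    rw [hn, Nat.pow_le_pow_iff_right hp.out.one_lt] at hquot
    intro u v
    interval_cases n
    · haveI : Subsingleton (R ⧸ P1.subgroupOf R) := (Nat.card_eq_one_iff_unique.mp hn).1
      exact Subsingleton.elim _ _
    · haveI : IsCyclic (R ⧸ P1.subgroupOf R) := isCyclic_of_prime_card (hn.trans (pow_one p))
      exact (IsCyclic.commGroup (α := R ⧸ P1.subgroupOf R)).mul_comm _ _
    · exact (IsPGroup.isMulCommutative_of_card_eq_prime_sq hn).is_comm.comm _ _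
  have hR'P : ⁅R, R⁆ ≤ P1 := by
    refine Subgroup.commutator_le.mpr fun u hu v hv => ?_
    refine Subgroup.mem_subgroupOf.mp ((QuotientGroup.eq_one_iff (N := P1.subgroupOf R) ⁅(⟨u, hu⟩ : R), ⟨v, hv⟩⁆).mp ?_)
    change f _ = 1
    rw [map_commutatorElement, commutatorElement_eq_one_iff_mul_comm]
    exact hfcomm _ _
  -- a commutator of maximal height
  obtain ⟨c, hc, hc1⟩ := (Subgroup.ne_bot_iff_exists_ne_one).mp hne |> fun ⟨a, ha⟩ =>
    (⟨a, a.2, fun h => ha (Subtype.ext h)⟩ : ∃ c ∈ ⁅R, R⁆, c ≠ 1)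
  have hcp := hexp c hc
  have hbound : ∀ m, (∃ u ∈ R, u ^ p ^ m = c) → m < Nat.card G := by
    rintro m ⟨u, -, hu⟩
    have h : orderOf u ∣ Nat.card G := orderOf_dvd_natCard u
    by_contra hle
    push Not at hle
    have h2 : ∃ j, orderOf u = p ^ j ∧ j ≤ m := by
      have h3 : orderOf u ∣ p ^ (m + 1) := orderOf_dvd_of_pow_eq_one (by rw [pow_succ, pow_mul, hu, hcp])
      obtain ⟨j, -, hj⟩ := (Nat.dvd_prime_pow hp.out).mp h3
      refine ⟨j, hj, ?_⟩
      have h4 : p ^ j ≤ Nat.card G := hj ▸ Nat.le_of_dvd Nat.card_pos h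
      exact le_trans (le_of_lt (lt_of_lt_of_le (Nat.lt_pow_self hp.out.one_lt) h4)) hle
    obtain ⟨j, hj, hjm⟩ := h2
    refine hc1 ?_
    rw [← hu, ← orderOf_dvd_iff_pow_eq_one, hj]
    exact Nat.pow_dvd_pow p hjm
  obtain ⟨u1, hu1, hu1c⟩ := hR'P hc
  set S := (Finset.range (Nat.card G)).filter (fun m => ∃ u ∈ R, u ^ p ^ m = c) with hS
  have hSne : S.Nonempty := ⟨1, Finset.mem_filter.mpr ⟨Finset.mem_range.mpr (hbound 1 ⟨u1, hu1, by rw [pow_one]; exact hu1c⟩),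
    u1, hu1, by rw [pow_one]; exact hu1c⟩⟩
  set m := S.max' hSne with hm
  obtain ⟨x, hxR, hxc⟩ := (Finset.mem_filter.mp (Finset.max'_mem S hSne)).2
  rw [← hm] at hxc
  have hmax : ∀ k, (∃ u ∈ R, u ^ p ^ k = c) → k ≤ m := fun k hk =>
    Finset.le_max' S k (Finset.mem_filter.mpr ⟨Finset.mem_range.mpr (hbound k hk), hk⟩)
  have hm1 : 1 ≤ m := hmax 1 ⟨u1, hu1, by rw [pow_one]; exact hu1c⟩
  have hhigh : ∀ v ∈ P1, ∀ t : ℤ, v ^ p ^ m = c ^ t → v ^ p ^ m = 1 := by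
    rintro _ ⟨u, hu, rfl⟩ t h
    rcases int_unit (p := p) hp2 (i := t) with ⟨d, hd⟩ | ⟨r, s, hrs⟩
    · rw [h, hd, zpow_mul, zpow_natCast, hcp, one_zpow]
    · exfalso
      have h1 : (u ^ s) ^ p ^ (m + 1) = c := by
        rw [hzmul, pow_succ, mul_comm, pow_mul, h, ← zpow_mul, show t * s = 1 - r * p by rw [← hrs]; ring,
          zpow_sub, zpow_one, mul_comm r, zpow_mul, zpow_natCast, hcp, one_zpow, inv_one, mul_one]
      exact absurd (hmax (m + 1) ⟨u ^ s, zpow_mem hu s, h1⟩) (by omega)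
  -- a second generator
  set M1 := Subgroup.zpowers x ⊔ P1 with hM1
  have hM1R : M1 ≤ R := sup_le (Subgroup.zpowers_le.mpr hxR) hP1R
  obtain ⟨y, hyR, hyM⟩ : ∃ y ∈ R, y ∉ M1 := by
    by_contra h
    push Not at h
    refine hne (le_bot_iff.mp (Subgroup.commutator_le.mpr fun u hu v hv => ?_))
    obtain ⟨i, a, ⟨a0, ha0, rfl⟩, rfl⟩ := (mem_zpowers_sup_iff (hRP1 hxR)).mp (h u hu)
    obtain ⟨j, b, ⟨b0, hb0, rfl⟩, rfl⟩ := (mem_zpowers_sup_iff (hRP1 hxR)).mp (h v hv)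
    refine Subgroup.mem_bot.mpr (commutatorElement_eq_one_iff_mul_comm.mpr ?_)
    exact ((((Commute.refl x).zpow_zpow i j).mul_right (hpcomm b0 hb0 _ (zpow_mem hxR i)).symm).mul_left
      (hpcomm a0 ha0 _ (mul_mem (zpow_mem hxR j) (pow_mem hb0 p)))).eq
  have hgen : ∀ y' ∈ R, y' ∉ M1 → ∀ v ∈ R, ∃ (i l : ℤ) (g : G), g ∈ P1 ∧ v = x ^ i * y' ^ l * g := by
    intro y' hy' hy'M v hv
    have hsub : P1 ≤ Subgroup.zpowers y' ⊔ M1 := le_sup_right.trans le_sup_right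
    have hU : Subgroup.zpowers y' ⊔ M1 = R := by
      refine Subgroup.eq_of_le_of_card_ge (sup_le (Subgroup.zpowers_le.mpr hy') hM1R) ?_
      set U := Subgroup.zpowers y' ⊔ M1
      have hUR : U ≤ R := sup_le (Subgroup.zpowers_le.mpr hy') hM1R
      have hxP : x ∉ P1 := by
        rintro ⟨u, hu, rfl⟩
        exact absurd (hmax (m + 1) ⟨u, hu, by rw [pow_succ', pow_mul, hxc]⟩) (by omega)
      have h1 : P1 < M1 := lt_of_le_of_ne le_sup_right fun e =>
        hxP (e.ge (Subgroup.mem_sup_left (Subgroup.mem_zpowers x)))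
      have h2 : M1 < U := lt_of_le_of_ne le_sup_right fun e =>
        hy'M (e.ge (Subgroup.mem_sup_left (Subgroup.mem_zpowers y')))
      have hquot' : Nat.card R ≤ Nat.card P1 * p ^ 2 := by
        rw [← Subgroup.card_mul_index (P1.subgroupOf R), Basics.card_subgroupOf hP1R, Subgroup.index_eq_card]
        exact Nat.mul_le_mul_left _ hquot
      obtain ⟨a, ha⟩ := (hR.to_le hP1R).exists_card_eq
      obtain ⟨b, hb⟩ := (hR.to_le hM1R).exists_card_eq
      obtain ⟨d, hd⟩ := (hR.to_le hUR).exists_card_eq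
      have h1' := Basics.card_lt_of_lt h1
      have h2' := Basics.card_lt_of_lt h2
      rw [ha, hb, Nat.pow_lt_pow_iff_right hp.out.one_lt] at h1'
      rw [hb, hd, Nat.pow_lt_pow_iff_right hp.out.one_lt] at h2'
      rw [hd]
      refine hquot'.trans ?_
      rw [ha, ← pow_add]
      exact Nat.pow_le_pow_right hp.out.pos (by omega)
    have hle : R ≤ Subgroup.zpowers x ⊔ (Subgroup.zpowers y' ⊔ P1) := by
      rw [← hU, hM1, ← sup_assoc, ← sup_assoc, sup_comm (Subgroup.zpowers y') (Subgroup.zpowers x)]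
    have hyn : y' ∈ Subgroup.normalizer (P1 : Set G) := hRP1 hy'
    have hn : x ∈ Subgroup.normalizer ((Subgroup.zpowers y' ⊔ P1 : Subgroup G) : Set G) := by
      rw [Subgroup.mem_normalizer_iff_map_conj_eq]
      refine Subgroup.eq_of_le_of_card_ge ?_ (Subgroup.card_map_of_injective (MulEquiv.injective _)).ge
      rintro _ ⟨v, hv, rfl⟩
      obtain ⟨i, g, hg, rfl⟩ := (mem_zpowers_sup_iff hyn).mp hv
      obtain ⟨g0, hg0, rfl⟩ := hg
      change x * (y' ^ i * g0 ^ p) * x⁻¹ ∈ _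
      rw [show x * (y' ^ i * g0 ^ p) * x⁻¹ = ⁅x, y' ^ i * g0 ^ p⁆ * (y' ^ i * g0 ^ p) by rw [commutatorElement_def]; group]
      exact mul_mem (Subgroup.mem_sup_right (hR'P (Subgroup.commutator_mem_commutator hxR
        (mul_mem (zpow_mem hy' i) (pow_mem hg0 p))))) (mul_mem (Subgroup.mem_sup_left ⟨i, rfl⟩) (Subgroup.mem_sup_right ⟨g0, hg0, rfl⟩))
    obtain ⟨i, w, hw, rfl⟩ := (mem_zpowers_sup_iff hn).mp (hle hv)
    obtain ⟨l, g, hg, rfl⟩ := (mem_zpowers_sup_iff hyn).mp hw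
    exact ⟨i, l, g, hg, (mul_assoc _ _ _).symm⟩
  -- commutators are powers of `c`
  have hP1c : ∀ g ∈ P1, ∀ w ∈ R, Commute g w := by rintro _ ⟨u, hu, rfl⟩ w hw; exact hpcomm u hu w hw
  have hbil : ∀ y' ∈ R, ∀ (i l k j : ℤ), ⁅x ^ i * y' ^ l, x ^ k * y' ^ j⁆ = ⁅x, y'⁆ ^ (i * j - l * k) := by
    intro y' hy' i l k j
    set c' := ⁅x, y'⁆ with hc'
    have hcc : c' ∈ ⁅R, R⁆ := Subgroup.commutator_mem_commutator hxR hy'
    have hcx := (hDcomm c' hcc x hxR).eq
    have hcy := (hDcomm c' hcc y' hy').eq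
    have hs : ∀ a b : ℤ, y' ^ b * x ^ a = x ^ a * y' ^ b * c' ^ (-(a * b)) := by
      have hxy : x * y' * x⁻¹ = c' * y' := by rw [hc', commutatorElement_def]; group
      have h1 : ∀ b : ℤ, x * y' ^ b * x⁻¹ = c' ^ b * y' ^ b := fun b => by
        rw [← conj_zpow, hxy, (hDcomm c' hcc y' hy').mul_zpow]
      have h2 : ∀ b : ℤ, y' ^ b * x * (y' ^ b)⁻¹ = c' ^ (-b) * x := fun b => by
        calc y' ^ b * x * (y' ^ b)⁻¹ = (x * y' ^ b * x⁻¹ * (y' ^ b)⁻¹)⁻¹ * x := by group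
          _ = c' ^ (-b) * x := by rw [h1, mul_inv_cancel_right, zpow_neg]
      intro a b
      have h3 : y' ^ b * x ^ a * (y' ^ b)⁻¹ = c' ^ (-(a * b)) * x ^ a := by
        rw [← conj_zpow, h2, ((hDcomm c' hcc x hxR).zpow_left (-b)).mul_zpow, ← zpow_mul]
        congr 2; ring
      calc y' ^ b * x ^ a = (y' ^ b * x ^ a * (y' ^ b)⁻¹) * y' ^ b := by group
        _ = x ^ a * c' ^ (-(a * b)) * y' ^ b := by rw [h3, ((hDcomm c' hcc x hxR).zpow_zpow _ _).eq]
        _ = x ^ a * y' ^ b * c' ^ (-(a * b)) := by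
          rw [mul_assoc, ((hDcomm c' hcc y' hy').zpow_zpow _ _).eq, ← mul_assoc]
    set U := x ^ i * y' ^ l
    set W := x ^ k * y' ^ j
    have hz : ∀ n : ℤ, ∀ w ∈ R, Commute (c' ^ n) w := fun n w hw => (hDcomm c' hcc w hw).zpow_left n
    have hUW : U * W = x ^ (i + k) * y' ^ (l + j) * c' ^ (-(k * l)) := by
      calc U * W = x ^ i * (y' ^ l * x ^ k) * y' ^ j := by simp only [U, W]; group
        _ = x ^ i * (x ^ k * y' ^ l * c' ^ (-(k * l))) * y' ^ j := by rw [hs]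
        _ = x ^ i * x ^ k * y' ^ l * (c' ^ (-(k * l)) * y' ^ j) := by group
        _ = x ^ (i + k) * y' ^ (l + j) * c' ^ (-(k * l)) := by
          rw [(hz _ _ (zpow_mem hy' j)).eq, zpow_add, zpow_add]; group
    have hWU : W * U = x ^ (i + k) * y' ^ (l + j) * c' ^ (-(i * j)) := by
      calc W * U = x ^ k * (y' ^ j * x ^ i) * y' ^ l := by simp only [U, W]; group
        _ = x ^ k * (x ^ i * y' ^ j * c' ^ (-(i * j))) * y' ^ l := by rw [hs]
        _ = x ^ k * x ^ i * y' ^ j * (c' ^ (-(i * j)) * y' ^ l) := by group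
        _ = x ^ (i + k) * y' ^ (l + j) * c' ^ (-(i * j)) := by
          rw [(hz _ _ (zpow_mem hy' l)).eq, add_comm i k, add_comm l j, zpow_add, zpow_add]; group
    have hUR : U ∈ R := mul_mem (zpow_mem hxR i) (zpow_mem hy' l)
    have hWR : W ∈ R := mul_mem (zpow_mem hxR k) (zpow_mem hy' j)
    rw [commutatorElement_def]
    have hinv : U * W * U⁻¹ * W⁻¹ = (U * W) * (W * U)⁻¹ := by group
    rw [hinv, hUW, hWU]
    set X := x ^ (i + k) * y' ^ (l + j)
    have hXR : X ∈ R := mul_mem (zpow_mem hxR _) (zpow_mem hy' _)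
    rw [mul_inv_rev, ← mul_assoc, mul_assoc X, ← zpow_neg, ← zpow_add, ← (hz _ X hXR).eq, mul_inv_cancel_right]
    congr 1; ring
  have hbil' : ∀ y' ∈ R, ∀ (i l k j : ℤ) (g h : G), g ∈ P1 → h ∈ P1 →
      ⁅x ^ i * y' ^ l * g, x ^ k * y' ^ j * h⁆ = ⁅x, y'⁆ ^ (i * j - l * k) := by
    intro y' hy' i l k j g h hg hh
    rw [← hbil y' hy' i l k j]
    have hUR : x ^ i * y' ^ l ∈ R := mul_mem (zpow_mem hxR i) (zpow_mem hy' l)
    have hWR : x ^ k * y' ^ j ∈ R := mul_mem (zpow_mem hxR k) (zpow_mem hy' j)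
    have e : ∀ U W g' : G, g' ∈ P1 → W ∈ R → ⁅U * g', W⁆ = ⁅U, W⁆ := fun U W g' hg' hW => by
      rw [commutatorElement_def, commutatorElement_def, mul_inv_rev, mul_assoc U g' W, (hP1c g' hg' W hW).eq]
      group
    rw [e _ _ g hg (mul_mem hWR (hP1R hh)), ← commutatorElement_inv, e _ _ h hh hUR, commutatorElement_inv]
  have hcy : ∀ y' ∈ R, y' ∉ M1 → ∃ e : ℤ, ¬ (p : ℤ) ∣ e ∧ ⁅x, y'⁆ = c ^ e := by
    intro y' hy' hy'M
    have hle : ⁅R, R⁆ ≤ Subgroup.zpowers ⁅x, y'⁆ := by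
      refine Subgroup.commutator_le.mpr fun u hu v hv => ?_
      obtain ⟨i, l, g, hg, rfl⟩ := hgen y' hy' hy'M u hu
      obtain ⟨k, j, h, hh, rfl⟩ := hgen y' hy' hy'M v hv
      exact ⟨_, (hbil' y' hy' i l k j g h hg hh).symm⟩
    obtain ⟨d, hd⟩ := hle hc
    have hd' : ⁅x, y'⁆ ^ d = c := hd
    have hcxy := hexp _ (Subgroup.commutator_mem_commutator hxR hy')
    rcases int_unit (p := p) hp2 (i := d) with ⟨t, ht⟩ | ⟨r, s, hrs⟩
    · exact absurd (by rw [← hd', ht, zpow_mul, zpow_natCast, hcxy, one_zpow]) hc1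
    · refine ⟨s, fun ⟨t, ht⟩ => ?_, ?_⟩
      · have : (p : ℤ) ∣ 1 := ⟨r + t * d, by rw [← hrs, ht]; ring⟩
        exact (Nat.prime_iff_prime_int.mp hp.out).not_dvd_one this
      · rw [← hd', ← zpow_mul, show d * s = 1 - r * p by rw [← hrs]; ring, zpow_sub, zpow_one, mul_comm r,
          zpow_mul, zpow_natCast, hcxy, one_zpow, inv_one, mul_one]
  -- the action
  have hact : ∀ a ∈ A, ∀ v ∈ R, a * v * a⁻¹ ∈ R := fun a ha v hv => (Subgroup.mem_normalizer_iff.mp (hA ha) v).mp hv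
  have hdet : ∀ y' ∈ R, y' ∉ M1 → ∀ a ∈ A, ∀ (i l k j : ℤ) (g h : G), g ∈ P1 → h ∈ P1 →
      a * x * a⁻¹ = x ^ i * y' ^ l * g → a * y' * a⁻¹ = x ^ k * y' ^ j * h → a * c * a⁻¹ = c ^ i →
      (p : ℤ) ∣ (i * j - l * k - i) ∧ ¬ (p : ℤ) ∣ i := by
    intro y' hy' hy'M a ha i l k j g h hg hh ex ey ec
    obtain ⟨e, he, hxy⟩ := hcy y' hy' hy'M
    have hi : ¬ (p : ℤ) ∣ i := by
      rintro ⟨t, ht⟩
      rw [ht, zpow_mul, zpow_natCast, hcp, one_zpow, mul_inv_eq_one] at ec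
      exact hc1 (mul_left_cancel (ec.trans (mul_one a).symm))
    refine ⟨?_, hi⟩
    have h1 : a * ⁅x, y'⁆ * a⁻¹ = ⁅a * x * a⁻¹, a * y' * a⁻¹⁆ := by simp only [commutatorElement_def]; group
    rw [ex, ey, hbil' y' hy' i l k j g h hg hh, hxy, ← conj_zpow, ec, ← zpow_mul, ← zpow_mul] at h1
    have h2 : c ^ (e * (i * j - l * k - i)) = 1 := by
      rw [show e * (i * j - l * k - i) = e * (i * j - l * k) - i * e by ring, zpow_sub, h1, mul_inv_cancel]
    exact ((Nat.prime_iff_prime_int.mp hp.out).dvd_mul.mp (zpow_p_dvd hc1 hcp h2)).resolve_left he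
  have hpdvdP1 : ∀ v ∈ R, ∀ n : ℤ, (p : ℤ) ∣ n → v ^ n ∈ P1 := by
    rintro v hv n ⟨t, rfl⟩
    exact ⟨v ^ t, zpow_mem hv t, by rw [← zpow_natCast, ← zpow_mul, mul_comm]⟩
  by_cases hcase : ∃ y' ∈ R, y' ∉ M1 ∧ ∃ t : ℤ, y' ^ p ^ m = c ^ t
  · obtain ⟨y0, hy0, hy0M, t, ht⟩ := hcase
    set y' := x ^ (-t) * y0 with hy'def
    have hy' : y' ∈ R := mul_mem (zpow_mem hxR _) hy0
    have hy'M : y' ∉ M1 := fun h => hy0M (by
      have := mul_mem (Subgroup.mem_sup_left (T := P1) (Subgroup.zpow_mem _ (Subgroup.mem_zpowers x) t)) h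
      simpa [hy'def, ← mul_assoc] using this)
    have hy'1 : y' ^ p ^ m = 1 := by
      rw [hy'def, hmul m _ (zpow_mem hxR _) _ hy0, hzmul, hxc, ht, ← zpow_add]; simp
    have hfix : ∀ a ∈ A, a * y' * a⁻¹ * y'⁻¹ ∈ P1 := by
      intro a ha
      obtain ⟨i, l, g, hg, ex⟩ := hgen y' hy' hy'M _ (hact a ha x hxR)
      obtain ⟨k, j, h, hh, ey⟩ := hgen y' hy' hy'M _ (hact a ha y' hy')
      have hpow : ∀ (i l : ℤ) (g : G), g ∈ P1 → (x ^ i * y' ^ l * g) ^ p ^ m = c ^ i * g ^ p ^ m := fun i l g hg => by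
        rw [hmul m _ (mul_mem (zpow_mem hxR i) (zpow_mem hy' l)) _ (hP1R hg), hmul m _ (zpow_mem hxR i) _ (zpow_mem hy' l),
          hzmul, hzmul, hxc, hy'1, one_zpow, mul_one]
      have hac : a * c * a⁻¹ = c ^ i * g ^ p ^ m := by rw [← hpow i l g hg, ← ex, conj_pow, hxc]
      obtain ⟨t', ht'⟩ : ∃ t' : ℤ, g ^ p ^ m = c ^ t' := by
        have hacR : a * c * a⁻¹ ∈ ⁅R, R⁆ :=
          (Subgroup.mem_normalizer_iff.mp ((le_inf hA hA).trans (show
            Subgroup.normalizer (R : Set G) ⊓ Subgroup.normalizer (R : Set G) ≤ Subgroup.normalizer ((⁅R, R⁆ : Subgroup G) : Set G) from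
              fun g hg => by
                rw [Subgroup.mem_normalizer_iff_map_conj_eq]
                change (⁅R, R⁆).map (MulAut.conj g).toMonoidHom = ⁅R, R⁆
                rw [Subgroup.map_commutator]
                exact congrArg₂ (⁅·, ·⁆) (Subgroup.mem_normalizer_iff_map_conj_eq.mp hg.1)
                  (Subgroup.mem_normalizer_iff_map_conj_eq.mp hg.2)) ha) c).mp hc
        obtain ⟨u, v, w, hw, e⟩ : ∃ u v : ℤ, ∃ w : G, w = ⁅x, y'⁆ ∧ a * c * a⁻¹ = w ^ (u - v) := by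
          have hle : ⁅R, R⁆ ≤ Subgroup.zpowers ⁅x, y'⁆ := by
            refine Subgroup.commutator_le.mpr fun u hu v hv => ?_
            obtain ⟨i', l', g', hg', rfl⟩ := hgen y' hy' hy'M u hu
            obtain ⟨k', j', h', hh', rfl⟩ := hgen y' hy' hy'M v hv
            exact ⟨_, (hbil' y' hy' i' l' k' j' g' h' hg' hh').symm⟩
          obtain ⟨n, hn⟩ := hle hacR
          exact ⟨n, 0, _, rfl, by rw [sub_zero]; exact hn.symm⟩
        obtain ⟨e', -, hxy⟩ := hcy y' hy' hy'M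
        refine ⟨-i + e' * (u - v), ?_⟩
        rw [zpow_add, zpow_mul, ← hxy, ← hw, ← e, hac, ← mul_assoc, ← zpow_add, neg_add_cancel, zpow_zero, one_mul]
      have hg1 := hhigh g hg t' ht'
      rw [hg1, mul_one] at hac
      have hk : (p : ℤ) ∣ k := by
        have h0 : c ^ k * h ^ p ^ m = 1 := by rw [← hpow k j h hh, ← ey, conj_pow, hy'1, mul_one, mul_inv_cancel]
        have h2 := hhigh h hh (-k) (by rw [zpow_neg]; exact eq_inv_of_mul_eq_one_right h0)
        rw [h2, mul_one] at h0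
        exact zpow_p_dvd hc1 hcp h0
      obtain ⟨hd, hi⟩ := hdet y' hy' hy'M a ha i l k j g h hg hh ex ey hac
      have hj : (p : ℤ) ∣ j - 1 := by
        have : (p : ℤ) ∣ i * (j - 1) := by
          rw [show i * (j - 1) = (i * j - l * k - i) + l * k by ring]
          exact dvd_add hd (hk.mul_left l)
        exact ((Nat.prime_iff_prime_int.mp hp.out).dvd_mul.mp this).resolve_left hi
      rw [ey, show x ^ k * y' ^ j * h * y'⁻¹ = x ^ k * y' ^ (j - 1) * h by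
        rw [zpow_sub, zpow_one, mul_assoc _ h, (hP1c h hh _ (inv_mem hy')).eq]; group]
      exact mul_mem (mul_mem (hpdvdP1 x hxR k hk) (hpdvdP1 y' hy' (j - 1) hj)) hh
    exact hy'M (Subgroup.mem_sup_right (mem_of_fixed_coset hR hA (hA.trans hNP1) hRP1 hcop hRA hR'P hy' hfix))
  · push Not at hcase
    -- `⟨x⟩ P₁` is invariant and the action on the quotient is trivial
    have hfix : ∀ a ∈ A, a * x * a⁻¹ ∈ M1 ∧ a * y * a⁻¹ * y⁻¹ ∈ M1 := by
      intro a ha
      obtain ⟨i, l, g, hg, ex⟩ := hgen y hyR hyM _ (hact a ha x hxR)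
      obtain ⟨k, j, h, hh, ey⟩ := hgen y hyR hyM _ (hact a ha y hyR)
      have hacR : ∃ t : ℤ, a * c * a⁻¹ = c ^ t := by
        obtain ⟨e, -, hxy⟩ := hcy y hyR hyM
        have hle : ⁅R, R⁆ ≤ Subgroup.zpowers c := by
          refine Subgroup.commutator_le.mpr fun u hu v hv => ?_
          obtain ⟨i', l', g', hg', rfl⟩ := hgen y hyR hyM u hu
          obtain ⟨k', j', h', hh', rfl⟩ := hgen y hyR hyM v hv
          rw [hbil' y hyR i' l' k' j' g' h' hg' hh', hxy]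
          exact Subgroup.zpow_mem _ (Subgroup.zpow_mem _ (Subgroup.mem_zpowers c) e) _
        have hacR : a * c * a⁻¹ ∈ ⁅R, R⁆ := by
          have : MulAut.conj a • ⁅R, R⁆ = ⁅R, R⁆ := by
            change (⁅R, R⁆).map (MulAut.conj a).toMonoidHom = ⁅R, R⁆
            rw [Subgroup.map_commutator]
            exact congrArg₂ (⁅·, ·⁆) (Subgroup.mem_normalizer_iff_map_conj_eq.mp (hA ha))
              (Subgroup.mem_normalizer_iff_map_conj_eq.mp (hA ha))
          rw [← this]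
          exact Basics.conj_mem_conj_smul hc
        obtain ⟨t, ht⟩ := hle hacR
        exact ⟨t, ht.symm⟩
      obtain ⟨t, ht⟩ := hacR
      have hl : (p : ℤ) ∣ l := by
        rcases int_unit (p := p) hp2 (i := l) with hl | ⟨r, s, hrs⟩
        · exact hl
        exfalso
        set y' := y ^ l * g with hy'
        have hy'R : y' ∈ R := mul_mem (zpow_mem hyR l) (hP1R hg)
        have hy'M : y' ∉ M1 := by
          intro hin
          have h1 : y ^ l ∈ M1 := by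
            have := mul_mem hin (inv_mem (Subgroup.mem_sup_right (S := Subgroup.zpowers x) hg))
            rwa [hy', mul_inv_cancel_right] at this
          refine hyM ?_
          have h2 : y ^ (p : ℤ) ∈ M1 := Subgroup.mem_sup_right ⟨y, hyR, (zpow_natCast y p).symm⟩
          rw [← zpow_one y, ← hrs, zpow_add, mul_comm r, mul_comm s, zpow_mul, zpow_mul]
          exact mul_mem (zpow_mem h2 r) (zpow_mem h1 s)
        refine hcase y' hy'R hy'M (t - i) ?_
        have h3 : (x ^ i * y') ^ p ^ m = c ^ t := by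
          rw [hy', ← mul_assoc, ← ex, conj_pow, hxc, ht]
        rw [hmul m _ (zpow_mem hxR i) _ hy'R, hzmul, hxc] at h3
        rw [sub_eq_neg_add, zpow_add, ← h3, ← mul_assoc, ← zpow_add, neg_add_cancel, zpow_zero, one_mul]
      have haxM : a * x * a⁻¹ ∈ M1 := by
        rw [ex]
        exact mul_mem (mul_mem (Subgroup.mem_sup_left ⟨i, rfl⟩) (Subgroup.mem_sup_right (hpdvdP1 y hyR l hl)))
          (Subgroup.mem_sup_right hg)
      refine ⟨haxM, ?_⟩
      -- `a c a⁻¹ = c ^ i`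
      have hlg : ∀ v ∈ P1, ∀ n : ℤ, v ^ p ^ m = c ^ n → v ^ p ^ m = 1 := hhigh
      have hac : a * c * a⁻¹ = c ^ i := by
        obtain ⟨l', rfl⟩ := hl
        have hgl : y ^ ((p : ℤ) * l') * g ∈ P1 := mul_mem (hpdvdP1 y hyR _ ⟨l', rfl⟩) hg
        have h3 : (x ^ i * (y ^ ((p : ℤ) * l') * g)) ^ p ^ m = c ^ t := by rw [← mul_assoc, ← ex, conj_pow, hxc, ht]
        rw [hmul m _ (zpow_mem hxR i) _ (hP1R hgl), hzmul, hxc] at h3
        have h4 := hlg _ hgl (t - i) (by rw [sub_eq_neg_add, zpow_add, ← h3, ← mul_assoc, ← zpow_add, neg_add_cancel, zpow_zero, one_mul])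
        rw [h4, mul_one] at h3
        rw [ht, h3]
      obtain ⟨hd, hi⟩ := hdet y hyR hyM a ha i l k j g h hg hh ex ey hac
      have hj : (p : ℤ) ∣ j - 1 := by
        have : (p : ℤ) ∣ i * (j - 1) := by
          rw [show i * (j - 1) = (i * j - l * k - i) + l * k by ring]
          exact dvd_add hd (hl.mul_right k)
        exact ((Nat.prime_iff_prime_int.mp hp.out).dvd_mul.mp this).resolve_left hi
      rw [ey, show x ^ k * y ^ j * h * y⁻¹ = x ^ k * y ^ (j - 1) * h by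
        rw [zpow_sub, zpow_one, mul_assoc _ h, (hP1c h hh _ (inv_mem hyR)).eq]; group]
      exact mul_mem (mul_mem (Subgroup.mem_sup_left ⟨k, rfl⟩) (Subgroup.mem_sup_right (hpdvdP1 y hyR (j - 1) hj)))
        (Subgroup.mem_sup_right hh)
    have hRM1 : R ≤ Subgroup.normalizer (M1 : Set G) := fun r hr => by
      rw [Subgroup.mem_normalizer_iff_map_conj_eq]
      refine Subgroup.eq_of_le_of_card_ge ?_ (Subgroup.card_map_of_injective (MulEquiv.injective _)).ge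
      rintro _ ⟨v, hv, rfl⟩
      change r * v * r⁻¹ ∈ M1
      rw [show r * v * r⁻¹ = ⁅r, v⁆ * v by rw [commutatorElement_def]; group]
      exact mul_mem (Subgroup.mem_sup_right (hR'P (Subgroup.commutator_mem_commutator hr (hM1R hv)))) hv
    have hAM1 : A ≤ Subgroup.normalizer (M1 : Set G) := fun a ha => by
      rw [Subgroup.mem_normalizer_iff_map_conj_eq]
      refine Subgroup.eq_of_le_of_card_ge ?_ (Subgroup.card_map_of_injective (MulEquiv.injective _)).ge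
      rintro _ ⟨v, hv, rfl⟩
      obtain ⟨i, g, hg, rfl⟩ := (mem_zpowers_sup_iff (hRP1 hxR)).mp hv
      change a * (x ^ i * g) * a⁻¹ ∈ M1
      rw [show a * (x ^ i * g) * a⁻¹ = (a * x ^ i * a⁻¹) * (a * g * a⁻¹) by group, ← conj_zpow]
      exact mul_mem (zpow_mem (hfix a ha).1 i)
        (Subgroup.mem_sup_right ((Subgroup.mem_normalizer_iff.mp (hNP1 (hA ha)) g).mp hg))
    exact hyM (mem_of_fixed_coset hR hA hAM1 hRM1 hcop hRA (hR'P.trans le_sup_right) hyR fun a ha => (hfix a ha).2)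

end Cfsg.Agent.OddLocal
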