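import Cfsg.Agent.Lib.OddLocal.FitFacts
import Cfsg.Agent.Lib.Basics.Schmidt
import Cfsg.Agent.Lib.Basics.CoprimeAction
import Cfsg.Prelude.Def_LieExceptional

/-! Maximal nilpotent subgroups of groups with nilpotent centralizers. -/

set_option autoImplicit false
set_option maxHeartbeats 800000

namespace Cfsg.Agent.OddLocal

open scoped commutatorElement

/-- A nilpotent subgroup contained in no larger one. -/
def IsMaxNilpotent {G : Type*} [Group G] (H : Subgroup G) : Prop :=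
  Group.IsNilpotent H ∧ ∀ L : Subgroup G, Group.IsNilpotent L → H ≤ L → L = H

variable {G : Type*} [Group G] [Finite G]

theorem exists_maxNilpotent_ge {U : Subgroup G} (hU : Group.IsNilpotent U) :
    ∃ H : Subgroup G, IsMaxNilpotent H ∧ U ≤ H := by
  obtain ⟨H, hle, hH, hmax⟩ := Finite.exists_le_maximal (p := fun L : Subgroup G => Group.IsNilpotent L) hU
  exact ⟨H, ⟨hH, fun L hL hHL => le_antisymm (hmax hL hHL) hHL⟩, hle⟩

theorem IsMaxNilpotent.map_conj {H : Subgroup G} (h : IsMaxNilpotent H) (g : G) :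
    IsMaxNilpotent (H.map (MulAut.conj g).toMonoidHom) := by
  have := h.1
  refine ⟨Group.nilpotent_of_mulEquiv (Subgroup.equivMapOfInjective H (MulAut.conj g).toMonoidHom (MulAut.conj g).injective),
    fun L hL hle => ?_⟩
  have hL' : Group.IsNilpotent (L.map (MulAut.conj g⁻¹).toMonoidHom) := by
    have := hL
    exact Group.nilpotent_of_mulEquiv (Subgroup.equivMapOfInjective L (MulAut.conj g⁻¹).toMonoidHom (MulAut.conj g⁻¹).injective)
  have e := h.2 _ hL' (fun x hx => ⟨g * x * g⁻¹, hle ⟨x, hx, rfl⟩, by simp [mul_assoc]⟩)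
  refine le_antisymm (fun x hx => ⟨g⁻¹ * x * g, e ▸ ⟨x, hx, by simp⟩, by simp [mul_assoc]⟩) hle

theorem IsMaxNilpotent.ne_bot [Nontrivial G] {H : Subgroup G} (h : IsMaxNilpotent H) : H ≠ ⊥ := by
  rintro rfl
  obtain ⟨x, hx⟩ := exists_ne (1 : G)
  have hn : Group.IsNilpotent (Subgroup.zpowers x) := by
    letI : CommGroup (Subgroup.zpowers x) := IsCyclic.commGroup
    infer_instance
  have := h.2 (Subgroup.zpowers x) hn bot_le
  rw [Subgroup.zpowers_eq_bot] at this
  exact hx this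

/-- A power of prime order. -/
theorem exists_pow_prime_order {x : G} (hx : x ≠ 1) :
    ∃ (p : ℕ) (k : ℕ), p.Prime ∧ p ∣ orderOf x ∧ orderOf (x ^ k) = p := by
  obtain ⟨p, hp, hd⟩ := Nat.exists_prime_and_dvd (mt orderOf_eq_one_iff.mp hx)
  exact ⟨p, orderOf x / p, hp, hd, orderOf_pow_orderOf_div (orderOf_pos x).ne' hd⟩

theorem isPGroup_zpowers_of_orderOf {p n : ℕ} {x : G} (h : orderOf x = p ^ n) : IsPGroup p (Subgroup.zpowers x) :=
  IsPGroup.of_card (n := n) (by rw [Nat.card_zpowers, h])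

section

variable {p : ℕ} [hp : Fact p.Prime]

theorem pGroup_le_sylow_of_nilpotent {L : Subgroup G} (hL : Group.IsNilpotent L) (T : Sylow p G)
    (hT : (T : Subgroup G) ≤ L) {Q : Subgroup G} (hQL : Q ≤ L) (hQ : IsPGroup p Q) : Q ≤ (T : Subgroup G) := by
  have := hL
  have hn : ((T.subtype hT : Sylow p L) : Subgroup L).Normal :=
    Sylow.normal_of_normalizerCondition Group.normalizerCondition_of_isNilpotent _
  have h1 : IsPGroup p (((T.subtype hT : Sylow p L) : Subgroup L) ⊔ Q.subgroupOf L : Subgroup L) :=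
    IsPGroup.to_sup_of_normal_left (T.subtype hT).2 hQ.comap_subtype
  have h2 := (T.subtype hT).3 h1 le_sup_left
  intro x hx
  have : (⟨x, hQL hx⟩ : L) ∈ ((T.subtype hT : Sylow p L) : Subgroup L) :=
    h2 ▸ Subgroup.mem_sup_right (show (⟨x, hQL hx⟩ : L) ∈ Q.subgroupOf L from hx)
  exact this

theorem commute_of_orderOf {L : Subgroup G} (hL : Group.IsNilpotent L) {x y : G} {q a b : ℕ} [hq : Fact q.Prime]
    (hne : p ≠ q) (hx : x ∈ L) (hy : y ∈ L) (hxp : x ^ p ^ a = 1) (hyq : y ^ q ^ b = 1) : Commute x y :=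
  Basics.commute_of_coprime_le hL hx hy
    (((((Nat.coprime_primes hp.out hq.out).mpr hne).pow a b).coprime_dvd_left (orderOf_dvd_of_pow_eq_one hxp)).coprime_dvd_right
      (orderOf_dvd_of_pow_eq_one hyq))

/-- A `p`-element central among the `p`-elements of a nilpotent group is central. -/
theorem le_centralizer_of_central {H : Subgroup G} (hH : Group.IsNilpotent H) {x : G} (hx : x ∈ H)
    (hxp : ∃ k, x ^ p ^ k = 1) (hc : ∀ y ∈ H, (∃ k, y ^ p ^ k = 1) → y * x = x * y) :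
    H ≤ Subgroup.centralizer ({x} : Set G) := by
  obtain ⟨a, ha⟩ := hxp
  have h : (H ⊓ Subgroup.centralizer ({x} : Set G)).subgroupOf H = ⊤ := by
    refine Basics.eq_top_of_sylow_le _ fun q hq _ => ?_
    obtain ⟨Q⟩ : Nonempty (Sylow q H) := inferInstance
    refine ⟨Q, fun y hy => ⟨y.2, Subgroup.mem_centralizer_singleton_iff.mpr ?_⟩⟩
    obtain ⟨b, hb⟩ := Q.2 ⟨y, hy⟩
    have hb' : (y : G) ^ q ^ b = 1 := by simpa using congrArg (fun z : (Q : Subgroup H) => ((z : H) : G)) hb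
    rcases eq_or_ne p q with rfl | hne
    · exact hc y y.2 ⟨b, hb'⟩
    · exact (commute_of_orderOf hH hne hx y.2 ha hb').eq.symm
  intro y hy
  have : (⟨y, hy⟩ : H) ∈ (H ⊓ Subgroup.centralizer ({x} : Set G)).subgroupOf H := h ▸ Subgroup.mem_top _
  exact this.2

theorem IsMaxNilpotent.centralizer_eq (hCN : Cfsg.IsCNGroup G) {H : Subgroup G} (h : IsMaxNilpotent H) {x : G}
    (hx1 : x ≠ 1) (hle : H ≤ Subgroup.centralizer ({x} : Set G)) : Subgroup.centralizer ({x} : Set G) = H :=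
  h.2 _ (hCN x hx1) hle

theorem exists_center_element (S : Sylow p G) (hpG : p ∣ Nat.card G) :
    ∃ z ∈ (S : Subgroup G), z ≠ 1 ∧ ∀ s ∈ (S : Subgroup G), s * z = z * s := by
  have : Nontrivial (S : Subgroup G) := (Subgroup.nontrivial_iff_ne_bot _).mpr (S.ne_bot_of_dvd_card hpG)
  have hn : Nontrivial (Subgroup.center ↥(S : Subgroup G)) := S.2.center_nontrivial
  obtain ⟨z, hz⟩ := exists_ne (1 : Subgroup.center ↥(S : Subgroup G))
  exact ⟨_, z.1.2, fun e => hz (Subtype.ext (Subtype.ext e)),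
    fun s hs => congrArg Subtype.val (Subgroup.mem_center_iff.mp z.2 ⟨s, hs⟩)⟩

theorem IsMaxNilpotent.sylow_central (hCN : Cfsg.IsCNGroup G) {H : Subgroup G} (h : IsMaxNilpotent H)
    (S : Sylow p G) (hS : (S : Subgroup G) ≤ H) {z : G} (hz : z ∈ (S : Subgroup G)) (hz1 : z ≠ 1)
    (hc : ∀ s ∈ (S : Subgroup G), s * z = z * s) : Subgroup.centralizer ({z} : Set G) = H := by
  refine h.centralizer_eq hCN hz1 (le_centralizer_of_central (p := p) h.1 (hS hz) ?_ fun y hy hyp => hc y ?_)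
  · obtain ⟨k, hk⟩ := S.2 ⟨z, hz⟩
    exact ⟨k, congrArg Subtype.val hk⟩
  · obtain ⟨k, hk⟩ := hyp
    obtain ⟨j, -, hj⟩ := (Nat.dvd_prime_pow hp.out).mp (orderOf_dvd_of_pow_eq_one hk)
    exact pGroup_le_sylow_of_nilpotent h.1 S hS (Subgroup.zpowers_le.mpr hy) (isPGroup_zpowers_of_orderOf hj)
      (Subgroup.mem_zpowers y)

/-- A maximal nilpotent subgroup contains a Sylow subgroup for each prime divisor of its order. -/
theorem IsMaxNilpotent.exists_sylow (hCN : Cfsg.IsCNGroup G) {H : Subgroup G} (h : IsMaxNilpotent H)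
    (hpH : p ∣ Nat.card H) : ∃ S : Sylow p G, (S : Subgroup G) ≤ H := by
  obtain ⟨P⟩ : Nonempty (Sylow p H) := inferInstance
  have : Nontrivial (P : Subgroup H) := (Subgroup.nontrivial_iff_ne_bot _).mpr (P.ne_bot_of_dvd_card hpH)
  have hn : Nontrivial (Subgroup.center ↥(P : Subgroup H)) := P.2.center_nontrivial
  obtain ⟨x, hx⟩ := exists_ne (1 : Subgroup.center ↥(P : Subgroup H))
  have := h.1
  have hPn : (P : Subgroup H).Normal :=
    Sylow.normal_of_normalizerCondition Group.normalizerCondition_of_isNilpotent _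
  set x' : G := (((x : ↥(P : Subgroup H)) : H) : G) with hx'
  have hx1 : x' ≠ 1 := fun e => hx (Subtype.ext (Subtype.ext (Subtype.ext e)))
  have hxH : H ≤ Subgroup.centralizer ({x'} : Set G) := by
    refine le_centralizer_of_central (p := p) h.1 (SetLike.coe_mem _) ?_ fun y hy hyp => ?_
    · obtain ⟨k, hk⟩ := P.2 x.1
      exact ⟨k, by simpa [hx'] using congrArg (fun z : (P : Subgroup H) => ((z : H) : G)) hk⟩
    · obtain ⟨k, hk⟩ := hyp
      have hyP : (⟨y, hy⟩ : H) ∈ (P : Subgroup H) := by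
        have h1 : IsPGroup p ((P : Subgroup H) ⊔ Subgroup.zpowers (⟨y, hy⟩ : H) : Subgroup H) := by
          refine IsPGroup.to_sup_of_normal_left P.2 ?_
          obtain ⟨j, -, hj⟩ := (Nat.dvd_prime_pow hp.out).mp (orderOf_dvd_of_pow_eq_one hk)
          exact IsPGroup.of_card (n := j) (by rw [Nat.card_zpowers, Subgroup.orderOf_mk, hj])
        exact (P.3 h1 le_sup_left) ▸ Subgroup.mem_sup_right (Subgroup.mem_zpowers _)
      exact congrArg (fun z : (P : Subgroup H) => ((z : H) : G)) (Subgroup.mem_center_iff.mp x.2 ⟨_, hyP⟩)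
  have hCx := h.centralizer_eq hCN hx1 hxH
  obtain ⟨S, hS⟩ := (P.2.map H.subtype).exists_le_sylow
  obtain ⟨z, hzS, hz1, hzc⟩ := exists_center_element S (hpH.trans (Subgroup.card_subgroup_dvd_card H))
  have hzH : z ∈ H := by
    rw [← hCx, Subgroup.mem_centralizer_singleton_iff]
    exact (hzc x' (hS ⟨_, x.1.2, rfl⟩)).symm
  have hzC : H ≤ Subgroup.centralizer ({z} : Set G) := by
    refine le_centralizer_of_central (p := p) h.1 hzH ?_ fun y hy hyp => ?_
    · obtain ⟨k, hk⟩ := S.2 ⟨z, hzS⟩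
      exact ⟨k, congrArg Subtype.val hk⟩
    · obtain ⟨k, hk⟩ := hyp
      refine hzc y (hS ⟨⟨y, hy⟩, ?_, rfl⟩)
      have h1 : IsPGroup p ((P : Subgroup H) ⊔ Subgroup.zpowers (⟨y, hy⟩ : H) : Subgroup H) := by
        refine IsPGroup.to_sup_of_normal_left P.2 ?_
        obtain ⟨j, -, hj⟩ := (Nat.dvd_prime_pow hp.out).mp (orderOf_dvd_of_pow_eq_one hk)
        exact IsPGroup.of_card (n := j) (by rw [Nat.card_zpowers, Subgroup.orderOf_mk, hj])
      exact (P.3 h1 le_sup_left) ▸ Subgroup.mem_sup_right (Subgroup.mem_zpowers _)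
  refine ⟨S, fun s hs => ?_⟩
  rw [← h.centralizer_eq hCN hz1 hzC, Subgroup.mem_centralizer_singleton_iff]
  exact hzc s hs

end

theorem IsMaxNilpotent.hall (hCN : Cfsg.IsCNGroup G) {H : Subgroup G} (h : IsMaxNilpotent H) :
    (Nat.card H).Coprime H.index := by
  refine Nat.coprime_of_dvd fun q hq h1 h2 => ?_
  have : Fact q.Prime := ⟨hq⟩
  obtain ⟨S, hS⟩ := h.exists_sylow hCN h1
  exact S.not_dvd_index (h2.trans (Subgroup.index_dvd_of_le hS))

/-- Two maximal nilpotent subgroups with a common prime divisor are conjugate. -/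
theorem IsMaxNilpotent.conj_of_common (hCN : Cfsg.IsCNGroup G) {H₁ H₂ : Subgroup G} (h₁ : IsMaxNilpotent H₁)
    (h₂ : IsMaxNilpotent H₂) {p : ℕ} [hp : Fact p.Prime] (hp1 : p ∣ Nat.card H₁) (hp2 : p ∣ Nat.card H₂) :
    ∃ g : G, H₂ = H₁.map (MulAut.conj g).toMonoidHom := by
  obtain ⟨S₁, hS₁⟩ := h₁.exists_sylow hCN hp1
  obtain ⟨S₂, hS₂⟩ := h₂.exists_sylow hCN hp2
  obtain ⟨g, hg⟩ := MulAction.exists_smul_eq G S₁ S₂
  obtain ⟨z, hz, hz1, hzc⟩ := exists_center_element S₂ (hp2.trans (Subgroup.card_subgroup_dvd_card _))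
  refine ⟨g, ?_⟩
  have hle : (S₂ : Subgroup G) ≤ H₁.map (MulAut.conj g).toMonoidHom := by
    rw [← hg, Sylow.coe_subgroup_smul]
    exact Subgroup.map_mono hS₁
  rw [← h₂.sylow_central hCN S₂ hS₂ hz hz1 hzc, ← (h₁.map_conj g).sylow_central hCN S₂ hle hz hz1 hzc]

/-- A non-primary maximal nilpotent subgroup is a TI subgroup. -/
theorem IsMaxNilpotent.ti_of_two_primes (hCN : Cfsg.IsCNGroup G) {H : Subgroup G} (h : IsMaxNilpotent H)
    {q₁ q₂ : ℕ} (hq₁ : q₁.Prime) (hq₂ : q₂.Prime) (hne : q₁ ≠ q₂) (hd₁ : q₁ ∣ Nat.card H) (hd₂ : q₂ ∣ Nat.card H)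
    (g : G) (hg : H.map (MulAut.conj g).toMonoidHom ≠ H) : H ⊓ H.map (MulAut.conj g).toMonoidHom = ⊥ := by
  by_contra hbot
  obtain ⟨x, hx, hx1⟩ := (Subgroup.bot_or_exists_ne_one _).resolve_left hbot
  obtain ⟨p, k, hp, -, hk⟩ := exists_pow_prime_order hx1
  set y := x ^ k with hy
  have hyH : y ∈ H ⊓ H.map (MulAut.conj g).toMonoidHom := pow_mem hx k
  have hy1 : y ≠ 1 := fun e => hp.ne_one (by rw [← hk, e, orderOf_one])
  have : Fact p.Prime := ⟨hp⟩
  obtain ⟨q, hq, hqp, hqd⟩ : ∃ q : ℕ, q.Prime ∧ p ≠ q ∧ q ∣ Nat.card H := by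
    by_cases e : p = q₁
    · exact ⟨q₂, hq₂, e ▸ hne, hd₂⟩
    · exact ⟨q₁, hq₁, e, hd₁⟩
  have : Fact q.Prime := ⟨hq⟩
  obtain ⟨S, hS⟩ := h.exists_sylow hCN hqd
  have hCy := hCN y hy1
  have hin : ∀ {L : Subgroup G}, Group.IsNilpotent L → y ∈ L → ∀ T : Sylow q G, (T : Subgroup G) ≤ L →
      (T : Subgroup G) ≤ Subgroup.centralizer ({y} : Set G) := fun hL hyL T hT s hs => by
    obtain ⟨b, hb⟩ := T.2 ⟨s, hs⟩
    exact Subgroup.mem_centralizer_singleton_iff.mpr
      (commute_of_orderOf (p := p) (a := 1) hL hqp hyL (hT hs) (by rw [pow_one, ← hk]; exact pow_orderOf_eq_one y)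
        (congrArg Subtype.val hb)).eq.symm
  have h1 : (S : Subgroup G) ≤ Subgroup.centralizer ({y} : Set G) := hin h.1 hyH.1 S hS
  have hSg : ((g • S : Sylow q G) : Subgroup G) ≤ H.map (MulAut.conj g).toMonoidHom := by
    rw [Sylow.coe_subgroup_smul]
    exact Subgroup.map_mono hS
  have h2 : ((g • S : Sylow q G) : Subgroup G) ≤ Subgroup.centralizer ({y} : Set G) :=
    hin (h.map_conj g).1 hyH.2 _ hSg
  have heq : ((g • S : Sylow q G) : Subgroup G) = S :=
    le_antisymm (pGroup_le_sylow_of_nilpotent hCy S h1 h2 (g • S).2) (pGroup_le_sylow_of_nilpotent hCy _ h2 h1 S.2)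
  obtain ⟨z, hz, hz1, hzc⟩ := exists_center_element S (hqd.trans (Subgroup.card_subgroup_dvd_card _))
  exact hg (((h.map_conj g).sylow_central hCN S (heq ▸ hSg) hz hz1 hzc).symm.trans (h.sylow_central hCN S hS hz hz1 hzc))

/-- A TI maximal nilpotent subgroup contains the centralizers of its elements. -/
theorem IsMaxNilpotent.centralizer_le_of_ti (hCN : Cfsg.IsCNGroup G) {H : Subgroup G} (h : IsMaxNilpotent H)
    (hti : ∀ g : G, H.map (MulAut.conj g).toMonoidHom ≠ H → H ⊓ H.map (MulAut.conj g).toMonoidHom = ⊥) {x : G}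
    (hx : x ∈ H) (hx1 : x ≠ 1) : Subgroup.centralizer ({x} : Set G) ≤ H := by
  obtain ⟨p, k, hp, -, hk⟩ := exists_pow_prime_order hx1
  have : Fact p.Prime := ⟨hp⟩
  set y := x ^ k
  have hy1 : y ≠ 1 := fun e => hp.ne_one (by rw [← hk, e, orderOf_one])
  have hxy : Subgroup.centralizer ({x} : Set G) ≤ Subgroup.centralizer ({y} : Set G) := fun c hc => by
    rw [Subgroup.mem_centralizer_singleton_iff] at hc ⊢
    exact ((show Commute c x from hc).pow_right k).eq
  refine hxy.trans ?_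
  obtain ⟨L, hL, hle⟩ := exists_maxNilpotent_ge (hCN y hy1)
  have hyH : y ∈ H := pow_mem hx k
  have hyL : y ∈ L := hle (Subgroup.mem_centralizer_singleton_iff.mpr rfl)
  have hpL : p ∣ Nat.card L := hk ▸ Subgroup.orderOf_dvd_natCard L hyL
  have hpH : p ∣ Nat.card H := hk ▸ Subgroup.orderOf_dvd_natCard H hyH
  obtain ⟨g, hg⟩ := h.conj_of_common hCN hL hpH hpL
  suffices e : L = H from e ▸ hle
  by_contra hne
  have hmem : y ∈ H ⊓ H.map (MulAut.conj g).toMonoidHom := ⟨hyH, hg ▸ hyL⟩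
  rw [hti g (fun e => hne (hg.trans e)), Subgroup.mem_bot] at hmem
  exact hy1 hmem

end Cfsg.Agent.OddLocal
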