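import Cfsg.Agent.Lib.OddLocal.CN
import Cfsg.Agent.Lib.OddLocal.FixPointB
import Cfsg.Agent.Lib.Basics.FpfAbelian

/-! Fixed-point-free subgroups of groups with nilpotent centralizers. -/

set_option autoImplicit false

namespace Cfsg.Agent.OddLocal

variable {G : Type*} [Group G] [Finite G]

/-- An involution without fixed points on a normal subgroup inverts it. -/
theorem fpf_involution_inverts {K : Subgroup G} [hKn : K.Normal] {i : G} (hi : i * i = 1)
    (hfix : K ⊓ Subgroup.centralizer ({i} : Set G) = ⊥) {y : G} (hy : y ∈ K) : i * y * i = y⁻¹ := by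
  have hinv : i⁻¹ = i := inv_eq_of_mul_eq_one_right hi
  have hmem : ∀ f : K, (f : G)⁻¹ * (i * f * i) ∈ K := fun f =>
    mul_mem (inv_mem f.2) (by simpa [hinv] using hKn.conj_mem f f.2 i)
  have hinj : Function.Injective (fun f : K => (⟨(f : G)⁻¹ * (i * f * i), hmem f⟩ : K)) := by
    intro a b e
    have e' : (a : G)⁻¹ * (i * a * i) = (b : G)⁻¹ * (i * b * i) := congrArg Subtype.val e
    have h1 : ((b : G) * (a : G)⁻¹) ∈ K ⊓ Subgroup.centralizer ({i} : Set G) := by
      refine Subgroup.mem_inf.mpr ⟨mul_mem b.2 (inv_mem a.2), Subgroup.mem_centralizer_singleton_iff.mpr ?_⟩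
      calc (b : G) * (a : G)⁻¹ * i
          = (b : G) * ((a : G)⁻¹ * (i * a * i)) * i⁻¹ * (a : G)⁻¹ * i⁻¹ * i := by group
        _ = (b : G) * ((b : G)⁻¹ * (i * b * i)) * i⁻¹ * (a : G)⁻¹ * i⁻¹ * i := by rw [e']
        _ = i * ((b : G) * (a : G)⁻¹) := by group
    rw [hfix, Subgroup.mem_bot, mul_inv_eq_one] at h1
    exact Subtype.ext h1.symm
  obtain ⟨f, hf⟩ := (Finite.injective_iff_surjective.mp hinj) ⟨y, hy⟩
  have hf' : y = (f : G)⁻¹ * (i * f * i) := (congrArg Subtype.val hf).symm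
  rw [hf']
  calc i * ((f : G)⁻¹ * (i * f * i)) * i = i * (f : G)⁻¹ * i * f * (i * i) := by group
    _ = i⁻¹ * (f : G)⁻¹ * i⁻¹ * f := by rw [hi, mul_one, hinv]
    _ = ((f : G)⁻¹ * (i * f * i))⁻¹ := by group

theorem eq_of_fpf_involutions {K : Subgroup G} [K.Normal] (hK : K ≠ ⊥) {E : Subgroup G}
    (hfpf : ∀ e ∈ E, e ≠ 1 → K ⊓ Subgroup.centralizer ({e} : Set G) = ⊥) {i j : G} (hiE : i ∈ E) (hjE : j ∈ E)
    (hi : i * i = 1) (hj : j * j = 1) (hi1 : i ≠ 1) (hj1 : j ≠ 1) : i = j := by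
  by_contra hne
  have hij : i * j ≠ 1 := fun h => hne ((eq_inv_of_mul_eq_one_left h).trans (inv_eq_of_mul_eq_one_right hj))
  obtain ⟨y, hy, hy1⟩ := (Subgroup.bot_or_exists_ne_one K).resolve_left hK
  have h1 : i * j * y * (j * i) = y := by
    calc i * j * y * (j * i) = i * (j * y * j) * i := by group
      _ = i * y⁻¹ * i := by rw [fpf_involution_inverts hj (hfpf j hjE hj1) hy]
      _ = y⁻¹⁻¹ := fpf_involution_inverts hi (hfpf i hiE hi1) (inv_mem hy)
      _ = y := inv_inv y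
  have h2 : y ∈ K ⊓ Subgroup.centralizer ({i * j} : Set G) :=
    Subgroup.mem_inf.mpr ⟨hy, Subgroup.mem_centralizer_singleton_iff.mpr (by
      calc y * (i * j) = i * j * y * (j * i) * (i * j) := by rw [h1]
        _ = i * j * y * (j * (i * i) * j) := by group
        _ = i * j * y := by rw [hi, mul_one, hj, mul_one])⟩
  rw [hfpf _ (mul_mem hiE hjE) hij, Subgroup.mem_bot] at h2
  exact hy1 h2

/-- A fixed-point-free group of odd order has cyclic `q`-subgroups. -/
theorem isCyclic_of_fpf_odd {K E Q : Subgroup G} [K.Normal] (hK : K ≠ ⊥)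
    (hfpf : ∀ e ∈ E, e ≠ 1 → K ⊓ Subgroup.centralizer ({e} : Set G) = ⊥) (hodd : Odd (Nat.card E))
    {q : ℕ} [hq : Fact q.Prime] (hQE : Q ≤ E) (hQ : IsPGroup q Q) : IsCyclic Q := by
  obtain ⟨S, hS⟩ := (hQ.comap_subtype (K := E)).exists_le_sylow
  have hcyc : IsCyclic S := by
    rcases Basics.fpf_sylow_cyclic_or_quaternion K E hK hfpf q S with h | ⟨rfl, n, ⟨e⟩⟩
    · exact h
    · exfalso
      have h1 : Nat.card (QuaternionGroup (2 ^ n)) ∣ Nat.card E :=
        (Nat.card_congr e.toEquiv) ▸ Subgroup.card_subgroup_dvd_card (S : Subgroup E)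
      rw [Nat.card_eq_fintype_card, QuaternionGroup.card] at h1
      exact (Nat.not_even_iff_odd.mpr hodd) (even_iff_two_dvd.mpr ((dvd_trans ⟨2, rfl⟩ (dvd_mul_right 4 (2 ^ n))).trans h1))
  haveI : IsCyclic (S : Subgroup E) := hcyc
  have h3 : IsCyclic (Q.subgroupOf E) :=
    isCyclic_of_injective (Subgroup.inclusion hS) (Subgroup.inclusion_injective hS)
  exact isCyclic_of_injective (Subgroup.subgroupOfEquivOfLe hQE).symm.toMonoidHom
    (Subgroup.subgroupOfEquivOfLe hQE).symm.injective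

theorem isSolvable_of_fpf_odd {K E : Subgroup G} [K.Normal] (hK : K ≠ ⊥)
    (hfpf : ∀ e ∈ E, e ≠ 1 → K ⊓ Subgroup.centralizer ({e} : Set G) = ⊥) (hodd : Odd (Nat.card E)) :
    Group.IsSolvable E := by
  haveI : IsZGroup E := ⟨fun q hq S => by
    haveI := Fact.mk hq
    rcases Basics.fpf_sylow_cyclic_or_quaternion K E hK hfpf q S with h | ⟨rfl, n, ⟨e⟩⟩
    · exact h
    · exfalso
      have h1 : Nat.card (QuaternionGroup (2 ^ n)) ∣ Nat.card E :=
        (Nat.card_congr e.toEquiv) ▸ Subgroup.card_subgroup_dvd_card (S : Subgroup E)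
      rw [Nat.card_eq_fintype_card, QuaternionGroup.card] at h1
      exact (Nat.not_even_iff_odd.mpr hodd) (even_iff_two_dvd.mpr ((dvd_trans ⟨2, rfl⟩ (dvd_mul_right 4 (2 ^ n))).trans h1))⟩
  infer_instance

/-- A fixed-point-free group with nilpotent centralizers is nilpotent. -/
theorem isNilpotent_of_fpf (hCN : Cfsg.IsCNGroup G) {K E : Subgroup G} [K.Normal] (hK : K ≠ ⊥)
    (hfpf : ∀ e ∈ E, e ≠ 1 → K ⊓ Subgroup.centralizer ({e} : Set G) = ⊥) : Group.IsNilpotent E := by
  by_cases hE : E = ⊥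
  · subst hE; infer_instance
  suffices h : ∃ z ∈ E, z ≠ 1 ∧ E ≤ Subgroup.centralizer ({z} : Set G) by
    obtain ⟨z, -, hz1, hle⟩ := h
    exact Basics.isNilpotent_of_le' hle (hCN z hz1)
  rcases Nat.even_or_odd (Nat.card E) with heven | hodd
  · haveI : Fact (Nat.Prime 2) := ⟨Nat.prime_two⟩
    obtain ⟨i, hi⟩ := exists_prime_orderOf_dvd_card' (G := E) 2 (even_iff_two_dvd.mp heven)
    have hio : orderOf (i : G) = 2 := by rw [Subgroup.orderOf_coe]; exact hi
    have hi1 : (i : G) ≠ 1 := fun h => by rw [h, orderOf_one] at hio; omega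
    have hii : (i : G) * i = 1 := by rw [← pow_two, ← hio]; exact pow_orderOf_eq_one _
    refine ⟨i, i.2, hi1, fun e he => Subgroup.mem_centralizer_singleton_iff.mpr ?_⟩
    have h := eq_of_fpf_involutions hK hfpf (mul_mem (mul_mem he i.2) (inv_mem he)) i.2
      (by rw [show e * (i : G) * e⁻¹ * (e * i * e⁻¹) = e * (i * i) * e⁻¹ by group, hii]; group) hii
      (fun h => hi1 (by rw [show (i : G) = e⁻¹ * (e * i * e⁻¹) * e by group, h]; group)) hi1
    calc e * (i : G) = e * i * e⁻¹ * e := by group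
      _ = i * e := by rw [h]
  haveI := isSolvable_of_fpf_odd hK hfpf hodd
  haveI := E.nontrivial_iff_ne_bot.mpr hE
  obtain ⟨q, M, hq, hMn, -, hMne, hMab, hMexp⟩ :=
    Basics.exists_elementary_normal (N := (⊤ : Subgroup E)) top_ne_bot inferInstance
  haveI := Fact.mk hq
  have hMp : IsPGroup q (M.map E.subtype) := (Basics.isPGroup_of_pow_eq_one hMexp).map _
  have hMcyc : IsCyclic (M.map E.subtype : Subgroup G) :=
    isCyclic_of_fpf_odd hK hfpf hodd (Subgroup.map_subtype_le _) hMp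
  obtain ⟨⟨a, ha⟩, hgen⟩ := hMcyc.exists_generator
  have hMz : M.map E.subtype = Subgroup.zpowers a := by
    refine le_antisymm (fun x hx => ?_) (Subgroup.zpowers_le.mpr ha)
    obtain ⟨i, hi⟩ := hgen ⟨x, hx⟩
    exact ⟨i, by simpa using congrArg Subtype.val hi⟩
  have ha1 : a ≠ 1 := by
    rintro rfl
    rw [Subgroup.zpowers_one_eq_bot, Subgroup.map_eq_bot_iff_of_injective _ E.subtype_injective] at hMz
    exact hMne hMz
  have haE : a ∈ E := Subgroup.map_subtype_le _ ha
  have hao : orderOf a = q := by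
    obtain ⟨y, hy, rfl⟩ := ha
    exact orderOf_eq_prime (congrArg Subtype.val (hMexp y hy)) ha1
  refine ⟨a, haE, ha1, ?_⟩
  have hconj : ∀ b ∈ E, b ∈ Subgroup.normalizer (Subgroup.zpowers a : Set G) := by
    intro b hb
    rw [← hMz]
    refine mem_normalizer_of_conj_mem ?_
    rintro _ ⟨y, hy, rfl⟩
    exact ⟨⟨b, hb⟩ * y * ⟨b, hb⟩⁻¹, hMn.conj_mem y hy ⟨b, hb⟩, by simp⟩
  have key : (Subgroup.centralizer ({a} : Set G)).subgroupOf E = ⊤ := by
    refine Basics.eq_top_of_sylow_le _ fun r hr hrd => ?_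
    obtain ⟨R⟩ : Nonempty (Sylow r E) := inferInstance
    refine ⟨R, fun x hx => Subgroup.mem_subgroupOf.mpr (Subgroup.mem_centralizer_singleton_iff.mpr ?_)⟩
    obtain ⟨k, hk⟩ := R.2 ⟨x, hx⟩
    have hxk : (x : G) ^ r ^ k = 1 := congrArg (fun t : (R : Subgroup E) => ((t : E) : G)) hk
    rcases eq_or_ne r q with rfl | hne
    · have hY : IsPGroup r (Subgroup.zpowers a ⊔ Subgroup.zpowers (x : G) : Subgroup G) := by
        obtain ⟨n, -, hn⟩ := (Nat.dvd_prime_pow hq).mp (orderOf_dvd_of_pow_eq_one hxk)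
        exact IsPGroup.to_sup_of_normal_left' (hMz ▸ hMp) (isPGroup_zpowers_of_orderOf hn)
          (Subgroup.zpowers_le.mpr (hconj x x.2))
      have hcyc := isCyclic_of_fpf_odd hK hfpf hodd
        (sup_le (Subgroup.zpowers_le.mpr haE) (Subgroup.zpowers_le.mpr x.2)) hY
      letI := IsCyclic.commGroup (α := (Subgroup.zpowers a ⊔ Subgroup.zpowers (x : G) : Subgroup G))
      exact congrArg Subtype.val (mul_comm (G := (Subgroup.zpowers a ⊔ Subgroup.zpowers (x : G) : Subgroup G))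
        ⟨(x : G), Subgroup.mem_sup_right (Subgroup.mem_zpowers _)⟩ ⟨a, Subgroup.mem_sup_left (Subgroup.mem_zpowers _)⟩)
    · by_cases hx1 : (x : G) = 1
      · rw [hx1, one_mul, mul_one]
      obtain ⟨n, -, hn⟩ := (Nat.dvd_prime_pow hr.out).mp (orderOf_dvd_of_pow_eq_one hxk)
      obtain ⟨m, rfl⟩ : ∃ m, n = m + 1 := Nat.exists_eq_succ_of_ne_zero (by
        rintro rfl; exact hx1 (orderOf_eq_one_iff.mp (by simpa using hn)))
      set b : G := (x : G) ^ r ^ m with hb
      have hbo : orderOf b = r := by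
        rw [hb, orderOf_pow' _ (pow_ne_zero _ hr.out.ne_zero), hn,
          Nat.gcd_eq_right ⟨r, pow_succ r m⟩, pow_succ, Nat.mul_div_cancel_left _ (pow_pos hr.out.pos _)]
      have hb1 : b ≠ 1 := fun h => hr.out.one_lt.ne (by rw [← hbo, h, orderOf_one])
      have hbE : b ∈ E := pow_mem x.2 _
      obtain ⟨V, -, hVne, hVab, hVn, hVfpf⟩ := Basics.exists_abelian_fpf K E hK hE hfpf
      set X := Subgroup.zpowers a ⊔ Subgroup.zpowers b
      have hcop : (orderOf a).Coprime (orderOf b) := by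
        rw [hao, hbo]; exact (Nat.coprime_primes hq hr.out).mpr hne.symm
      have hXc : Nat.card X = q * r := by
        rw [Basics.card_sup_of_coprime (Subgroup.zpowers_le.mpr (hconj b hbE))
          (by rw [Nat.card_zpowers, Nat.card_zpowers]; exact hcop), Nat.card_zpowers, Nat.card_zpowers, hao, hbo]
      have hXE : X ≤ E := sup_le (Subgroup.zpowers_le.mpr haE) (Subgroup.zpowers_le.mpr hbE)
      have hXab := Basics.fpf_pq_commutative X V hVne (by rw [Subgroup.normalizer_eq_top]; exact le_top)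
        (fun y hy => hVfpf y (hXE hy)) hq hr.out hXc
      have hab : a * b = b * a := congrArg Subtype.val (hXab.is_comm.comm
        ⟨a, Subgroup.mem_sup_left (Subgroup.mem_zpowers a)⟩ ⟨b, Subgroup.mem_sup_right (Subgroup.mem_zpowers _)⟩)
      exact (Basics.commute_of_coprime_le (hCN b hb1)
        (Subgroup.mem_centralizer_singleton_iff.mpr ((Commute.refl (x : G)).pow_right _))
        (Subgroup.mem_centralizer_singleton_iff.mpr hab) (by
          rw [hn, hao]; exact ((Nat.coprime_primes hr.out hq).mpr hne).pow_left _)).eq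
  intro e he
  exact Subgroup.mem_subgroupOf.mp (key.symm ▸ Subgroup.mem_top (⟨e, he⟩ : E))

end Cfsg.Agent.OddLocal
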