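import Cfsg.Agent.Lib.OddLocal.SectionTen

/-! Fusion in a Sylow subgroup of a minimal simple group of odd order (BG 10.9). -/

set_option autoImplicit false
set_option maxHeartbeats 800000

namespace Cfsg.Agent.OddLocal

open scoped commutatorElement Pointwise

variable {G : Type*} [Group G] [Finite G] {p : ℕ} [hp : Fact p.Prime]

/-- A maximal subgroup over the normalizer of a nontrivial Sylow subgroup. -/
theorem exists_sigma_maximal (hG : IsMinSimpleOddOrder G) (P : Sylow p G) (hP : (P : Subgroup G) ≠ ⊥) :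
    ∃ M : Subgroup G, IsCoatom M ∧ Subgroup.normalizer ((P : Subgroup G) : Set G) ≤ M ∧ p ∈ Cfsg.sigma M := by
  have hPtop : (P : Subgroup G) ≠ ⊤ := pGroup_ne_top hG P.2
  obtain ⟨M, hM, hle⟩ := exists_maximal_ge (normalizer_ne_top hG hP hPtop)
  have hPM : (P : Subgroup G) ≤ M := Subgroup.le_normalizer.trans hle
  refine ⟨M, hM, hle, hp.out, ?_, P.subtype hPM, ?_⟩
  · rcases P.2.card_eq_or_dvd with e | e
    · exact absurd (Subgroup.card_eq_one.mp e) hP
    · exact e.trans (Subgroup.card_dvd_of_le hPM)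
  · rwa [Sylow.coe_subtype, Subgroup.map_subgroupOf_eq_of_le hPM]

theorem sylow_le_derived_normalizer (hG : IsMinSimpleOddOrder G) (P : Sylow p G) :
    (P : Subgroup G) ≤
      ⁅Subgroup.normalizer ((P : Subgroup G) : Set G), Subgroup.normalizer ((P : Subgroup G) : Set G)⁆ := by
  rcases eq_or_ne (P : Subgroup G) ⊥ with hP | hP
  · rw [hP]; exact bot_le
  obtain ⟨M, hM, hle, hσ⟩ := exists_sigma_maximal hG P hP
  have hPM : (P : Subgroup G) ≤ M := Subgroup.le_normalizer.trans hle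
  have hsol : Group.IsSolvable M := isSolvable_of_ne_top hG hM.1
  have h := (pLengthOne_fusion (pLengthLE_one_of_proper hG hM.1) (P.subtype hPM)).1
    (sigma_sylow_le_commutator hG hM hσ _)
  intro x hx
  obtain ⟨y, hy, e⟩ : x ∈ (⁅Subgroup.normalizer (((P.subtype hPM : Sylow p M) : Subgroup M) : Set M),
      Subgroup.normalizer (((P.subtype hPM : Sylow p M) : Subgroup M) : Set M)⁆).map M.subtype :=
    ⟨⟨x, hPM hx⟩, h hx, rfl⟩
  rw [← e]
  have hmap : (Subgroup.normalizer (((P.subtype hPM : Sylow p M) : Subgroup M) : Set M)).map M.subtype ≤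
      Subgroup.normalizer ((P : Subgroup G) : Set G) := by
    rw [Sylow.coe_subtype, ← Subgroup.subgroupOf_normalizer_eq hPM]
    exact Subgroup.map_comap_le _ _
  have h2 : y.1 ∈ (⁅Subgroup.normalizer (((P.subtype hPM : Sylow p M) : Subgroup M) : Set M),
      Subgroup.normalizer (((P.subtype hPM : Sylow p M) : Subgroup M) : Set M)⁆).map M.subtype := ⟨y, hy, rfl⟩
  rw [Subgroup.map_commutator] at h2
  exact Subgroup.commutator_mono hmap hmap h2

theorem sylow_fusion (hG : IsMinSimpleOddOrder G) (P : Sylow p G) {Q : Subgroup G} {x : G}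
    (hQ : Q ≤ (P : Subgroup G)) (hx : Q.map (MulAut.conj x).toMonoidHom ≤ (P : Subgroup G)) :
    ∃ y ∈ Subgroup.normalizer ((P : Subgroup G) : Set G),
      Q.map (MulAut.conj x).toMonoidHom = Q.map (MulAut.conj y).toMonoidHom := by
  rcases eq_or_ne Q ⊥ with rfl | hQne
  · exact ⟨1, one_mem _, by simp [Subgroup.map_bot]⟩
  have hP : (P : Subgroup G) ≠ ⊥ := fun e => hQne (eq_bot_iff.mpr (e ▸ hQ))
  obtain ⟨M, hM, hle, hσ⟩ := exists_sigma_maximal hG P hP
  have hPM : (P : Subgroup G) ≤ M := Subgroup.le_normalizer.trans hle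
  have hsol : Group.IsSolvable M := isSolvable_of_ne_top hG hM.1
  obtain ⟨m, hm, c, hc, rfl⟩ := sigma_fusion hG hM hσ (P.2.to_le hQ) hQne (hQ.trans hPM) (hx.trans hPM)
  have hc' : ∀ q ∈ Q, c * q * c⁻¹ = q := fun q hq => by
    rw [← Subgroup.mem_centralizer_iff.mp hc q hq, mul_inv_cancel_right]
  obtain ⟨g, hg, d, hd, e⟩ := (pLengthOne_fusion (pLengthLE_one_of_proper hG hM.1) (P.subtype hPM)).2.1
    ((Subtype.val : M → G) ⁻¹' Q) ⟨m, hm⟩ (fun y hy => hQ hy) (by
      rintro _ ⟨y, hy, rfl⟩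
      refine hx ⟨(y : G), hy, ?_⟩
      change m * c * (y : G) * (m * c)⁻¹ = m * (y : G) * m⁻¹
      rw [show m * c * (y : G) * (m * c)⁻¹ = m * (c * (y : G) * c⁻¹) * m⁻¹ by group, hc' _ hy])
  rw [Sylow.coe_subtype, ← Subgroup.subgroupOf_normalizer_eq hPM, Subgroup.mem_subgroupOf] at hg
  refine ⟨g, hg, le_antisymm ?_ ?_⟩
  all_goals
    rintro _ ⟨q, hq, rfl⟩
    refine ⟨q, hq, ?_⟩
    have h1 : (d : G) * q * (d : G)⁻¹ = q := by
      rw [← congrArg Subtype.val (Subgroup.mem_centralizer_iff.mp hd (⟨q, hPM (hQ hq)⟩ : M) hq) |>.trans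
        (by simp : _ = (d : G) * q)]
      simp
    have hmd : m = (g : G) * d := (congrArg Subtype.val e).symm
    have key : m * c * q * (m * c)⁻¹ = (g : G) * q * (g : G)⁻¹ := by
      rw [show m * c * q * (m * c)⁻¹ = m * (c * q * c⁻¹) * m⁻¹ by group, hc' q hq, hmd,
        show (g : G) * d * q * ((g : G) * d)⁻¹ = (g : G) * ((d : G) * q * (d : G)⁻¹) * (g : G)⁻¹ by group, h1]
    first
      | exact key.symm
      | exact key

theorem sylow_index_normalizer (hG : IsMinSimpleOddOrder G) (P : Sylow p G) {Q : Subgroup G}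
    (hQ : Q ≤ (P : Subgroup G)) :
    ¬ p ∣ ((P : Subgroup G) ⊓ Subgroup.normalizer (Q : Set G)).relIndex (Subgroup.normalizer (Q : Set G)) := by
  set N := Subgroup.normalizer (Q : Set G) with hN
  set S := (P : Subgroup G) ⊓ N with hS
  have hSN : S ≤ N := inf_le_right
  obtain ⟨T, hT⟩ := ((P.2.to_le (inf_le_left : S ≤ (P : Subgroup G))).of_equiv
    (Subgroup.subgroupOfEquivOfLe hSN).symm).exists_le_sylow
  obtain ⟨P', hP'⟩ := (T.2.map N.subtype).exists_le_sylow
  obtain ⟨x, hx⟩ := MulAction.exists_smul_eq G P' P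
  have hTP : ∀ t ∈ (T : Subgroup N).map N.subtype, x * t * x⁻¹ ∈ (P : Subgroup G) := by
    intro t ht
    rw [← hx, Sylow.coe_subgroup_smul]
    exact Subgroup.smul_mem_pointwise_smul _ _ _ (hP' ht)
  have hQS : Q ≤ S := le_inf hQ Subgroup.le_normalizer
  have hQT : ∀ q ∈ Q, q ∈ (T : Subgroup N).map N.subtype := fun q hq =>
    ⟨⟨q, hSN (hQS hq)⟩, hT (hQS hq), rfl⟩
  obtain ⟨y, hy, hxy⟩ := sylow_fusion hG P hQ (x := x) (by rintro _ ⟨q, hq, rfl⟩; exact hTP q (hQT q hq))
  have hz : y⁻¹ * x ∈ N := by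
    refine mem_normalizer_of_conj_mem fun q hq => ?_
    obtain ⟨q', hq', e⟩ : x * q * x⁻¹ ∈ Q.map (MulAut.conj y).toMonoidHom := hxy ▸ ⟨q, hq, rfl⟩
    have e' : y * q' * y⁻¹ = x * q * x⁻¹ := e
    rw [show y⁻¹ * x * q * (y⁻¹ * x)⁻¹ = y⁻¹ * (x * q * x⁻¹) * y by group, ← e',
      show y⁻¹ * (y * q' * y⁻¹) * y = q' by group]
    exact hq'
  have hle : ((T : Subgroup N).map N.subtype).map (MulAut.conj (y⁻¹ * x)).toMonoidHom ≤ S := by
    rintro _ ⟨t, ht, rfl⟩
    refine Subgroup.mem_inf.mpr ⟨?_, mul_mem (mul_mem hz (Subgroup.map_subtype_le _ ht)) (inv_mem hz)⟩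
    have := (Subgroup.mem_normalizer_iff.mp (inv_mem hy) _).mp (hTP t ht)
    change y⁻¹ * x * t * (y⁻¹ * x)⁻¹ ∈ (P : Subgroup G)
    simpa [mul_assoc] using this
  have hcard : Nat.card (T : Subgroup N) ≤ Nat.card (S.subgroupOf N) := by
    rw [Basics.card_subgroupOf hSN, ← show Nat.card ((T : Subgroup N).map N.subtype) = Nat.card (T : Subgroup N) from
        Subgroup.card_map_of_injective N.subtype_injective,
      ← show Nat.card (((T : Subgroup N).map N.subtype).map (MulAut.conj (y⁻¹ * x)).toMonoidHom) =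
        Nat.card ((T : Subgroup N).map N.subtype) from Subgroup.card_map_of_injective (MulAut.conj _).injective]
    exact Subgroup.card_le_of_le hle
  have heq : S.subgroupOf N = (T : Subgroup N) := Subgroup.eq_of_le_of_card_ge hT hcard
  rw [Subgroup.relIndex, heq]
  exact T.not_dvd_index

theorem sylow_weakly_closed (hG : IsMinSimpleOddOrder G) (P : Sylow p G) {R Q : Subgroup G} (hR : IsPGroup p R)
    (hQ : Q ≤ (P : Subgroup G) ⊓ R)
    (hQn : Subgroup.normalizer ((P : Subgroup G) : Set G) ≤ Subgroup.normalizer (Q : Set G)) :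
    Subgroup.normalizer (R : Set G) ≤ Subgroup.normalizer (Q : Set G) := by
  obtain ⟨P', hP'⟩ := hR.exists_le_sylow
  obtain ⟨x, hx⟩ := MulAction.exists_smul_eq G P' P
  have hRP : ∀ r ∈ R, x * r * x⁻¹ ∈ (P : Subgroup G) := fun r hr => by
    rw [← hx, Sylow.coe_subgroup_smul]
    exact Subgroup.smul_mem_pointwise_smul _ _ _ (hP' hr)
  have key : ∀ w : G, Q.map (MulAut.conj w).toMonoidHom ≤ (P : Subgroup G) → ∀ q ∈ Q, w * q * w⁻¹ ∈ Q := by
    intro w hw q hq
    obtain ⟨y, hy, e⟩ := sylow_fusion hG P (hQ.trans inf_le_left) hw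
    obtain ⟨q', hq', e'⟩ : w * q * w⁻¹ ∈ Q.map (MulAut.conj y).toMonoidHom := e ▸ ⟨q, hq, rfl⟩
    rw [← e']
    exact (Subgroup.mem_normalizer_iff.mp (hQn hy) q').mp hq'
  have hxQ : x ∈ Subgroup.normalizer (Q : Set G) := mem_normalizer_of_conj_mem
    (key x (by rintro _ ⟨q, hq, rfl⟩; exact hRP q (hQ hq).2))
  intro g hg
  refine mem_normalizer_of_conj_mem fun q hq => ?_
  have h := key (x * g) (by
    rintro _ ⟨a, ha, rfl⟩
    change x * g * a * (x * g)⁻¹ ∈ (P : Subgroup G)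
    rw [show x * g * a * (x * g)⁻¹ = x * (g * a * g⁻¹) * x⁻¹ by group]
    exact hRP _ ((Subgroup.mem_normalizer_iff.mp hg a).mp (hQ ha).2)) q hq
  rw [show x * g * q * (x * g)⁻¹ = x * (g * q * g⁻¹) * x⁻¹ by group] at h
  exact (Subgroup.mem_normalizer_iff.mp hxQ _).mpr h

theorem sylow_eq_commutator (hG : IsMinSimpleOddOrder G) (P : Sylow p G) {V : Subgroup G}
    (hV : Cfsg.IsComplIn (P : Subgroup G) V (Subgroup.normalizer ((P : Subgroup G) : Set G))) :
    (P : Subgroup G) = ⁅(P : Subgroup G), V⁆ := by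
  obtain ⟨hPN, hVN, hdisj, hdec⟩ := hV
  set N := Subgroup.normalizer ((P : Subgroup G) : Set G) with hN
  have : ((P : Subgroup G).subgroupOf N).Normal :=
    (Subgroup.normal_subgroupOf_iff_le_normalizer hPN).mpr le_rfl
  have hnil : Group.IsNilpotent ((P : Subgroup G).subgroupOf N) := (P.2.comap_subtype).isNilpotent
  have h := eq_commutator_of_le_derived ((P : Subgroup G).subgroupOf N) (V.subgroupOf N) inferInstance ?_ ?_ ?_
  · have h2 := congrArg (Subgroup.map N.subtype) h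
    rw [Subgroup.map_commutator, Subgroup.map_subgroupOf_eq_of_le hPN, Subgroup.map_subgroupOf_eq_of_le hVN] at h2
    exact h2.symm
  · refine eq_top_iff.mpr fun m _ => ?_
    obtain ⟨a, ha, b, hb, e⟩ := hdec m.1 m.2
    rw [show m = (⟨a, hPN ha⟩ : N) * ⟨b, hVN hb⟩ from Subtype.ext e]
    exact mul_mem (Subgroup.mem_sup_left ha) (Subgroup.mem_sup_right hb)
  · rw [eq_bot_iff]
    intro a ha
    have h1 : (a : G) ∈ (P : Subgroup G) ⊓ V := ha
    rw [hdisj, Subgroup.mem_bot] at h1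
    exact Subgroup.mem_bot.mpr (Subtype.ext h1)
  · intro x hx
    have h1 : (x : G) ∈ (commutator N).map N.subtype := by
      rw [Subgroup.map_subtype_commutator]
      exact sylow_le_derived_normalizer hG P hx
    obtain ⟨y, hy, e⟩ := h1
    exact (Subtype.ext e : y = x) ▸ hy

end Cfsg.Agent.OddLocal
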