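import Cfsg.Agent.Lib.OddLocal.CN
import Cfsg.Agent.Lib.OddLocal.SylowFusion
import Cfsg.Agent.Lib.OddLocal.Basic
import Cfsg.Agent.Lib.Basics.FpfAbelian
import Cfsg.Agent.Lib.Basics.CoprimeGen

/-! Minimal simple CN groups of odd order. -/

set_option autoImplicit false
set_option maxHeartbeats 1000000

namespace Cfsg.Agent.OddLocal

open scoped commutatorElement Pointwise

variable {G : Type*} [Group G] [Finite G]

omit [Finite G] in
theorem nontrivial_of_minSimple (hG : IsMinSimpleOddOrder G) : Nontrivial G :=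
  haveI := hG.2.1
  IsSimpleGroup.toNontrivial

theorem fittingOf_ne_bot (hG : IsMinSimpleOddOrder G) {M : Subgroup G} (hM : IsCoatom M) (hne : M ≠ ⊥) :
    Cfsg.fittingOf M ≠ ⊥ := by
  have : Group.IsSolvable M := isSolvable_of_ne_top hG hM.1
  have : Nontrivial M := (Subgroup.nontrivial_iff_ne_bot M).mpr hne
  intro h
  exact Basics.fittingSubgroup_ne_bot (G := M) ((Subgroup.map_eq_bot_iff_of_injective _ M.subtype_injective).mp h)

theorem cn_coatom_ne_bot (hG : IsMinSimpleOddOrder G) {M : Subgroup G} (hM : IsCoatom M) : M ≠ ⊥ := by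
  rintro rfl
  have := nontrivial_of_minSimple hG
  obtain ⟨x, hx⟩ := exists_ne (1 : G)
  have h : Subgroup.zpowers x = ⊤ := hM.2 _ (bot_lt_iff_ne_bot.mpr (by simpa using hx))
  have hc : IsMulCommutative (⊤ : Subgroup G) := h ▸ inferInstance
  exact ne_top_of_isMulCommutative hG hc rfl

theorem coatom_eq_normalizer (hG : IsMinSimpleOddOrder G) {M : Subgroup G} (hM : IsCoatom M) {N : Subgroup G}
    (hne : N ≠ ⊥) (hNM : N ≤ M) (hn : M ≤ Subgroup.normalizer (N : Set G)) :
    M = Subgroup.normalizer (N : Set G) := by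
  rcases eq_or_lt_of_le hn with e | e
  · exact e
  · exact absurd (hM.2 _ e) (normalizer_ne_top hG hne (fun h => hM.1 (top_le_iff.mp (h ▸ hNM))))

/-- A maximal subgroup with primary Fitting subgroup is the normalizer of a Sylow subgroup. -/
theorem fitting_pGroup_sylow (hG : IsMinSimpleOddOrder G) {M : Subgroup G} (hM : IsCoatom M) {p : ℕ}
    [hp : Fact p.Prime] (hF : IsPGroup p (Cfsg.fittingOf M)) :
    ∃ S : Sylow p G, (S : Subgroup G) = Cfsg.fittingOf M ∧ M = Subgroup.normalizer ((S : Subgroup G) : Set G) := by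
  have hsol : Group.IsSolvable M := isSolvable_of_ne_top hG hM.1
  set F := Cfsg.fittingOf M with hFdef
  have hF' : IsPGroup p (Cfsg.fittingSubgroup M) :=
    hF.of_equiv (Subgroup.equivMapOfInjective _ M.subtype M.subtype_injective).symm
  obtain ⟨A, B, hA, hB, hc, -, -, -, hS⟩ := exists_series_of_pLengthLE_one (p := p) (pLengthLE_one_of_proper hG hM.1)
  obtain ⟨T⟩ : Nonempty (Sylow p M) := inferInstance
  have hAbot : A = ⊥ := by
    by_contra hne
    have hAle : A ≤ Subgroup.centralizer (Cfsg.fittingSubgroup M : Set M) := by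
      intro a ha
      rw [Subgroup.mem_centralizer_iff]
      intro f hf
      have hFn : (Cfsg.fittingSubgroup M).Normal := by
        rw [Basics.fittingSubgroup_eq_iSup_pCore]
        exact inferInstance
      refine (commutatorElement_eq_one_iff_mul_comm (g₁ := f) (g₂ := a)).mp ?_
      have h1 : ⁅f, a⁆ ∈ Cfsg.fittingSubgroup M ⊓ A := by
        refine ⟨?_, ?_⟩
        · exact (Subgroup.commutator_le_left _ _) (Subgroup.commutator_mem_commutator hf (Subgroup.mem_top a))
        · exact (Subgroup.commutator_le_right _ _) (Subgroup.commutator_mem_commutator (Subgroup.mem_top f) ha)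
      obtain ⟨k, hk⟩ := IsPGroup.iff_card.mp hF'
      refine orderOf_eq_one_iff.mp (Nat.eq_one_of_dvd_coprimes (hc.pow_right k)
        (Subgroup.orderOf_dvd_natCard _ h1.2) (hk ▸ Subgroup.orderOf_dvd_natCard _ h1.1))
    have hle : A ≤ Cfsg.fittingSubgroup M := hAle.trans Basics.centralizer_fittingSubgroup_le
    obtain ⟨k, hk⟩ := IsPGroup.iff_card.mp hF'
    exact hne (Subgroup.card_eq_one.mp (Nat.eq_one_of_dvd_coprimes (hc.pow_right k) dvd_rfl (hk ▸ Subgroup.card_dvd_of_le hle)))
  have hTn : (T : Subgroup M).Normal := by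
    have := hS T
    rw [hAbot, bot_sup_eq] at this
    exact this ▸ hB
  have hTF : Cfsg.fittingSubgroup M = T := T.3 hF' (Basics.le_fittingSubgroup (T.2.isNilpotent))
  have hFT : F = (T : Subgroup M).map M.subtype := by rw [hFdef, Cfsg.fittingOf, hTF]
  have hMN := coatom_eq_normalizer hG hM (fittingOf_ne_bot hG hM (cn_coatom_ne_bot hG hM)) (fittingOf_le M)
    (le_normalizer_fittingOf M)
  obtain ⟨P, hP⟩ := hF.exists_le_sylow
  refine ⟨P, le_antisymm ?_ hP, ?_⟩
  swap
  · have : (P : Subgroup G) = F := by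
      refine le_antisymm ?_ hP
      by_contra hne
      have : Group.IsNilpotent (P : Subgroup G) := P.2.isNilpotent
      obtain ⟨x, hx, hxF⟩ := SetLike.exists_of_lt (lt_inf_normalizer (lt_of_le_not_ge hP hne))
      have hxM : x ∈ M := by rw [hMN]; exact hx.2
      have h1 : ((P : Subgroup G).subgroupOf M) = T :=
        T.3 P.2.comap_subtype fun s hs => hP (hFT ▸ (⟨s, hs, rfl⟩ : (s : G) ∈ (T : Subgroup M).map M.subtype))
      exact hxF (hFT ▸ ⟨⟨x, hxM⟩, h1 ▸ hx.1, rfl⟩)
    rw [this]
    exact hMN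
  · by_contra hne
    have : Group.IsNilpotent (P : Subgroup G) := P.2.isNilpotent
    obtain ⟨x, hx, hxF⟩ := SetLike.exists_of_lt (lt_inf_normalizer (lt_of_le_not_ge hP hne))
    have hxM : x ∈ M := by rw [hMN]; exact hx.2
    have h1 : ((P : Subgroup G).subgroupOf M) = T :=
      T.3 P.2.comap_subtype fun s hs => hP (hFT ▸ (⟨s, hs, rfl⟩ : (s : G) ∈ (T : Subgroup M).map M.subtype))
    exact hxF (hFT ▸ ⟨⟨x, hxM⟩, h1 ▸ hx.1, rfl⟩)

section CN

variable (hG : IsMinSimpleOddOrder G) (hCN : Cfsg.IsCNGroup G)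
include hG hCN

/-- A primary Fitting subgroup of a maximal subgroup is a maximal nilpotent subgroup. -/
theorem isMaxNilpotent_fitting_pGroup {M : Subgroup G} (hM : IsCoatom M) {p : ℕ} [hp : Fact p.Prime]
    (hF : IsPGroup p (Cfsg.fittingOf M)) : IsMaxNilpotent (Cfsg.fittingOf M) := by
  obtain ⟨S, hS, hMS⟩ := fitting_pGroup_sylow hG hM hF
  have hsol : Group.IsSolvable M := isSolvable_of_ne_top hG hM.1
  refine ⟨hF.isNilpotent, fun L hL hle => le_antisymm ?_ hle⟩
  have hFne := fittingOf_ne_bot hG hM (cn_coatom_ne_bot hG hM)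
  have hSL : (S : Subgroup G) ≤ L := hS ▸ hle
  have hmem : ∀ y ∈ L, (∃ k, y ^ p ^ k = 1) → y ∈ (S : Subgroup G) := fun y hy hyp => by
    obtain ⟨k, hk⟩ := hyp
    obtain ⟨j, -, hj⟩ := (Nat.dvd_prime_pow hp.out).mp (orderOf_dvd_of_pow_eq_one hk)
    exact pGroup_le_sylow_of_nilpotent hL S hSL (Subgroup.zpowers_le.mpr hy) (isPGroup_zpowers_of_orderOf hj)
      (Subgroup.mem_zpowers y)
  have h : (Cfsg.fittingOf M).subgroupOf L = ⊤ := by
    refine Basics.eq_top_of_sylow_le _ fun q hq _ => ?_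
    obtain ⟨Q⟩ : Nonempty (Sylow q L) := inferInstance
    refine ⟨Q, fun y hy => ?_⟩
    obtain ⟨b, hb⟩ := Q.2 ⟨y, hy⟩
    have hb' : (y : G) ^ q ^ b = 1 := by simpa using congrArg (fun z : (Q : Subgroup L) => ((z : L) : G)) hb
    rcases eq_or_ne p q with rfl | hne
    · exact hS ▸ hmem y y.2 ⟨b, hb'⟩
    · have hyC : (y : G) ∈ Subgroup.centralizer ((S : Subgroup G) : Set G) := by
        rw [Subgroup.mem_centralizer_iff]
        intro s hs
        obtain ⟨a, ha⟩ := S.2 ⟨s, hs⟩
        exact (commute_of_orderOf (a := a) hL hne (hSL hs) y.2 (congrArg Subtype.val ha) hb').eq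
      refine centralizer_fittingOf_le hsol ⟨?_, hS ▸ hyC⟩
      rw [hMS]
      exact Subgroup.centralizer_le_normalizer _ hyC
  intro y hy
  have : (⟨y, hy⟩ : L) ∈ (Cfsg.fittingOf M).subgroupOf L := h ▸ Subgroup.mem_top _
  exact this

theorem two_primes_case {M : Subgroup G} (hM : IsCoatom M) {q₁ q₂ : ℕ} (hq₁ : q₁.Prime) (hq₂ : q₂.Prime)
    (hne : q₁ ≠ q₂) (hd₁ : q₁ ∣ Nat.card (Cfsg.fittingOf M)) (hd₂ : q₂ ∣ Nat.card (Cfsg.fittingOf M)) :
    IsMaxNilpotent (Cfsg.fittingOf M) := by
  have hFn : Group.IsNilpotent (Cfsg.fittingOf M) := isNilpotent_fittingOf M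
  obtain ⟨H, hH, hle⟩ := exists_maxNilpotent_ge hFn
  have hd₁' := hd₁.trans (Subgroup.card_dvd_of_le hle)
  have hd₂' := hd₂.trans (Subgroup.card_dvd_of_le hle)
  have hFne := fittingOf_ne_bot hG hM (cn_coatom_ne_bot hG hM)
  have hMN : M ≤ Subgroup.normalizer (H : Set G) := by
    intro m hm
    rw [Subgroup.mem_normalizer_iff_map_conj_eq]
    by_contra hne'
    refine hFne (eq_bot_iff.mpr ?_)
    rw [← hH.ti_of_two_primes hCN hq₁ hq₂ hne hd₁' hd₂' m hne']
    refine le_inf hle fun x hx => ?_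
    have hx' : m⁻¹ * x * m ∈ Cfsg.fittingOf M := by
      simpa using (Subgroup.mem_normalizer_iff.mp (inv_mem (le_normalizer_fittingOf M hm)) x).mp hx
    exact ⟨m⁻¹ * x * m, hle hx', by simp [mul_assoc]⟩
  have hHne : H ≠ ⊥ := fun e => hFne (eq_bot_iff.mpr (e ▸ hle))
  have hHtop : H ≠ ⊤ := fun e => by
    have : Group.IsNilpotent G := by
      have h' := hH.1
      rw [e] at h'
      exact Group.nilpotent_of_mulEquiv Subgroup.topEquiv
    have := nontrivial_of_minSimple hG
    exact Group.IsNilpotent.center_ne_bot G (center_eq_bot hG)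
  have hMe : M = Subgroup.normalizer (H : Set G) := by
    rcases eq_or_lt_of_le hMN with e | e
    · exact e
    · exact absurd (hM.2 _ e) (normalizer_ne_top hG hHne hHtop)
  have hHM : H ≤ M := hMe ▸ Subgroup.le_normalizer
  have h1 : (H.subgroupOf M).Normal := (Subgroup.normal_subgroupOf_iff_le_normalizer hHM).mpr hMN
  have h2 : H.subgroupOf M ≤ Cfsg.fittingSubgroup M := by
    refine Basics.le_fittingSubgroup ?_
    have := hH.1
    exact Group.nilpotent_of_mulEquiv (Subgroup.subgroupOfEquivOfLe hHM).symm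
  have h3 : H ≤ Cfsg.fittingOf M := by
    rw [← Subgroup.map_subgroupOf_eq_of_le hHM]
    exact Subgroup.map_mono h2
  rw [le_antisymm hle h3]
  exact hH

/-- The Fitting subgroup of a maximal subgroup is a maximal nilpotent subgroup. -/
theorem isMaxNilpotent_fitting {M : Subgroup G} (hM : IsCoatom M) : IsMaxNilpotent (Cfsg.fittingOf M) := by
  have hne : Nat.card (Cfsg.fittingOf M) ≠ 1 := mt Subgroup.card_eq_one.mp (fittingOf_ne_bot hG hM (cn_coatom_ne_bot hG hM))
  obtain ⟨p, hp, hd⟩ := Nat.exists_prime_and_dvd hne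
  by_cases h : ∀ q : ℕ, q.Prime → q ∣ Nat.card (Cfsg.fittingOf M) → q = p
  · have : Fact p.Prime := ⟨hp⟩
    exact isMaxNilpotent_fitting_pGroup hG hCN hM (p := p)
      (IsPGroup.of_card (Nat.eq_prime_pow_of_unique_prime_dvd Nat.card_pos.ne' fun hq hqd => h _ hq hqd))
  · push Not at h
    obtain ⟨q, hq, hqd, hqp⟩ := h
    exact two_primes_case hG hCN hM hp hq hqp.symm hd hqd

/-- A maximal subgroup over the normalizer of a subgroup is nilpotent-fitting controlled. -/
theorem coatom_eq_normalizer_fitting {M : Subgroup G} (hM : IsCoatom M) :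
    M = Subgroup.normalizer (Cfsg.fittingOf M : Set G) :=
  coatom_eq_normalizer hG hM (fittingOf_ne_bot hG hM (cn_coatom_ne_bot hG hM)) (fittingOf_le M) (le_normalizer_fittingOf M)

/-- Fitting subgroups of maximal subgroups are TI. -/
theorem cn_fitting_ti {M : Subgroup G} (hM : IsCoatom M) (g : G)
    (hg : (Cfsg.fittingOf M).map (MulAut.conj g).toMonoidHom ≠ Cfsg.fittingOf M) :
    Cfsg.fittingOf M ⊓ (Cfsg.fittingOf M).map (MulAut.conj g).toMonoidHom = ⊥ := by
  set F := Cfsg.fittingOf M with hFdef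
  have hmax := isMaxNilpotent_fitting hG hCN hM
  have hFne := fittingOf_ne_bot hG hM (cn_coatom_ne_bot hG hM)
  obtain ⟨p, hp, hd⟩ := Nat.exists_prime_and_dvd (mt Subgroup.card_eq_one.mp hFne)
  by_cases h : ∀ q : ℕ, q.Prime → q ∣ Nat.card F → q = p
  swap
  · push Not at h
    obtain ⟨q, hq, hqd, hqp⟩ := h
    exact hmax.ti_of_two_primes hCN hp hq hqp.symm hd hqd g hg
  have : Fact p.Prime := ⟨hp⟩
  have hpG : p ∣ Nat.card G := hd.trans (Subgroup.card_subgroup_dvd_card F)
  have hp2 : p ≠ 2 := prime_ne_two hG hpG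
  have hFp : IsPGroup p F := by
    refine IsPGroup.of_card (n := (Nat.card F).primeFactorsList.length) ?_
    exact Nat.eq_prime_pow_of_unique_prime_dvd Nat.card_pos.ne' fun hq hqd => h _ hq hqd
  obtain ⟨S, hS, -⟩ := fitting_pGroup_sylow hG hM hFp
  -- every Sylow subgroup is maximal nilpotent
  have hSmax : ∀ T : Sylow p G, IsMaxNilpotent (T : Subgroup G) := fun T => by
    obtain ⟨a, ha⟩ := MulAction.exists_smul_eq G S T
    rw [← ha, Sylow.coe_subgroup_smul, hS]
    exact hmax.map_conj a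
  -- centralizers of `p`-elements are `p`-groups
  have hcp : ∀ (T : Sylow p G) (x : G), x ∈ (T : Subgroup G) → x ≠ 1 →
      IsPGroup p (Subgroup.centralizer ({x} : Set G)) := by
    intro T x hx hx1
    obtain ⟨z, hz, hz1, hzc⟩ := exists_center_element T hpG
    have hCz := (hSmax T).sylow_central hCN T le_rfl hz hz1 hzc
    intro d
    obtain ⟨k, m, hm, hkm⟩ := Nat.exists_eq_pow_mul_and_not_dvd (orderOf_pos (d : G)).ne' p hp.ne_one
    refine ⟨k, Subtype.ext ?_⟩
    set e := (d : G) ^ p ^ k with he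
    change e = 1
    have heord : (orderOf e).Coprime p := by
      rw [he, orderOf_pow' _ (pow_ne_zero _ hp.ne_zero), hkm, Nat.gcd_eq_right (dvd_mul_right _ _),
        Nat.mul_div_cancel_left _ (pow_pos hp.pos k)]
      exact (hp.coprime_iff_not_dvd.mpr hm).symm
    have heC : e ∈ Subgroup.centralizer ({x} : Set G) := pow_mem d.2 _
    have hzC : z ∈ Subgroup.centralizer ({x} : Set G) :=
      Subgroup.mem_centralizer_singleton_iff.mpr (hzc x hx).symm
    obtain ⟨a, ha⟩ := T.2 ⟨z, hz⟩
    have hcom := Basics.commute_of_coprime_le (hCN x hx1) heC hzC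
      ((heord.pow_right a).coprime_dvd_right (orderOf_dvd_of_pow_eq_one (congrArg Subtype.val ha)))
    have heT : e ∈ (T : Subgroup G) := by
      rw [← hCz]; exact Subgroup.mem_centralizer_singleton_iff.mpr hcom.eq
    obtain ⟨b, hb⟩ := IsPGroup.iff_card.mp T.2
    exact orderOf_eq_one_iff.mp (Nat.eq_one_of_dvd_coprimes (heord.pow_right b) dvd_rfl
      (hb ▸ Subgroup.orderOf_dvd_natCard _ heT))
  suffices key : ∀ (D : Subgroup G) (T₁ T₂ : Sylow p G), T₁ ≠ T₂ →
      D = (T₁ : Subgroup G) ⊓ (T₂ : Subgroup G) → D = ⊥ by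
    have hne : g • S ≠ S := fun e => hg (by
      have := congrArg (fun T : Sylow p G => (T : Subgroup G)) e
      change _ = (Cfsg.fittingOf M)
      rw [hFdef, ← hS]
      exact this)
    have := key _ S (g • S) (Ne.symm hne) rfl
    rwa [Sylow.coe_subgroup_smul, hS] at this
  intro D
  induction D using WellFoundedGT.induction with
  | _ D ih =>
  intro T₁ T₂ hT hD
  by_contra hDne
  have hbig : ∀ T₃ T₄ : Sylow p G, D < (T₃ : Subgroup G) ⊓ (T₄ : Subgroup G) → T₃ = T₄ := fun T₃ T₄ hlt =>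
    by_contra fun hne => hDne (eq_bot_iff.mpr (hlt.le.trans (ih _ hlt T₃ T₄ hne rfl).le))
  have hD1 : D < (T₁ : Subgroup G) := lt_of_le_of_ne (hD ▸ inf_le_left) fun e => hT (Sylow.ext
    ((T₁.3 T₂.2 (e ▸ hD ▸ inf_le_right)).symm))
  have hD2 : D < (T₂ : Subgroup G) := lt_of_le_of_ne (hD ▸ inf_le_right) fun e => hT (Sylow.ext
    (T₂.3 T₁.2 (e ▸ hD ▸ inf_le_left)))
  have hDtop : D ≠ ⊤ := fun e => pGroup_ne_top hG T₁.2 (top_le_iff.mp (e ▸ hD1.le))
  obtain ⟨L, hL, hle⟩ := exists_maximal_ge (normalizer_ne_top hG hDne hDtop)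
  have : Group.IsNilpotent (T₁ : Subgroup G) := T₁.2.isNilpotent
  have : Group.IsNilpotent (T₂ : Subgroup G) := T₂.2.isNilpotent
  set D₁ := (T₁ : Subgroup G) ⊓ Subgroup.normalizer (D : Set G)
  set D₂ := (T₂ : Subgroup G) ⊓ Subgroup.normalizer (D : Set G)
  have hD₁ : D < D₁ := lt_inf_normalizer hD1
  have hD₂ : D < D₂ := lt_inf_normalizer hD2
  have hFLmax := isMaxNilpotent_fitting hG hCN hL
  have hFLne := fittingOf_ne_bot hG hL (cn_coatom_ne_bot hG hL)
  obtain ⟨x, hx, hx1⟩ := (Subgroup.bot_or_exists_ne_one D).resolve_left hDne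
  have hxT₁ : x ∈ (T₁ : Subgroup G) := hD1.le hx
  have hDL : D ≤ L := Subgroup.le_normalizer.trans hle
  by_cases hpL : p ∣ Nat.card (Cfsg.fittingOf L)
  · by_cases hq : ∃ q : ℕ, q.Prime ∧ q ∣ Nat.card (Cfsg.fittingOf L) ∧ q ≠ p
    · obtain ⟨q, hq, hqd, hqp⟩ := hq
      obtain ⟨T, hT'⟩ := hFLmax.exists_sylow hCN hpL
      obtain ⟨z, hz, hz1, hzc⟩ := exists_center_element T hpG
      obtain ⟨b, hb⟩ := IsPGroup.iff_card.mp (hcp T z hz hz1)
      rw [hFLmax.sylow_central hCN T hT' hz hz1 hzc] at hb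
      exact hqp ((Nat.prime_dvd_prime_iff_eq hq hp).mp (hq.dvd_of_dvd_pow (hb ▸ hqd)))
    · push Not at hq
      have hFLp : IsPGroup p (Cfsg.fittingOf L) := IsPGroup.of_card
        (Nat.eq_prime_pow_of_unique_prime_dvd Nat.card_pos.ne' fun hq' hqd => hq _ hq' hqd)
      obtain ⟨T, hT', hLT⟩ := fitting_pGroup_sylow hG hL hFLp
      have hin : ∀ Q : Subgroup G, Q ≤ L → IsPGroup p Q → Q ≤ (T : Subgroup G) := by
        intro Q hQL hQ
        have h1 : IsPGroup p (Q ⊔ (T : Subgroup G) : Subgroup G) :=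
          hQ.to_sup_of_normal_right' T.2 (hLT ▸ hQL)
        exact le_sup_left.trans (T.3 h1 le_sup_right).le
      have e1 := hbig T₁ T (lt_of_lt_of_le hD₁ (le_inf inf_le_left (hin D₁ (inf_le_right.trans hle) (T₁.2.to_le inf_le_left))))
      have e2 := hbig T₂ T (lt_of_lt_of_le hD₂ (le_inf inf_le_left (hin D₂ (inf_le_right.trans hle) (T₂.2.to_le inf_le_left))))
      exact hT (e1.trans e2.symm)
  -- `D` acts fixed point freely on `F(L)`
  have hfree : ∀ a, a ∈ L → a ≠ 1 → (∃ T : Sylow p G, a ∈ (T : Subgroup G)) →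
      Cfsg.fittingOf L ⊓ Subgroup.centralizer ({a} : Set G) = ⊥ := by
    rintro a haL ha1 ⟨T, haT⟩
    obtain ⟨b, hb⟩ := IsPGroup.iff_card.mp (hcp T a haT ha1)
    refine Subgroup.card_eq_one.mp (Nat.eq_one_of_dvd_coprimes ((hp.coprime_iff_not_dvd.mpr hpL).pow_left b)
      (hb ▸ Subgroup.card_dvd_of_le inf_le_right) (Subgroup.card_dvd_of_le inf_le_left))
  have hcyc : ∀ Q : Subgroup G, Q ≤ L → IsPGroup p Q → IsCyclic Q := by
    intro Q hQL hQ
    by_contra hnc
    obtain ⟨X, hX, hX2⟩ := exists_ea_two_of_not_isCyclic hp2 hQ hnc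
    set X' := X.map Q.subtype
    have hX'e : IsElementaryAbelian p X' := ea_map hX _
    have := hX'e.1
    obtain ⟨T, hT⟩ := (isPGroup_of_exponent hX'e.2).exists_le_sylow
    have hX'L : X' ≤ L := (Subgroup.map_subtype_le _).trans hQL
    have hcy := Basics.fpf_abelian_isCyclic X' (Cfsg.fittingOf L) hFLne (hX'L.trans (le_normalizer_fittingOf L))
      fun a ha ha1 => hfree a (hX'L ha) ha1 ⟨T, hT ha⟩
    exact not_isCyclic_of_ea hX'e (by rwa [Subgroup.card_map_of_injective Q.subtype_injective]) hcy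
  have hC1 : ∀ (T : Sylow p G), D < (T : Subgroup G) ⊓ Subgroup.normalizer (D : Set G) →
      (T : Subgroup G) ⊓ Subgroup.normalizer (D : Set G) ≤ Subgroup.centralizer ({x} : Set G) := by
    intro T hlt a ha
    have hc := hcyc _ (inf_le_right.trans hle) (T.2.to_le inf_le_left : IsPGroup p ↥((T : Subgroup G) ⊓ _))
    rw [Subgroup.mem_centralizer_singleton_iff]
    exact congrArg Subtype.val ((IsCyclic.commGroup (α := ↥((T : Subgroup G) ⊓ Subgroup.normalizer (D : Set G)))).mul_comm
      ⟨a, ha⟩ ⟨x, hlt.le hx⟩)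
  obtain ⟨T₃, hT₃⟩ := (hcp T₁ x hxT₁ hx1).exists_le_sylow
  have e1 := hbig T₁ T₃ (lt_of_lt_of_le hD₁ (le_inf inf_le_left ((hC1 T₁ hD₁).trans hT₃)))
  have e2 := hbig T₂ T₃ (lt_of_lt_of_le hD₂ (le_inf inf_le_left ((hC1 T₂ hD₂).trans hT₃)))
  exact hT (e1.trans e2.symm)

theorem centralizer_le_fitting {M : Subgroup G} (hM : IsCoatom M) {x : G} (hx : x ∈ Cfsg.fittingOf M) (hx1 : x ≠ 1) :
    Subgroup.centralizer ({x} : Set G) ≤ Cfsg.fittingOf M :=
  (isMaxNilpotent_fitting hG hCN hM).centralizer_le_of_ti hCN (cn_fitting_ti hG hCN hM) hx hx1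

/-- Every maximal nilpotent subgroup is the Fitting subgroup of a maximal subgroup. -/
theorem exists_maximal_of_maxNilpotent {H : Subgroup G} (hH : IsMaxNilpotent H) :
    ∃ M : Subgroup G, IsCoatom M ∧ Cfsg.fittingOf M = H := by
  have := nontrivial_of_minSimple hG
  obtain ⟨p, hp, hd⟩ := Nat.exists_prime_and_dvd (mt Subgroup.card_eq_one.mp hH.ne_bot)
  have : Fact p.Prime := ⟨hp⟩
  obtain ⟨P, hPH⟩ := hH.exists_sylow hCN hd
  have hpG : p ∣ Nat.card G := hd.trans (Subgroup.card_subgroup_dvd_card H)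
  have hp2 : p ≠ 2 := prime_ne_two hG hpG
  obtain ⟨M, hM, hNM, -⟩ := exists_sigma_maximal hG P (P.ne_bot_of_dvd_card hpG)
  have hPM : (P : Subgroup G) ≤ M := Subgroup.le_normalizer.trans hNM
  refine ⟨M, hM, ?_⟩
  set F := Cfsg.fittingOf M with hF
  have hFmax := isMaxNilpotent_fitting hG hCN hM
  have hFne := fittingOf_ne_bot hG hM (cn_coatom_ne_bot hG hM)
  obtain ⟨z, hz, hz1, hzc⟩ := exists_center_element P hpG
  suffices hPF : (P : Subgroup G) ≤ F by
    exact (hFmax.sylow_central hCN P hPF hz hz1 hzc).symm.trans (hH.sylow_central hCN P hPH hz hz1 hzc)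
  by_contra hPF
  have hpF : ¬ p ∣ Nat.card F := by
    intro hd'
    obtain ⟨T, hT⟩ := hFmax.exists_sylow hCN hd'
    have h1 : IsPGroup p ((P : Subgroup G) ⊔ (T : Subgroup G) : Subgroup G) := by
      refine P.2.to_sup_of_normal_right' T.2 (fun x hx => ?_)
      refine mem_normalizer_of_conj_mem fun a ha => ?_
      have hxN := le_normalizer_fittingOf M (hPM hx)
      exact pGroup_le_sylow_of_nilpotent hFmax.1 T hT
        (Q := (T : Subgroup G).map (MulAut.conj x).toMonoidHom)
        (by rintro _ ⟨b, hb, rfl⟩; exact (Subgroup.mem_normalizer_iff.mp hxN b).mp (hT hb))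
        (T.2.map _) ⟨a, ha, rfl⟩
    exact hPF (le_trans (le_sup_left.trans (T.3 h1 le_sup_right).le) hT)
  have hfree : ∀ a ∈ M, a ≠ 1 → a ∉ F → F ⊓ Subgroup.centralizer ({a} : Set G) = ⊥ := by
    intro a _ ha1 haF
    rw [eq_bot_iff]
    intro y hy
    rw [Subgroup.mem_bot]
    by_contra hy1
    exact haF (centralizer_le_fitting hG hCN hM hy.1 hy1 (Subgroup.mem_centralizer_singleton_iff.mpr
      (Subgroup.mem_centralizer_singleton_iff.mp hy.2).symm))
  have hnotF : ∀ {a : G}, a ≠ 1 → (∃ k, a ^ p ^ k = 1) → a ∉ F := by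
    rintro a ha1 ⟨k, hk⟩ haF
    exact ha1 (orderOf_eq_one_iff.mp (Nat.eq_one_of_dvd_coprimes ((hp.coprime_iff_not_dvd.mpr hpF).pow_left k)
      (orderOf_dvd_of_pow_eq_one hk) (Subgroup.orderOf_dvd_natCard _ haF)))
  -- `P` is cyclic
  have hPc : IsCyclic (P : Subgroup G) := by
    by_contra hnc
    obtain ⟨X, hX, hX2⟩ := exists_ea_two_of_not_isCyclic hp2 P.2 hnc
    set X' := X.map (P : Subgroup G).subtype
    have hX'e : IsElementaryAbelian p X' := ea_map hX _
    have := hX'e.1
    have hX'M : X' ≤ M := (Subgroup.map_subtype_le _).trans hPM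
    have hcy := Basics.fpf_abelian_isCyclic X' F hFne (hX'M.trans (le_normalizer_fittingOf M))
      fun a ha ha1 => hfree a (hX'M ha) ha1 (hnotF ha1 ⟨1, by rw [pow_one]; exact hX'e.2 a ha⟩)
    exact not_isCyclic_of_ea hX'e (by rwa [Subgroup.card_map_of_injective (Subgroup.subtype_injective _)]) hcy
  -- the normalizer of `P` centralizes it
  set N := Subgroup.normalizer ((P : Subgroup G) : Set G) with hN
  have hNC : N ≤ Subgroup.centralizer ((P : Subgroup G) : Set G) := by
    have h : ((Subgroup.centralizer ((P : Subgroup G) : Set G)).subgroupOf N) = ⊤ := by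
      refine Basics.eq_top_of_sylow_le _ fun q hq _ => ?_
      obtain ⟨Q⟩ : Nonempty (Sylow q N) := inferInstance
      refine ⟨Q, fun v hv => ?_⟩
      rcases eq_or_ne (v : G) 1 with e | hv1
      · exact (show (v : G) ∈ Subgroup.centralizer ((P : Subgroup G) : Set G) from e ▸ one_mem _)
      rcases eq_or_ne p q with rfl | hne
      · obtain ⟨b, hb⟩ := Q.2 ⟨v, hv⟩
        have h1 : IsPGroup p ((P : Subgroup G) ⊔ Subgroup.zpowers (v : G) : Subgroup G) := by
          obtain ⟨j, -, hj⟩ := (Nat.dvd_prime_pow hp).mp (orderOf_dvd_of_pow_eq_one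
            (show (v : G) ^ p ^ b = 1 by simpa using congrArg (fun z : (Q : Subgroup N) => ((z : N) : G)) hb))
          exact P.2.to_sup_of_normal_left' (isPGroup_zpowers_of_orderOf hj) (Subgroup.zpowers_le.mpr v.2)
        have hvP : (v : G) ∈ (P : Subgroup G) :=
          (P.3 h1 le_sup_left) ▸ Subgroup.mem_sup_right (Subgroup.mem_zpowers (v : G))
        change (v : G) ∈ Subgroup.centralizer ((P : Subgroup G) : Set G)
        rw [Subgroup.mem_centralizer_iff]
        exact fun s hs => congrArg Subtype.val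
          ((IsCyclic.commGroup (α := (P : Subgroup G))).mul_comm ⟨s, hs⟩ ⟨v, hvP⟩)
      obtain ⟨q', k, hq', hdq, hk⟩ := exists_pow_prime_order hv1
      set v₀ := (v : G) ^ k with hv₀
      have hqq : q' = q := by
        obtain ⟨b, hb⟩ := Q.2 ⟨v, hv⟩
        have : (v : G) ^ q ^ b = 1 := by simpa using congrArg (fun z : (Q : Subgroup N) => ((z : N) : G)) hb
        exact (Nat.prime_dvd_prime_iff_eq hq' hq.out).mp (hq'.dvd_of_dvd_pow (hdq.trans (orderOf_dvd_of_pow_eq_one this)))
      subst hqq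
      have hv₀1 : v₀ ≠ 1 := fun e => hq'.ne_one (by rw [← hk, e, orderOf_one])
      -- the element of order `p`
      obtain ⟨w, hw⟩ := exists_prime_orderOf_dvd_card' (G := (P : Subgroup G)) p (by
        rcases P.2.card_eq_or_dvd with e | e
        · exact absurd (Subgroup.card_eq_one.mp e) (P.ne_bot_of_dvd_card hpG)
        · exact e)
      set y : G := ((w : ↥(P : Subgroup G)) : G) with hy
      have hyo : orderOf y = p := by rw [hy, Subgroup.orderOf_coe, hw]
      set X := Subgroup.zpowers y ⊔ Subgroup.zpowers v₀ with hX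
      have hv₀N : v₀ ∈ Subgroup.normalizer (Subgroup.zpowers y : Set G) := by
        refine mem_normalizer_of_conj_mem fun a ha => ?_
        have hyP : Subgroup.zpowers y ≤ (P : Subgroup G) := Subgroup.zpowers_le.mpr w.2
        have hv₀P : v₀ ∈ N := pow_mem v.2 k
        have hle : (Subgroup.zpowers y).map (MulAut.conj v₀).toMonoidHom ≤ (P : Subgroup G) := by
          rintro _ ⟨b, hb, rfl⟩
          exact (Subgroup.mem_normalizer_iff.mp hv₀P b).mp (hyP hb)
        have heq : ((Subgroup.zpowers y).map (MulAut.conj v₀).toMonoidHom).subgroupOf (P : Subgroup G) =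
            (Subgroup.zpowers y).subgroupOf (P : Subgroup G) := by
          refine Basics.cyclic_subgroup_eq_of_card_eq ?_
          rw [Basics.card_subgroupOf hle, Basics.card_subgroupOf hyP]
          exact Subgroup.card_map_of_injective (MulAut.conj v₀).injective
        have h2 : (⟨v₀ * a * v₀⁻¹, (Subgroup.mem_normalizer_iff.mp hv₀P a).mp (hyP ha)⟩ : (P : Subgroup G)) ∈
            (Subgroup.zpowers y).subgroupOf (P : Subgroup G) := heq ▸ (show v₀ * a * v₀⁻¹ ∈ (Subgroup.zpowers y).map (MulAut.conj v₀).toMonoidHom from ⟨a, ha, rfl⟩)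
        exact h2
      have hvM : (v : G) ∈ M := hNM v.2
      have hXM : X ≤ M := sup_le (Subgroup.zpowers_le.mpr (hPM w.2)) (Subgroup.zpowers_le.mpr (pow_mem hvM k))
      have hcardX : Nat.card X = p * q' := by
        have h1 := Basics.card_mul_card_eq_card_sup_mul_card_inf
          (Subgroup.zpowers_le.mpr hv₀N : Subgroup.zpowers v₀ ≤ Subgroup.normalizer (Subgroup.zpowers y : Set G))
        have h2 : Subgroup.zpowers y ⊓ Subgroup.zpowers v₀ = ⊥ := Subgroup.card_eq_one.mp (Nat.eq_one_of_dvd_coprimes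
          ((Nat.coprime_primes hp hq').mpr hne) (by rw [← hyo, ← Nat.card_zpowers]; exact Subgroup.card_dvd_of_le inf_le_left)
          (by rw [← hk, ← Nat.card_zpowers]; exact Subgroup.card_dvd_of_le inf_le_right))
        rw [h2, Subgroup.card_bot, mul_one, Nat.card_zpowers, Nat.card_zpowers, hyo, hk] at h1
        exact h1.symm
      obtain ⟨r, hr, hrF⟩ := Nat.exists_prime_and_dvd (mt Subgroup.card_eq_one.mp hFne)
      have : Fact r.Prime := ⟨hr⟩
      -- `X` acts freely on an abelian normal subgroup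
      set Z := (Subgroup.center F).map F.subtype with hZ
      have hZne : Z ≠ ⊥ := by
        have := hFmax.1
        have : Nontrivial F := (Subgroup.nontrivial_iff_ne_bot _).mpr hFne
        exact fun e => Group.IsNilpotent.center_ne_bot F ((Subgroup.map_eq_bot_iff_of_injective _ F.subtype_injective).mp e)
      have hZc : IsMulCommutative Z := isMulCommutative_map inferInstance _
      have hZF : Z ≤ F := Subgroup.map_subtype_le _
      have hMZ : M ≤ Subgroup.normalizer (Z : Set G) := by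
        intro m hm
        refine mem_normalizer_of_conj_mem ?_
        rintro _ ⟨c, hc, rfl⟩
        have hmF := le_normalizer_fittingOf M hm
        refine ⟨⟨m * c * m⁻¹, (Subgroup.mem_normalizer_iff.mp hmF c).mp c.2⟩, Subgroup.mem_center_iff.mpr fun f => ?_, rfl⟩
        refine Subtype.ext ?_
        have hf : m⁻¹ * f * m ∈ F := by
          simpa using (Subgroup.mem_normalizer_iff.mp (inv_mem hmF) f).mp f.2
        have h3 : (m⁻¹ * f * m) * c = c * (m⁻¹ * f * m) :=
          congrArg Subtype.val (Subgroup.mem_center_iff.mp hc ⟨_, hf⟩)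
        change (f : G) * (m * c * m⁻¹) = m * c * m⁻¹ * f
        calc (f : G) * (m * c * m⁻¹) = m * ((m⁻¹ * f * m) * c) * m⁻¹ := by group
          _ = m * (c * (m⁻¹ * f * m)) * m⁻¹ := by rw [h3]
          _ = m * c * m⁻¹ * f := by group
      have hXcomm : IsMulCommutative X := by
        refine Basics.fpf_pq_commutative X Z hZne (hXM.trans hMZ) (fun a ha ha1 => ?_) hp hq' hcardX
        refine le_bot_iff.mp ((inf_le_inf_right _ hZF).trans (hfree a (hXM ha) ha1 fun haF => ?_).le)
        -- an element of `X` inside `F` has order `q`, so commutes with `y`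
        have hyF : y ∉ F := hnotF (fun e => hp.ne_one (by rw [← hyo, e, orderOf_one]))
          ⟨1, by rw [pow_one, ← hyo]; exact pow_orderOf_eq_one y⟩
        have hXF : ∀ b ∈ X ⊓ F, b = 1 := by
          intro b hb
          by_contra hb1
          have hXq : Nat.card ↥(X ⊓ F) = q' := by
            have h1 : Nat.card ↥(X ⊓ F) ∣ p * q' := hcardX ▸ Subgroup.card_dvd_of_le inf_le_left
            have h2 : (Nat.card ↥(X ⊓ F)).Coprime p :=
              ((hp.coprime_iff_not_dvd.mpr hpF).symm).coprime_dvd_left (Subgroup.card_dvd_of_le inf_le_right)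
            rcases (Nat.dvd_prime hq').mp (h2.dvd_of_dvd_mul_left h1) with e | e
            · exact absurd (Subgroup.mem_bot.mp ((Subgroup.card_eq_one.mp e) ▸ hb)) hb1
            · exact e
          have hqF : q' ∣ Nat.card F := hXq ▸ Subgroup.card_dvd_of_le inf_le_right
          obtain ⟨U, hU⟩ := hFmax.exists_sylow hCN hqF
          have hv₀F : v₀ ∈ F := by
            refine hU ?_
            have h3 : IsPGroup q' ((U : Subgroup G) ⊔ Subgroup.zpowers v₀ : Subgroup G) := by
              refine U.2.to_sup_of_normal_left' (isPGroup_zpowers_of_orderOf (n := 1) (by rw [pow_one, hk]))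
                (Subgroup.zpowers_le.mpr ?_)
              refine mem_normalizer_of_conj_mem fun c hc => ?_
              have hvF := le_normalizer_fittingOf M (pow_mem hvM k)
              exact pGroup_le_sylow_of_nilpotent hFmax.1 U hU (Q := (U : Subgroup G).map (MulAut.conj v₀).toMonoidHom)
                (by rintro _ ⟨e, he, rfl⟩; exact (Subgroup.mem_normalizer_iff.mp hvF e).mp (hU he))
                (U.2.map _) ⟨c, hc, rfl⟩
            exact (U.3 h3 le_sup_left) ▸ Subgroup.mem_sup_right (Subgroup.mem_zpowers v₀)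
          have h5 : ⁅y, v₀⁆ = 1 := by
            refine orderOf_eq_one_iff.mp (Nat.eq_one_of_dvd_coprimes (hp.coprime_iff_not_dvd.mpr hpF)
              ?_ (Subgroup.orderOf_dvd_natCard F ?_))
            · rw [← hyo, ← Nat.card_zpowers y]
              refine Subgroup.orderOf_dvd_natCard _ ?_
              rw [commutatorElement_def, mul_assoc, mul_assoc]
              exact mul_mem (Subgroup.mem_zpowers y)
                (by simpa [mul_assoc] using (Subgroup.mem_normalizer_iff.mp hv₀N _).mp (inv_mem (Subgroup.mem_zpowers y)))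
            · rw [commutatorElement_def]
              exact mul_mem ((Subgroup.mem_normalizer_iff.mp (le_normalizer_fittingOf M (hPM w.2)) _).mp hv₀F) (inv_mem hv₀F)
          exact hyF (centralizer_le_fitting hG hCN hM hv₀F hv₀1 (Subgroup.mem_centralizer_singleton_iff.mpr
            (commutatorElement_eq_one_iff_mul_comm.mp h5)))
        exact ha1 (hXF a ⟨ha, haF⟩)
      have hvy : v₀ * y = y * v₀ := congrArg Subtype.val (hXcomm.is_comm.comm
        ⟨v₀, Subgroup.mem_sup_right (Subgroup.mem_zpowers v₀)⟩ ⟨y, Subgroup.mem_sup_left (Subgroup.mem_zpowers y)⟩)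
      -- `v₀` centralizes `P` by Ω
      have hv₀P : ∀ s ∈ (P : Subgroup G), v₀ * s = s * v₀ := by
        intro s hs
        have hn : v₀ ∈ Subgroup.normalizer ((P : Subgroup G) : Set G) := pow_mem v.2 k
        have hord : (orderOf (conjAut hn)).Coprime p := by
          refine Nat.Coprime.coprime_dvd_left (orderOf_dvd_of_pow_eq_one (n := q') (MulEquiv.ext fun z => Subtype.ext ?_))
            ((Nat.coprime_primes hq' hp).mpr hne.symm)
          rw [coe_conjAut_pow, show v₀ ^ q' = 1 by rw [← hk]; exact pow_orderOf_eq_one v₀]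
          simp
        have h1 := congrArg Subtype.val (Coprime23.fix_of_fix_omega P.2 hp2 (conjAut hn) hord (fun u hu => Subtype.ext (by
          have huy : (u : G) ∈ Subgroup.zpowers y := by
            rcases eq_or_ne u 1 with rfl | hu1
            · exact one_mem _
            have heq : Subgroup.zpowers u = Subgroup.zpowers w := Basics.cyclic_subgroup_eq_of_card_eq (by
              rw [Nat.card_zpowers, Nat.card_zpowers, hw, orderOf_eq_prime hu hu1])
            obtain ⟨i, hi⟩ : u ∈ Subgroup.zpowers w := heq ▸ Subgroup.mem_zpowers u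
            exact ⟨i, congrArg Subtype.val hi⟩
          obtain ⟨i, hi⟩ := huy
          change v₀ * (u : G) * v₀⁻¹ = u
          rw [← hi, ((show Commute v₀ y from hvy).zpow_right i).eq, mul_inv_cancel_right])) ⟨s, hs⟩)
        exact mul_inv_eq_iff_eq_mul.mp h1
      -- `v` and `P` lie in the nilpotent centralizer of `v₀`
      change (v : G) ∈ Subgroup.centralizer ((P : Subgroup G) : Set G)
      rw [Subgroup.mem_centralizer_iff]
      intro s hs
      obtain ⟨a, ha⟩ := P.2 ⟨s, hs⟩
      obtain ⟨b, hb⟩ := Q.2 ⟨v, hv⟩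
      exact (commute_of_orderOf (p := p) (q := q') (hCN v₀ hv₀1) hne
        (Subgroup.mem_centralizer_singleton_iff.mpr (hv₀P s hs).symm)
        (Subgroup.mem_centralizer_singleton_iff.mpr ((Commute.refl (v : G)).pow_right k).eq)
        (congrArg Subtype.val ha) (by simpa using congrArg (fun z : (Q : Subgroup N) => ((z : N) : G)) hb)).eq
    intro x hx
    have : (⟨x, hx⟩ : N) ∈ (Subgroup.centralizer ((P : Subgroup G) : Set G)).subgroupOf N := h ▸ Subgroup.mem_top _
    exact this
  obtain ⟨V, hV⟩ : ∃ V : Subgroup G, Cfsg.IsComplIn (P : Subgroup G) V N := by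
    have hPN : (P : Subgroup G) ≤ N := Subgroup.le_normalizer
    have hn : ((P : Subgroup G).subgroupOf N).Normal :=
      (Subgroup.normal_subgroupOf_iff_le_normalizer hPN).mpr le_rfl
    have hcop : (Nat.card ((P : Subgroup G).subgroupOf N)).Coprime ((P : Subgroup G).subgroupOf N).index := by
      obtain ⟨n, hn'⟩ := IsPGroup.iff_card.mp P.2
      rw [Basics.card_subgroupOf hPN, hn']
      exact ((hp.coprime_iff_not_dvd.mpr (fun hd' => P.not_dvd_index (hd'.trans (Subgroup.relIndex_dvd_index_of_le hPN)))).pow_left n)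
    obtain ⟨K, hK⟩ := Subgroup.exists_right_complement'_of_coprime hcop
    refine ⟨K.map N.subtype, hPN, Subgroup.map_subtype_le _, ?_, fun m hm => ?_⟩
    · rw [eq_bot_iff]
      rintro _ ⟨ha, b, hb, rfl⟩
      have : b ∈ (P : Subgroup G).subgroupOf N ⊓ K := ⟨ha, hb⟩
      rw [hK.disjoint.eq_bot, Subgroup.mem_bot] at this
      simp [this]
    · obtain ⟨a, ha, b, hb, e⟩ := Subgroup.mem_sup_of_normal_left.mp (hK.sup_eq_top.symm ▸ Subgroup.mem_top (⟨m, hm⟩ : N))
      exact ⟨a, ha, b, ⟨b, hb, rfl⟩, (congrArg Subtype.val e).symm⟩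
  have hPV := sylow_eq_commutator hG P hV
  have hbot : ⁅(P : Subgroup G), V⁆ = ⊥ := by
    rw [Subgroup.commutator_eq_bot_iff_le_centralizer, Subgroup.le_centralizer_iff]
    exact hV.2.1.trans hNC
  exact P.ne_bot_of_dvd_card hpG (hPV.trans hbot)

end CN

end Cfsg.Agent.OddLocal
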