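import Cfsg.Agent.Lib.OddLocal.CNSylowNormal
import Cfsg.Agent.Lib.OddLocal.CNQuotient
import Cfsg.Agent.Lib.OddLocal.RankTwo

/-! Solvable groups with nilpotent centralizers. -/

set_option autoImplicit false
set_option maxHeartbeats 800000

namespace Cfsg.Agent.OddLocal

variable {G : Type*} [Group G] [Finite G]

/-- If two primes divide the order of the Fitting subgroup, a Sylow subgroup is normal. -/
theorem exists_normal_sylow_of_two (hCN : Cfsg.IsCNGroup G) {p r : ℕ} [hp : Fact p.Prime] [hr : Fact r.Prime]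
    (hne : p ≠ r) (hpF : Cfsg.pCore p G ≠ ⊥) (hrF : Cfsg.pCore r G ≠ ⊥) :
    ∃ S : Sylow p G, (S : Subgroup G).Normal ∧ (S : Subgroup G) ≠ ⊥ := by
  obtain ⟨S⟩ : Nonempty (Sylow p G) := inferInstance
  have hPS : Cfsg.pCore p G ≤ (S : Subgroup G) := Basics.pCore_le_sylow p S
  haveI : Group.IsNilpotent (S : Subgroup G) := S.2.isNilpotent
  have hmeet := S0065.result ((Cfsg.pCore p G).subgroupOf (S : Subgroup G)) (fun h => hpF (le_bot_iff.mp fun t ht => by
    have : (⟨t, hPS ht⟩ : (S : Subgroup G)) ∈ (Cfsg.pCore p G).subgroupOf (S : Subgroup G) := ht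
    rw [h, Subgroup.mem_bot] at this
    exact Subgroup.mem_bot.mpr (congrArg Subtype.val this)))
  obtain ⟨z, hz, hz1⟩ := (Subgroup.bot_or_exists_ne_one _).resolve_left hmeet
  obtain ⟨u, hu, hu1⟩ := (Subgroup.bot_or_exists_ne_one _).resolve_left hrF
  have hN : Group.IsNilpotent (Subgroup.centralizer (Cfsg.pCore r G : Set G)) :=
    Basics.isNilpotent_of_le' (Subgroup.centralizer_le (Set.singleton_subset_iff.mpr hu)) (hCN u hu1)
  have hSN : (S : Subgroup G) ≤ Subgroup.centralizer (Cfsg.pCore r G : Set G) := by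
    intro s hs
    refine Subgroup.mem_centralizer_iff.mpr fun y hy => ?_
    obtain ⟨i, hi⟩ := S.2 ⟨s, hs⟩
    obtain ⟨j, hj⟩ := Basics.pCore_isPGroup (G := G) r ⟨y, hy⟩
    refine (commute_of_orderOf (p := p) (hCN (z : G) (fun h => hz1 (Subtype.ext h))) hne
      (Subgroup.mem_centralizer_singleton_iff.mpr (congrArg Subtype.val (Subgroup.mem_center_iff.mp hz.2 ⟨s, hs⟩)))
      (Subgroup.mem_centralizer_singleton_iff.mpr (Subgroup.commute_of_normal_of_disjoint _ _ inferInstance
        inferInstance (IsPGroup.disjoint_of_ne _ _ hne.symm _ _ (Basics.pCore_isPGroup r) (Basics.pCore_isPGroup p))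
        y _ hy hz.1).eq)
      (congrArg Subtype.val hi) (congrArg Subtype.val hj)).eq.symm
  haveI : (Subgroup.centralizer (Cfsg.pCore r G : Set G)).Normal := Subgroup.normal_centralizer
  have hSF : (S : Subgroup G) ≤ Cfsg.fittingSubgroup G := hSN.trans (Basics.le_fittingSubgroup hN)
  have heq : (S : Subgroup G) = Cfsg.pCore p G := by
    refine le_antisymm (fun s hs => ?_) hPS
    obtain ⟨i, hi⟩ := S.2 ⟨s, hs⟩
    exact mem_pCore_of_mem_fitting (hSF hs) ⟨i, congrArg Subtype.val hi⟩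
  exact ⟨S, by rw [heq]; infer_instance, by rw [heq]; exact hpF⟩

/-- An element of order prime to `p` has no fixed points on `O_p(G)` when `C(O_p(G)) ≤ O_p(G)`. -/
theorem fpf_of_coprime (hCN : Cfsg.IsCNGroup G) {p : ℕ} [hp : Fact p.Prime]
    (hc : Subgroup.centralizer (Cfsg.pCore p G : Set G) ≤ Cfsg.pCore p G) {a : G} (ha1 : a ≠ 1)
    (ha : (orderOf a).Coprime p) : Cfsg.pCore p G ⊓ Subgroup.centralizer ({a} : Set G) = ⊥ := by
  refine le_bot_iff.mp fun x hx => Subgroup.mem_bot.mpr ?_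
  by_contra hx1
  have hPp : IsPGroup p (Cfsg.pCore p G) := Basics.pCore_isPGroup p
  have hne : Nontrivial (Cfsg.pCore p G) :=
    (Subgroup.nontrivial_iff_ne_bot _).mpr fun h => hx1 (Subgroup.mem_bot.mp (h ▸ hx.1))
  haveI : Nontrivial (Subgroup.center (Cfsg.pCore p G)) := hPp.center_nontrivial
  obtain ⟨z, hz⟩ := exists_ne (1 : Subgroup.center (Cfsg.pCore p G))
  have hzc : ∀ w ∈ Cfsg.pCore p G, Commute w ((z : Cfsg.pCore p G) : G) := fun w hw =>
    congrArg Subtype.val (Subgroup.mem_center_iff.mp z.2 ⟨w, hw⟩)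
  have hcop : ∀ w ∈ Cfsg.pCore p G, (orderOf a).Coprime (orderOf w) := fun w hw => by
    obtain ⟨k, hk⟩ := hPp ⟨w, hw⟩
    exact (ha.pow_right k).coprime_dvd_right (orderOf_dvd_of_pow_eq_one (congrArg Subtype.val hk))
  have haz : Commute a ((z : Cfsg.pCore p G) : G) := Basics.commute_of_coprime_le (hCN x hx1)
    (Subgroup.mem_centralizer_singleton_iff.mpr (Subgroup.mem_centralizer_singleton_iff.mp hx.2).symm)
    (Subgroup.mem_centralizer_singleton_iff.mpr (hzc x hx.1).eq.symm) (hcop _ (z : Cfsg.pCore p G).2)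
  have haP : a ∈ Cfsg.pCore p G := hc (Subgroup.mem_centralizer_iff.mpr fun w hw =>
    (Basics.commute_of_coprime_le (hCN _ (fun h => hz (Subtype.ext (Subtype.ext h))))
      (Subgroup.mem_centralizer_singleton_iff.mpr haz.eq) (Subgroup.mem_centralizer_singleton_iff.mpr (hzc w hw).eq)
      (hcop w hw)).eq.symm)
  exact ha1 (orderOf_eq_one_iff.mp (Nat.eq_one_of_dvd_coprimes (hcop a haP) dvd_rfl dvd_rfl))

theorem isCyclic_of_nilpotent_fpf_odd {K E : Subgroup G} [K.Normal] (hK : K ≠ ⊥)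
    (hfpf : ∀ e ∈ E, e ≠ 1 → K ⊓ Subgroup.centralizer ({e} : Set G) = ⊥) (hodd : Odd (Nat.card E))
    (hn : Group.IsNilpotent E) : IsCyclic E := by
  haveI : IsZGroup E := ⟨fun q hq S => by
    haveI := Fact.mk hq
    haveI := isCyclic_of_fpf_odd hK hfpf hodd (Subgroup.map_subtype_le (S : Subgroup E)) (S.2.map E.subtype)
    exact isCyclic_of_injective ((S : Subgroup E).equivMapOfInjective E.subtype E.subtype_injective).toMonoidHom
      ((S : Subgroup E).equivMapOfInjective E.subtype E.subtype_injective).injective⟩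
  haveI := hn
  infer_instance

/-- Structure of a nilpotent fixed-point-free group. -/
theorem fpf_nilpotent_structure {K E : Subgroup G} [K.Normal] (hK : K ≠ ⊥)
    (hfpf : ∀ e ∈ E, e ≠ 1 → K ⊓ Subgroup.centralizer ({e} : Set G) = ⊥) (hn : Group.IsNilpotent E) :
    IsCyclic E ∨ ∃ C Q : Subgroup G, C ⊔ Q = E ∧ (∀ a ∈ C, ∀ b ∈ Q, a * b = b * a) ∧ IsCyclic C ∧
      Odd (Nat.card C) ∧ ∃ n : ℕ, Nonempty (↥Q ≃* QuaternionGroup (2 ^ n)) := by
  haveI : Fact (Nat.Prime 2) := ⟨Nat.prime_two⟩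
  haveI := hn
  by_cases hall : ∀ S : Sylow 2 E, IsCyclic S
  · refine Or.inl ?_
    haveI : IsZGroup E := ⟨fun q hq S => by
      haveI := Fact.mk hq
      rcases Basics.fpf_sylow_cyclic_or_quaternion K E hK hfpf q S with h | ⟨rfl, -⟩
      · exact h
      · exact hall S⟩
    infer_instance
  push Not at hall
  obtain ⟨S, hS⟩ := hall
  obtain ⟨n, hSn⟩ : ∃ n : ℕ, Nonempty (↥(S : Subgroup E) ≃* QuaternionGroup (2 ^ n)) := by
    rcases Basics.fpf_sylow_cyclic_or_quaternion K E hK hfpf 2 S with h | ⟨-, hq⟩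
    · exact absurd h hS
    · exact hq
  haveI : (S : Subgroup E).Normal :=
    Sylow.normal_of_normalizerCondition Group.normalizerCondition_of_isNilpotent _
  obtain ⟨C₀, hC⟩ := Subgroup.exists_right_complement'_of_coprime (N := (S : Subgroup E)) S.card_coprime_index
  refine Or.inr ⟨C₀.map E.subtype, (S : Subgroup E).map E.subtype, ?_, ?_, ?_, ?_, n, ?_⟩
  · rw [← Subgroup.map_sup, hC.symm.sup_eq_top, ← MonoidHom.range_eq_map, Subgroup.range_subtype]
  · rintro _ ⟨a, ha, rfl⟩ _ ⟨b, hb, rfl⟩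
    refine (Commute.map ?_ E.subtype).eq
    refine Transfer.commute_of_coprime_of_nilpotent ?_
    refine ((S.card_coprime_index.symm).coprime_dvd_left ?_).coprime_dvd_right (Subgroup.orderOf_dvd_natCard _ hb)
    exact (Subgroup.orderOf_dvd_natCard _ ha).trans (hC.symm.index_eq_card ▸ dvd_rfl)
  · have hodd : Odd (Nat.card (C₀.map E.subtype : Subgroup G)) := by
      rw [Subgroup.card_map_of_injective E.subtype_injective, ← hC.symm.index_eq_card, ← Nat.not_even_iff_odd,
        even_iff_two_dvd]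
      exact S.not_dvd_index' (by intro h; exact Subgroup.index_ne_zero_of_finite h)
    exact isCyclic_of_nilpotent_fpf_odd hK (fun e he => hfpf e (Subgroup.map_subtype_le _ he)) hodd
      (Basics.isNilpotent_of_le' (Subgroup.map_subtype_le _) hn)
  · rw [Subgroup.card_map_of_injective E.subtype_injective, ← hC.symm.index_eq_card, ← Nat.not_even_iff_odd,
      even_iff_two_dvd]
    exact S.not_dvd_index' (by intro h; exact Subgroup.index_ne_zero_of_finite h)
  · exact hSn.map fun e => (Subgroup.equivMapOfInjective _ _ E.subtype_injective).symm.trans e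

/-- The three-step configuration. -/
theorem threeStep_of_pCore (hCN : Cfsg.IsCNGroup G) [Group.IsSolvable G] {p : ℕ} [hp : Fact p.Prime]
    (hF : Cfsg.fittingSubgroup G = Cfsg.pCore p G) (hne : Cfsg.pCore p G ≠ ⊥)
    (hidx : p ∣ (Cfsg.pCore p G).index) : Cfsg.IsThreeStepGroup p G := by
  classical
  set P := Cfsg.pCore p G with hP
  have hPp : IsPGroup p P := Basics.pCore_isPGroup p
  have hc : Subgroup.centralizer (P : Set G) ≤ P := by
    rw [← hF]; exact Basics.centralizer_fittingSubgroup_le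
  set π := QuotientGroup.mk' P with hπ
  have hπs : Function.Surjective π := QuotientGroup.mk'_surjective P
  have hQCN : Cfsg.IsCNGroup (G ⧸ P) := isCN_quotient_pGroup hCN P hPp
  haveI : Group.IsSolvable (G ⧸ P) := Group.isSolvable_of_surjective hπs
  have hQcore : Cfsg.pCore p (G ⧸ P) = ⊥ := by
    have h : (Cfsg.pCore p (G ⧸ P)).comap π ≤ P :=
      Basics.le_pCore ((Basics.pCore_isPGroup p).comap_of_ker_isPGroup π (by rw [hπ, QuotientGroup.ker_mk']; exact hPp))
    refine le_bot_iff.mp fun y hy => ?_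
    obtain ⟨g, rfl⟩ := hπs y
    exact Subgroup.mem_bot.mpr ((QuotientGroup.eq_one_iff g).mpr (h hy))
  have hpQ : p ∣ Nat.card (G ⧸ P) := hidx
  haveI : Nontrivial (G ⧸ P) := Finite.one_lt_card_iff_nontrivial.mp
    (hp.out.one_lt.trans_le (Nat.le_of_dvd Nat.card_pos hpQ))
  set K := Cfsg.fittingSubgroup (G ⧸ P) with hK
  haveI hKn : K.Normal := by rw [hK, Basics.fittingSubgroup_eq_iSup_pCore]; infer_instance
  have hKnil : Group.IsNilpotent K := Basics.fittingSubgroup_isNilpotent
  have hKne : K ≠ ⊥ := Basics.fittingSubgroup_ne_bot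
  have hKp : ¬ p ∣ Nat.card K := fun hd => by
    obtain ⟨k, hk⟩ := exists_prime_orderOf_dvd_card' (G := K) p hd
    have h1 : (k : G ⧸ P) ∈ Cfsg.pCore p (G ⧸ P) :=
      mem_pCore_of_mem_fitting k.2 ⟨1, by
        have h := pow_orderOf_eq_one (k : G ⧸ P)
        rw [Subgroup.orderOf_coe, hk] at h
        rw [pow_one]; exact h⟩
    rw [hQcore, Subgroup.mem_bot] at h1
    exact hp.out.one_lt.ne (by rw [← hk, ← Subgroup.orderOf_coe, h1, orderOf_one])
  have hnotnil : ¬ Group.IsNilpotent (G ⧸ P) := fun h => by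
    obtain ⟨x, hx⟩ := exists_prime_orderOf_dvd_card' (G := G ⧸ P) p hpQ
    have : K = ⊤ := top_le_iff.mp (Basics.le_fittingSubgroup (N := (⊤ : Subgroup (G ⧸ P)))
      (by haveI := h; exact Group.nilpotent_of_mulEquiv Subgroup.topEquiv.symm))
    have hd := Subgroup.orderOf_dvd_natCard K (show x ∈ K by rw [this]; trivial)
    rw [hx] at hd
    exact hKp hd
  -- lifts of `p'`-subgroups act freely on `P`
  have hlift : ∀ L : Subgroup (G ⧸ P), ¬ p ∣ Nat.card L → ∃ A : Subgroup G, A ≤ L.comap π ∧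
      L.comap π = P ⊔ A ∧ Nat.card A = Nat.card L ∧ Group.IsNilpotent A ∧
      ∀ a ∈ A, a ≠ 1 → P ⊓ Subgroup.centralizer ({a} : Set G) = ⊥ := by
    intro L hL
    have hPL : P ≤ L.comap π := fun x hx => by
      rw [Subgroup.mem_comap, show π x = 1 from (QuotientGroup.eq_one_iff x).mpr hx]; exact one_mem L
    have hidxL : (P.subgroupOf (L.comap π)).index = Nat.card L := by
      have h1 : Nat.card ↥(L.comap π) = Nat.card L * Nat.card P := by
        have h2 := Basics.card_map_mul_card_inf_ker π (L.comap π)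
        rw [Subgroup.map_comap_eq_self_of_surjective hπs, hπ, QuotientGroup.ker_mk', ← hπ,
          inf_eq_right.mpr hPL] at h2
        exact h2.symm
      have h3 := Subgroup.card_mul_index (P.subgroupOf (L.comap π))
      rw [Basics.card_subgroupOf hPL, h1, mul_comm (Nat.card L)] at h3
      exact Nat.eq_of_mul_eq_mul_left Nat.card_pos h3
    obtain ⟨A₀, hA⟩ := Subgroup.exists_right_complement'_of_coprime (N := P.subgroupOf (L.comap π)) (by
      rw [Basics.card_subgroupOf hPL, hidxL]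
      obtain ⟨n, hn⟩ := hPp.exists_card_eq
      rw [hn]
      exact ((hp.out.coprime_iff_not_dvd).mpr hL).pow_left n)
    have hcard : Nat.card (A₀.map (L.comap π).subtype) = Nat.card L := by
      rw [Subgroup.card_map_of_injective (L.comap π).subtype_injective, ← hA.symm.index_eq_card, hidxL]
    have hfpf : ∀ a ∈ A₀.map (L.comap π).subtype, a ≠ 1 → P ⊓ Subgroup.centralizer ({a} : Set G) = ⊥ :=
      fun a ha ha1 => fpf_of_coprime hCN hc ha1
        ((Nat.coprime_comm.mp ((hp.out.coprime_iff_not_dvd).mpr hL)).coprime_dvd_left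
          (hcard ▸ Subgroup.orderOf_dvd_natCard _ ha))
    refine ⟨_, Subgroup.map_subtype_le _, ?_, hcard, isNilpotent_of_fpf hCN hne hfpf, hfpf⟩
    conv_lhs => rw [← Subgroup.range_subtype (L.comap π), MonoidHom.range_eq_map, ← hA.sup_eq_top, Subgroup.map_sup,
      Subgroup.map_subgroupOf_eq_of_le hPL]
  obtain ⟨A, hAle, hAsup, hAcard, hAnil, hAfpf⟩ := hlift K hKp
  have hKA : K = A.map π := by
    rw [← Subgroup.map_comap_eq_self_of_surjective hπs K, hAsup, Subgroup.map_sup, hπ, QuotientGroup.map_mk'_self,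
      bot_sup_eq]
  have hinj : Set.InjOn π (A : Set G) := by
    intro x hx y hy e
    have h1 : x⁻¹ * y ∈ P := QuotientGroup.eq.mp e
    have h2 : x⁻¹ * y ∈ A := mul_mem (inv_mem hx) hy
    by_contra hxy
    have hm : x⁻¹ * y ∈ P ⊓ Subgroup.centralizer ({x⁻¹ * y} : Set G) :=
      Subgroup.mem_inf.mpr ⟨h1, Subgroup.mem_centralizer_singleton_iff.mpr rfl⟩
    rw [hAfpf _ h2 (fun h => hxy (inv_mul_eq_one.mp h)), Subgroup.mem_bot] at hm
    exact hxy (inv_mul_eq_one.mp hm)
  have hAodd : Odd (Nat.card A) := by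
    rw [← Nat.not_even_iff_odd, even_iff_two_dvd]
    intro h2
    haveI : Fact (Nat.Prime 2) := ⟨Nat.prime_two⟩
    obtain ⟨i, hi⟩ := exists_prime_orderOf_dvd_card' (G := A) 2 h2
    have hio : orderOf (i : G) = 2 := by rw [Subgroup.orderOf_coe]; exact hi
    have hi1 : (i : G) ≠ 1 := fun h => by rw [h, orderOf_one] at hio; omega
    have hii : (i : G) * i = 1 := by rw [← pow_two, ← hio]; exact pow_orderOf_eq_one _
    have hzK : π i ∈ K := hKA ▸ ⟨i, i.2, rfl⟩
    have hz1 : π i ≠ 1 := fun h => hi1 (hinj i.2 (one_mem A) (by rw [h, map_one]))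
    refine hnotnil (?_ : Group.IsNilpotent (G ⧸ P))
    have htop : Subgroup.centralizer ({π i} : Set (G ⧸ P)) = ⊤ := by
      refine eq_top_iff.mpr fun g _ => Subgroup.mem_centralizer_singleton_iff.mpr ?_
      have hgz : g * π i * g⁻¹ ∈ K := hKn.conj_mem _ hzK g
      rw [hKA] at hgz
      obtain ⟨j, hj, hje⟩ := hgz
      have hj2 : j * j = 1 := hinj (mul_mem hj hj) (one_mem A) (by
        rw [map_mul, hje, map_one, show g * π i * g⁻¹ * (g * π i * g⁻¹) = g * (π i * π i) * g⁻¹ by group,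
          ← map_mul, hii, map_one]; group)
      have hj1 : j ≠ 1 := fun h => hz1 (by
        rw [h, map_one] at hje
        exact conj_eq_one_iff.mp hje.symm)
      rw [eq_of_fpf_involutions hne hAfpf hj i.2 hj2 hii hj1 hi1] at hje
      exact (eq_mul_inv_iff_mul_eq.mp hje).symm
    have hn := hQCN (π i) hz1
    rw [htop] at hn
    exact Group.nilpotent_of_mulEquiv Subgroup.topEquiv
  have hAcyc : IsCyclic A := isCyclic_of_nilpotent_fpf_odd hne hAfpf hAodd hAnil
  have hKc : ∀ u ∈ K, ∀ v ∈ K, u * v = v * u := by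
    intro u hu v hv
    rw [hKA] at hu hv
    obtain ⟨a, ha, rfl⟩ := hu
    obtain ⟨b, hb, rfl⟩ := hv
    letI := IsCyclic.commGroup (α := A)
    rw [← map_mul, ← map_mul]
    exact congrArg π (congrArg Subtype.val (mul_comm (G := A) ⟨a, ha⟩ ⟨b, hb⟩))
  have hCK : Subgroup.centralizer (K : Set (G ⧸ P)) ≤ K := Basics.centralizer_fittingSubgroup_le
  have hKodd : Odd (Nat.card K) := hAcard ▸ hAodd
  -- the elements of order prime to `p` of `G ⧸ P` lie in `K`
  have hprime : ∀ (r : ℕ), r.Prime → r ≠ p → ∀ y : G ⧸ P, (∃ k, y ^ r ^ k = 1) → y ∈ K := by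
    intro r hr hrp y hy
    haveI := Fact.mk hr
    obtain ⟨k, hk⟩ := hy
    obtain ⟨n, -, hn⟩ := (Nat.dvd_prime_pow hr).mp (orderOf_dvd_of_pow_eq_one hk)
    set R := Subgroup.zpowers y with hR
    have hRcard : Nat.card R = r ^ n := by rw [hR, Nat.card_zpowers, hn]
    have hL : ¬ p ∣ Nat.card ↥(K ⊔ R) := fun hd => by
      have h1 := Basics.card_mul_card_eq_card_sup_mul_card_inf (N := K) (H := R)
        (by rw [Subgroup.normalizer_eq_top]; exact le_top)
      have h2 : p ∣ Nat.card K * Nat.card R := h1 ▸ dvd_mul_of_dvd_left hd _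
      rcases hp.out.dvd_mul.mp h2 with h3 | h3
      · exact hKp h3
      · rw [hRcard] at h3
        exact hrp ((Nat.prime_dvd_prime_iff_eq hp.out hr).mp (hp.out.dvd_of_dvd_pow h3)).symm
    obtain ⟨B, hBle, hBsup, -, hBnil, hBfpf⟩ := hlift (K ⊔ R) hL
    have hBmap : K ⊔ R = B.map π := by
      rw [← Subgroup.map_comap_eq_self_of_surjective hπs (K ⊔ R), hBsup, Subgroup.map_sup, hπ,
        QuotientGroup.map_mk'_self, bot_sup_eq]
    have hLnil : Group.IsNilpotent ↥(K ⊔ R) := by
      rw [hBmap]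
      haveI := hBnil
      exact Group.nilpotent_of_surjective _ (π.subgroupMap_surjective B)
    refine hCK (Subgroup.mem_centralizer_iff.mpr fun v hv => ?_)
    have key : K ≤ Subgroup.centralizer ({y} : Set (G ⧸ P)) := by
      suffices h : (Subgroup.centralizer ({y} : Set (G ⧸ P))).subgroupOf K = ⊤ from
        fun w hw => Subgroup.mem_subgroupOf.mp (h.symm ▸ Subgroup.mem_top (⟨w, hw⟩ : K))
      refine Basics.eq_top_of_sylow_le _ fun s hs hsd => ?_
      obtain ⟨S⟩ : Nonempty (Sylow s K) := inferInstance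
      refine ⟨S, fun w hw => Subgroup.mem_subgroupOf.mpr (Subgroup.mem_centralizer_singleton_iff.mpr ?_)⟩
      obtain ⟨m, hm⟩ := S.2 ⟨w, hw⟩
      have hm' : (w : G ⧸ P) ^ s ^ m = 1 := congrArg (fun t : (S : Subgroup K) => ((t : K) : G ⧸ P)) hm
      by_cases hsr : s = r
      · subst hsr
        obtain ⟨b, hb, hbπ⟩ := hBmap ▸ (Subgroup.mem_sup_left w.2 : (w : G ⧸ P) ∈ K ⊔ R)
        obtain ⟨c, hc', hcπ⟩ := hBmap ▸ (Subgroup.mem_sup_right (Subgroup.mem_zpowers y) : y ∈ K ⊔ R)
        have hinjB : Set.InjOn π (B : Set G) := by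
          intro a₁ h₁ a₂ h₂ e
          by_contra hne'
          have hm2 : a₁⁻¹ * a₂ ∈ P ⊓ Subgroup.centralizer ({a₁⁻¹ * a₂} : Set G) := Subgroup.mem_inf.mpr
            ⟨QuotientGroup.eq.mp e, Subgroup.mem_centralizer_singleton_iff.mpr rfl⟩
          rw [hBfpf _ (mul_mem (inv_mem h₁) h₂) (fun h => hne' (inv_mul_eq_one.mp h)), Subgroup.mem_bot] at hm2
          exact hne' (inv_mul_eq_one.mp hm2)
        have hbo : b ^ s ^ m = 1 := hinjB (pow_mem hb _) (one_mem B) (by rw [map_pow, hbπ, hm', map_one])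
        have hco : c ^ s ^ k = 1 := hinjB (pow_mem hc' _) (one_mem B) (by rw [map_pow, hcπ, hk, map_one])
        haveI := hBnil
        haveI : Fact s.Prime := ⟨hs.out⟩
        obtain ⟨T⟩ : Nonempty (Sylow s B) := inferInstance
        have hTn : (T : Subgroup B).Normal :=
          Sylow.normal_of_normalizerCondition Group.normalizerCondition_of_isNilpotent _
        haveI := hTn
        have hmem : ∀ d (hd : d ∈ B) (i : ℕ), d ^ s ^ i = 1 → (⟨d, hd⟩ : B) ∈ (T : Subgroup B) := fun d hd i hi =>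
          mem_of_hall_normal ((Nat.Coprime.pow_left i ((hs.out.coprime_iff_not_dvd).mpr
            (T.not_dvd_index' (by intro h; exact Subgroup.index_ne_zero_of_finite h)))).coprime_dvd_left
            (orderOf_dvd_of_pow_eq_one (Subtype.ext hi)))
        have hs2 : s ≠ 2 := fun e => by
          rw [e] at hsd
          exact Nat.not_even_iff_odd.mpr hKodd (even_iff_two_dvd.mpr hsd)
        have hTc : IsCyclic (T : Subgroup B) := by
          rcases Basics.fpf_sylow_cyclic_or_quaternion P B hne hBfpf s T with h | ⟨h, -⟩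
          · exact h
          · exact absurd h hs2
        letI := IsCyclic.commGroup (α := (T : Subgroup B))
        have := congrArg (fun t : (T : Subgroup B) => π ((t : B) : G))
          (mul_comm (G := (T : Subgroup B)) ⟨_, hmem b hb m hbo⟩ ⟨_, hmem c hc' k hco⟩)
        simpa [hbπ, hcπ] using this
      · exact (commute_of_orderOf (p := s) hLnil hsr (Subgroup.mem_sup_left w.2)
          (Subgroup.mem_sup_right (Subgroup.mem_zpowers y)) hm' hk).eq
    exact Subgroup.mem_centralizer_singleton_iff.mp (key hv)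
  have hApp : ∀ x : G, π x ∈ K → x ∈ P ⊔ A := fun x hx => hAsup ▸ (show x ∈ K.comap π from hx)
  have hn : (P ⊔ A).Normal := hAsup ▸ Subgroup.Normal.comap hKn π
  have hidxA : (P ⊔ A).index = K.index := by rw [← hAsup, Subgroup.index_comap_of_surjective _ hπs]
  refine ⟨hne, A, ?_, hAcyc, hAodd, ?_, hn, ?_, ?_, hAfpf, ?_⟩
  · intro h
    rw [h, Subgroup.card_bot] at hAcard
    exact hKne (Subgroup.card_eq_one.mp hAcard.symm)
  · rw [hAcard]
    exact (Nat.coprime_comm.mp ((hp.out.coprime_iff_not_dvd).mpr hKp))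
  · intro h
    have h1 : K.index = 1 := by rw [← hidxA, h, Subgroup.index_top]
    obtain ⟨x, hx⟩ := exists_prime_orderOf_dvd_card' (G := G ⧸ P) p hpQ
    have hd := Subgroup.orderOf_dvd_natCard K (show x ∈ K by rw [Subgroup.index_eq_one.mp h1]; trivial)
    rw [hx] at hd
    exact hKp hd
  · rw [hidxA]
    refine ⟨_, Nat.eq_prime_pow_of_unique_prime_dvd Subgroup.index_ne_zero_of_finite fun {q} hq hqd => ?_⟩
    by_contra hqp
    haveI := Fact.mk hq
    haveI := hKn
    obtain ⟨S⟩ : Nonempty (Sylow q (G ⧸ P)) := inferInstance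
    have hSK : (S : Subgroup (G ⧸ P)) ≤ K := fun y hy => by
      obtain ⟨i, hi⟩ := S.2 ⟨y, hy⟩
      exact hprime q hq hqp y ⟨i, congrArg Subtype.val hi⟩
    exact S.not_dvd_index' (by intro h; exact Subgroup.index_ne_zero_of_finite h)
      (hqd.trans (Subgroup.index_dvd_of_le hSK))
  · intro x hx a ha ha1 hmem
    refine hx (hApp x ?_)
    have hcomm : Commute (π x) (π a) := by
      have h := (QuotientGroup.eq_one_iff (N := P) _).mpr hmem
      change π (x * a * x⁻¹ * a⁻¹) = 1 at h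
      rw [map_mul, map_mul, map_mul, map_inv, map_inv] at h
      exact mul_inv_eq_iff_eq_mul.mp (mul_inv_eq_one.mp h)
    have ha1' : π a ≠ 1 := fun h => ha1 (hinj ha (one_mem A) (by rw [h, map_one]))
    have hKC : K ≤ Subgroup.centralizer ({π a} : Set (G ⧸ P)) := fun w hw =>
      Subgroup.mem_centralizer_singleton_iff.mpr (hKc w hw _ (hKA ▸ ⟨a, ha, rfl⟩))
    suffices h : Subgroup.zpowers (π x) ≤ K from h (Subgroup.mem_zpowers _)
    suffices h : K.subgroupOf (Subgroup.zpowers (π x)) = ⊤ from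
      fun w hw => Subgroup.mem_subgroupOf.mp (h.symm ▸ Subgroup.mem_top (⟨w, hw⟩ : Subgroup.zpowers (π x)))
    refine Basics.eq_top_of_sylow_le _ fun s hs hsd => ?_
    obtain ⟨S⟩ : Nonempty (Sylow s (Subgroup.zpowers (π x))) := inferInstance
    refine ⟨S, fun w hw => Subgroup.mem_subgroupOf.mpr ?_⟩
    obtain ⟨m, hm⟩ := S.2 ⟨w, hw⟩
    have hm' : (w : G ⧸ P) ^ s ^ m = 1 :=
      congrArg (fun t : (S : Subgroup (Subgroup.zpowers (π x))) => ((t : Subgroup.zpowers (π x)) : G ⧸ P)) hm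
    by_cases hsp : s = p
    · subst hsp
      obtain ⟨i, hi⟩ := w.2
      have hwC : (w : G ⧸ P) ∈ Subgroup.centralizer ({π a} : Set (G ⧸ P)) := by
        rw [← hi]; exact Subgroup.mem_centralizer_singleton_iff.mpr (hcomm.zpow_left i).eq
      refine hCK (Subgroup.mem_centralizer_iff.mpr fun v hv => ?_)
      exact (Basics.commute_of_coprime_le (hQCN _ ha1') (hKC hv) hwC
        (((((hs.out.coprime_iff_not_dvd).mpr hKp).pow_left m).coprime_dvd_left
          (orderOf_dvd_of_pow_eq_one hm')).coprime_dvd_right (Subgroup.orderOf_dvd_natCard K hv)).symm).eq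
    · exact hprime s hs.out hsp _ ⟨m, hm'⟩

/-- The trichotomy for solvable groups with nilpotent centralizers. -/
theorem cn_solvable_trichotomy (hCN : Cfsg.IsCNGroup G) [Group.IsSolvable G] (hnn : ¬ Group.IsNilpotent G) :
    (∃ (p : ℕ) (S : Sylow p G), p.Prime ∧ (S : Subgroup G).Normal ∧ (S : Subgroup G) ≠ ⊥) ∨
      ∃ p : ℕ, p.Prime ∧ Cfsg.IsThreeStepGroup p G := by
  haveI : Nontrivial G := by
    by_contra h
    rw [not_nontrivial_iff_subsingleton] at h
    exact hnn inferInstance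
  obtain ⟨p, E, hp, hEn, hEne, hEp⟩ := Basics.exists_normal_pGroup (G := G)
  haveI := Fact.mk hp
  have hne : Cfsg.pCore p G ≠ ⊥ := fun h => hEne (le_bot_iff.mp (h ▸ Basics.le_pCore hEp))
  by_cases htwo : ∃ r : ℕ, r.Prime ∧ r ≠ p ∧ Cfsg.pCore r G ≠ ⊥
  · obtain ⟨r, hr, hrp, hrne⟩ := htwo
    haveI := Fact.mk hr
    obtain ⟨S, hS⟩ := exists_normal_sylow_of_two hCN hrp.symm hne hrne
    exact Or.inl ⟨p, S, hp, hS⟩
  push Not at htwo
  have hF : Cfsg.fittingSubgroup G = Cfsg.pCore p G := by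
    refine le_antisymm ?_ (Basics.pCore_le_fittingSubgroup p)
    rw [Basics.fittingSubgroup_eq_iSup_pCore]
    refine iSup_le fun q => ?_
    by_cases hq : (q : ℕ) = p
    · rw [hq]
    · rw [htwo q q.2 hq]; exact bot_le
  by_cases hd : p ∣ (Cfsg.pCore p G).index
  · exact Or.inr ⟨p, hp, threeStep_of_pCore hCN hF hne hd⟩
  obtain ⟨n, hn⟩ := (Basics.pCore_isPGroup (G := G) p).exists_card_eq
  exact Or.inl ⟨p, (Basics.pCore_isPGroup p).toSylow hd, hp, inferInstanceAs (Cfsg.pCore p G).Normal, hne⟩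

end Cfsg.Agent.OddLocal
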