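import Cfsg.Agent.Lib.OddLocal.CNFpf
import Cfsg.Agent.S0065
import Cfsg.Prelude.Def_OddOrderLocal
import Cfsg.Prelude.Def_Solvable

/-! Groups with nilpotent centralizers and a normal Sylow subgroup. -/

set_option autoImplicit false

namespace Cfsg.Agent.OddLocal

open scoped Pointwise

variable {G : Type*} [Group G] [Finite G]

/-- A normal subgroup of coprime order and index contains the elements of order prime to the index. -/
theorem mem_of_hall_normal {N : Subgroup G} [N.Normal] {x : G}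
    (h : (orderOf x).Coprime N.index) : x ∈ N := by
  rw [← QuotientGroup.eq_one_iff]
  refine orderOf_eq_one_iff.mp (Nat.eq_one_of_dvd_coprimes h (orderOf_map_dvd (QuotientGroup.mk' N) x) ?_)
  exact orderOf_dvd_natCard (G := G ⧸ N) _

variable (hCN : Cfsg.IsCNGroup G) {p : ℕ} [hp : Fact p.Prime] (P : Sylow p G) (hP1 : (P : Subgroup G) ≠ ⊥)
  (hPn : (P : Subgroup G).Normal)
include hCN hP1 hPn

theorem centralizer_sylow_le_fitting :
    Subgroup.centralizer ((P : Subgroup G) : Set G) ≤ Cfsg.fittingSubgroup G := by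
  have := hPn
  obtain ⟨u, hu, hu1⟩ := (Subgroup.bot_or_exists_ne_one (P : Subgroup G)).resolve_left hP1
  exact Basics.le_fittingSubgroup (Basics.isNilpotent_of_le'
    (Subgroup.centralizer_le (Set.singleton_subset_iff.mpr hu)) (hCN u hu1))

theorem fitting_hall : (Nat.card (Cfsg.fittingSubgroup G)).Coprime (Cfsg.fittingSubgroup G).index := by
  have := hPn
  have hPF : (P : Subgroup G) ≤ Cfsg.fittingSubgroup G := Basics.le_fittingSubgroup P.2.isNilpotent
  refine Nat.coprime_of_dvd fun q hq hqF hqi => ?_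
  haveI := Fact.mk hq
  have hqp : q ≠ p := by
    rintro rfl
    exact P.not_dvd_index' (by intro h; exact Subgroup.index_ne_zero_of_finite h) (hqi.trans (Subgroup.index_dvd_of_le hPF))
  obtain ⟨x, hx⟩ := exists_prime_orderOf_dvd_card' (G := Cfsg.fittingSubgroup G) q hqF
  obtain ⟨S⟩ : Nonempty (Sylow q G) := inferInstance
  have hFnil : Group.IsNilpotent (Cfsg.fittingSubgroup G) := Basics.fittingSubgroup_isNilpotent
  obtain ⟨T⟩ : Nonempty (Sylow q (Cfsg.fittingSubgroup G)) := inferInstance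
  have hTn : (T : Subgroup (Cfsg.fittingSubgroup G)).Normal :=
    Sylow.normal_of_normalizerCondition Group.normalizerCondition_of_isNilpotent _
  set U : Subgroup G := (T : Subgroup (Cfsg.fittingSubgroup G)).map (Cfsg.fittingSubgroup G).subtype with hU
  haveI : (T : Subgroup (Cfsg.fittingSubgroup G)).Characteristic := T.characteristic_of_normal hTn
  haveI : (Cfsg.fittingSubgroup G).Normal := by rw [Basics.fittingSubgroup_eq_iSup_pCore]; infer_instance
  haveI hUn : U.Normal := ConjAct.normal_of_characteristic_of_normal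
  have hUne : U ≠ ⊥ := fun h => T.ne_bot_of_dvd_card hqF
    ((Subgroup.map_eq_bot_iff_of_injective _ (Cfsg.fittingSubgroup G).subtype_injective).mp h)
  have hUS : U ≤ (S : Subgroup G) := by
    obtain ⟨S', hS'⟩ := (T.2.map (Cfsg.fittingSubgroup G).subtype).exists_le_sylow
    obtain ⟨g, rfl⟩ := MulAction.exists_smul_eq G S' S
    intro y hy
    change y ∈ MulAut.conj g • (S' : Subgroup G)
    rw [Basics.mem_conj_smul]
    exact hS' (show g⁻¹ * y * g ∈ U by simpa using hUn.conj_mem y hy g⁻¹)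
  -- an element of `U` central in `S`
  haveI : Nontrivial (U.subgroupOf (S : Subgroup G)) :=
    (Subgroup.nontrivial_iff_ne_bot _).mpr (fun h => hUne (le_bot_iff.mp (fun y hy => by
      have : (⟨y, hUS hy⟩ : (S : Subgroup G)) ∈ U.subgroupOf (S : Subgroup G) := hy
      rw [h, Subgroup.mem_bot] at this
      exact Subgroup.mem_bot.mpr (congrArg Subtype.val this))))
  obtain ⟨z, hzU, hzc, hz1⟩ : ∃ z : (S : Subgroup G), z ∈ U.subgroupOf (S : Subgroup G) ∧
      z ∈ Subgroup.center (S : Subgroup G) ∧ z ≠ 1 := by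
    haveI : Group.IsNilpotent (S : Subgroup G) := S.2.isNilpotent
    have := S0065.result (U.subgroupOf (S : Subgroup G))
      (fun h => by
        have h' : Nontrivial (U.subgroupOf (S : Subgroup G)) := inferInstance
        rw [h] at h'
        exact false_of_nontrivial_of_subsingleton (⊥ : Subgroup (S : Subgroup G)))
    obtain ⟨z, hz, hz1⟩ := (Subgroup.bot_or_exists_ne_one _).resolve_left this
    exact ⟨z, hz.1, hz.2, hz1⟩
  have hz1' : (z : G) ≠ 1 := fun h => hz1 (Subtype.ext h)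
  have hzF : (z : G) ∈ Cfsg.fittingSubgroup G := Subgroup.map_subtype_le _ hzU
  obtain ⟨k, hk⟩ := S.2 z
  have hk' : (z : G) ^ q ^ k = 1 := congrArg Subtype.val hk
  have hcop : ∀ (y : G) (j : ℕ) (w : G) (i : ℕ), y ^ p ^ j = 1 → w ^ q ^ i = 1 → (orderOf y).Coprime (orderOf w) :=
    fun y j w i h1 h2 => ((((Nat.coprime_primes hp.out hq).mpr hqp.symm).pow j i).coprime_dvd_left
      (orderOf_dvd_of_pow_eq_one h1)).coprime_dvd_right (orderOf_dvd_of_pow_eq_one h2)
  have hSle : (S : Subgroup G) ≤ Subgroup.centralizer ((P : Subgroup G) : Set G) := by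
    intro s hs
    refine Subgroup.mem_centralizer_iff.mpr fun y hy => ?_
    obtain ⟨j, hj⟩ := P.2 ⟨y, hy⟩
    have hj' : y ^ p ^ j = 1 := congrArg Subtype.val hj
    obtain ⟨i, hi⟩ := S.2 ⟨s, hs⟩
    refine (Basics.commute_of_coprime_le (hCN (z : G) hz1') ?_ ?_ (hcop y j s i hj' (congrArg Subtype.val hi))).eq
    · exact Subgroup.mem_centralizer_singleton_iff.mpr
        (Basics.commute_of_coprime_le hFnil (hPF hy) hzF (hcop y j z k hj' hk')).eq
    · exact Subgroup.mem_centralizer_singleton_iff.mpr (congrArg Subtype.val (Subgroup.mem_center_iff.mp hzc ⟨s, hs⟩))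
  exact S.not_dvd_index' (by intro h; exact Subgroup.index_ne_zero_of_finite h)
    (hqi.trans (Subgroup.index_dvd_of_le (hSle.trans (centralizer_sylow_le_fitting hCN P hP1 hPn))))

/-- An element commuting with a nonidentity element of the Fitting subgroup lies in it. -/
theorem centralizer_le_fittingSubgroup {x : G} (hx : x ∈ Cfsg.fittingSubgroup G) (hx1 : x ≠ 1) :
    Subgroup.centralizer ({x} : Set G) ≤ Cfsg.fittingSubgroup G := by
  set F := Cfsg.fittingSubgroup G with hF
  have := hPn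
  haveI hFn : F.Normal := by rw [hF, Basics.fittingSubgroup_eq_iSup_pCore]; infer_instance
  have hPF : (P : Subgroup G) ≤ F := Basics.le_fittingSubgroup P.2.isNilpotent
  have hFnil : Group.IsNilpotent F := Basics.fittingSubgroup_isNilpotent
  have hhall := fitting_hall hCN P hP1 hPn
  obtain ⟨r, k, hr, -, hk⟩ := exists_pow_prime_order hx1
  haveI := Fact.mk hr
  -- central element of `F` of order a power of `r`
  obtain ⟨T⟩ : Nonempty (Sylow r F) := inferInstance
  have hTn : (T : Subgroup F).Normal :=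
    Sylow.normal_of_normalizerCondition Group.normalizerCondition_of_isNilpotent _
  have hxk : x ^ k ∈ F := pow_mem hx k
  have hrF : r ∣ Nat.card F := hk ▸ Subgroup.orderOf_dvd_natCard F hxk
  haveI : Nontrivial (T : Subgroup F) := (Subgroup.nontrivial_iff_ne_bot _).mpr (T.ne_bot_of_dvd_card hrF)
  haveI : Nontrivial (Subgroup.center (T : Subgroup F)) := T.2.center_nontrivial
  obtain ⟨w, hw⟩ := exists_ne (1 : Subgroup.center (T : Subgroup F))
  set v : G := (((w : (T : Subgroup F)) : F) : G) with hv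
  have hv1 : v ≠ 1 := fun h => hw (Subtype.ext (Subtype.ext (Subtype.ext h)))
  obtain ⟨j, hj⟩ := T.2 (w : (T : Subgroup F))
  have hvj : v ^ r ^ j = 1 := congrArg (fun t : (T : Subgroup F) => ((t : F) : G)) hj
  have hcomm : ∀ f ∈ F, ∀ m, f ^ r ^ m = 1 → v * f = f * v := by
    intro f hf m hm
    have hfT : (⟨f, hf⟩ : F) ∈ (T : Subgroup F) := by
      refine mem_of_hall_normal ((Nat.Coprime.pow_left m ((hr.coprime_iff_not_dvd).mpr
        (T.not_dvd_index' (by intro h; exact Subgroup.index_ne_zero_of_finite h)))).coprime_dvd_left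
        (orderOf_dvd_of_pow_eq_one (Subtype.ext hm)))
    exact congrArg (fun t : (T : Subgroup F) => ((t : F) : G)) (Subgroup.mem_center_iff.mp w.2 ⟨⟨f, hf⟩, hfT⟩).symm
  have hvF : v ∈ F := ((w : (T : Subgroup F)) : F).2
  have hFv : F ≤ Subgroup.centralizer ({v} : Set G) :=
    le_centralizer_of_central (p := r) hFnil hvF ⟨j, hvj⟩ fun y hy ⟨m, hm⟩ => (hcomm y hy m hm).symm
  intro e he
  refine (?_ : (Subgroup.zpowers e) ≤ F) (Subgroup.mem_zpowers e)
  suffices h : F.subgroupOf (Subgroup.zpowers e) = ⊤ from fun y hy => Subgroup.mem_subgroupOf.mp (h.symm ▸ Subgroup.mem_top (⟨y, hy⟩ : Subgroup.zpowers e))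
  refine Basics.eq_top_of_sylow_le _ fun s hs hsd => ?_
  obtain ⟨S⟩ : Nonempty (Sylow s (Subgroup.zpowers e)) := inferInstance
  refine ⟨S, fun y hy => Subgroup.mem_subgroupOf.mpr ?_⟩
  obtain ⟨m, hm⟩ := S.2 ⟨y, hy⟩
  have hym : (y : G) ^ s ^ m = 1 := congrArg (fun t : (S : Subgroup (Subgroup.zpowers e)) => ((t : Subgroup.zpowers e) : G)) hm
  by_cases hsF : s ∣ Nat.card F
  · refine mem_of_hall_normal ((Nat.Coprime.pow_left m ((hs.out.coprime_iff_not_dvd).mpr fun hd => ?_)).coprime_dvd_left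
      (orderOf_dvd_of_pow_eq_one hym))
    exact hs.out.one_lt.ne' (Nat.eq_one_of_dvd_coprimes hhall hsF hd)
  obtain ⟨i, hi⟩ := y.2
  have hyx : (y : G) ∈ Subgroup.centralizer ({x ^ k} : Set G) := by
    have he' : Commute e x := Subgroup.mem_centralizer_singleton_iff.mp he
    refine Subgroup.mem_centralizer_singleton_iff.mpr ?_
    rw [← hi]
    exact ((he'.pow_right k).zpow_left i).eq
  have hxk1 : x ^ k ≠ 1 := fun h => hr.one_lt.ne (by rw [← hk, h, orderOf_one])
  have hvx : v ∈ Subgroup.centralizer ({x ^ k} : Set G) :=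
    Subgroup.mem_centralizer_singleton_iff.mpr (hcomm _ hxk 1 (by rw [pow_one, ← hk, pow_orderOf_eq_one]))
  have hsr : s ≠ r := fun h => hsF (h ▸ hrF)
  have hyv : Commute (y : G) v := Basics.commute_of_coprime_le (hCN _ hxk1) hyx hvx
    (((((Nat.coprime_primes hs.out hr).mpr hsr).pow m j).coprime_dvd_left (orderOf_dvd_of_pow_eq_one hym)).coprime_dvd_right
      (orderOf_dvd_of_pow_eq_one hvj))
  refine centralizer_sylow_le_fitting hCN P hP1 hPn (Subgroup.mem_centralizer_iff.mpr fun u hu => ?_)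
  refine (Basics.commute_of_coprime_le (hCN v hv1) (hFv (hPF hu))
    (Subgroup.mem_centralizer_singleton_iff.mpr hyv.eq) ?_).eq
  obtain ⟨l, hl⟩ := P.2 ⟨u, hu⟩
  have hpF : p ∣ Nat.card F := by
    obtain ⟨n, hn⟩ := P.2.exists_card_eq
    have hn0 : n ≠ 0 := by rintro rfl; exact hP1 (Subgroup.card_eq_one.mp (by simpa using hn))
    exact (dvd_pow_self p hn0).trans (hn ▸ Subgroup.card_dvd_of_le hPF)
  exact ((((Nat.coprime_primes hp.out hs.out).mpr (fun h => hsF (h ▸ hpF))).pow l m).coprime_dvd_left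
    (orderOf_dvd_of_pow_eq_one (congrArg Subtype.val hl))).coprime_dvd_right (orderOf_dvd_of_pow_eq_one hym)

theorem frobenius_of_normal_sylow (hnn : ¬ Group.IsNilpotent G) :
    Cfsg.fittingHall G = Cfsg.fittingSubgroup G ∧ Cfsg.fittingHall G ≠ ⊥ ∧ Cfsg.fittingHall G ≠ ⊤ ∧
      (∃ E : Subgroup G, Subgroup.IsComplement' (Cfsg.fittingHall G) E ∧ Cfsg.IsFrobeniusComplement E ∧
        Group.IsNilpotent E ∧
        ∀ e ∈ E, e ≠ 1 → Cfsg.fittingHall G ⊓ Subgroup.centralizer ({e} : Set G) = ⊥) := by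
  have := hPn
  haveI hFn : (Cfsg.fittingSubgroup G).Normal := by rw [Basics.fittingSubgroup_eq_iSup_pCore]; infer_instance
  have hFnil : Group.IsNilpotent (Cfsg.fittingSubgroup G) := Basics.fittingSubgroup_isNilpotent
  have hhall := fitting_hall hCN P hP1 hPn
  have heq : Cfsg.fittingHall G = Cfsg.fittingSubgroup G :=
    le_antisymm (sSup_le fun N hN => by have := hN.1; exact Basics.le_fittingSubgroup hN.2.1)
      (le_sSup ⟨hFn, hFnil, hhall⟩)
  rw [heq]
  have hne : Cfsg.fittingSubgroup G ≠ ⊥ := fun h => hP1 (le_bot_iff.mp (h ▸ Basics.le_fittingSubgroup P.2.isNilpotent))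
  have hnt : Cfsg.fittingSubgroup G ≠ ⊤ := fun h => hnn (by
    rw [h] at hFnil; exact Group.nilpotent_of_mulEquiv Subgroup.topEquiv)
  refine ⟨rfl, hne, hnt, ?_⟩
  obtain ⟨E, hE⟩ := Subgroup.exists_right_complement'_of_coprime hhall
  have hdis : ∀ y, y ∈ Cfsg.fittingSubgroup G → y ∈ E → y = 1 := fun y h1 h2 => by
    have : y ∈ Cfsg.fittingSubgroup G ⊓ E := Subgroup.mem_inf.mpr ⟨h1, h2⟩
    rwa [hE.disjoint.eq_bot, Subgroup.mem_bot] at this
  have hfpf : ∀ e ∈ E, e ≠ 1 → Cfsg.fittingSubgroup G ⊓ Subgroup.centralizer ({e} : Set G) = ⊥ := by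
    intro e he he1
    refine le_bot_iff.mp fun y hy => Subgroup.mem_bot.mpr ?_
    by_contra hy1
    exact he1 (hdis e (centralizer_le_fittingSubgroup hCN P hP1 hPn hy.1 hy1 (Subgroup.mem_centralizer_singleton_iff.mpr
      (Subgroup.mem_centralizer_singleton_iff.mp hy.2).symm)) he)
  refine ⟨E, hE, ⟨?_, ?_, fun g hg => le_bot_iff.mp fun x hx => Subgroup.mem_bot.mpr ?_⟩,
    isNilpotent_of_fpf hCN hne hfpf, hfpf⟩
  · rintro rfl
    exact hnt (by simpa using hE.sup_eq_top)
  · rintro rfl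
    exact hne (le_bot_iff.mp fun y hy => Subgroup.mem_bot.mpr (hdis y hy (Subgroup.mem_top y)))
  · obtain ⟨f, hf, e, he, rfl⟩ := Subgroup.mem_sup_of_normal_left.mp (hE.sup_eq_top.symm ▸ Subgroup.mem_top g)
    obtain ⟨hxE, hx2⟩ := Subgroup.mem_inf.mp hx
    rw [Basics.mem_conj_smul] at hx2
    set y : G := e * ((f * e)⁻¹ * x * (f * e)) * e⁻¹ with hydef
    have hyE : y ∈ E := mul_mem (mul_mem he hx2) (inv_mem he)
    have hxy : x = f * y * f⁻¹ := by rw [hydef]; group
    have h1 : x * y⁻¹ = 1 := hdis _ (by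
      rw [hxy, show f * y * f⁻¹ * y⁻¹ = f * (y * f⁻¹ * y⁻¹) by group]
      exact mul_mem hf (hFn.conj_mem _ (inv_mem hf) y)) (mul_mem hxE (inv_mem hyE))
    rw [mul_inv_eq_one] at h1
    rw [← h1] at hxy
    by_contra hx1
    have hfc : f ∈ Cfsg.fittingSubgroup G ⊓ Subgroup.centralizer ({x} : Set G) :=
      Subgroup.mem_inf.mpr ⟨hf, Subgroup.mem_centralizer_singleton_iff.mpr (by
        calc f * x = f * x * f⁻¹ * f := by group
          _ = x * f := by rw [← hxy])⟩
    rw [hfpf x hxE hx1, Subgroup.mem_bot] at hfc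
    subst hfc
    exact hg (by simpa using he)

end Cfsg.Agent.OddLocal
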