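import Cfsg.Agent.Lib.OddLocal.Tau2Abelian

/-! The structure of a complement to `M_σ` (BG 12.1). -/

set_option autoImplicit false
set_option linter.unusedSectionVars false
set_option linter.style.haveILetI false

namespace Cfsg.Agent.OddLocal

open scoped commutatorElement Pointwise IsMulCommutative
open Cfsg
open Basics (IsSylowIn)

universe u

variable {G : Type u} [Group G] [Finite G] {p : ℕ} [hp : Fact p.Prime]

theorem isCyclic_of_rank_one_commutative (hG : IsMinSimpleOddOrder G) {M K : Subgroup G} (hKM : K ≤ M)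
    (hK : IsMulCommutative K) (h : ∀ q : ℕ, q.Prime → q ∣ Nat.card K → PRankLE q 1 M) : IsCyclic K := by
  haveI : Group.IsNilpotent K := by
    letI : CommGroup K := { (inferInstance : Group K) with mul_comm := hK.is_comm.comm }
    exact CommGroup.isNilpotent
  haveI : IsZGroup K := ⟨fun q hq S => by
    haveI := Fact.mk hq
    by_cases hd : q ∣ Nat.card K
    · haveI := isCyclic_of_pRankLE_one (prime_ne_two hG (hd.trans (Subgroup.card_subgroup_dvd_card K))) (h q hq hd)
        ((Subgroup.map_subtype_le (S : Subgroup K)).trans hKM) (S.2.map K.subtype)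
      exact (Subgroup.equivMapOfInjective (S : Subgroup K) K.subtype K.subtype_injective).isCyclic.mpr inferInstance
    · rcases S.2.card_eq_or_dvd with e | e
      · haveI : Subsingleton (S : Subgroup K) := (Nat.card_eq_one_iff_unique.mp e).1
        infer_instance
      · exact absurd (e.trans (Subgroup.card_subgroup_dvd_card _)) hd⟩
  infer_instance

theorem derived_le_sup_derived {M E : Subgroup G} (hE : IsComplIn E (Cfsg.sigmaCore M) M) :
    ⁅M, M⁆ ≤ Cfsg.sigmaCore M ⊔ ⁅E, E⁆ := by
  haveI : (piCore (Cfsg.sigma M) ↥M).Normal := by infer_instance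
  set N := piCore (Cfsg.sigma M) ↥M with hN
  set E₀ := E.subgroupOf M with hE₀
  have h1 : E₀.map (QuotientGroup.mk' N) = ⊤ := by
    refine eq_top_iff.mpr fun q _ => ?_
    obtain ⟨m, rfl⟩ := QuotientGroup.mk'_surjective N q
    obtain ⟨e, he, b, ⟨b', hb', rfl⟩, hm⟩ := hE.2.2.2 m m.2
    refine ⟨⟨e, hE.1 he⟩, he, (QuotientGroup.eq.mpr ?_)⟩
    rw [show ((⟨e, hE.1 he⟩ : M))⁻¹ * m = b' from Subtype.ext (by
      change e⁻¹ * (m : G) = (b' : G)
      rw [hm]; exact inv_mul_cancel_left _ _)]
    exact hb'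
  have h2 : commutator M ≤ N ⊔ ⁅E₀, E₀⁆ := by
    have h3 : (commutator M).map (QuotientGroup.mk' N) ≤ ⁅E₀, E₀⁆.map (QuotientGroup.mk' N) := by
      rw [commutator_def, Subgroup.map_commutator, Subgroup.map_commutator, h1]
      exact Subgroup.commutator_mono le_top le_top
    rw [Subgroup.map_le_map_iff, QuotientGroup.ker_mk', sup_comm] at h3
    exact h3
  have h4 := Subgroup.map_mono (f := M.subtype) h2
  rwa [Subgroup.map_subtype_commutator, Subgroup.map_sup, Subgroup.map_commutator,
    Subgroup.map_subgroupOf_eq_of_le hE.1] at h4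

/-- The primes outside `σ(M)` dividing `|M'|` divide `|E'|`. -/
theorem dvd_card_derived_compl (hG : IsMinSimpleOddOrder G) {M E : Subgroup G} (hM : IsCoatom M)
    (hE : IsComplIn E (Cfsg.sigmaCore M) M) {r : ℕ} (hr : r.Prime) (hrs : r ∉ Cfsg.sigma M)
    (hd : r ∣ Nat.card ↥⁅M, M⁆) : r ∣ Nat.card ↥⁅E, E⁆ := by
  have hle : ⁅E, E⁆ ≤ E := Subgroup.commutator_le_self E
  have hc : (Nat.card (Cfsg.sigmaCore M)).Coprime (Nat.card ↥⁅E, E⁆) :=
    Nat.coprime_of_dvd fun q hq h1 h2 =>
      compl_primes hG hM hE hq (h2.trans (Subgroup.card_dvd_of_le hle)) (piCoreOf_primes _ M hq h1)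
  have h1 := hd.trans (Subgroup.card_dvd_of_le (derived_le_sup_derived hE))
  rw [Basics.card_sup_of_coprime ((hle.trans hE.1).trans (le_normalizer_sigmaCore M)) hc] at h1
  exact ((Nat.Prime.dvd_mul hr).mp h1).resolve_left (not_dvd_sigmaCore hr hrs)

/-- A cyclic Sylow subgroup of `E` for a prime dividing `|E'|` lies in `E'`. -/
theorem sylow_le_derived_of_rank_one (hG : IsMinSimpleOddOrder G) {M E R : Subgroup G} {r : ℕ} [hr : Fact r.Prime]
    (hEM : E ≤ M) (h1 : PRankLE r 1 M) (hd : r ∣ Nat.card ↥⁅E, E⁆) (hR : IsSylowIn r E R) : R ≤ ⁅E, E⁆ := by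
  have hr2 : r ≠ 2 := prime_ne_two hG (hd.trans (Subgroup.card_subgroup_dvd_card _))
  haveI := isCyclic_of_pRankLE_one hr2 h1 (hR.1.trans hEM) hR.isPGroup
  obtain ⟨Q, hQ⟩ := hR.exists_sylow
  haveI : IsCyclic (Q : Subgroup E) :=
    ((Subgroup.equivMapOfInjective (Q : Subgroup E) E.subtype E.subtype_injective).trans
      (MulEquiv.subgroupCongr hQ)).isCyclic.mpr inferInstance
  rcases Q.normalizer_le_centralizer_or_le_commutator with h | h
  · refine absurd ?_ Q.not_dvd_index
    haveI : IsMulCommutative (Q : Subgroup E) := IsCyclic.isMulCommutative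
    rw [(MonoidHom.ker_transferSylow_isComplement' Q h).index_eq_card]
    refine hd.trans ?_
    rw [← E.map_subtype_commutator, Subgroup.card_map_of_injective E.subtype_injective]
    exact Subgroup.card_dvd_of_le (Abelianization.commutator_subset_ker _)
  · rw [← hQ, ← E.map_subtype_commutator]
    exact Subgroup.map_mono h

end Cfsg.Agent.OddLocal
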