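import Cfsg.Agent.Lib.OddLocal.SigmaInter

/-! Fixed points of cyclic Sylow subgroups of a complement on `M_σ`. -/

set_option autoImplicit false
set_option linter.unusedSectionVars false
set_option linter.style.haveILetI false

namespace Cfsg.Agent.OddLocal

open scoped commutatorElement Pointwise
open Cfsg
open Basics (IsSylowIn)

universe u

variable {G : Type u} [Group G] [Finite G] {p : ℕ} [hp : Fact p.Prime]

theorem pRankLE_one_of_cyclic_sylow {M S : Subgroup G} (hS : IsSylowIn p M S) (hc : IsCyclic S) :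
    PRankLE p 1 M := by
  by_contra h1
  obtain ⟨B, hBM, hB, hBc⟩ := exists_ea_of_not_pRankLE_one h1
  obtain ⟨S₁, hS₁, hBS⟩ := exists_sylowIn_ge (isPGroup_of_exponent hB.2) hBM
  obtain ⟨k, hk, ek⟩ := hS₁.exists_conj hS
  set B' := MulAut.conj k • B with hB'
  have hle : B' ≤ S := ek ▸ Subgroup.pointwise_smul_le_pointwise_smul_iff.mpr hBS
  have hB'e : IsElementaryAbelian p B' := ea_map hB _
  haveI := hc
  haveI : IsCyclic B' := Subgroup.isCyclic_of_le hle
  obtain ⟨g, hg⟩ := (inferInstance : IsCyclic B').exists_generator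
  have h2 : orderOf g ∣ p := orderOf_dvd_of_pow_eq_one (Subtype.ext (hB'e.2 g g.2))
  have h3 := Nat.le_of_dvd hp.out.pos h2
  rw [orderOf_eq_card_of_forall_mem_zpowers hg, hB', Basics.card_conj_smul] at h3
  omega

/-- The fixed points on `M_σ` of a cyclic Sylow subgroup of a complement. -/
theorem cyclic_sylow_centralizer (hG : IsMinSimpleOddOrder G) {M E S : Subgroup G} (hM : IsCoatom M)
    (hE : IsComplIn E (Cfsg.sigmaCore M) M) (hS : IsSylowIn p E S) (hS1 : S ≠ ⊥) (hc : IsCyclic S)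
    {x : G} (hx : x ∈ S) (hx1 : x ≠ 1) :
    Cfsg.sigmaCore M ⊓ Subgroup.centralizer ({x} : Set G) = Cfsg.sigmaCore M ⊓ Subgroup.centralizer (S : Set G) := by
  refine le_antisymm ?_ (inf_le_inf_left _ (Subgroup.centralizer_le (Set.singleton_subset_iff.mpr hx)))
  have hpd : p ∣ Nat.card E := (hS.isPGroup.card_eq_or_dvd.resolve_left
    fun e => hS1 (Subgroup.card_eq_one.mp e)).trans (Subgroup.card_dvd_of_le hS.1)
  have hps : p ∉ Cfsg.sigma M := compl_primes hG hM hE hp.out hpd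
  have hSM : IsSylowIn p M S := compl_sylow hE hps hS
  have hp1 : PRankLE p 1 M := pRankLE_one_of_cyclic_sylow hSM hc
  have hnoA : ∀ (A : Subgroup G) (g : G), IsElementaryAbelian p A → Nat.card A = p ^ 2 →
      ¬ A ≤ M.map (MulAut.conj g).toMonoidHom := by
    intro A g hA hA2 hle
    have h1 : A.map (MulAut.conj g⁻¹).toMonoidHom ≤ M := by
      refine (Subgroup.map_mono hle).trans ?_
      rw [map_conj_map_conj, inv_mul_cancel, map_conj_one]
    have h2 := card_le_of_pRankLE hp1 h1 (ea_map hA _)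
    rw [Subgroup.card_map_of_injective (MulAut.conj g⁻¹).injective, hA2] at h2
    nlinarith [hp.out.two_le]
  obtain ⟨y, hy, hyo⟩ := exists_orderOf_eq (hS.isPGroup.to_le (Subgroup.zpowers_le.mpr hx))
    (fun e => hx1 (Subgroup.zpowers_eq_bot.mp e))
  set X := Subgroup.zpowers y with hX
  have hXc : Nat.card X = p := by rw [hX, Nat.card_zpowers, hyo]
  have hXS : X ≤ S := Subgroup.zpowers_le.mpr (Subgroup.zpowers_le.mpr hx hy)
  have hX1 : X ≠ ⊥ := (line_ne_top hG hXc).1
  set K := Cfsg.sigmaCore M ⊓ Subgroup.centralizer (X : Set G) with hK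
  refine le_trans (inf_le_inf_left _ ?_) (le_inf inf_le_left (?_ : K ≤ Subgroup.centralizer (S : Set G)))
  · rw [← Subgroup.centralizer_closure, ← Subgroup.zpowers_eq_closure]
    exact Subgroup.centralizer_le (Subgroup.zpowers_le.mpr hy)
  haveI := hc
  have hScomm : S ≤ Subgroup.centralizer (S : Set G) :=
    Subgroup.le_centralizer_iff_isMulCommutative.mpr IsCyclic.isMulCommutative
  have hSX : S ≤ Subgroup.centralizer (X : Set G) := hScomm.trans (Subgroup.centralizer_le hXS)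
  have hSK : S ≤ Subgroup.normalizer (K : Set G) :=
    (le_inf ((hSM.1).trans (le_normalizer_sigmaCore M)) (hSX.trans Subgroup.le_normalizer)).trans le_normalizer_inf'
  obtain ⟨Ms, hMs, hNX⟩ := exists_maximal_ge (normalizer_ne_top hG hX1 (line_ne_top hG hXc).2)
  have hSMs : S ≤ Ms := (hSX.trans (Subgroup.centralizer_le_normalizer _)).trans hNX
  haveI := hS.isPGroup.isNilpotent
  have hsolS : Group.IsSolvable S := inferInstance
  have hpK : ¬ p ∣ Nat.card K := fun e =>
    not_dvd_sigmaCore hp.out hps (e.trans (Subgroup.card_dvd_of_le inf_le_left))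
  have hcopK : (Nat.card S).Coprime (Nat.card K) := coprime_of_pGroup hS.isPGroup hpK
  refine le_of_sylows fun q hq hqd => ?_
  haveI := Fact.mk hq
  obtain ⟨Q, hQ, hSQ⟩ := Basics.exists_invariant_isSylowIn S K hSK hcopK (Or.inl hsolS) q
  refine ⟨Q, hQ, Subgroup.le_centralizer_iff.mp ?_⟩
  by_contra hSQc
  have hQ1 : Q ≠ ⊥ := fun e => hSQc (e ▸ fun s _ => Subgroup.mem_centralizer_iff.mpr fun v hv => by
    rw [Subgroup.mem_bot.mp hv, one_mul, mul_one])
  have hQσ : Q ≤ Cfsg.sigmaCore M := hQ.1.trans inf_le_left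
  have hQM : Q ≤ M := hQσ.trans (sigmaCore_le M)
  have hqσ : q ∈ Cfsg.sigma M := piCoreOf_primes _ M hq (hqd.trans (Subgroup.card_dvd_of_le inf_le_left))
  have hqp : q ≠ p := fun e => hps (e ▸ hqσ)
  have hQMs : Q ≤ Ms := ((hQ.1.trans inf_le_right).trans (Subgroup.centralizer_le_normalizer _)).trans hNX
  have hqS : ¬ q ∣ Nat.card S := fun e => by
    obtain ⟨j, hj⟩ := IsPGroup.iff_card.mp hS.isPGroup
    exact hqp ((Nat.prime_dvd_prime_iff_eq hq hp.out).mp (hq.dvd_of_dvd_pow (hj ▸ e)))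
  haveI := hQ.isPGroup.isNilpotent
  -- a maximal subgroup with `p` in its `σ`-set containing `Q S`
  have hσcase : ∀ L : Subgroup G, IsCoatom L → S ≤ L → Q ≤ L → p ∈ Cfsg.sigma L → False := by
    intro L hL hSL hQL hpL
    refine hSQc (le_centralizer_of_commutator_le hG hL (fun hb => ?_) hQ.isPGroup (Subgroup.commutator_mono hQL hSL)
      ((pGroup_le_sigmaCore hG hL hpL hS.isPGroup hSL).trans (sigmaCore_le_derived hG hL)) hqS hSQ inferInstance)
    obtain ⟨g, hg⟩ := exists_conj_of_rank_three hG hM hL hqσ (alpha_subset_sigma hG hL hb.1) hb.1.2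
    exact hps (sigma_of_conj (hg ▸ hpL))
  by_cases hpMs : p ∈ Cfsg.sigma Ms
  · exact hσcase Ms hMs hSMs hQMs hpMs
  have h1p : ¬ PRankLE p 1 Ms := by
    intro h1
    obtain ⟨T, hT, hST⟩ := exists_sylowIn_ge hS.isPGroup hSMs
    have hp2 : p ≠ 2 := prime_ne_two hG (hpd.trans (Subgroup.card_subgroup_dvd_card E))
    have hTc := isCyclic_of_pRankLE_one hp2 h1 hT.1 hT.isPGroup
    have hNT : Subgroup.normalizer (T : Set G) ≤ Subgroup.normalizer (X : Set G) := fun n hn =>
      Subgroup.mem_normalizer_iff_map_conj_eq.mpr (eq_of_le_cyclic hTc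
        ((Subgroup.map_mono (hXS.trans hST)).trans (Subgroup.mem_normalizer_iff_map_conj_eq.mp hn).le)
        (hXS.trans hST) (Subgroup.card_map_of_injective (MulAut.conj n).injective))
    obtain ⟨T₀, hT₀⟩ := hT.exists_sylow
    exact hpMs ⟨hp.out, (hS.isPGroup.card_eq_or_dvd.resolve_left fun e => hS1 (Subgroup.card_eq_one.mp e)).trans
      (Subgroup.card_dvd_of_le hSMs), T₀, by rw [hT₀]; exact hNT.trans hNX⟩
  have hτp : p ∈ Cfsg.tau2 Ms := ⟨hp.out, hpMs, pRankLE_two_of_not_mem_sigma hG hMs hpMs, h1p⟩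
  obtain ⟨Es, hEs⟩ := exists_compl hG hMs
  obtain ⟨A, hAE, hA, hA2, A₁, hA'⟩ := exists_ea_in_compl hG hMs hEs hτp
  have hqMs : q ∉ Cfsg.sigma Ms := by
    intro hqs
    obtain ⟨R₀⟩ : Nonempty (Sylow q (Cfsg.sigmaCore Ms)) := inferInstance
    have hR := Basics.isSylowIn_map R₀
    obtain ⟨TR, hTR⟩ := hR.exists_sylow_top hG hMs hqs
    have hn := le_normalizer_of_nilpotent hG hMs hqs TR (hTR ▸ hR.1.trans (sigmaCore_le Ms)) (hA'.isNilpotent hG)
    obtain ⟨P₀⟩ : Nonempty (Sylow q (Cfsg.sigmaCore M)) := inferInstance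
    have hP := Basics.isSylowIn_map P₀
    obtain ⟨TP, hTP⟩ := hP.exists_sylow_top hG hM hqσ
    obtain ⟨g, hg⟩ := MulAction.exists_smul_eq G TR TP
    have h1 : Ms.map (MulAut.conj g).toMonoidHom ≤ M := by
      refine le_trans ?_ (sylow_normalizer_le hG hM hqσ (hTP ▸ hP.1.trans (sigmaCore_le M)))
      refine (conj_le_normalizer_conj hn g).trans (le_of_eq ?_)
      rw [← hg]
      rfl
    have h2 := ((isCoatom_map_conj hMs g).le_iff.mp h1).resolve_left hM.1
    refine hnoA A g⁻¹ hA hA2 ?_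
    rw [h2, map_conj_map_conj, inv_mul_cancel, map_conj_one]
    exact hAE.trans hEs.1
  by_cases h1q : PRankLE q 1 Ms
  swap
  · obtain ⟨B, hBE, hB, hB2, B₁, hB'⟩ := exists_ea_in_compl hG hMs hEs
      (⟨hq, hqMs, pRankLE_two_of_not_mem_sigma hG hMs hqMs, h1q⟩ : q ∈ Cfsg.tau2 Ms)
    have hAB : A ≤ Subgroup.centralizer (B : Set G) := by
      refine Subgroup.commutator_eq_bot_iff_le_centralizer.mp (le_bot_iff.mp ?_)
      rw [← (Subgroup.disjoint_of_coprime_natCard (coprime_of_pGroups (Ne.symm hqp) hA'.isPGroup hB'.isPGroup)).eq_bot]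
      exact le_inf (Subgroup.le_normalizer_iff_commutator_le_left.mp (hBE.trans (hA'.compl_le_normalizer hG hEs hAE)))
        (Subgroup.le_normalizer_iff_commutator_le_right.mp (hAE.trans (hB'.compl_le_normalizer hG hEs hBE)))
    obtain ⟨g, hg⟩ := exists_conj_ge hG hM hqσ hB'.isPGroup
    exact hnoA A g hA hA2 (hAB.trans (two_elementary hG (isCoatom_map_conj hM g) hg hB hB2).1)
  -- `Q` cyclic in `M*`
  have hq2 : q ≠ 2 := prime_ne_two hG (hqd.trans (Subgroup.card_subgroup_dvd_card K))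
  have hsup : Nat.card (Q ⊔ S : Subgroup G) = Nat.card Q * Nat.card S :=
    Basics.card_sup_of_coprime hSQ (coprime_of_pGroups hqp hQ.isPGroup hS.isPGroup)
  obtain ⟨m, hm, hle⟩ := exists_conj_le_compl hG hMs hEs (sup_le hQMs hSMs) fun r hr hd => by
    rw [hsup] at hd
    rcases (Nat.Prime.dvd_mul hr).mp hd with h1 | h1
    · obtain ⟨j, hj⟩ := IsPGroup.iff_card.mp hQ.isPGroup
      exact (Nat.prime_dvd_prime_iff_eq hr hq).mp (hr.dvd_of_dvd_pow (hj ▸ h1)) ▸ hqMs
    · obtain ⟨j, hj⟩ := IsPGroup.iff_card.mp hS.isPGroup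
      exact (Nat.prime_dvd_prime_iff_eq hr hp.out).mp (hr.dvd_of_dvd_pow (hj ▸ h1)) ▸ hpMs
  rw [Subgroup.smul_sup] at hle
  set Q' := MulAut.conj m • Q with hQ'
  set S' := MulAut.conj m • S with hS'
  have hQ'E : Q' ≤ Es := le_sup_left.trans hle
  have hS'E : S' ≤ Es := le_sup_right.trans hle
  have hQ'p : IsPGroup q Q' := hQ.isPGroup.map _
  have hS'p : IsPGroup p S' := hS.isPGroup.map _
  haveI := isCyclic_of_pRankLE_one hq2 h1q (hQ'E.trans hEs.1) hQ'p
  have hS'Q : S' ≤ Subgroup.normalizer (Q' : Set G) := by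
    rw [hQ', Basics.normalizer_conj_smul]
    exact Subgroup.pointwise_smul_le_pointwise_smul_iff.mpr hSQ
  rcases hQ'p.commutator_eq_bot_or_commutator_eq_self hS'Q (coprime_of_pGroups hqp hQ'p hS'p) with h0 | h0
  · refine hSQc fun s hs => Subgroup.mem_centralizer_iff.mpr fun v hv => (MulAut.conj m).injective ?_
    rw [map_mul, map_mul]
    exact Subgroup.mem_centralizer_iff.mp (Subgroup.commutator_eq_bot_iff_le_centralizer.mp h0 ⟨s, hs, rfl⟩)
      _ ⟨v, hv, rfl⟩
  have hC : Q' ≤ Subgroup.centralizer (A : Set G) := by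
    rw [← h0]
    obtain ⟨R, hR, hS'R⟩ := exists_sylowIn_ge hS'p hS'E
    exact (Subgroup.commutator_mono (hS'R.trans (hA'.tau2_sylow_le hG hEs hAE hτp hR)) le_rfl).trans
      (Subgroup.le_normalizer_iff_commutator_le_left.mp
        ((hQ'E.trans (hA'.compl_le_normalizer hG hEs hAE)).trans (le_normalizer_centralizer le_rfl)))
  set A' := MulAut.conj m⁻¹ • A with hA''
  have hA'e : IsElementaryAbelian p A' := ea_map hA _
  have hA'2 : Nat.card A' = p ^ 2 := by rw [hA'', Basics.card_conj_smul, hA2]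
  have hA'Q : A' ≤ Subgroup.centralizer (Q : Set G) := by
    rintro _ ⟨a, ha, rfl⟩
    refine Subgroup.mem_centralizer_iff.mpr fun v hv => (MulAut.conj m).injective ?_
    have h2 := Subgroup.mem_centralizer_iff.mp (hC ⟨v, hv, rfl⟩) a ha
    rw [map_mul, map_mul]
    change (MulAut.conj m) v * (MulAut.conj m) ((MulAut.conj m⁻¹) a) = (MulAut.conj m) ((MulAut.conj m⁻¹) a) * (MulAut.conj m) v
    rw [← MulAut.mul_apply, ← map_mul, mul_inv_cancel, map_one, MulAut.one_apply]
    exact h2.symm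
  obtain ⟨L, hL, hNL⟩ := exists_maximal_ge (normalizer_ne_top hG hQ1 (pGroup_ne_top hG hQ.isPGroup))
  have hA'L : A' ≤ L := (hA'Q.trans (Subgroup.centralizer_le_normalizer _)).trans hNL
  have hne : L ≠ M := fun e => hnoA A' 1 hA'e hA'2 (by rw [map_conj_one]; exact e ▸ hA'L)
  by_cases hpL : p ∈ Cfsg.sigma L
  · exact hσcase L hL (hSQ.trans hNL) (Subgroup.le_normalizer.trans hNL) hpL
  obtain ⟨Sq, hSq, hQSq⟩ := exists_sylowIn_ge hQ.isPGroup (le_inf hQM (Subgroup.le_normalizer.trans hNL) : Q ≤ M ⊓ L)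
  obtain ⟨S₀, hS₀⟩ := hSq.exists_sylow
  obtain ⟨-, hNS, hSd⟩ := S1424.result hG M hM q hqσ Q hQ.isPGroup hQ1 hQM L hL hne hNL S₀ (hS₀.symm ▸ hQSq)
  rw [hS₀] at hNS hSd
  have hSqL : IsSylowIn q L Sq := by
    refine ⟨hSq.1.trans inf_le_right, ?_⟩
    have h1 : Sq.relIndex L * Nat.card Sq = Nat.card L := by
      rw [← Subgroup.relIndex_bot_left, mul_comm, Subgroup.relIndex_mul_relIndex _ _ _ bot_le (hSq.1.trans inf_le_right),
        Subgroup.relIndex_bot_left]
    obtain ⟨j, hj⟩ := IsPGroup.iff_card.mp hSq.isPGroup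
    rw [← h1, Nat.factorization_mul (show Sq.relIndex L ≠ 0 from Subgroup.index_ne_zero_of_finite) Nat.card_pos.ne',
      Finsupp.add_apply, Nat.factorization_eq_zero_of_not_dvd hSd, zero_add, hj, hq.factorization_pow,
      Finsupp.single_eq_same]
  obtain ⟨R, hR, hRM⟩ := exists_sylow_le_off hG hM hL hqσ hSqL hQ1 hQSq hNL hNS (r := p) hpL
  obtain ⟨R₁, hR₁, hAR⟩ := exists_sylowIn_ge (isPGroup_of_exponent hA'e.2) hA'L
  obtain ⟨l, hl, el⟩ := hR₁.exists_conj hR
  refine hnoA (MulAut.conj l • A') 1 (ea_map hA'e _) (by rw [Basics.card_conj_smul, hA'2]) ?_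
  rw [map_conj_one]
  exact ((Subgroup.pointwise_smul_le_pointwise_smul_iff.mpr hAR).trans el.le).trans hRM

end Cfsg.Agent.OddLocal
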