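import Cfsg.Agent.Lib.OddLocal.TauTwoCore

/-! Consequences for the factorisation `M = K U M_σ` (BG 14.1, 14.7, first parts). -/

set_option autoImplicit false
set_option linter.unusedSectionVars false
set_option linter.style.haveILetI false

namespace Cfsg.Agent.OddLocal

open Cfsg
open Basics (IsSylowIn)

universe u

variable {G : Type u} [Group G] [Finite G]

theorem decomp_primes (hG : IsMinSimpleOddOrder G) {M K U : Subgroup G} (hM : IsCoatom M)
    (hKU : Cfsg.IsSigmaDecomposition M K U) {q : ℕ} (hq : q.Prime) (hd : q ∣ Nat.card U) :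
    q ∉ Cfsg.sigma M ∧ q ∉ Cfsg.kappa M := by
  rw [← relIndex_right_of_isComplIn hKU.compl] at hd
  exact ⟨fun hs => (sigmaCore_hall hG hM).1.2.2 q hq hs
      (hd.trans (Subgroup.relIndex_dvd_of_le_left M le_sup_right)),
    fun hk => hKU.hall.2.2 q hq hk (hd.trans (Subgroup.relIndex_dvd_of_le_left M le_sup_left))⟩

theorem decomp_tau2 (hG : IsMinSimpleOddOrder G) {M K U : Subgroup G} (hM : IsCoatom M)
    (hKU : Cfsg.IsSigmaDecomposition M K U) {u : G} (hu : u ∈ U) (hh : u ∈ Cfsg.sigmaHat M) :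
    ∀ r : ℕ, r.Prime → r ∣ orderOf u → r ∈ Cfsg.tau2 M :=
  tau2_of_fixed hG hM hh fun _ hr hd => decomp_primes hG hM hKU hr
    (hd.trans (Subgroup.orderOf_dvd_natCard U hu))

theorem decomp_compl (hG : IsMinSimpleOddOrder G) {M K U : Subgroup G} (hM : IsCoatom M)
    (hKU : Cfsg.IsSigmaDecomposition M K U) : ∃ E : Subgroup G, IsComplIn E (Cfsg.sigmaCore M) M ∧ U ≤ E :=
  exists_compl_ge hG hM hKU.compl.1 fun _ hq hd => (decomp_primes hG hM hKU hq hd).1

end Cfsg.Agent.OddLocal
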