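import Cfsg.Prelude.Def_Local
import Cfsg.Agent.Lib.LocalEvenA.Core
import Cfsg.Agent.Lib.OddLocal.Centralize

/-! In a `p`-constrained group, a `p'`-subgroup invariant under a suitable `p`-subgroup `A` lies in
`O_{p'}`. -/

set_option autoImplicit false

namespace Cfsg.Agent.OddLocal

open scoped commutatorElement

variable {G : Type*} [Group G] {p : ℕ}

/-- The class-two condition on the `p`-subgroups. -/
def ClassTwoSubgroups (p : ℕ) (G : Type*) [Group G] : Prop :=
  ∀ T : Subgroup G, IsPGroup p T → ∀ x ∈ T, ∀ y ∈ T, ∀ z ∈ T, Commute ⁅x, y⁆ z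

/-- `A` contains enough of the `p`-elements of its centralizer: those of order `p` if `p` is odd, all of
them if the `p`-subgroups have class at most two. -/
def HoldsCentralPElements (p : ℕ) (A : Subgroup G) : Prop :=
  (p ≠ 2 ∧ ∀ x ∈ Subgroup.centralizer (A : Set G), orderOf x = p → x ∈ A) ∨
    (ClassTwoSubgroups p G ∧
      ∀ x ∈ Subgroup.centralizer (A : Set G), IsPGroup p (Subgroup.zpowers x) → x ∈ A)

theorem le_pPrimeCore_of_invariant [Finite G] [Fact p.Prime] (hG : IsPConstrained p G) {A : Subgroup G}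
    (hA : IsPGroup p A) (hAC : HoldsCentralPElements p A) {Q : Subgroup G} (hQ : ¬ p ∣ Nat.card Q)
    (hAQ : A ≤ Subgroup.normalizer (Q : Set G)) : Q ≤ pPrimeCore p G := by
  have hp : p.Prime := Fact.out
  set O := pPrimeCore p G with hO
  have hOn : O.Normal := LocalEvenA.pPrimeCore_normal' p G
  set M := pPrimePCore p G with hM
  set π := QuotientGroup.mk' O with hπ
  have hMn : M.Normal := (LocalEvenA.pCore_normal' p _).comap _
  obtain ⟨T, hAT⟩ := hA.exists_le_sylow
  obtain ⟨P, hP⟩ := LocalEvenA.exists_sylow_subgroupOf_normal T M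
  set R := (P : Subgroup M).map M.subtype with hR
  have hRe : R = M ⊓ (T : Subgroup G) := by
    rw [hR, hP, Subgroup.subgroupOf_map_subtype, inf_comm]
  have hRT : R ≤ (T : Subgroup G) := hRe.le.trans inf_le_right
  have hRM : R ≤ M := hRe.le.trans inf_le_left
  have hRp : IsPGroup p R := T.2.to_le hRT
  have hAR : A ≤ Subgroup.normalizer (R : Set G) := by
    intro a ha
    rw [hRe, Subgroup.mem_normalizer_iff]
    intro n
    refine Subgroup.mem_inf.trans ((and_congr (Subgroup.mem_normalizer_iff.mp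
      (by rw [Subgroup.normalizer_eq_top]; trivial) n) (Subgroup.mem_normalizer_iff.mp
      (Subgroup.le_normalizer (hAT ha)) n)).trans Subgroup.mem_inf.symm)
  -- the image of `M` is a normal `p`-group, equal to the image of `R`
  have hMbar : M.map π = pCore p (G ⧸ O) :=
    Subgroup.map_comap_eq_self_of_surjective (QuotientGroup.mk'_surjective O) _
  have hRbar : R.map π = M.map π := by
    refine le_antisymm (Subgroup.map_mono hRM) ?_
    have h1 : IsPGroup p (M.map π) := hMbar ▸ LocalEvenA.pCore_isPGroup' p _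
    obtain ⟨n, hn⟩ := h1.index ((R.map π).subgroupOf (M.map π))
    rcases Nat.eq_zero_or_pos n with h0 | h0
    · exact Subgroup.relIndex_eq_one.mp (by rw [Subgroup.relIndex, hn, h0, pow_zero])
    · exfalso
      have h2 : p ∣ (R.map π).relIndex (M.map π) := by
        rw [Subgroup.relIndex, hn]; exact dvd_pow_self p h0.ne'
      rw [Subgroup.relIndex_map_map] at h2
      have h3 : (R ⊔ π.ker).relIndex (M ⊔ π.ker) ∣ R.relIndex M := by
        have hker : π.ker ≤ M := by rw [hM]; exact Subgroup.ker_le_comap π _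
        rw [sup_eq_left.mpr hker]
        exact Subgroup.relIndex_dvd_of_le_left _ le_sup_left
      have h4 : R.relIndex M = (P : Subgroup M).index := by
        rw [hR, Subgroup.relIndex, ← Subgroup.comap_subtype,
          Subgroup.comap_map_eq_self_of_injective M.subtype_injective]
      exact P.not_dvd_index (h4 ▸ h2.trans h3)
  have hOT : ∀ x ∈ O, x ∈ (T : Subgroup G) → x = 1 := by
    intro x h1 h2
    have h := (IsPGroup.orderOf_coprime T.2 (n := Nat.card O)
      (LocalEvenA.pPrimeCore_coprime (G := G) p).symm ⟨x, h2⟩)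
    rw [Subgroup.orderOf_mk] at h
    exact orderOf_eq_one_iff.mp (Nat.eq_one_of_dvd_coprimes h dvd_rfl (Subgroup.orderOf_dvd_natCard O h1))
  -- `π Q` meets `π M` trivially
  have hQM : ∀ x ∈ Q, x ∈ M → π x = 1 := by
    intro x h1 h2
    have hp1 : IsPGroup p (M.map π) := hMbar ▸ LocalEvenA.pCore_isPGroup' p _
    obtain ⟨k, hk⟩ := IsPGroup.iff_orderOf.mp hp1 ⟨π x, Subgroup.mem_map_of_mem π h2⟩
    rw [Subgroup.orderOf_mk] at hk
    have hd : orderOf (π x) ∣ Nat.card Q := (orderOf_map_dvd π x).trans (Subgroup.orderOf_dvd_natCard Q h1)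
    rw [hk] at hd
    rcases Nat.eq_zero_or_pos k with h0 | h0
    · rwa [h0, pow_zero, orderOf_eq_one_iff] at hk
    · exact absurd ((dvd_pow_self p h0.ne').trans hd) hQ
  -- the image of `Q` centralizes the image of `R`
  have hfix : ∀ x ∈ R.map π, x ∈ Subgroup.centralizer (A.map π : Set (G ⧸ O)) →
      (p ≠ 2 → x ^ p = 1) → x ∈ Subgroup.centralizer (Q.map π : Set (G ⧸ O)) := by
    rintro _ ⟨x, hx, rfl⟩ hxA hxp
    have hxC : x ∈ Subgroup.centralizer (A : Set G) := by
      rw [Subgroup.mem_centralizer_iff]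
      intro a ha
      refine commutatorElement_eq_one_iff_mul_comm.mp (hOT _ ?_ ?_)
      · rw [← QuotientGroup.eq_one_iff, ← QuotientGroup.mk'_apply, map_commutatorElement,
          commutatorElement_eq_one_iff_mul_comm]
        exact Subgroup.mem_centralizer_iff.mp hxA _ ⟨a, ha, rfl⟩
      · exact (T : Subgroup G).commutator_le_self (Subgroup.commutator_mem_commutator (hAT ha) (hRT hx))
    have hxA' : x ∈ A := by
      rcases hAC with ⟨hp2, h⟩ | ⟨-, h⟩
      · by_cases hx1 : x = 1
        · exact hx1 ▸ A.one_mem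
        refine h x hxC (orderOf_eq_prime (hOT _ ?_ (pow_mem (hRT hx) p)) hx1)
        rw [← QuotientGroup.eq_one_iff, ← QuotientGroup.mk'_apply, map_pow]
        exact hxp hp2
      · exact h x hxC (hRp.to_le (Subgroup.zpowers_le.mpr hx))
    rw [Subgroup.mem_centralizer_iff]
    rintro _ ⟨q, hq, rfl⟩
    rw [← commutatorElement_eq_one_iff_mul_comm, ← map_commutatorElement]
    refine hQM _ ?_ ?_
    · rw [commutatorElement_def, mul_assoc, mul_assoc]
      refine Q.mul_mem hq ?_
      rw [← mul_assoc]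
      exact (Subgroup.mem_normalizer_iff.mp (hAQ hxA') _).mp (Q.inv_mem hq)
    · rw [commutatorElement_def]
      exact M.mul_mem (hMn.conj_mem x (hRM hx) q) (M.inv_mem (hRM hx))
  have hcent : Q.map π ≤ Subgroup.centralizer (R.map π : Set (G ⧸ O)) := by
    have hQbar : ¬ p ∣ Nat.card (Q.map π) := fun h => hQ (h.trans (Subgroup.card_map_dvd _ π))
    have hAQ' : A.map π ≤ Subgroup.normalizer (Q.map π : Set (G ⧸ O)) :=
      (Subgroup.map_mono hAQ).trans (Subgroup.le_normalizer_map π)
    have hAR' : A.map π ≤ Subgroup.normalizer (R.map π : Set (G ⧸ O)) :=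
      (Subgroup.map_mono hAR).trans (Subgroup.le_normalizer_map π)
    have hQR' : Q.map π ≤ Subgroup.normalizer (R.map π : Set (G ⧸ O)) := by
      have : (M.map π).Normal := hMn.map _ (QuotientGroup.mk'_surjective O)
      rw [hRbar, Subgroup.normalizer_eq_top]
      exact le_top
    by_cases hp2 : p = 2
    · obtain ⟨hcl, -⟩ := hAC.resolve_left (fun h => h.1 hp2)
      refine centralizes_of_fixed_central (hRp.map π) hQbar hAQ' hAR' hQR' ?_ ?_
        (fun x hx hxA => hfix x hx hxA (fun h => absurd hp2 h))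
      · rintro _ ⟨a, ha, rfl⟩ _ ⟨r, hr, rfl⟩
        rw [Subgroup.mem_centralizer_iff]
        rintro _ ⟨b, hb, rfl⟩
        rw [← map_commutatorElement, ← map_mul, ← map_mul, (hcl T T.2 a (hAT ha) r (hRT hr) b (hAT hb)).eq]
      · rintro _ ⟨a, ha, rfl⟩ _ ⟨r, hr, rfl⟩
        rw [Subgroup.mem_centralizer_iff]
        rintro _ ⟨b, hb, rfl⟩
        rw [← map_commutatorElement, ← map_mul, ← map_mul, (hcl T T.2 a (hAT ha) r (hRT hr) b (hRT hb)).eq]
    · exact centralizes_of_fixed_odd hp2 (hRp.map π) hQbar (hA.map π) hAQ' hAR' hQR'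
        (fun x hx hxA hxp => hfix x hx hxA (fun _ => hxp))
  -- conclude
  intro q hq
  rw [← QuotientGroup.eq_one_iff, ← QuotientGroup.mk'_apply]
  obtain ⟨d, hd, hqd⟩ := exists_fixed_in_coset (p := p) hRp (D := O) (x := q)
    (by rw [Subgroup.normalizer_eq_top]; exact le_top)
    (fun h => hp.coprime_iff_not_dvd.mp (LocalEvenA.pPrimeCore_coprime (G := G) p).symm h)
    (fun r hr => by
      rw [← QuotientGroup.eq_one_iff, ← QuotientGroup.mk'_apply, map_mul, map_mul, map_mul, map_inv,
        map_inv, Subgroup.mem_centralizer_iff.mp (hcent ⟨q, hq, rfl⟩) _ ⟨r, hr, rfl⟩,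
        mul_inv_cancel_right, inv_mul_cancel])
  have hdM : d ∈ M := Subgroup.ker_le_comap π _ (by rwa [hπ, QuotientGroup.ker_mk'])
  have hqdM : q * d ∈ M := hG P hqd
  exact hQM q hq ((M.mul_mem_cancel_right hdM).mp hqdM)

end Cfsg.Agent.OddLocal
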