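import Cfsg.Agent.Lib.OddLocal.MinSimple
import Cfsg.Agent.Lib.OddLocal.Invariant
import Cfsg.Agent.Lib.OddLocal.Transitivity
import Cfsg.Agent.Lib.Components.PConstrained

/-! The transitivity hypothesis for abelian `p`-subgroups of a minimal simple group of odd order. -/

set_option autoImplicit false

namespace Cfsg.Agent.OddLocal

variable {G : Type*} [Group G]

/-- Invariant `p'`-subgroups of a solvable subgroup `X ∋ A` lie in `O_{p'}(X)`. -/
theorem invariant_le_pPrimeCore_of_solvable [Finite G] {p : ℕ} [Fact p.Prime] (hp : p ≠ 2) {A X : Subgroup G}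
    (hX : Group.IsSolvable X) (hAX : A ≤ X) (hA : IsPGroup p A)
    (hΩ : ∀ x ∈ Subgroup.centralizer (A : Set G), orderOf x = p → x ∈ A)
    {Y : Subgroup G} (hYX : Y ≤ X) (hYp : ¬ p ∣ Nat.card Y) (hAY : A ≤ Subgroup.normalizer (Y : Set G)) :
    Y ≤ (pPrimeCore p X).map X.subtype := by
  have key := le_pPrimeCore_of_invariant (G := X) Components.isPConstrained_of_isSolvable
    (hA.comap_subtype (K := X)) (A := A.subgroupOf X) (Q := Y.subgroupOf X)
    (Or.inl ⟨hp, fun x hx hxo => hΩ x (Subgroup.mem_centralizer_iff.mpr fun a ha =>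
      congrArg Subtype.val (Subgroup.mem_centralizer_iff.mp hx ⟨a, hAX ha⟩ ha))
      ((Subgroup.orderOf_coe x).trans hxo)⟩)
    (by rwa [Nat.card_congr (Subgroup.subgroupOfEquivOfLe hYX).toEquiv])
    (fun a ha => Subgroup.mem_normalizer_iff.mpr fun n => Subgroup.mem_normalizer_iff.mp (hAY ha) n)
  rw [← Subgroup.map_subgroupOf_eq_of_le hYX]
  exact Subgroup.map_mono key

theorem primesNotDvd_card_pGroup [Finite G] {p : ℕ} [hp : Fact p.Prime] {A : Subgroup G} (hA : IsPGroup p A)
    (hA1 : A ≠ ⊥) : primesNotDvd (Nat.card A) = primesNotDvd p := by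
  obtain ⟨n, hn⟩ := IsPGroup.iff_card.mp hA
  have hn0 : n ≠ 0 := fun h => hA1 (Subgroup.eq_bot_of_card_eq A (by rw [hn, h, pow_zero]))
  ext r
  refine and_congr_right fun hr => not_congr ?_
  rw [hn]
  exact ⟨hr.dvd_of_dvd_pow, fun h => h.trans (dvd_pow_self p hn0)⟩

/-- An abelian `p`-subgroup containing the elements of order `p` of its centralizer satisfies the
transitivity hypothesis. -/
theorem transitivityHypothesis_of_omega [Finite G] (hG : IsMinSimpleOddOrder G) {p : ℕ} [hp : Fact p.Prime]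
    (hpG : p ∣ Nat.card G) {A : Subgroup G} (hA : IsPGroup p A) (hA1 : A ≠ ⊥) (hAc : IsMulCommutative A)
    (hΩ : ∀ x ∈ Subgroup.centralizer (A : Set G), orderOf x = p → x ∈ A) :
    TransitivityHypothesis A := by
  refine ⟨hA1, ne_top_of_isMulCommutative hG hAc, fun X hX hAX => ?_⟩
  have hsol := isSolvable_of_ne_top hG hX
  rw [primesNotDvd_card_pGroup hA hA1, piCoreOf, piCore_eq_pPrimeCore]
  refine le_antisymm (sSup_le ?_) (le_sSup ⟨Subgroup.map_subtype_le _, ?_, ?_⟩)
  · rintro Y ⟨hYX, hYπ, hYA⟩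
    exact invariant_le_pPrimeCore_of_solvable (prime_ne_two hG hpG) hsol hAX hA hΩ hYX
      (fun h => (hYπ p hp.out h).2 dvd_rfl) hYA
  · intro r hr hd
    rw [Subgroup.card_map_of_injective X.subtype_injective] at hd
    refine ⟨hr, fun h => hr.ne_one (Nat.eq_one_of_dvd_coprimes
      (LocalEvenA.pPrimeCore_coprime (G := X) p) hd h)⟩
  · have h := Subgroup.le_normalizer_map (H := pPrimeCore p X) X.subtype
    have hn := LocalEvenA.pPrimeCore_normal' p X
    rw [Subgroup.normalizer_eq_top, ← MonoidHom.range_eq_map, Subgroup.range_subtype] at h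
    exact hAX.trans h

/-- A self-centralizing normal subgroup of a Sylow subgroup contains the `p`-elements of its centralizer. -/
theorem mem_of_isSCN [Finite G] {p : ℕ} [Fact p.Prime] (P : Sylow p G) {A : Subgroup G}
    (hA : IsSCN (P : Subgroup G) A) {x : G} (hx : x ∈ Subgroup.centralizer (A : Set G))
    (hxp : IsPGroup p (Subgroup.zpowers x)) : x ∈ A := by
  obtain ⟨hAP, hPN, hC⟩ := hA
  have hAcent : A ≤ Subgroup.centralizer (A : Set G) := hC.symm.le.trans inf_le_right
  set N := Subgroup.normalizer (A : Set G) with hN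
  let C := (Subgroup.centralizer (A : Set G)).subgroupOf N
  have hCn : C.Normal := by
    refine (Subgroup.normal_subgroupOf_iff_le_normalizer (Subgroup.centralizer_le_normalizer (A : Set G))).mpr ?_
    intro g hg
    rw [Subgroup.mem_normalizer_iff_map_conj_eq]
    change (Subgroup.centralizer (A : Set G)).map (MulAut.conj g).toMonoidHom = Subgroup.centralizer (A : Set G)
    have hgA : A.map (MulAut.conj g).toMonoidHom = A := Subgroup.mem_normalizer_iff_map_conj_eq.mp hg
    ext y
    rw [mem_map_conj_iff, Subgroup.mem_centralizer_iff, Subgroup.mem_centralizer_iff]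
    constructor
    · intro h a ha
      have ha' : g⁻¹ * a * g ∈ A := by rwa [← mem_map_conj_iff, hgA]
      have := h _ ha'
      calc a * y = g * ((g⁻¹ * a * g) * (g⁻¹ * y * g)) * g⁻¹ := by group
        _ = g * ((g⁻¹ * y * g) * (g⁻¹ * a * g)) * g⁻¹ := by rw [this]
        _ = y * a := by group
    · intro h a ha
      have ha' : g * a * g⁻¹ ∈ A := by
        rw [← hgA, mem_map_conj_iff]; simpa [mul_assoc] using ha
      have := h _ ha'
      calc a * (g⁻¹ * y * g) = g⁻¹ * ((g * a * g⁻¹) * y) * g := by group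
        _ = g⁻¹ * (y * (g * a * g⁻¹)) * g := by rw [this]
        _ = g⁻¹ * y * g * a := by group
  let T : Sylow p N := P.subtype hPN
  obtain ⟨S, hS⟩ := LocalEvenA.exists_sylow_subgroupOf_normal T C
  have hxN : x ∈ N := Subgroup.centralizer_le_normalizer (A : Set G) hx
  have hxp' : IsPGroup p (Subgroup.zpowers (⟨⟨x, hxN⟩, hx⟩ : C)) := by
    refine hxp.of_injective
      { toFun := fun y => ⟨((y.1 : N) : G), ?_⟩, map_one' := rfl, map_mul' := fun _ _ => rfl }
      (fun a b h => Subtype.ext (Subtype.ext (Subtype.ext (congrArg Subtype.val h :))))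
    obtain ⟨n, hn⟩ := y.2
    exact ⟨n, by rw [← hn]; rfl⟩
  obtain ⟨S', hS'⟩ := hxp'.exists_le_sylow
  obtain ⟨c, hc⟩ := MulAction.exists_smul_eq C S S'
  have hxS : (⟨⟨x, hxN⟩, hx⟩ : C) ∈ (S' : Subgroup C) := hS' (Subgroup.mem_zpowers _)
  rw [← hc, Sylow.coe_subgroup_smul, Subgroup.mem_pointwise_smul_iff_inv_smul_mem, hS] at hxS
  have hmem : ((c : N) : G)⁻¹ * x * ((c : N) : G) ∈ A := by
    rw [← hC]
    refine ⟨?_, ?_⟩
    · simp [MulAut.smul_def, T, Subgroup.mem_subgroupOf] at hxS
      exact hxS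
    · exact (Subgroup.centralizer (A : Set G)).mul_mem ((Subgroup.centralizer (A : Set G)).mul_mem
        ((Subgroup.centralizer (A : Set G)).inv_mem c.2) hx) c.2
  have hcomm := Subgroup.mem_centralizer_iff.mp (show ((c : N) : G) ∈ Subgroup.centralizer (A : Set G) from c.2) _ hmem
  have hxe : x = ((c : N) : G)⁻¹ * x * ((c : N) : G) :=
    calc x = ((c : N) : G) * (((c : N) : G)⁻¹ * x * ((c : N) : G)) * ((c : N) : G)⁻¹ := by group
      _ = _ := by rw [← hcomm, mul_inv_cancel_right]
  rw [hxe]; exact hmem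

theorem isMulCommutative_of_isSCN {P A : Subgroup G} (hA : IsSCN P A) : IsMulCommutative A :=
  Subgroup.le_centralizer_iff_isMulCommutative.mp (hA.2.2.symm.le.trans inf_le_right)

end Cfsg.Agent.OddLocal
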