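import Cfsg.Agent.Lib.OddLocal.SigmaBasic
import Cfsg.Agent.Lib.OddLocal.Basic
import Cfsg.Agent.Lib.OddLocal.ActionTools
import Cfsg.Agent.Lib.OddLocal.TransitivityPi
import Cfsg.Agent.Lib.OddLocal.TransHyp
import Cfsg.Agent.Lib.Basics.ThompsonFpf
import Cfsg.Agent.S1412

/-! The exceptional maximal subgroups of BG Section 11. -/

set_option autoImplicit false
set_option linter.unusedSectionVars false
set_option linter.style.haveILetI false

namespace Cfsg.Agent.OddLocal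

open scoped commutatorElement
open Cfsg
open Basics (IsSylowIn)

universe u

variable {G : Type u} [Group G] [Finite G] {p : ℕ} [hp : Fact p.Prime]

theorem _root_.Cfsg.Agent.Basics.IsSylowIn.exists_sylow_top (hG : IsMinSimpleOddOrder G) {M : Subgroup G} (hM : IsCoatom M) {q : ℕ}
    [Fact q.Prime] (hq : q ∈ Cfsg.sigma M) {Q : Subgroup G} (hQ : IsSylowIn q (Cfsg.sigmaCore M) Q) :
    ∃ P : Sylow q G, (P : Subgroup G) = Q := by
  refine ⟨Sylow.ofCard Q (hQ.2.trans ?_), by rw [Sylow.coe_ofCard]⟩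
  rw [← Subgroup.card_mul_index (Cfsg.sigmaCore M), Nat.factorization_mul Nat.card_pos.ne' Subgroup.index_ne_zero_of_finite,
    Finsupp.add_apply, Nat.factorization_eq_zero_of_not_dvd ((sigmaCore_hall hG hM).2.2 q Fact.out hq), add_zero]

theorem _root_.Cfsg.Agent.Basics.IsSylowIn.sigma_ne_bot (hG : IsMinSimpleOddOrder G) {M : Subgroup G} (hM : IsCoatom M) {q : ℕ}
    [Fact q.Prime] (hq : q ∈ Cfsg.sigma M) {Q : Subgroup G} (hQ : IsSylowIn q (Cfsg.sigmaCore M) Q) : Q ≠ ⊥ := by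
  obtain ⟨P, rfl⟩ := hQ.exists_sylow_top hG hM hq
  exact P.ne_bot_of_dvd_card (hq.2.1.trans (Subgroup.card_subgroup_dvd_card M))

theorem _root_.Cfsg.Agent.Basics.IsSylowIn.mem_maxInv (hG : IsMinSimpleOddOrder G) {M A : Subgroup G} (hM : IsCoatom M) {q : ℕ}
    [Fact q.Prime] (hq : q ∈ Cfsg.sigma M) {Q : Subgroup G} (hQ : IsSylowIn q (Cfsg.sigmaCore M) Q)
    (hA : A ≤ Subgroup.normalizer (Q : Set G)) : Q ∈ maxInvSubgroups ⊤ A {q} := by
  obtain ⟨P, rfl⟩ := hQ.exists_sylow_top hG hM hq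
  exact ⟨mem_invSubgroups_singleton.mpr ⟨P.2, hA⟩, fun R hR hle =>
    P.3 (mem_invSubgroups_singleton.mp hR).1 hle⟩

/-- A subgroup normalized by `M` is normalized by a conjugate after conjugation. -/
theorem conj_le_normalizer_conj {M U : Subgroup G} (h : M ≤ Subgroup.normalizer (U : Set G)) (g : G) :
    M.map (MulAut.conj g).toMonoidHom ≤
      Subgroup.normalizer ((U.map (MulAut.conj g).toMonoidHom : Subgroup G) : Set G) :=
  (Subgroup.map_mono h).trans (Subgroup.le_normalizer_map _)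

theorem coprime_of_pGroup {A K : Subgroup G} (hA : IsPGroup p A) (hK : ¬ p ∣ Nat.card K) :
    (Nat.card A).Coprime (Nat.card K) := by
  obtain ⟨k, hk⟩ := IsPGroup.iff_card.mp hA
  rw [hk]
  exact (hp.out.coprime_iff_not_dvd.mpr hK).pow_left k

/-- Two invariant Sylow subgroups of conjugates of `M_σ` meeting one proper subgroup. -/
theorem mem_of_common (hG : IsMinSimpleOddOrder G) {M A : Subgroup G} (hM : IsCoatom M)
    (hT : TransitivityHypothesis A) (hC : Subgroup.centralizer (A : Set G) ≤ M) {q : ℕ} [Fact q.Prime]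
    (hqA : ¬ q ∣ Nat.card A) (hq : q ∈ Cfsg.sigma M) {Q₁ Q : Subgroup G} {g : G}
    (h₁ : IsSylowIn q (Cfsg.sigmaCore M) Q₁) (hA₁ : A ≤ Subgroup.normalizer (Q₁ : Set G))
    (h₂ : IsSylowIn q (Cfsg.sigmaCore M) Q)
    (hA₂ : A ≤ Subgroup.normalizer ((Q.map (MulAut.conj g).toMonoidHom : Subgroup G) : Set G))
    {H : Subgroup G} (hH : H ≠ ⊤) (hAH : A ≤ H) (hH₁ : H ⊓ Q₁ ≠ ⊥)
    (hH₂ : H ⊓ Q.map (MulAut.conj g).toMonoidHom ≠ ⊥) : g ∈ M := by
  obtain ⟨P, hP⟩ := h₂.exists_sylow_top hG hM hq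
  have hm : Q.map (MulAut.conj g).toMonoidHom ∈ maxInvSubgroups ⊤ A {q} := by
    refine ⟨mem_invSubgroups_singleton.mpr ⟨h₂.isPGroup.map _, hA₂⟩, fun R hR hle => ?_⟩
    subst hP
    exact (g • P).3 (mem_invSubgroups_singleton.mp hR).1 hle
  obtain ⟨k, hk, e⟩ := conj_of_common hG hT hqA (h₁.mem_maxInv hG hM hq hA₁) hm hH hAH hH₁ hH₂
  have hkM : k ∈ M := hC (piCoreOf_le _ _ hk)
  have hle : Q.map (MulAut.conj g).toMonoidHom ≤ M := by
    rw [e, ← map_conj_eq_self hkM]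
    exact Subgroup.map_mono (h₁.1.trans (sigmaCore_le M))
  obtain ⟨m, hm', c, hc, rfl⟩ := sigma_fusion hG hM hq h₂.isPGroup (h₂.sigma_ne_bot hG hM hq)
    (h₂.1.trans (sigmaCore_le M)) hle
  refine mul_mem hm' (sylow_normalizer_le hG hM hq (P := P) (hP ▸ h₂.1.trans (sigmaCore_le M)) ?_)
  exact hP ▸ Subgroup.centralizer_le_normalizer _ hc

theorem exists_sylowIn_ge {M A : Subgroup G} (hA : IsPGroup p A) (hAM : A ≤ M) :
    ∃ P : Subgroup G, IsSylowIn p M P ∧ A ≤ P := by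
  obtain ⟨S, hS⟩ := (hA.comap_subtype (K := M)).exists_le_sylow
  exact ⟨_, Basics.isSylowIn_map S, fun a ha => ⟨⟨a, hAM ha⟩, hS ha, rfl⟩⟩

/-- A `p`-subgroup of `M` above a Sylow subgroup of `M` equals it. -/
theorem _root_.Cfsg.Agent.Basics.IsSylowIn.eq_of_le {M P R : Subgroup G} (h : IsSylowIn p M P) (hR : IsPGroup p R) (hRM : R ≤ M)
    (hle : P ≤ R) : R = P := by
  refine (Subgroup.eq_of_le_of_card_ge hle ?_).symm
  obtain ⟨k, hk⟩ := IsPGroup.iff_card.mp hR
  rw [hk, h.2]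
  refine Nat.pow_le_pow_right hp.out.pos ((hp.out.pow_dvd_iff_le_factorization Nat.card_pos.ne').mp ?_)
  rw [← hk]
  exact Subgroup.card_dvd_of_le hRM

/-- An elementary abelian group of order `p ^ 2` of `M` contains the elements of order `p` centralizing it,
for `p ∉ σ(M)`. -/
theorem mem_of_centralizes_ea (hG : IsMinSimpleOddOrder G) {M E : Subgroup G} (hM : IsCoatom M)
    (hps : p ∉ Cfsg.sigma M) (hEM : E ≤ M) (hE : IsElementaryAbelian p E) (hE2 : Nat.card E = p ^ 2) {x : G}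
    (hx : x ∈ Subgroup.centralizer (E : Set G)) (hxp : x ^ p = 1) : x ∈ E :=
  (ea_maximal_of_not_sigma hG hM hps hEM hE hE2 (ea_sup_zpowers hE hx hxp) le_sup_left).le
    (Subgroup.mem_sup_right (Subgroup.mem_zpowers x))

/-- The hypothesis of BG Section 11. -/
structure Exc (p : ℕ) (M A A₀ : Subgroup G) : Prop where
  max : IsCoatom M
  notσ : p ∉ Cfsg.sigma M
  le : A ≤ M
  ea : IsElementaryAbelian p A
  card : Nat.card A = p ^ 2
  line_le : A₀ ≤ A
  line_card : Nat.card A₀ = p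
  line_norm : Subgroup.normalizer (A₀ : Set G) ≤ M

namespace Exc

variable {M A A₀ : Subgroup G}

theorem isPGroup (h : Exc p M A A₀) : IsPGroup p A := isPGroup_of_exponent h.ea.2

theorem ne_bot (h : Exc p M A A₀) : A ≠ ⊥ := fun e => by
  have := h.card
  rw [e, Subgroup.card_bot] at this
  exact (Nat.one_lt_pow two_ne_zero hp.out.one_lt).ne this

theorem line_ne_bot (h : Exc p M A A₀) : A₀ ≠ ⊥ := fun e => by
  have := h.line_card
  rw [e, Subgroup.card_bot] at this
  exact hp.out.one_lt.ne this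

theorem dvd_card (h : Exc p M A A₀) : p ∣ Nat.card M :=
  (h.card ▸ dvd_pow_self p two_ne_zero).trans (Subgroup.card_dvd_of_le h.le)

theorem dvd_cardG (h : Exc p M A A₀) : p ∣ Nat.card G := h.dvd_card.trans (Subgroup.card_subgroup_dvd_card M)

theorem not_dvd_sigma (h : Exc p M A A₀) : ¬ p ∣ Nat.card (Cfsg.sigmaCore M) := not_dvd_sigmaCore hp.out h.notσ

theorem le_normalizer_core (h : Exc p M A A₀) : A ≤ Subgroup.normalizer (Cfsg.sigmaCore M : Set G) :=
  h.le.trans (le_normalizer_sigmaCore M)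

theorem solvable (h : Exc p M A A₀) : Group.IsSolvable A := by
  haveI := h.isPGroup.isNilpotent
  infer_instance

theorem mem (h : Exc p M A A₀) (hG : IsMinSimpleOddOrder G) {x : G} (hx : x ∈ Subgroup.centralizer (A : Set G))
    (hxp : x ^ p = 1) : x ∈ A :=
  mem_of_centralizes_ea hG h.max h.notσ h.le h.ea h.card hx hxp

theorem transHyp (h : Exc p M A A₀) (hG : IsMinSimpleOddOrder G) : TransitivityHypothesis A :=
  transitivityHypothesis_of_omega hG h.dvd_cardG h.isPGroup h.ne_bot h.ea.1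
    fun x hx hxo => h.mem hG hx (hxo ▸ pow_orderOf_eq_one x)

theorem centralizer_le (h : Exc p M A A₀) : Subgroup.centralizer (A : Set G) ≤ M :=
  ((Subgroup.centralizer_le h.line_le).trans (Subgroup.centralizer_le_normalizer _)).trans h.line_norm

/-- BG 11.2. -/
theorem inf_conj_eq_bot (h : Exc p M A A₀) (hG : IsMinSimpleOddOrder G) {g : G} (hg : g ∉ M)
    (hAg : A ≤ M.map (MulAut.conj g).toMonoidHom) :
    Cfsg.sigmaCore M ⊓ M.map (MulAut.conj g).toMonoidHom = ⊥ := by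
  by_contra hne
  set K := Cfsg.sigmaCore M ⊓ M.map (MulAut.conj g).toMonoidHom with hK
  obtain ⟨q, hq, hqK⟩ := Nat.exists_prime_and_dvd (fun e => hne (Subgroup.card_eq_one.mp e))
  haveI := Fact.mk hq
  have hqM : q ∣ Nat.card (Cfsg.sigmaCore M) := hqK.trans (Subgroup.card_dvd_of_le inf_le_left)
  have hqσ : q ∈ Cfsg.sigma M := piCoreOf_primes _ M hq hqM
  have hpK : ¬ p ∣ Nat.card K := fun e => h.not_dvd_sigma (e.trans (Subgroup.card_dvd_of_le inf_le_left))
  have hqA : ¬ q ∣ Nat.card A := fun e => by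
    rw [h.card] at e
    exact h.notσ ((Nat.prime_dvd_prime_iff_eq hq hp.out).mp (hq.dvd_of_dvd_pow e) ▸ hqσ)
  have hAK : A ≤ Subgroup.normalizer (K : Set G) :=
    (le_inf h.le_normalizer_core (hAg.trans Subgroup.le_normalizer)).trans le_normalizer_inf'
  obtain ⟨I, hI, hAI⟩ := Basics.exists_invariant_isSylowIn A K hAK (coprime_of_pGroup h.isPGroup hpK)
    (Or.inl h.solvable) q
  have hI1 : I ≠ ⊥ := fun e => by
    have h1 := hI.2
    rw [e, Subgroup.card_bot] at h1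
    have h2 := hq.factorization_pos_of_dvd Nat.card_pos.ne' hqK
    exact (Nat.one_lt_pow h2.ne' hq.one_lt).ne h1
  obtain ⟨Q₁, hQ₁, hIQ₁, hAQ₁⟩ := Basics.exists_invariant_isSylowIn_ge A (Cfsg.sigmaCore M) h.le_normalizer_core
    (coprime_of_pGroup h.isPGroup h.not_dvd_sigma) (Or.inl h.solvable) q I (hI.1.trans inf_le_left) hI.isPGroup hAI
  -- the conjugate core
  set K' := (Cfsg.sigmaCore M).map (MulAut.conj g).toMonoidHom with hK'
  have hAK' : A ≤ Subgroup.normalizer (K' : Set G) :=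
    hAg.trans (conj_le_normalizer_conj (le_normalizer_sigmaCore M) g)
  have hcard : Nat.card K' = Nat.card (Cfsg.sigmaCore M) :=
    Subgroup.card_map_of_injective (MulAut.conj g).injective
  have hIK' : I ≤ K' := by
    intro x hx
    obtain ⟨m, hm, e⟩ := (hI.1 hx).2
    refine ⟨m, ?_, e⟩
    have hz : Subgroup.zpowers m ≤ M := Subgroup.zpowers_le.mpr hm
    refine pGroup_le_sigmaCore hG h.max hqσ (r := q) ?_ hz (Subgroup.mem_zpowers m)
    obtain ⟨k, hk⟩ := hI.isPGroup ⟨x, hx⟩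
    have hxk : x ^ q ^ k = 1 := congrArg Subtype.val hk
    rw [← e, ← map_pow, map_eq_one_iff (f := (MulAut.conj g).toMonoidHom) (MulAut.conj g).injective] at hxk
    obtain ⟨j, -, hj⟩ := (Nat.dvd_prime_pow hq).mp (orderOf_dvd_of_pow_eq_one hxk)
    exact IsPGroup.of_card (n := j) (by rw [Nat.card_zpowers, hj])
  obtain ⟨Q₂, hQ₂, hIQ₂, hAQ₂⟩ := Basics.exists_invariant_isSylowIn_ge A K' hAK'
    (hcard.symm ▸ coprime_of_pGroup h.isPGroup h.not_dvd_sigma) (Or.inl h.solvable) q I hIK' hI.isPGroup hAI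
  set Q := Q₂.map (MulAut.conj g⁻¹).toMonoidHom with hQ
  have hback : Q.map (MulAut.conj g).toMonoidHom = Q₂ := by
    rw [hQ, map_conj_map_conj, mul_inv_cancel, map_conj_one]
  have hQS : IsSylowIn q (Cfsg.sigmaCore M) Q := by
    refine ⟨(Subgroup.map_mono hQ₂.1).trans ?_, ?_⟩
    · rw [hK', map_conj_map_conj, inv_mul_cancel, map_conj_one]
    · rw [hQ, Subgroup.card_map_of_injective (MulAut.conj g⁻¹).injective, hQ₂.2, hcard]
  exact hg (mem_of_common hG h.max (h.transHyp hG) h.centralizer_le hqA hqσ hQ₁ hAQ₁ hQS (hback.symm ▸ hAQ₂)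
    (normalizer_ne_top hG hI1 (pGroup_ne_top hG hI.isPGroup)) hAI
    (fun e => hI1 (le_bot_iff.mp (e ▸ le_inf Subgroup.le_normalizer hIQ₁)))
    (fun e => hI1 (le_bot_iff.mp (e ▸ le_inf Subgroup.le_normalizer (hback.symm ▸ hIQ₂)))))

/-- The conjugates of `A₀` by elements outside `M` act fixed point freely on `M_σ`. -/
theorem inf_centralizer_conj (h : Exc p M A A₀) (hG : IsMinSimpleOddOrder G) {g : G} (hg : g ∉ M)
    (hAg : A ≤ M.map (MulAut.conj g).toMonoidHom) :
    Cfsg.sigmaCore M ⊓ Subgroup.centralizer ((A₀.map (MulAut.conj g).toMonoidHom : Subgroup G) : Set G) = ⊥ := by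
  refine le_bot_iff.mp ((inf_le_inf_left _ fun x hx => ?_).trans (h.inf_conj_eq_bot hG hg hAg).le)
  refine ⟨g⁻¹ * x * g, h.line_norm (Subgroup.centralizer_le_normalizer _ (Subgroup.mem_centralizer_iff.mpr
    fun a ha => ?_)), by simp [mul_assoc]⟩
  have h1 := Subgroup.mem_centralizer_iff.mp hx _ ⟨a, ha, rfl⟩
  change g * a * g⁻¹ * x = x * (g * a * g⁻¹) at h1
  calc a * (g⁻¹ * x * g) = g⁻¹ * (g * a * g⁻¹ * x) * g := by group
    _ = g⁻¹ * (x * (g * a * g⁻¹)) * g := by rw [h1]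
    _ = g⁻¹ * x * g * a := by group

theorem le_map_conj_of_normalizer {n : G} (hn : n ∈ Subgroup.normalizer (A : Set G)) (hAM : A ≤ M) :
    A ≤ M.map (MulAut.conj n).toMonoidHom :=
  (Subgroup.mem_normalizer_iff_map_conj_eq.mp hn).ge.trans (Subgroup.map_mono hAM)

/-- A line of `A` moved outside `M`. -/
theorem conj_line (h : Exc p M A A₀) (hG : IsMinSimpleOddOrder G) {n : G}
    (hn : n ∈ Subgroup.normalizer (A : Set G)) (hnM : n ∉ M) :
    A₀.map (MulAut.conj n).toMonoidHom ≤ A ∧ Nat.card ↥(A₀.map (MulAut.conj n).toMonoidHom) = p ∧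
      A₀.map (MulAut.conj n).toMonoidHom ≠ A₀ ∧
      Cfsg.sigmaCore M ⊓ Subgroup.centralizer ((A₀.map (MulAut.conj n).toMonoidHom : Subgroup G) : Set G) = ⊥ := by
  refine ⟨(Subgroup.map_mono h.line_le).trans (Subgroup.mem_normalizer_iff_map_conj_eq.mp hn).le, ?_, fun e => ?_,
    h.inf_centralizer_conj hG hnM (le_map_conj_of_normalizer hn h.le)⟩
  · rw [Subgroup.card_map_of_injective (MulAut.conj n).injective, h.line_card]
  · exact hnM (h.line_norm (Subgroup.mem_normalizer_iff_map_conj_eq.mpr e))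

/-- A line fixed by an element outside `M` normalizing a `p`-subgroup centralizing it. -/
theorem inf_centralizer_of_fixed (h : Exc p M A A₀) (hG : IsMinSimpleOddOrder G) {P Z : Subgroup G} {g : G}
    (hP : IsPGroup p P) (hAP : A ≤ P) (hPM : P ≤ M) (hgP : g ∈ Subgroup.normalizer (P : Set G)) (hgM : g ∉ M)
    (hZA : Z ≤ A) (hZ1 : Z ≠ ⊥) (hPZ : P ≤ Subgroup.centralizer (Z : Set G))
    (hgZ : g ∈ Subgroup.normalizer (Z : Set G)) :
    Cfsg.sigmaCore M ⊓ Subgroup.centralizer (Z : Set G) = ⊥ := by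
  by_contra hne
  set K := Cfsg.sigmaCore M ⊓ Subgroup.centralizer (Z : Set G) with hK
  obtain ⟨q, hq, hqK⟩ := Nat.exists_prime_and_dvd (fun e => hne (Subgroup.card_eq_one.mp e))
  haveI := Fact.mk hq
  have hqM : q ∣ Nat.card (Cfsg.sigmaCore M) := hqK.trans (Subgroup.card_dvd_of_le inf_le_left)
  have hqσ : q ∈ Cfsg.sigma M := piCoreOf_primes _ M hq hqM
  have hqA : ¬ q ∣ Nat.card A := fun e => by
    rw [h.card] at e
    exact h.notσ ((Nat.prime_dvd_prime_iff_eq hq hp.out).mp (hq.dvd_of_dvd_pow e) ▸ hqσ)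
  have hPK : P ≤ Subgroup.normalizer (K : Set G) :=
    (le_inf (hPM.trans (le_normalizer_sigmaCore M)) (hPZ.trans Subgroup.le_normalizer)).trans le_normalizer_inf'
  have hpK : ¬ p ∣ Nat.card K := fun e => h.not_dvd_sigma (e.trans (Subgroup.card_dvd_of_le inf_le_left))
  haveI := hP.isNilpotent
  have hPs : Group.IsSolvable P := inferInstance
  obtain ⟨I, hI, hPI⟩ := Basics.exists_invariant_isSylowIn P K hPK (coprime_of_pGroup hP hpK) (Or.inl hPs) q
  have hI1 : I ≠ ⊥ := fun e => by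
    have h1 := hI.2
    rw [e, Subgroup.card_bot] at h1
    have h2 := hq.factorization_pos_of_dvd Nat.card_pos.ne' hqK
    exact (Nat.one_lt_pow h2.ne' hq.one_lt).ne h1
  obtain ⟨Q₁, hQ₁, hIQ₁, hPQ₁⟩ := Basics.exists_invariant_isSylowIn_ge P (Cfsg.sigmaCore M)
    (hPM.trans (le_normalizer_sigmaCore M)) (coprime_of_pGroup hP h.not_dvd_sigma) (Or.inl hPs) q I
    (hI.1.trans inf_le_left) hI.isPGroup hPI
  have hA₂ : A ≤ Subgroup.normalizer ((Q₁.map (MulAut.conj g).toMonoidHom : Subgroup G) : Set G) :=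
    hAP.trans ((Subgroup.mem_normalizer_iff_map_conj_eq.mp hgP).ge.trans (conj_le_normalizer_conj hPQ₁ g))
  obtain ⟨z, hzZ, hz1⟩ : ∃ z ∈ Z, z ≠ 1 := by
    by_contra hc
    push Not at hc
    exact hZ1 ((Subgroup.eq_bot_iff_forall Z).mpr hc)
  refine hgM (mem_of_common hG h.max (h.transHyp hG) h.centralizer_le hqA hqσ hQ₁ (hAP.trans hPQ₁) hQ₁ hA₂
    (H := Subgroup.centralizer (Z : Set G)) (centralizer_ne_top hG hzZ hz1)
    (hAP.trans hPZ) (fun e => hI1 (le_bot_iff.mp (e ▸ le_inf (hI.1.trans inf_le_right) hIQ₁))) fun e => hI1 ?_)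
  refine le_bot_iff.mp fun x hx => ?_
  have hgx : g * x * g⁻¹ ∈ Subgroup.centralizer (Z : Set G) :=
    (Subgroup.mem_normalizer_iff.mp ((Subgroup.le_normalizer_iff_commutator_le_left.mpr
      (Subgroup.le_normalizer_iff_commutator_le_left.mp (show Subgroup.normalizer (Z : Set G) ≤
        Subgroup.normalizer (Subgroup.centralizer (Z : Set G) : Set G) from
          le_normalizer_centralizer le_rfl))) hgZ) x).mp (hI.1 hx).2
  have h1 : g * x * g⁻¹ ∈ (Subgroup.centralizer (Z : Set G)) ⊓ Q₁.map (MulAut.conj g).toMonoidHom :=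
    ⟨hgx, ⟨x, hIQ₁ hx, rfl⟩⟩
  rw [e, Subgroup.mem_bot, conj_eq_one_iff] at h1
  exact Subgroup.mem_bot.mpr h1

theorem exists_notMem_normalizer (h : Exc p M A A₀) {P : Subgroup G} (hP : IsSylowIn p M P) :
    ∃ g ∈ Subgroup.normalizer (P : Set G), g ∉ M := by
  obtain ⟨S, rfl⟩ := hP.exists_sylow
  exact SetLike.not_le_iff_exists.mp (not_normalizer_le h.notσ h.dvd_card S)

/-- `A` is central in a Sylow `p`-subgroup of `M` containing it. -/
theorem le_centralizer_sylow (h : Exc p M A A₀) (hG : IsMinSimpleOddOrder G) {P : Subgroup G}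
    (hP : IsSylowIn p M P) (hAP : A ≤ P) : A ≤ Subgroup.centralizer (P : Set G) := by
  by_contra hnc
  set Z := A ⊓ Subgroup.centralizer (P : Set G) with hZ
  have hPp : IsPGroup p P := hP.isPGroup
  have hcentral : ∀ z ∈ P, z ∈ Subgroup.centralizer (P : Set G) → z ^ p = 1 → z ∈ Z := fun z _ hzc hzp =>
    ⟨h.mem hG (Subgroup.centralizer_le hAP hzc) hzp, hzc⟩
  obtain ⟨z, hzP, hzc, hzo⟩ : ∃ z ∈ P, z ∈ Subgroup.centralizer (P : Set G) ∧ orderOf z = p := by
    haveI : Nontrivial P := (Subgroup.nontrivial_iff_ne_bot P).mpr fun e => h.ne_bot (le_bot_iff.mp (e ▸ hAP))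
    haveI : Nontrivial (Subgroup.center P) := hPp.center_nontrivial
    obtain ⟨w, hw⟩ := exists_prime_orderOf_dvd_card' (G := Subgroup.center P) p (by
      rcases (hPp.to_subgroup (Subgroup.center P)).card_eq_or_dvd with e | e
      · exact absurd e Finite.one_lt_card.ne'
      · exact e)
    exact ⟨_, (w : P).2, Subgroup.mem_centralizer_iff.mpr fun v hv =>
      congrArg Subtype.val (Subgroup.mem_center_iff.mp w.2 ⟨v, hv⟩),
      by rw [Subgroup.orderOf_coe, Subgroup.orderOf_coe, hw]⟩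
  have hzZ : z ∈ Z := hcentral z hzP hzc (hzo ▸ pow_orderOf_eq_one z)
  have hz1 : z ≠ 1 := fun e => by rw [e, orderOf_one] at hzo; exact hp.out.one_lt.ne hzo
  have hZne : Z ≠ A := fun e => hnc (e ▸ inf_le_right)
  have hZc : Nat.card Z = p := by
    obtain ⟨k, hk, e⟩ := (Nat.dvd_prime_pow hp.out).mp (h.card ▸ Subgroup.card_dvd_of_le (inf_le_left : Z ≤ A))
    interval_cases k
    · exact absurd (Subgroup.mem_bot.mp (Subgroup.card_eq_one.mp (e.trans (pow_zero p)) ▸ hzZ)) hz1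
    · rw [e, pow_one]
    · exact absurd (Subgroup.eq_of_le_of_card_ge inf_le_left (h.card.trans e.symm).le) hZne
  have hZz : Subgroup.zpowers z = Z :=
    Subgroup.eq_of_le_of_card_ge (Subgroup.zpowers_le.mpr hzZ) (by rw [hZc, Nat.card_zpowers, hzo])
  have hPZ : P ≤ Subgroup.centralizer (Z : Set G) := Subgroup.le_centralizer_iff.mp inf_le_right
  have hNZ : Subgroup.normalizer (P : Set G) ≤ Subgroup.normalizer (Z : Set G) := by
    intro n hn
    refine mem_normalizer_of_conj_mem fun a ha => hcentral _ ((Subgroup.mem_normalizer_iff.mp hn a).mp (hAP ha.1)) ?_ ?_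
    · exact (Subgroup.mem_normalizer_iff.mp (le_normalizer_centralizer le_rfl hn) a).mp ha.2
    · rw [conj_pow, h.ea.2 a ha.1, mul_one, mul_inv_cancel]
  obtain ⟨g, hgP, hgM⟩ := h.exists_notMem_normalizer hP
  have hZA₀ : Z ≠ A₀ := fun e => hgM (h.line_norm (e ▸ hNZ hgP))
  have hZfpf := h.inf_centralizer_of_fixed hG hPp hAP hP.1 hgP hgM inf_le_left
    (fun e => by rw [show Z = ⊥ from e, Subgroup.card_bot] at hZc; exact hp.out.one_lt.ne hZc) hPZ (hNZ hgP)
  -- the conjugate of `A` by `g`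
  set E := A.map (MulAut.conj g).toMonoidHom with hEdef
  have hEP : E ≤ P := (Subgroup.map_mono hAP).trans (Subgroup.mem_normalizer_iff_map_conj_eq.mp hgP).le
  have hE : IsElementaryAbelian p E := ea_map h.ea _
  have hE2 : Nat.card E = p ^ 2 := by rw [hEdef, Subgroup.card_map_of_injective (MulAut.conj g).injective, h.card]
  have hZE : Z ≤ E := by
    rw [← Subgroup.mem_normalizer_iff_map_conj_eq.mp (hNZ hgP)]
    exact Subgroup.map_mono inf_le_left
  obtain ⟨a, ha, ha1⟩ : ∃ a ∈ A₀, a ≠ 1 := by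
    by_contra hc
    push Not at hc
    exact h.line_ne_bot ((Subgroup.eq_bot_iff_forall A₀).mpr hc)
  have ha₀ : Subgroup.zpowers a = A₀ := Subgroup.eq_of_le_of_card_ge (Subgroup.zpowers_le.mpr ha)
    (by rw [h.line_card, card_zpowers_of_ea h.ea (h.line_le ha) ha1])
  set e := g * a * g⁻¹ with hedef
  have he : e ∈ E := ⟨a, h.line_le ha, rfl⟩
  have hez : e ∉ Z := fun hm => hZA₀ (by
    have ha' : a ∈ Z := (Subgroup.mem_normalizer_iff.mp (hNZ hgP) a).mpr hm
    rw [← ha₀]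
    exact (Subgroup.eq_of_le_of_card_ge (Subgroup.zpowers_le.mpr ha') (by
      rw [hZc, card_zpowers_of_ea h.ea (h.line_le ha) ha1])).symm)
  -- an element moving `e`
  set C := P ⊓ Subgroup.centralizer (E : Set G) with hC
  have hEC : E ≤ C := le_inf hEP (Subgroup.le_centralizer_iff_isMulCommutative.mpr hE.1)
  have hCP : C < P := by
    refine lt_of_le_of_ne inf_le_left fun e' => hez ?_
    have hec : e ∈ Subgroup.centralizer (P : Set G) :=
      Subgroup.le_centralizer_iff.mp (e'.ge.trans inf_le_right) he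
    exact hcentral e (hEP he) hec (hE.2 e he)
  obtain ⟨y, hy, hyC⟩ := SetLike.exists_of_lt (lt_inf_normalizer_of_lt hPp hCP)
  have hyP : y ∈ P := hy.1
  have hyE : y ∈ Subgroup.normalizer (E : Set G) := by
    refine mem_normalizer_of_conj_mem fun v hv => ?_
    have h1 : y * v * y⁻¹ ∈ C := (Subgroup.mem_normalizer_iff.mp hy.2 v).mp (hEC hv)
    exact mem_of_centralizes_ea hG h.max h.notσ (hEP.trans hP.1) hE hE2 h1.2
      (by rw [conj_pow, hE.2 v hv, mul_one, mul_inv_cancel])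
  have hyz : y * z * y⁻¹ = z := by
    rw [Subgroup.mem_centralizer_iff.mp hzc y hyP, mul_inv_cancel_right]
  have hye : y * e * y⁻¹ ≠ e := by
    intro hfix
    refine hyC ⟨hyP, Subgroup.mem_centralizer_iff.mpr fun v hv => ?_⟩
    have hsup : Subgroup.zpowers z ⊔ Subgroup.zpowers e = E := sup_eq_of_lines hE2
      (Subgroup.zpowers_le.mpr (hZE hzZ)) (Subgroup.zpowers_le.mpr he) (by rw [Nat.card_zpowers, hzo])
      (card_zpowers_of_ea hE he fun e1 => hez (e1 ▸ one_mem Z))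
      (fun e1 => hez (hZz ▸ e1 ▸ Subgroup.mem_zpowers e))
    have hle : E ≤ Subgroup.centralizer ({y} : Set G) := by
      rw [← hsup]
      refine sup_le (Subgroup.zpowers_le.mpr ?_) (Subgroup.zpowers_le.mpr ?_)
      · exact Subgroup.mem_centralizer_singleton_iff.mpr (mul_inv_eq_iff_eq_mul.mp hyz).symm
      · exact Subgroup.mem_centralizer_singleton_iff.mpr (mul_inv_eq_iff_eq_mul.mp hfix).symm
    exact Subgroup.mem_centralizer_singleton_iff.mp (hle hv)
  obtain ⟨k, hk⟩ := hPp ⟨y, hyP⟩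
  refine sigmaCore_ne_bot hG h.max (le_bot_iff.mp (le_of_lines hE hE2
    ((hEP.trans hP.1).trans (le_normalizer_sigmaCore M)) h.not_dvd_sigma fun X hXE hX => ?_))
  by_cases hXZ : X = Subgroup.zpowers z
  · rw [hXZ, hZz, hZfpf]
  obtain ⟨i, hi⟩ := exists_conj_line hE hE2 (hZE hzZ) hz1 he hyE (k := k) (congrArg Subtype.val hk) hyz hye hXE hX hXZ
  have hn : y ^ i * g ∈ Subgroup.normalizer (P : Set G) := mul_mem (Subgroup.le_normalizer (pow_mem hyP i)) hgP
  have hnM : y ^ i * g ∉ M := fun hm => hgM (by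
    have := mul_mem (inv_mem (hP.1 (pow_mem hyP i))) hm
    rwa [inv_mul_cancel_left] at this)
  have hAg : A ≤ M.map (MulAut.conj (y ^ i * g)).toMonoidHom :=
    hAP.trans ((Subgroup.mem_normalizer_iff_map_conj_eq.mp hn).ge.trans (Subgroup.map_mono hP.1))
  refine le_of_eq ?_
  rw [← hi, ← h.inf_centralizer_conj hG hnM hAg, ← map_conj_map_conj, ← ha₀,
    show Subgroup.zpowers e = (Subgroup.zpowers a).map (MulAut.conj g).toMonoidHom from
      ((MulAut.conj g).toMonoidHom.map_zpowers a).symm]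

theorem omega_sylow (h : Exc p M A A₀) (hG : IsMinSimpleOddOrder G) {P : Subgroup G}
    (hP : IsSylowIn p M P) (hAP : A ≤ P) {x : G} (hx : x ∈ P) (hxp : x ^ p = 1) : x ∈ A :=
  h.mem hG (Subgroup.le_centralizer_iff.mp (h.le_centralizer_sylow hG hP hAP) hx) hxp

theorem normalizer_le (h : Exc p M A A₀) (hG : IsMinSimpleOddOrder G) {P : Subgroup G}
    (hP : IsSylowIn p M P) (hAP : A ≤ P) :
    Subgroup.normalizer (P : Set G) ≤ Subgroup.normalizer (A : Set G) := fun n hn =>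
  mem_normalizer_of_conj_mem fun a ha => h.omega_sylow hG hP hAP ((Subgroup.mem_normalizer_iff.mp hn a).mp (hAP ha))
    (by rw [conj_pow, h.ea.2 a ha, mul_one, mul_inv_cancel])

theorem exists_notMem (h : Exc p M A A₀) (hG : IsMinSimpleOddOrder G) :
    ∃ n ∈ Subgroup.normalizer (A : Set G), n ∉ M := by
  obtain ⟨P, hP, hAP⟩ := exists_sylowIn_ge h.isPGroup h.le
  obtain ⟨n, hn, hnM⟩ := h.exists_notMem_normalizer hP
  exact ⟨n, h.normalizer_le hG hP hAP hn, hnM⟩

theorem centralizer_eq_bot (h : Exc p M A A₀) (hG : IsMinSimpleOddOrder G) :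
    Cfsg.sigmaCore M ⊓ Subgroup.centralizer (A : Set G) = ⊥ := by
  obtain ⟨n, hn, hnM⟩ := h.exists_notMem hG
  obtain ⟨hle, -, -, hbot⟩ := h.conj_line hG hn hnM
  exact le_bot_iff.mp ((inf_le_inf_left _ (Subgroup.centralizer_le hle)).trans hbot.le)

theorem isNilpotent (h : Exc p M A A₀) (hG : IsMinSimpleOddOrder G) :
    Group.IsNilpotent (Cfsg.sigmaCore M) := by
  obtain ⟨n, hn, hnM⟩ := h.exists_notMem hG
  obtain ⟨hle, hc, -, hbot⟩ := h.conj_line hG hn hnM
  set X := A₀.map (MulAut.conj n).toMonoidHom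
  have hXN : X ≤ Subgroup.normalizer (Cfsg.sigmaCore M : Set G) := hle.trans h.le_normalizer_core
  refine Basics.isNilpotent_of_fpf_prime (A := X) (p := p) hc
    ((Cfsg.sigmaCore M).normalizerMonoidHom.comp (Subgroup.inclusion hXN)) fun x hx => ?_
  have h1 : (x : G) ∈ Cfsg.sigmaCore M ⊓ Subgroup.centralizer (X : Set G) := by
    refine ⟨x.2, Subgroup.mem_centralizer_iff.mpr fun a ha => ?_⟩
    exact mul_inv_eq_iff_eq_mul.mp (congrArg Subtype.val (hx ⟨a, ha⟩))
  rw [hbot, Subgroup.mem_bot] at h1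
  exact Subtype.ext h1

/-- The Sylow `p`-subgroups of `M` are abelian. -/
theorem sylow_abelian (h : Exc p M A A₀) (hG : IsMinSimpleOddOrder G) {P : Subgroup G}
    (hP : IsSylowIn p M P) (hAP : A ≤ P) : IsMulCommutative P := by
  obtain ⟨T, hPT⟩ := hP.isPGroup.exists_le_sylow
  have hp2 : p ≠ 2 := prime_ne_two hG h.dvd_cardG
  by_cases hTP : (T : Subgroup G) = P
  · -- `P` is a Sylow subgroup of `G`
    have hr : Cfsg.PRankLE p 2 (T : Subgroup G) := pRankLE_iff_le.mpr fun X hXT hX => by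
      rw [← h.card]
      exact Subgroup.card_le_of_le fun x hx => h.omega_sylow hG hP hAP (hTP ▸ hXT hx) (hX.2 x hx)
    rcases S1412.result hG p T hr with hab | ⟨P₁, P₂, hsup, -, -, hc3, hexp, -, -⟩
    · exact hTP ▸ hab
    · exfalso
      have hle : P₁ ≤ A := fun x hx => h.omega_sylow hG hP hAP (hTP ▸ hsup ▸ Subgroup.mem_sup_left hx)
        (congrArg Subtype.val (hexp ▸ Monoid.pow_exponent_eq_one (⟨x, hx⟩ : P₁)))
      have := Subgroup.card_le_of_le hle
      rw [hc3, h.card] at this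
      exact absurd ((Nat.pow_le_pow_iff_right hp.out.one_lt).mp this) (by norm_num)
  have hlt : P < (T : Subgroup G) := lt_of_le_of_ne hPT (Ne.symm hTP)
  obtain ⟨n, hnT, hnP⟩ := SetLike.exists_of_lt (lt_inf_normalizer_of_lt T.2 hlt)
  have hTM : ∀ R : Subgroup G, R ≤ (T : Subgroup G) → R ≤ M → P ≤ R → R = P := fun R hRT hRM hPR =>
    hP.eq_of_le (T.2.to_le hRT) hRM hPR
  have hnM : n ∉ M := fun hm => hnP <| by
    have h1 := hTM (P ⊔ Subgroup.zpowers n) (sup_le hPT (Subgroup.zpowers_le.mpr hnT.1))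
      (sup_le hP.1 (Subgroup.zpowers_le.mpr hm)) le_sup_left
    exact h1.le (Subgroup.mem_sup_right (Subgroup.mem_zpowers n))
  obtain ⟨a, ha, ha1⟩ : ∃ a ∈ A₀, a ≠ 1 := by
    by_contra hc
    push Not at hc
    exact h.line_ne_bot ((Subgroup.eq_bot_iff_forall A₀).mpr hc)
  have ha₀ : Subgroup.zpowers a = A₀ := Subgroup.eq_of_le_of_card_ge (Subgroup.zpowers_le.mpr ha)
    (by rw [h.line_card, card_zpowers_of_ea h.ea (h.line_le ha) ha1])
  have haT : a ∈ (T : Subgroup G) := hPT (hAP (h.line_le ha))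
  -- `a` is not central in `T`
  have hnc : n * a ≠ a * n := by
    intro e
    refine hnM (h.line_norm ?_)
    rw [← ha₀]
    refine Subgroup.centralizer_le_normalizer _ (Subgroup.mem_centralizer_iff.mpr ?_)
    rintro _ ⟨i, rfl⟩
    exact ((show Commute a n from e.symm).zpow_left i).eq
  have hPC : ∀ v ∈ P, v * a = a * v := fun v hv =>
    Subgroup.mem_centralizer_iff.mp (h.le_centralizer_sylow hG hP hAP (h.line_le ha)) v hv
  suffices hab : ∀ u ∈ (T : Subgroup G), ∀ v ∈ (T : Subgroup G), u * a = a * u → v * a = a * v → u * v = v * u from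
    ⟨⟨fun u v => Subtype.ext (hab u (hPT u.2) v (hPT v.2) (hPC u u.2) (hPC v v.2))⟩⟩
  by_cases hr : Cfsg.PRankLE p 2 (T : Subgroup G)
  · rcases S1412.result hG p T hr with hab | ⟨P₁, P₂, hsup, hcomm, -, hc3, hexp, hcyc, hω⟩
    · exact absurd (congrArg Subtype.val (hab.is_comm.comm ⟨n, hnT.1⟩ ⟨a, haT⟩)) hnc
    haveI := hcyc
    have hP2 : Subgroup.centralizer (P₂ : Set G) ≥ P₂ :=
      Subgroup.le_centralizer_iff_isMulCommutative.mpr IsCyclic.isMulCommutative
    have hn1 : P₂ ≤ Subgroup.normalizer (P₁ : Set G) := fun b hb => Subgroup.centralizer_le_normalizer _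
      (Subgroup.mem_centralizer_iff.mpr fun v hv => hcomm v hv b hb)
    -- `a` lies in `P₁`
    have haP₁ : a ∈ P₁ := by
      obtain ⟨r₁, hr₁, r₂, hr₂, e⟩ := (Basics.mem_sup_of_le_normalizer hn1).mp (hsup.symm ▸ haT)
      have h1 : r₁ ^ p = 1 := congrArg Subtype.val (hexp ▸ Monoid.pow_exponent_eq_one (⟨r₁, hr₁⟩ : P₁))
      have h2 : r₂ ^ p = 1 := by
        have h3 : a ^ p = 1 := h.ea.2 a (h.line_le ha)
        rwa [e, (show Commute r₁ r₂ from hcomm r₁ hr₁ r₂ hr₂).mul_pow, h1, one_mul] at h3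
      rw [e]
      exact mul_mem hr₁ (hω.le (Subgroup.subset_closure (show r₂ ∈ {x : G | x ∈ P₂ ∧ x ^ p = 1} from ⟨hr₂, h2⟩))).1
    -- the centralizer of `a` in `P₁` is abelian
    set C := P₁ ⊓ Subgroup.centralizer ({a} : Set G) with hC
    have hCab : ∀ u ∈ C, ∀ v ∈ C, u * v = v * u := by
      have hCcard : Nat.card C ≤ p ^ 2 := by
        obtain ⟨k, hk, e⟩ := (Nat.dvd_prime_pow hp.out).mp (hc3 ▸ Subgroup.card_dvd_of_le (inf_le_left : C ≤ P₁))
        rw [e]
        refine Nat.pow_le_pow_right hp.out.pos ?_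
        by_contra hlt2
        have hk3 : k = 3 := by omega
        have hCe : C = P₁ := Subgroup.eq_of_le_of_card_ge inf_le_left (by rw [e, hc3, hk3])
        have hT' : (T : Subgroup G) ≤ Subgroup.centralizer ({a} : Set G) := by
          rw [← hsup]
          exact sup_le (hCe ▸ inf_le_right) fun b hb =>
            Subgroup.mem_centralizer_singleton_iff.mpr (hcomm a haP₁ b hb).symm
        exact hnc (Subgroup.mem_centralizer_singleton_iff.mp (hT' hnT.1))
      obtain ⟨k, -, e⟩ := (Nat.dvd_prime_pow hp.out).mp (hc3 ▸ Subgroup.card_dvd_of_le (inf_le_left : C ≤ P₁))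
      have hk2 : k ≤ 2 := (Nat.pow_le_pow_iff_right hp.out.one_lt).mp (e ▸ hCcard)
      intro u hu v hv
      haveI hCp : IsPGroup p C := IsPGroup.of_card e
      rcases Nat.lt_or_ge k 2 with hk' | hk'
      · haveI : IsCyclic C := by
          interval_cases k
          · have hb : C = ⊥ := Subgroup.card_eq_one.mp (e.trans (pow_zero p))
            rw [hb]
            exact isCyclic_of_subsingleton
          · exact isCyclic_of_prime_card (p := p) (e.trans (pow_one p))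
        exact congrArg Subtype.val (IsCyclic.isMulCommutative.is_comm.comm (⟨u, hu⟩ : C) ⟨v, hv⟩)
      · obtain rfl : k = 2 := by omega
        exact congrArg Subtype.val (IsPGroup.commutative_of_card_eq_prime_sq (G := C) e ⟨u, hu⟩ ⟨v, hv⟩)
    intro u hu v hv hua hva
    have hdec : ∀ w ∈ (T : Subgroup G), w * a = a * w → ∃ w₁ ∈ C, ∃ w₂ ∈ P₂, w = w₁ * w₂ := by
      intro w hw hwa
      obtain ⟨w₁, hw₁, w₂, hw₂, e⟩ := (Basics.mem_sup_of_le_normalizer hn1).mp (hsup.symm ▸ hw)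
      refine ⟨w₁, ⟨hw₁, Subgroup.mem_centralizer_singleton_iff.mpr ?_⟩, w₂, hw₂, e⟩
      have hc2 : a * w₂ = w₂ * a := hcomm a haP₁ w₂ hw₂
      rw [e, mul_assoc, ← hc2, ← mul_assoc, ← mul_assoc] at hwa
      exact mul_right_cancel hwa
    obtain ⟨u₁, hu₁, u₂, hu₂, rfl⟩ := hdec u hu hua
    obtain ⟨v₁, hv₁, v₂, hv₂, rfl⟩ := hdec v hv hva
    have c12 : Commute u₂ v₁ := (hcomm v₁ hv₁.1 u₂ hu₂).symm
    have c21 : Commute u₁ v₂ := hcomm u₁ hu₁.1 v₂ hv₂
    have c22 : Commute u₂ v₂ := (Subgroup.mem_centralizer_iff.mp (hP2 hv₂) u₂ hu₂)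
    have c11 : Commute u₁ v₁ := hCab u₁ hu₁ v₁ hv₁
    exact ((c11.mul_right c21).mul_left (c12.mul_right c22)).eq
  · have hE : MaxEATwo p (A.subgroupOf (T : Subgroup G)) := by
      refine ⟨⟨⟨⟨fun a b => Subtype.ext (Subtype.ext (ea_commute h.ea a.2 b.2).eq)⟩⟩,
        fun a ha => Subtype.ext (h.ea.2 _ ha)⟩, ?_, fun x hx hxc => ?_⟩
      · rw [Basics.card_subgroupOf (hAP.trans hPT), h.card]
      · refine h.mem hG (Subgroup.mem_centralizer_iff.mpr fun b hb => congrArg Subtype.val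
          (Subgroup.mem_centralizer_iff.mp hxc ⟨b, hPT (hAP hb)⟩ hb)) (congrArg Subtype.val hx)
    have habel := hE.centralizer_abelian hp2 T.2 hr (r := ⟨a, haT⟩) (h.line_le ha) (fun hc => hnc
      (congrArg Subtype.val (Subgroup.mem_center_iff.mp hc ⟨n, hnT.1⟩)))
    intro u hu v hv hua hva
    exact congrArg (fun x => ((x : (T : Subgroup G)) : G)) (congrArg Subtype.val (habel.is_comm.comm
      ⟨⟨u, hu⟩, Subgroup.mem_centralizer_singleton_iff.mpr (Subtype.ext hua)⟩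
      ⟨⟨v, hv⟩, Subgroup.mem_centralizer_singleton_iff.mpr (Subtype.ext hva)⟩))

end Exc

end Cfsg.Agent.OddLocal
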