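import Cfsg.Agent.Lib.OddLocal.Exceptional
import Cfsg.Agent.Lib.OddLocal.FitFacts
import Cfsg.Agent.Lib.Basics.Schmidt

/-! `M_σ` meets no other maximal subgroup containing `A` (BG 11.4, 11.5). -/

set_option autoImplicit false
set_option linter.unusedSectionVars false
set_option linter.style.haveILetI false

namespace Cfsg.Agent.OddLocal

open scoped commutatorElement Pointwise
open Cfsg
open Basics (IsSylowIn)

universe u

variable {G : Type u} [Group G] [Finite G] {p : ℕ} [hp : Fact p.Prime]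

theorem exists_orderOf_eq {r : ℕ} [hr : Fact r.Prime] {U : Subgroup G} (hU : IsPGroup r U) (hU1 : U ≠ ⊥) :
    ∃ x ∈ U, orderOf x = r := by
  haveI : Nontrivial U := (Subgroup.nontrivial_iff_ne_bot U).mpr hU1
  have hd : r ∣ Nat.card U := by
    rcases hU.card_eq_or_dvd with e | e
    · exact absurd e Finite.one_lt_card.ne'
    · exact e
  obtain ⟨u, hu⟩ := exists_prime_orderOf_dvd_card' r hd
  exact ⟨u, u.2, (Subgroup.orderOf_coe u).trans hu⟩

/-- Coprime subgroups of a nilpotent group commute. -/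
theorem le_centralizer_of_isNilpotent {N U V : Subgroup G} (hN : Group.IsNilpotent N) (hU : U ≤ N) (hV : V ≤ N)
    (h : (Nat.card U).Coprime (Nat.card V)) : U ≤ Subgroup.centralizer (V : Set G) := fun u hu =>
  Subgroup.mem_centralizer_iff.mpr fun v hv => (Basics.commute_of_coprime_le hN (hV hv) (hU hu)
    ((h.symm.coprime_dvd_left (Subgroup.orderOf_dvd_natCard _ hv)).coprime_dvd_right
      (Subgroup.orderOf_dvd_natCard _ hu))).eq

theorem coprime_of_pGroups {r q : ℕ} [hr : Fact r.Prime] [hq : Fact q.Prime] (h : r ≠ q) {U V : Subgroup G}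
    (hU : IsPGroup r U) (hV : IsPGroup q V) : (Nat.card U).Coprime (Nat.card V) := by
  obtain ⟨i, hi⟩ := IsPGroup.iff_card.mp hU
  obtain ⟨j, hj⟩ := IsPGroup.iff_card.mp hV
  rw [hi, hj]
  exact Nat.coprime_pow_primes i j hr.out hq.out h

/-- An abelian characteristic piece of a nontrivial `r`-group. -/
theorem exists_omega_center {r : ℕ} [hr : Fact r.Prime] {R : Subgroup G} (hR : IsPGroup r R) (hR1 : R ≠ ⊥) :
    ∃ V : Subgroup G, V ≠ ⊥ ∧ IsElementaryAbelian r V ∧ (∀ x, x ∈ V ↔ x ∈ R ⊓ Subgroup.centralizer (R : Set G) ∧ x ^ r = 1) ∧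
      Subgroup.normalizer (R : Set G) ≤ Subgroup.normalizer (V : Set G) := by
  have hc : IsMulCommutative (R ⊓ Subgroup.centralizer (R : Set G) : Subgroup G) :=
    ⟨⟨fun a b => Subtype.ext (Subgroup.mem_centralizer_iff.mp b.2.2 a a.2.1)⟩⟩
  obtain ⟨V, hV, hmem, hn⟩ := exists_omega_abelian hc r
  refine ⟨V, ?_, hV, hmem, le_trans ((le_inf le_rfl (le_normalizer_centralizer le_rfl)).trans le_normalizer_inf') hn⟩
  haveI : Nontrivial R := (Subgroup.nontrivial_iff_ne_bot R).mpr hR1
  haveI : Nontrivial (Subgroup.center R) := hR.center_nontrivial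
  obtain ⟨z, hz⟩ := exists_prime_orderOf_dvd_card' (G := Subgroup.center R) r (by
    rcases (hR.to_subgroup (Subgroup.center R)).card_eq_or_dvd with e | e
    · exact absurd e Finite.one_lt_card.ne'
    · exact e)
  have hzo : orderOf ((z : R) : G) = r := by rw [Subgroup.orderOf_coe, Subgroup.orderOf_coe, hz]
  intro e
  have hmemV : ((z : R) : G) ∈ V := (hmem _).mpr ⟨⟨(z : R).2, Subgroup.mem_centralizer_iff.mpr fun v hv =>
    congrArg Subtype.val (Subgroup.mem_center_iff.mp z.2 ⟨v, hv⟩)⟩, hzo ▸ pow_orderOf_eq_one _⟩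
  rw [e, Subgroup.mem_bot] at hmemV
  rw [hmemV, orderOf_one] at hzo
  exact hr.out.one_lt.ne hzo

/-- A cyclic Sylow subgroup has one subgroup of each order. -/
theorem eq_of_le_cyclic {S U V : Subgroup G} (hS : IsCyclic S) (hU : U ≤ S) (hV : V ≤ S)
    (h : Nat.card U = Nat.card V) : U = V := by
  haveI := hS
  have h1 := Basics.cyclic_subgroup_eq_of_card_eq (A := U.subgroupOf S) (B := V.subgroupOf S)
    (by rw [Basics.card_subgroupOf hU, Basics.card_subgroupOf hV, h])
  rw [← Subgroup.map_subgroupOf_eq_of_le hU, h1, Subgroup.map_subgroupOf_eq_of_le hV]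

theorem card_le_of_pRankLE {r k : ℕ} {H X : Subgroup G} (h : PRankLE r k H) (hXH : X ≤ H)
    (hX : IsElementaryAbelian r X) : Nat.card X ≤ r ^ k := by
  rw [← Basics.card_subgroupOf hXH]
  exact h _ ⟨⟨fun a b => Subtype.ext (Subtype.ext (ea_commute hX a.2 b.2).eq)⟩⟩ fun a ha => Subtype.ext (hX.2 _ ha)

/-- An `r`-subgroup of a subgroup of `r`-rank one is cyclic. -/
theorem isCyclic_of_pRankLE_one {r : ℕ} [hr : Fact r.Prime] (hr2 : r ≠ 2) {H S : Subgroup G} (h : PRankLE r 1 H)
    (hSH : S ≤ H) (hS : IsPGroup r S) : IsCyclic S := by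
  by_contra hc
  obtain ⟨E, hE, hE2⟩ := exists_ea_two_of_not_isCyclic hr2 hS hc
  have h1 := card_le_of_pRankLE h ((Subgroup.map_subtype_le E).trans hSH) (ea_map hE S.subtype)
  rw [Subgroup.card_map_of_injective S.subtype_injective, pow_one] at h1
  omega

namespace Exc

variable {M A A₀ : Subgroup G}

theorem ne_of_dvd_sigma (h : Exc p M A A₀) {q : ℕ} (hq : q ∈ Cfsg.sigma M) : q ≠ p := fun e => h.notσ (e ▸ hq)

/-- The invariant Sylow subgroups of `M_σ` are normal in `M`. -/
theorem le_normalizer_sylow_core (h : Exc p M A A₀) (hG : IsMinSimpleOddOrder G) {q : ℕ} [Fact q.Prime]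
    {Q : Subgroup G} (hQ : IsSylowIn q (Cfsg.sigmaCore M) Q) : M ≤ Subgroup.normalizer (Q : Set G) := by
  obtain ⟨S, rfl⟩ := hQ.exists_sylow
  haveI := h.isNilpotent hG
  haveI : (S : Subgroup (Cfsg.sigmaCore M)).Normal :=
    Sylow.normal_of_normalizerCondition Group.normalizerCondition_of_isNilpotent S
  haveI : (S : Subgroup (Cfsg.sigmaCore M)).Characteristic := S.characteristic_of_normal inferInstance
  exact (le_normalizer_sigmaCore M).trans (normalizer_le_normalizer_map_characteristic _)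

/-- Every invariant `q`-subgroup of `M_σ` in another maximal subgroup above `A` is trivial. -/
theorem inv_eq_bot (h : Exc p M A A₀) (hG : IsMinSimpleOddOrder G) :
    ∀ (m : ℕ) (H : Subgroup G), IsCoatom H → H ≠ M → A ≤ H → ∀ (q : ℕ), q.Prime → ∀ (J : Subgroup G),
      J ≤ Cfsg.sigmaCore M ⊓ H → IsPGroup q J → A ≤ Subgroup.normalizer (J : Set G) →
      Nat.card G - Nat.card J = m → J = ⊥ := by
  intro m
  induction m using Nat.strong_induction_on with
  | _ m ih =>
  intro H hH hHM hAH q hqp J hJK hJ hAJ hm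
  haveI := Fact.mk hqp
  subst hm
  by_contra hJ1
  set K := Cfsg.sigmaCore M ⊓ H with hK
  have hqd : q ∣ Nat.card J := by
    rcases hJ.card_eq_or_dvd with e | e
    · exact absurd (Subgroup.card_eq_one.mp e) hJ1
    · exact e
  have hqσ : q ∈ Cfsg.sigma M :=
    piCoreOf_primes _ M hqp (hqd.trans (Subgroup.card_dvd_of_le (hJK.trans inf_le_left)))
  have hqne : q ≠ p := h.ne_of_dvd_sigma hqσ
  have hqA : ¬ q ∣ Nat.card A := fun e => by
    rw [h.card] at e
    exact hqne ((Nat.prime_dvd_prime_iff_eq hqp hp.out).mp (hqp.dvd_of_dvd_pow e))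
  have hsolA := h.solvable
  have hAK : A ≤ Subgroup.normalizer (K : Set G) :=
    (le_inf h.le_normalizer_core (hAH.trans Subgroup.le_normalizer)).trans le_normalizer_inf'
  have hpK : ¬ p ∣ Nat.card K := fun e => h.not_dvd_sigma (e.trans (Subgroup.card_dvd_of_le inf_le_left))
  obtain ⟨I, hI, hJI, hAI⟩ := Basics.exists_invariant_isSylowIn_ge A K hAK (coprime_of_pGroup h.isPGroup hpK)
    (Or.inl hsolA) q J hJK hJ hAJ
  have hIσ : I ≤ Cfsg.sigmaCore M := hI.1.trans inf_le_left
  have hI1 : I ≠ ⊥ := fun e => hJ1 (le_bot_iff.mp (e ▸ hJI))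
  obtain ⟨Q₁, hQ₁, hIQ₁, hAQ₁⟩ := Basics.exists_invariant_isSylowIn_ge A (Cfsg.sigmaCore M) h.le_normalizer_core
    (coprime_of_pGroup h.isPGroup h.not_dvd_sigma) (Or.inl hsolA) q I hIσ hI.isPGroup hAI
  have hNQ : Subgroup.normalizer (Q₁ : Set G) = M := normalizer_eq_of_le hG h.max (hQ₁.sigma_ne_bot hG h.max hqσ)
    (hQ₁.1.trans (sigmaCore_le M)) (h.le_normalizer_sylow_core hG hQ₁)
  have hNI : Subgroup.normalizer (I : Set G) ≤ M := by
    by_contra hcon
    obtain ⟨H₁, hH₁, hle⟩ := exists_maximal_ge (normalizer_ne_top hG hI1 (pGroup_ne_top hG hI.isPGroup))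
    have hH₁M : H₁ ≠ M := fun e => hcon (e ▸ hle)
    have hlt : I < Q₁ := lt_of_le_of_ne hIQ₁ fun e => hcon (by rw [e, hNQ])
    have hlt' := lt_inf_normalizer_of_lt hQ₁.isPGroup hlt
    have h1 := ih (Nat.card G - Nat.card (Q₁ ⊓ Subgroup.normalizer (I : Set G) : Subgroup G)) (by
        have h2 := (Subgroup.card_le_of_le hJI).trans_lt (Basics.card_lt_of_lt hlt')
        have h3 := Subgroup.card_le_card_group (Q₁ ⊓ Subgroup.normalizer (I : Set G) : Subgroup G)
        omega) H₁ hH₁ hH₁M (hAI.trans hle) q hqp _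
      (le_inf (inf_le_left.trans hQ₁.1) (inf_le_right.trans hle)) (hQ₁.isPGroup.to_le inf_le_left)
      ((le_inf hAQ₁ (hAI.trans Subgroup.le_normalizer)).trans le_normalizer_inf') rfl
    rw [h1] at hlt'
    exact not_lt_bot hlt'
  -- the core of `H`
  set π' := primesNotDvd (Nat.card A) with hπ'
  set O := piCoreOf π' H with hO
  have hT := h.transHyp hG
  have hHne : H ≠ ⊤ := hH.1
  have hHO : H ≤ Subgroup.normalizer (O : Set G) := le_normalizer_piCoreOf_self π' H
  have hAO : A ≤ Subgroup.normalizer (O : Set G) := hAH.trans hHO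
  have hinv : ∀ {r : ℕ} [Fact r.Prime], r ≠ p → ∀ {Y : Subgroup G}, Y ≤ H → IsPGroup r Y →
      A ≤ Subgroup.normalizer (Y : Set G) → Y ≤ O := by
    intro r hr hrp Y hYH hY hAY
    refine inv_le_piCoreOf hT hHne hAH hYH (fun s hs hd => primes_of_isPGroup ?_ hY hs hd) hAY
    intro e
    rw [h.card] at e
    exact hrp ((Nat.prime_dvd_prime_iff_eq hr.out hp.out).mp (hr.out.dvd_of_dvd_pow e))
  have hpO : ¬ p ∣ Nat.card O := fun e => (piCoreOf_primes π' H hp.out e).2 (h.card ▸ dvd_pow_self p two_ne_zero)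
  have hcopO : (Nat.card A).Coprime (Nat.card O) := coprime_of_pGroup h.isPGroup hpO
  have hIO : I ≤ O := hinv hqne (hI.1.trans inf_le_right) hI.isPGroup hAI
  obtain ⟨T, hTS, hIT, hAT⟩ := Basics.exists_invariant_isSylowIn_ge A O hAO hcopO (Or.inl hsolA) q I hIO
    hI.isPGroup hAI
  have hIS : IsSylowIn q O I := by
    obtain ⟨R, hR, hTR⟩ := exists_maxInv_ge hTS.isPGroup hAT
    obtain ⟨k, hk, e⟩ := conj_of_inf_ne_bot hG hT hqA Q₁ (hQ₁.mem_maxInv hG h.max hqσ hAQ₁) R hR
      (fun e => hI1 (le_bot_iff.mp (e ▸ le_inf hIQ₁ (hIT.trans hTR))))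
    have hkM : k ∈ M := h.centralizer_le (piCoreOf_le _ _ hk)
    have hTσ : T ≤ Cfsg.sigmaCore M := by
      refine hTR.trans ?_
      rw [e]
      exact (Subgroup.map_mono hQ₁.1).trans
        (Subgroup.mem_normalizer_iff_map_conj_eq.mp (le_normalizer_sigmaCore M hkM)).le
    rw [hI.eq_of_le hTS.isPGroup (le_inf hTσ (hTS.1.trans (piCoreOf_le _ _))) hIT] at hTS
    exact hTS
  have hNA : ∀ n ∈ H, n ∈ Subgroup.normalizer (A : Set G) → n ∈ M := by
    intro n hnH hnA
    have hIn : IsSylowIn q O (MulAut.conj n • I) := hIS.conj_smul (hHO hnH)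
    have hAIn : A ≤ Subgroup.normalizer ((MulAut.conj n • I : Subgroup G) : Set G) :=
      (Subgroup.mem_normalizer_iff_map_conj_eq.mp hnA).ge.trans (conj_le_normalizer_conj hAI n)
    obtain ⟨c, hc, hcI⟩ := Basics.invariant_isSylowIn_conj A O hAO hcopO (Or.inl hsolA) q hIS hIn hAI hAIn
    have hm : c⁻¹ * n ∈ Subgroup.normalizer (I : Set G) := by
      rw [Subgroup.mem_normalizer_iff_map_conj_eq]
      change MulAut.conj (c⁻¹ * n) • I = I
      rw [map_mul, mul_smul, ← hcI, ← mul_smul, ← map_mul, inv_mul_cancel, map_one, one_smul]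
    have := mul_mem (h.centralizer_le hc.2) (hNI hm)
    rwa [mul_inv_cancel_left] at this
  have hJlem : ∀ n ∈ Subgroup.normalizer (A : Set G), n ∉ M → ∀ J' : Subgroup G,
      J' ≤ (Cfsg.sigmaCore M).map (MulAut.conj n).toMonoidHom → J' ≤ H → IsPGroup q J' →
      A ≤ Subgroup.normalizer (J' : Set G) → J' = ⊥ := by
    intro n hnA hnM J' hJ'σ hJ'H hJ' hAJ'
    obtain ⟨T', hT', hJT', hAT'⟩ := Basics.exists_invariant_isSylowIn_ge A O hAO hcopO (Or.inl hsolA) q J'
      (hinv hqne hJ'H hJ' hAJ') hJ' hAJ'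
    obtain ⟨c, hc, hcT⟩ := Basics.invariant_isSylowIn_conj A O hAO hcopO (Or.inl hsolA) q hT' hIS hAT' hAI
    have hcA : c ∈ Subgroup.normalizer (A : Set G) := Subgroup.centralizer_le_normalizer _ hc.2
    have hcn : c * n ∉ M := fun hm => hnM (by
      have := mul_mem (inv_mem (h.centralizer_le hc.2)) hm
      rwa [inv_mul_cancel_left] at this)
    have hbot := h.inf_conj_eq_bot hG hcn (Exc.le_map_conj_of_normalizer (mul_mem hcA hnA) h.le)
    have h1 : J'.map (MulAut.conj c).toMonoidHom ≤ ⊥ := by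
      rw [← hbot, ← map_conj_map_conj]
      refine le_inf ?_ (Subgroup.map_mono (hJ'σ.trans (Subgroup.map_mono (sigmaCore_le M))))
      exact (Subgroup.map_mono hJT').trans (hcT.le.trans hIσ)
    exact (Subgroup.map_eq_bot_iff_of_injective _ (MulAut.conj c).injective).mp (le_bot_iff.mp h1)
  have hfrat : ∀ x ∈ H, ∃ o ∈ O, o * x ∈ M := by
    intro x hx
    obtain ⟨o, ho, e⟩ := (hIS.conj_smul (hHO hx)).exists_conj hIS
    refine ⟨o, ho, hNI ?_⟩
    rw [Subgroup.mem_normalizer_iff_map_conj_eq]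
    change MulAut.conj (o * x) • I = I
    rw [map_mul, mul_smul, e]
  have hCI : I ⊓ Subgroup.centralizer (A : Set G) = ⊥ :=
    le_bot_iff.mp ((inf_le_inf_right _ hIσ).trans (h.centralizer_eq_bot hG).le)
  have hcopI : (Nat.card A).Coprime (Nat.card I) :=
    coprime_of_pGroup h.isPGroup fun e => h.not_dvd_sigma (e.trans (Subgroup.card_dvd_of_le hIσ))
  have hIA : ⁅I, A⁆ = I := by
    have h1 := Basics.commutator_sup_inf_centralizer A I hAI hcopI (Or.inl hsolA)
    rwa [hCI, sup_bot_eq] at h1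
  have hIH : I ≤ H := hI.1.trans inf_le_right
  have hI' : I ≤ ⁅H, H⁆ := hIA ▸ Subgroup.commutator_mono hIH hAH
  have hIM : I ≤ M := hIσ.trans (sigmaCore_le M)
  have hrank : ∀ r : ℕ, r.Prime → ∀ X : Subgroup H, X ≤ Cfsg.pCore r H → IsElementaryAbelian r X →
      Nat.card X ≤ r ^ 2 := by
    intro r hr X hXR hX
    haveI := Fact.mk hr
    by_contra hlt
    rw [not_le, ← Subgroup.card_map_of_injective H.subtype_injective (K := X)] at hlt
    set X' := X.map H.subtype with hX'
    have hX'e : IsElementaryAbelian r X' := ea_map hX _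
    have hX'H : X' ≤ H := Subgroup.map_subtype_le X
    set R := coreP r H with hR
    have hX'R : X' ≤ R := Subgroup.map_mono hXR
    have hRp : IsPGroup r R := isPGroup_coreP r H
    have hHR : H ≤ Subgroup.normalizer (R : Set G) := le_normalizer_coreP r H
    rcases eq_or_ne r p with rfl | hrp
    · -- a Sylow subgroup of `H ⊓ M` is one of `H`
      obtain ⟨S⟩ : Nonempty (Sylow r ↥(H ⊓ M)) := inferInstance
      set S' := (S : Subgroup ↥(H ⊓ M)).map (H ⊓ M).subtype with hS'
      have hS'H : IsSylowIn r H S' := by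
        refine ⟨(Subgroup.map_subtype_le _).trans inf_le_left, ?_⟩
        rw [(Basics.isSylowIn_map S).2]
        congr 1
        haveI : (O.subgroupOf H).Normal := (Subgroup.normal_subgroupOf_iff_le_normalizer (piCoreOf_le _ _)).mpr hHO
        have hsurj : Function.Surjective
            ((QuotientGroup.mk' (O.subgroupOf H)).comp (Subgroup.inclusion (inf_le_left : H ⊓ M ≤ H))) := by
          intro y
          obtain ⟨⟨x, hx⟩, rfl⟩ := QuotientGroup.mk'_surjective _ y
          obtain ⟨o, ho, hox⟩ := hfrat x hx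
          refine ⟨⟨o * x, mul_mem (piCoreOf_le _ _ ho) hx, hox⟩, ?_⟩
          refine QuotientGroup.eq.mpr ?_
          rw [Subgroup.mem_subgroupOf]
          simp only [Subgroup.coe_mul, Subgroup.coe_inv, Subgroup.coe_inclusion, mul_inv_rev]
          exact (Subgroup.mem_normalizer_iff''.mp (hHO hx) _).mp (inv_mem ho)
        have hd := Subgroup.card_dvd_of_surjective _ hsurj
        apply le_antisymm
        · exact (Nat.factorization_le_iff_dvd Nat.card_pos.ne' Nat.card_pos.ne').mpr
            (Subgroup.card_dvd_of_le inf_le_left) r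
        · have h1 := (Nat.factorization_le_iff_dvd Nat.card_pos.ne' Nat.card_pos.ne').mpr hd r
          have h2 : Nat.card H = Nat.card (H ⧸ O.subgroupOf H) * Nat.card (O.subgroupOf H) :=
            Subgroup.card_eq_card_quotient_mul_card_subgroup _
          rw [h2, Nat.factorization_mul Nat.card_pos.ne' Nat.card_pos.ne', Finsupp.add_apply,
            Nat.factorization_eq_zero_of_not_dvd (n := Nat.card (O.subgroupOf H))
              (by rwa [Basics.card_subgroupOf (piCoreOf_le _ _)]), add_zero]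
          exact h1
      obtain ⟨S₀, hS₀, hXS₀⟩ := exists_sylowIn_ge (isPGroup_of_exponent hX'e.2) hX'H
      obtain ⟨x, hx, e⟩ := hS₀.exists_conj hS'H
      have hle : MulAut.conj x • X' ≤ M := by
        refine ((Subgroup.pointwise_smul_le_pointwise_smul_iff.mpr hXS₀).trans e.le).trans ?_
        exact (Subgroup.map_subtype_le _).trans inf_le_right
      have h2 := pRankLE_iff_le.mp (pRankLE_two_of_not_mem_sigma hG h.max h.notσ) _ hle (ea_map hX'e _)
      rw [Basics.card_conj_smul] at h2
      omega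
    have hRO : R ≤ O := hinv hrp (coreP_le r H) hRp (hAH.trans hHR)
    rcases eq_or_ne r q with rfl | hrq
    · -- `R ≤ I`
      have hRI : R ≤ I := by
        obtain ⟨S, hS, hRS⟩ := exists_sylowIn_ge hRp hRO
        obtain ⟨o, ho, e⟩ := hS.exists_conj hIS
        rw [← e]
        refine le_trans ?_ (Subgroup.pointwise_smul_le_pointwise_smul_iff.mpr hRS)
        exact (Subgroup.mem_normalizer_iff_map_conj_eq.mp (hHR (piCoreOf_le _ _ ho))).ge
      exact hHM (eq_of_rank_three hG h.max hH hX'e hlt (hX'R.trans (hRI.trans hIM)) hX'H)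
    have hIR : I ≤ Subgroup.normalizer (R : Set G) := hIH.trans hHR
    have hrI : ¬ r ∣ Nat.card I := fun e => by
      obtain ⟨k, hk⟩ := IsPGroup.iff_card.mp hI.isPGroup
      exact hrq ((Nat.prime_dvd_prime_iff_eq hr hqp).mp (hr.dvd_of_dvd_pow (hk ▸ e)))
    by_cases hb : r ∈ Cfsg.beta H
    swap
    · haveI := hRp.isNilpotent
      have hc := le_centralizer_of_commutator_le hG hH hb hRp (Subgroup.commutator_mono (coreP_le r H) hIH) hI' hrI
        hIR inferInstance
      exact hHM (eq_of_rank_three hG h.max hH hX'e hlt (hX'R.trans ((Subgroup.le_centralizer_iff.mp hc).trans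
        ((Subgroup.centralizer_le_normalizer _).trans hNI))) hX'H)
    -- `r` is ideal
    have hideal : IsIdealPrime r G := hb.2
    have hrσH : r ∈ Cfsg.sigma H := alpha_subset_sigma hG hH hb.1
    have hR1 : R ≠ ⊥ := fun e => by
      rw [le_bot_iff.mp (hX'R.trans e.le), Subgroup.card_bot] at hlt
      exact (Nat.one_le_pow _ _ hr.pos).not_gt hlt
    obtain ⟨V, hV1, hV, hmemV, hnV⟩ := exists_omega_center hRp hR1
    have hVR : V ≤ R := fun v hv => ((hmemV v).mp hv).1.1
    have hVH : V ≤ H := hVR.trans (coreP_le r H)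
    have hVp : IsPGroup r V := hRp.to_le hVR
    have hHV : H ≤ Subgroup.normalizer (V : Set G) := hHR.trans hnV
    have hVtop : V ≠ ⊤ := fun e => hHne (top_le_iff.mp (e ▸ hVH))
    have hNV : Subgroup.normalizer (V : Set G) = H := normalizer_eq_of_le hG hH hV1 hVH hHV
    have hVM : V ⊓ M ≤ Subgroup.centralizer (I : Set G) := by
      by_cases hrs : r ∈ Cfsg.sigma M
      · exact le_centralizer_of_isNilpotent (h.isNilpotent hG)
          (pGroup_le_sigmaCore hG h.max hrs (hVp.to_le inf_le_left) inf_le_right) hIσ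
          (coprime_of_pGroups hrq (hVp.to_le inf_le_left) hI.isPGroup)
      · rw [← Subgroup.commutator_eq_bot_iff_le_centralizer]
        refine le_bot_iff.mp ((le_inf ?_ ?_).trans (inf_sigmaCore_eq_bot hrs hVp).le)
        · exact (Subgroup.commutator_mono inf_le_left le_rfl).trans
            (Subgroup.le_normalizer_iff_commutator_le_left.mp (hIH.trans hHV))
        · exact (Subgroup.commutator_mono inf_le_right hIσ).trans
            (Subgroup.le_normalizer_iff_commutator_le_right.mp (le_normalizer_sigmaCore M))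
    obtain ⟨n₀, hn₀A, hn₀M⟩ := h.exists_notMem hG
    by_cases hcase : ∃ n ∈ Subgroup.normalizer (A : Set G), n ∉ M ∧
        ¬ V ⊓ Subgroup.centralizer ((A₀.map (MulAut.conj n).toMonoidHom : Subgroup G) : Set G) ≤ M
    · obtain ⟨n, hnA, hnM, hout⟩ := hcase
      set X₁ := A₀.map (MulAut.conj n).toMonoidHom with hX₁
      obtain ⟨hX₁A, -, hX₁ne, -⟩ := h.conj_line hG hnA hnM
      set D₁ := V ⊓ Subgroup.centralizer (X₁ : Set G) with hD₁
      set D := D₁.map (MulAut.conj n⁻¹).toMonoidHom with hD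
      have hDn : D.map (MulAut.conj n).toMonoidHom = D₁ := by
        rw [hD, map_conj_map_conj, mul_inv_cancel, map_conj_one]
      have hDC : D ≤ Subgroup.centralizer (A₀ : Set G) := by
        rintro _ ⟨x, hx, rfl⟩
        rw [Subgroup.mem_centralizer_iff]
        intro a ha
        have h1 := Subgroup.mem_centralizer_iff.mp hx.2 _ ⟨a, ha, rfl⟩
        change n * a * n⁻¹ * x = x * (n * a * n⁻¹) at h1
        change a * (n⁻¹ * x * n⁻¹⁻¹) = n⁻¹ * x * n⁻¹⁻¹ * a
        calc a * (n⁻¹ * x * n⁻¹⁻¹) = n⁻¹ * (n * a * n⁻¹ * x) * n := by group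
          _ = n⁻¹ * (x * (n * a * n⁻¹)) * n := by rw [h1]
          _ = _ := by group
      have hDM : D ≤ M := hDC.trans ((Subgroup.centralizer_le_normalizer _).trans h.line_norm)
      have hAD₁ : A ≤ Subgroup.normalizer (D₁ : Set G) :=
        (le_inf (hAH.trans hHV) (((Subgroup.le_centralizer_iff_isMulCommutative.mpr h.ea.1).trans
          (Subgroup.centralizer_le hX₁A)).trans Subgroup.le_normalizer)).trans le_normalizer_inf'
      have hAD : A ≤ Subgroup.normalizer (D : Set G) :=
        (Subgroup.mem_normalizer_iff_map_conj_eq.mp (inv_mem hnA)).ge.trans (conj_le_normalizer_conj hAD₁ n⁻¹)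
      have hDr : IsPGroup r D := (hVp.to_le inf_le_left).map _
      have hDnc : ¬ A ≤ Subgroup.centralizer (D : Set G) := by
        intro hc
        refine hout (le_trans ?_ h.centralizer_le)
        rw [← hDn]
        refine le_trans ?_ (le_of_eq (show (Subgroup.centralizer (A : Set G)).map (MulAut.conj n).toMonoidHom =
          Subgroup.centralizer (A : Set G) from Subgroup.mem_normalizer_iff_map_conj_eq.mp
            (le_normalizer_centralizer le_rfl hnA)))
        exact Subgroup.map_mono (Subgroup.le_centralizer_iff.mp hc)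
      obtain ⟨v, hvD, hv1, hvQ⟩ : ∃ v ∈ D, v ≠ 1 ∧ Q₁ ≤ Subgroup.centralizer ({v} : Set G) := by
        have hcopQ : (Nat.card D).Coprime (Nat.card Q₁) := coprime_of_pGroups hrq hDr hQ₁.isPGroup
        have key : ∀ v ∈ D, v ∈ Subgroup.centralizer (Q₁ : Set G) → Q₁ ≤ Subgroup.centralizer ({v} : Set G) :=
          fun v _ hv x hx => Subgroup.mem_centralizer_singleton_iff.mpr (Subgroup.mem_centralizer_iff.mp hv x hx)
        by_cases hrs : r ∈ Cfsg.sigma M
        · obtain ⟨v, hv, hv1⟩ : ∃ v ∈ D, v ≠ 1 := by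
            by_contra hc
            push Not at hc
            refine hDnc fun a _ => ?_
            rw [Subgroup.mem_centralizer_iff]
            intro d hd
            rw [hc d hd, one_mul, mul_one]
          exact ⟨v, hv, hv1, key v hv (le_centralizer_of_isNilpotent (h.isNilpotent hG)
            (pGroup_le_sigmaCore hG h.max hrs hDr hDM) hQ₁.1 hcopQ hv)⟩
        · have hc := h.conj_line hG hn₀A hn₀M
          set Y := A₀.map (MulAut.conj n₀).toMonoidHom with hY
          obtain ⟨hYA, hYc, hYne, hYf⟩ := hc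
          have hrD : ¬ p ∣ Nat.card D := fun e => by
            obtain ⟨k, hk⟩ := IsPGroup.iff_card.mp hDr
            exact hrp.symm ((Nat.prime_dvd_prime_iff_eq hp.out hr).mp (hp.out.dvd_of_dvd_pow (hk ▸ e)))
          have hcc := fpf_centralizes_nilpotent (r := p) (h.isNilpotent hG) (odd_card_subgroup hG _) hYc
            (prime_ne_two hG h.dvd_cardG) h.not_dvd_sigma (odd_card_subgroup hG _) hrD
            (coprime_of_pGroup hDr (not_dvd_sigmaCore hr hrs)) (hYA.trans hAD)
            (hDM.trans (le_normalizer_sigmaCore M)) (hYA.trans h.le_normalizer_core) hYf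
          obtain ⟨v, hv, hv1⟩ : ∃ v ∈ ⁅Y, D⁆, v ≠ 1 := by
            by_contra hc
            push Not at hc
            refine hDnc ?_
            rw [← sup_eq_of_lines h.card hYA h.line_le hYc h.line_card hYne]
            exact sup_le (Subgroup.commutator_eq_bot_iff_le_centralizer.mp ((Subgroup.eq_bot_iff_forall _).mpr hc))
              (Subgroup.le_centralizer_iff.mp hDC)
          exact ⟨v, Subgroup.le_normalizer_iff_commutator_le_right.mp (hYA.trans hAD) hv, hv1,
            key v (Subgroup.le_normalizer_iff_commutator_le_right.mp (hYA.trans hAD) hv)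
              (Subgroup.centralizer_le hQ₁.1 (hcc hv))⟩
      have hvn : n * v * n⁻¹ ∈ V := (hDn.le ⟨v, hvD, rfl⟩ : n * v * n⁻¹ ∈ D₁).1
      have hC := (ideal_centralizer hG hH hrσH hideal (hVH hvn) (hV.2 _ hvn) (mt conj_eq_one_iff.mp hv1)).1
      have hQn : Q₁.map (MulAut.conj n).toMonoidHom ≤ H := by
        rintro _ ⟨x, hx, rfl⟩
        refine hC (Subgroup.mem_centralizer_singleton_iff.mpr ?_)
        have h1 : x * v = v * x := Subgroup.mem_centralizer_singleton_iff.mp (hvQ hx)
        change n * x * n⁻¹ * (n * v * n⁻¹) = n * v * n⁻¹ * (n * x * n⁻¹)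
        calc n * x * n⁻¹ * (n * v * n⁻¹) = n * (x * v) * n⁻¹ := by group
          _ = n * (v * x) * n⁻¹ := by rw [h1]
          _ = _ := by group
      have h1 := hJlem n hnA hnM _ (Subgroup.map_mono hQ₁.1) hQn (hQ₁.isPGroup.map _)
        ((Subgroup.mem_normalizer_iff_map_conj_eq.mp hnA).ge.trans (conj_le_normalizer_conj hAQ₁ n))
      exact hQ₁.sigma_ne_bot hG h.max hqσ ((Subgroup.map_eq_bot_iff_of_injective _ (MulAut.conj n).injective).mp h1)
    push Not at hcase
    obtain ⟨hXA, hXc, hXne, hXf⟩ := h.conj_line hG hn₀A hn₀M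
    set X₁ := A₀.map (MulAut.conj n₀).toMonoidHom with hX₁
    have hCIX : I ⊓ Subgroup.centralizer (X₁ : Set G) = ⊥ :=
      le_bot_iff.mp ((inf_le_inf_right _ hIσ).trans hXf.le)
    have hVI : I ≤ Subgroup.centralizer (V : Set G) := by
      have hIV : I ≤ Subgroup.normalizer (V : Set G) := hIH.trans hHV
      have hcopV : (Nat.card I).Coprime (Nat.card V) := coprime_of_pGroups hrq.symm hI.isPGroup hVp
      haveI := hV.1
      set W := ⁅V, I⁆ with hW
      have hWV : W ≤ V := Subgroup.le_normalizer_iff_commutator_le_left.mp hIV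
      have hWf : W ⊓ Subgroup.centralizer (X₁ : Set G) = ⊥ := by
        rw [eq_bot_iff, ← Basics.inf_centralizer_inf_commutator_eq_bot I V hIV hcopV]
        exact le_inf (le_inf (inf_le_left.trans hWV) (le_trans (le_inf (inf_le_left.trans hWV)
          (le_trans (inf_le_inf_right _ hWV) (hcase n₀ hn₀A hn₀M))) hVM)) inf_le_left
      have hWc : IsMulCommutative W :=
        ⟨⟨fun a b => Subtype.ext (ea_commute hV (hWV a.2) (hWV b.2)).eq⟩⟩
      have hIX : X₁ ≤ Subgroup.normalizer (I : Set G) := hXA.trans hAI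
      have hc := fpf_centralizes_abelian (r := p) (hVp.to_le hWV) hWc hXc (prime_ne_two hG h.dvd_cardG)
        (prime_ne_two hG ((hr.dvd_iff_eq hr.ne_one).mpr rfl |>.trans (by
          obtain ⟨x, hx, hxo⟩ := exists_orderOf_eq hVp hV1
          exact hxo ▸ orderOf_dvd_natCard x))) (fun e => hrp e.symm) (odd_card_subgroup hG I)
        (fun e => h.not_dvd_sigma (e.trans (Subgroup.card_dvd_of_le hIσ))) hrI hIX
        (Subgroup.normalizer_commutator_ge_right _ _)
        (le_normalizer_commutator (hXA.trans (hAH.trans hHV)) hIX) hWf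
      have hXI : ⁅X₁, I⁆ = I := by
        have h1 := Basics.commutator_sup_inf_centralizer X₁ I hIX (hcopI.coprime_dvd_left
          (Subgroup.card_dvd_of_le hXA)) (Or.inl (Basics.isSolvable_of_le hXA hsolA))
        rwa [hCIX, sup_bot_eq, Subgroup.commutator_comm] at h1
      rw [hXI] at hc
      refine Basics.le_centralizer_of_commutator_commutator_eq_bot I V hIV hcopV
        (Or.inr (Basics.isSolvable_of_le le_rfl (isSolvable_of_ne_top hG hVtop))) ?_
      rw [Subgroup.commutator_eq_bot_iff_le_centralizer]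
      exact Subgroup.le_centralizer_iff.mp hc
    have hVleM : V ≤ M := (Subgroup.le_centralizer_iff.mp hVI).trans ((Subgroup.centralizer_le_normalizer _).trans hNI)
    obtain ⟨z, hz, hzo⟩ := exists_orderOf_eq hVp hV1
    have hz1 : z ≠ 1 := fun e => by rw [e, orderOf_one] at hzo; exact hr.one_lt.ne hzo
    have hzr : z ^ r = 1 := hzo ▸ pow_orderOf_eq_one z
    by_cases hrs : r ∈ Cfsg.sigma M
    · exact hHM ((ideal_centralizer hG h.max hrs hideal (hVleM hz) hzr hz1).2 H hH
        (ideal_centralizer hG hH hrσH hideal (hVH hz) hzr hz1).1)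
    have hr1 : PRankLE r 1 M := by
      by_contra hn
      exact not_isIdealPrime_of_not_sigma hG h.max hrs hn hideal
    have hr2 : r ≠ 2 := prime_ne_two hG (hzo ▸ orderOf_dvd_natCard z)
    have hVc : Nat.card V = r := by
      refine le_antisymm ?_ ?_
      · simpa using card_le_of_pRankLE hr1 hVleM hV
      · exact hzo ▸ Nat.le_of_dvd Nat.card_pos (Subgroup.orderOf_dvd_natCard V hz)
    by_cases hAV : A ≤ Subgroup.centralizer (V : Set G)
    · have hVC : V ≤ Subgroup.centralizer (A : Set G) := Subgroup.le_centralizer_iff.mp hAV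
      set C := Subgroup.centralizer (A : Set G) with hC
      set V' := V.map (MulAut.conj n₀⁻¹).toMonoidHom with hV'
      have hV'C : V' ≤ C := (Subgroup.map_mono hVC).trans
        (Subgroup.mem_normalizer_iff_map_conj_eq.mp (le_normalizer_centralizer le_rfl (inv_mem hn₀A))).le
      obtain ⟨S, hS, hVS⟩ := exists_sylowIn_ge hVp hVC
      obtain ⟨S₁, hS₁, hV'S⟩ := exists_sylowIn_ge (hVp.map _) hV'C
      obtain ⟨c, hc, e⟩ := hS₁.exists_conj hS
      have hle : MulAut.conj c • V' ≤ S := e ▸ Subgroup.pointwise_smul_le_pointwise_smul_iff.mpr hV'S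
      have hcard : Nat.card (MulAut.conj c • V' : Subgroup G) = Nat.card V := by
        rw [Basics.card_conj_smul, hV', Subgroup.card_map_of_injective (MulAut.conj n₀⁻¹).injective]
      have heq := eq_of_le_cyclic (isCyclic_of_pRankLE_one hr2 hr1 (hS.1.trans h.centralizer_le) hS.isPGroup)
        hle hVS hcard
      have hcn : c * n₀⁻¹ ∈ H := by
        rw [← hNV, Subgroup.mem_normalizer_iff_map_conj_eq]
        change V.map (MulAut.conj (c * n₀⁻¹)).toMonoidHom = V
        rw [← map_conj_map_conj]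
        exact heq
      have := hNA _ hcn (mul_mem (Subgroup.centralizer_le_normalizer _ hc) (inv_mem hn₀A))
      refine hn₀M (inv_mem_iff.mp ?_)
      have := mul_mem (inv_mem (h.centralizer_le hc)) this
      rwa [inv_mul_cancel_left] at this
    -- a moved line not centralizing `V`
    obtain ⟨n, hnA, hnM, hnV'⟩ : ∃ n ∈ Subgroup.normalizer (A : Set G), n ∉ M ∧
        ¬ A₀.map (MulAut.conj n).toMonoidHom ≤ Subgroup.centralizer (V : Set G) := by
      by_contra hc
      push Not at hc
      refine hAV ?_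
      have hn2 : n₀ * n₀ ∉ M := by
        intro hm
        obtain ⟨k, hk⟩ := (hG.1.of_dvd_nat (orderOf_dvd_natCard n₀) : Odd (orderOf n₀))
        refine hn₀M ?_
        have he : n₀ = ((n₀ * n₀) ^ k)⁻¹ := by
          rw [← pow_two, ← pow_mul, eq_inv_iff_mul_eq_one, ← pow_succ', ← hk, pow_orderOf_eq_one]
        rw [he]
        exact inv_mem (pow_mem hm k)
      obtain ⟨hX2A, hX2c, -, -⟩ := h.conj_line hG (mul_mem hn₀A hn₀A) hn2
      rw [← sup_eq_of_lines h.card hXA hX2A hXc hX2c fun e => hXne ?_]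
      · exact sup_le (hc n₀ hn₀A hn₀M) (hc _ (mul_mem hn₀A hn₀A) hn2)
      · rw [← map_conj_map_conj] at e
        exact (Subgroup.map_injective (MulAut.conj n₀).injective e).symm
    obtain ⟨hXA', hXc', -, hXf'⟩ := h.conj_line hG hnA hnM
    set X₂ := A₀.map (MulAut.conj n).toMonoidHom
    have hrV : ¬ p ∣ Nat.card V := by
      rw [hVc]
      exact fun e => hrp ((Nat.prime_dvd_prime_iff_eq hp.out hr).mp e).symm
    have hcc := fpf_centralizes_nilpotent (r := p) (h.isNilpotent hG) (odd_card_subgroup hG _) hXc'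
      (prime_ne_two hG h.dvd_cardG) h.not_dvd_sigma (odd_card_subgroup hG _) hrV
      (coprime_of_pGroup hVp (not_dvd_sigmaCore hr hrs)) (hXA'.trans (hAH.trans hHV))
      (hVleM.trans (le_normalizer_sigmaCore M)) (hXA'.trans h.le_normalizer_core) hXf'
    have hXV : ⁅X₂, V⁆ = V := by
      refine Subgroup.eq_of_le_of_card_ge
        (Subgroup.le_normalizer_iff_commutator_le_right.mp (hXA'.trans (hAH.trans hHV))) ?_
      rw [hVc]
      rcases (hVp.to_le (Subgroup.le_normalizer_iff_commutator_le_right.mp (hXA'.trans (hAH.trans hHV)) :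
        ⁅X₂, V⁆ ≤ V)).card_eq_or_dvd with e | e
      · exact absurd (Subgroup.commutator_eq_bot_iff_le_centralizer.mp (Subgroup.card_eq_one.mp e)) hnV'
      · exact Nat.le_of_dvd Nat.card_pos e
    rw [hXV] at hcc
    have hσH : Cfsg.sigmaCore M ≤ H :=
      hNV ▸ (Subgroup.le_centralizer_iff.mp hcc).trans (Subgroup.centralizer_le_normalizer _)
    by_cases hα : ∀ s : ℕ, s.Prime → PRankLE s 2 M
    · have hV' : V ≤ coreP r M := by
        intro x hx
        refine mem_coreP_of_mem_fittingOf ?_ ⟨1, by rw [pow_one]; exact hV.2 x hx⟩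
        refine Subgroup.map_mono (commutator_le_fitting_of_alpha hG h.max hα) ?_
        rw [M.map_subtype_commutator]
        exact Subgroup.commutator_mono (hXA'.trans h.le) hVleM (hXV.ge hx)
      have hcyc := isCyclic_of_pRankLE_one hr2 hr1 (coreP_le r M) (isPGroup_coreP r M)
      refine hHM ((h.max.le_iff.mp ?_).resolve_left hH.1)
      intro m hm
      rw [← hNV, Subgroup.mem_normalizer_iff_map_conj_eq]
      refine eq_of_le_cyclic hcyc ?_ hV' (Subgroup.card_map_of_injective (MulAut.conj m).injective)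
      exact (Subgroup.map_mono hV').trans
        (Subgroup.mem_normalizer_iff_map_conj_eq.mp (le_normalizer_coreP r M hm)).le
    · push Not at hα
      obtain ⟨s, hs, hs3⟩ := hα
      haveI := Fact.mk hs
      obtain ⟨X₃, hX₃M, hX₃, hX₃3⟩ := exists_ea_three hs3
      have hX₃σ : X₃ ≤ Cfsg.sigmaCore M :=
        pGroup_le_sigmaCore hG h.max (alpha_subset_sigma hG h.max ⟨hs, hs3⟩) (isPGroup_of_exponent hX₃.2) hX₃M
      exact hHM (eq_of_rank_three hG h.max hH hX₃ hX₃3 hX₃M (hX₃σ.trans hσH))
  haveI : Group.IsSolvable H := isSolvable_of_ne_top hG hHne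
  have hF : I ≤ coreP q H := by
    intro x hx
    refine mem_coreP_of_mem_fittingOf ?_ ?_
    · refine Subgroup.map_mono (commutator_le_fittingSubgroup (odd_card_subgroup hG H) hrank) ?_
      rw [H.map_subtype_commutator]
      exact hI' hx
    · obtain ⟨k, hk⟩ := hI.isPGroup ⟨x, hx⟩
      exact ⟨k, congrArg Subtype.val hk⟩
  have hcore : coreP q H ≤ O := hinv hqne (coreP_le q H) (isPGroup_coreP q H) (hAH.trans (le_normalizer_coreP q H))
  have he : coreP q H = I := hIS.eq_of_le (isPGroup_coreP q H) hcore hF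
  exact hHM ((hH.le_iff.mp ((he ▸ le_normalizer_coreP q H : H ≤ Subgroup.normalizer (I : Set G)).trans hNI)).resolve_left
    h.max.1).symm

/-- BG 11.4. -/
theorem inf_maximal (h : Exc p M A A₀) (hG : IsMinSimpleOddOrder G) {H : Subgroup G} (hH : IsCoatom H)
    (hne : H ≠ M) (hAH : A ≤ H) : Cfsg.sigmaCore M ⊓ H = ⊥ := by
  by_contra hK
  set K := Cfsg.sigmaCore M ⊓ H with hKdef
  obtain ⟨q, hq, hqK⟩ := Nat.exists_prime_and_dvd (fun e => hK (Subgroup.card_eq_one.mp e))
  haveI := Fact.mk hq
  have hAK : A ≤ Subgroup.normalizer (K : Set G) :=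
    (le_inf h.le_normalizer_core (hAH.trans Subgroup.le_normalizer)).trans le_normalizer_inf'
  obtain ⟨I, hI, hAI⟩ := Basics.exists_invariant_isSylowIn A K hAK (coprime_of_pGroup h.isPGroup
    fun e => h.not_dvd_sigma (e.trans (Subgroup.card_dvd_of_le inf_le_left))) (Or.inl h.solvable) q
  have h1 := h.inv_eq_bot hG _ H hH hne hAH q hq I hI.1 hI.isPGroup hAI rfl
  have h2 := hI.2
  rw [h1, Subgroup.card_bot] at h2
  exact (Nat.one_lt_pow (hq.factorization_pos_of_dvd Nat.card_pos.ne' hqK).ne' hq.one_lt).ne h2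

end Exc

end Cfsg.Agent.OddLocal
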