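import Cfsg.Agent.Lib.OddLocal.NarrowStructure
import Cfsg.Agent.Lib.OddLocal.BlackburnStructure
import Cfsg.Agent.Lib.Fusion.OmegaDetect
import Cfsg.Agent.Lib.Basics.Cores

/-! Automorphisms of order prime to `p` of a narrow `p`-group. -/

set_option autoImplicit false
set_option maxHeartbeats 1000000

namespace Cfsg.Agent.OddLocal

open scoped commutatorElement
open Cfsg

universe u

section Auto

variable {R : Type u} [Group R] [Finite R] {p : ℕ} [hp : Fact p.Prime]

/-- A characteristic section of order at most `p`. -/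
theorem fix_step {φ : MulAut R} (hφ : (orderOf φ).Coprime p) {Q K : Subgroup R} [hK : K.Characteristic]
    [hQ : Q.Characteristic] (hKQ : K ≤ Q) (hexp : ∀ v ∈ Q, v ^ p = 1) (hcard : Nat.card Q ≤ p * Nat.card K)
    (hfix : ∀ v ∈ K, (φ ^ (p - 1)) v = v) : ∀ v ∈ Q, (φ ^ (p - 1)) v = v := by
  intro v hv
  set f := QuotientGroup.mk' K with hf
  have hmem : f ((φ ^ (p - 1)) v) = f v := by
    rcases eq_or_ne (f v) 1 with h1 | h1
    · have hvK : v ∈ K := (QuotientGroup.eq_one_iff v).mp h1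
      rw [hfix v hvK]
    have hQb : Nat.card (Q.map f) = p := by
      have h := Basics.card_map_mul_card_inf_ker f Q
      rw [hf, QuotientGroup.ker_mk', inf_eq_right.mpr hKQ, ← hf] at h
      have hle : Nat.card (Q.map f) ≤ p :=
        Nat.le_of_mul_le_mul_right (h.le.trans hcard) Nat.card_pos
      have hdvd : p ∣ Nat.card (Q.map f) := by
        have h1' : orderOf (f v) = p :=
          orderOf_eq_prime (by rw [← map_pow, hexp v hv, map_one]) h1
        rw [← h1']
        exact Subgroup.orderOf_dvd_natCard _ ⟨v, hv, rfl⟩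
      exact le_antisymm hle (Nat.le_of_dvd Nat.card_pos hdvd)
    have hgen : ∀ w ∈ Q, ∃ i : ℤ, f w = f v ^ i := by
      intro w hw
      obtain ⟨i, hi⟩ := mem_zpowers_of_prime_card hQb (g := (⟨f v, v, hv, rfl⟩ : Q.map f))
        (g' := ⟨f w, w, hw, rfl⟩) (fun h => h1 (congrArg Subtype.val h))
      exact ⟨i, (congrArg Subtype.val hi).symm⟩
    have hφQ : ∀ w ∈ Q, φ w ∈ Q := fun w hw =>
      (Subgroup.characteristic_iff_map_le.mp hQ φ) ⟨w, hw, rfl⟩
    obtain ⟨i, hi⟩ := hgen _ (hφQ v hv)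
    have hiter : ∀ n : ℕ, f ((φ ^ n) v) = f v ^ (i ^ n) := by
      intro n
      induction n with
      | zero => simp
      | succ n ih =>
        have h : ((φ ^ n) v) * (v ^ (i ^ n))⁻¹ ∈ K := by
          rw [← QuotientGroup.eq_one_iff]
          change f (_ * _) = 1
          rw [map_mul, map_inv, map_zpow, ih, mul_inv_cancel]
        have h2 : φ (((φ ^ n) v) * (v ^ (i ^ n))⁻¹) ∈ K :=
          (Subgroup.characteristic_iff_map_le.mp hK φ) ⟨_, h, rfl⟩
        rw [← QuotientGroup.eq_one_iff] at h2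
        change f _ = 1 at h2
        rw [map_mul φ, map_inv φ, map_zpow φ, map_mul f, map_inv f, map_zpow f, hi, mul_inv_eq_one, ← zpow_mul] at h2
        rw [pow_succ' φ, MulAut.mul_apply, h2, pow_succ', mul_comm]
    have hpi : ¬ (p : ℤ) ∣ i := by
      rintro ⟨t, rfl⟩
      refine h1 ?_
      have h3 : φ v ∈ K := by
        rw [← QuotientGroup.eq_one_iff]
        change f _ = 1
        rw [hi, zpow_mul, zpow_natCast, ← map_pow, hexp v hv, map_one, one_zpow]
      have h4 := (Subgroup.characteristic_iff_map_le.mp hK φ⁻¹) ⟨_, h3, rfl⟩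
      change φ⁻¹ (φ v) ∈ K at h4
      rw [MulAut.inv_apply_self] at h4
      exact (QuotientGroup.eq_one_iff v).mpr h4
    have hmod : i ^ (p - 1) ≡ 1 [ZMOD p] :=
      Int.ModEq.pow_card_sub_one_eq_one hp.out
        (Int.isCoprime_iff_gcd_eq_one.mp ((Prime.coprime_iff_not_dvd (Nat.prime_iff_prime_int.mp hp.out)).mpr hpi)
          |> fun h => Int.isCoprime_iff_gcd_eq_one.mpr (by rwa [Int.gcd_comm]))
    obtain ⟨t, ht⟩ := hmod.symm.dvd
    rw [hiter, show i ^ (p - 1) = (p : ℤ) * t + 1 by omega, zpow_add, zpow_mul, zpow_natCast, ← map_pow, hexp v hv,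
      map_one, one_zpow, one_mul, zpow_one]
  set ψ := φ ^ (p - 1) with hψ
  obtain ⟨k, hk, hkv⟩ : ∃ k ∈ K, ψ v = v * k :=
    ⟨v⁻¹ * ψ v, (QuotientGroup.eq (s := K)).mp hmem.symm, (mul_inv_cancel_left v _).symm⟩
  have hn : ∀ n : ℕ, (ψ ^ n) v = v * k ^ n := by
    intro n
    induction n with
    | zero => simp
    | succ n ih => rw [pow_succ' ψ, MulAut.mul_apply, ih, map_mul, map_pow, hkv, hfix k hk, pow_succ', mul_assoc]
  have h1 := hn (orderOf φ)
  rw [hψ, ← pow_mul, mul_comm, pow_mul, pow_orderOf_eq_one, one_pow] at h1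
  change v = v * _ at h1
  have h2 : k ^ orderOf φ = 1 := left_eq_mul.mp h1
  have h3 : k = 1 := orderOf_eq_one_iff.mp (Nat.eq_one_of_dvd_coprimes hφ
    (orderOf_dvd_of_pow_eq_one h2) (orderOf_dvd_of_pow_eq_one (hexp k (hKQ hk))))
  rw [hkv, h3, mul_one]

/-- With a maximal elementary abelian subgroup of order `p ^ 2` in rank at least three, automorphisms of order
prime to `p` have order dividing `p - 1`. -/
theorem MaxEATwo.aut_pow (hp2 : p ≠ 2) (hR : IsPGroup p R) (hr : ¬ PRankLE p 2 R) {E : Subgroup R}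
    (h : MaxEATwo p E) (φ : MulAut R) (hφ : (orderOf φ).Coprime p) : φ ^ (p - 1) = 1 := by
  obtain ⟨-, -, hEW, hidx, -, -⟩ := h.second hp2 hR hr
  set W := omegaSecond (R := R) hp2
  set Z := omegaCentre p R
  set T := Subgroup.centralizer (W : Set R) with hT
  haveI hWc : W.Characteristic := omegaSecond_characteristic (R := R) hp2
  haveI hTc : T.Characteristic := inferInstance
  obtain ⟨r, hrE, hrT⟩ := SetLike.not_le_iff_exists.mp hEW
  have hZc : Nat.card Z = p := h.card_omegaCentre hp2 hR hr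
  have hZE : Z < E := h.omegaCentre_lt hp2 hR hr
  have hZT : Z ≤ T := fun z hz => Subgroup.mem_centralizer_iff.mpr fun w _ =>
    Subgroup.mem_center_iff.mp hz.1 w
  have hET : E ⊓ T = Z := by
    refine (Subgroup.eq_of_le_of_card_ge (le_inf hZE.le hZT) ?_).symm
    obtain ⟨k, hk⟩ := (hR.to_subgroup (E ⊓ T : Subgroup R)).exists_card_eq
    have h1 := Basics.card_lt_of_lt (lt_of_le_of_ne (inf_le_left : E ⊓ T ≤ E) fun e => hrT (e.ge hrE).2)
    rw [hk, h.card, Nat.pow_lt_pow_iff_right hp.out.one_lt] at h1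
    rw [hk, hZc]
    exact (Nat.pow_le_pow_right hp.out.pos (by omega : k ≤ 1)).trans (pow_one p).le
  have hEgen : Z ⊔ Subgroup.zpowers r = E := by
    refine Subgroup.eq_of_le_of_card_ge (sup_le hZE.le (Subgroup.zpowers_le.mpr hrE)) ?_
    obtain ⟨k, hk⟩ := (hR.to_subgroup (Z ⊔ Subgroup.zpowers r : Subgroup R)).exists_card_eq
    have h1 := Basics.card_lt_of_lt (lt_of_le_of_ne (le_sup_left (a := Z) (b := Subgroup.zpowers r)) fun e =>
      hrT (hZT (e.ge (Subgroup.mem_sup_right (Subgroup.mem_zpowers r)))))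
    rw [hk, hZc] at h1
    rw [hk, h.card]
    refine Nat.pow_le_pow_right hp.out.pos ?_
    by_contra hlt
    exact absurd h1 (not_lt.mpr ((Nat.pow_le_pow_right hp.out.pos (by omega : k ≤ 1)).trans (pow_one p).le))
  -- fixed points of `r` on elementary subgroups of `T`
  have hfibre : ∀ v ∈ T, v ^ p = 1 → Commute v r → v ∈ Z := by
    intro v hvT hvp hvr
    rw [← hET]
    refine Subgroup.mem_inf.mpr ⟨h.mem v hvp ?_, hvT⟩
    have : E ≤ Subgroup.centralizer ({v} : Set R) := by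
      rw [← hEgen]
      exact sup_le (fun z hz => Subgroup.mem_centralizer_singleton_iff.mpr (Subgroup.mem_center_iff.mp hz.1 v).symm)
        (Subgroup.zpowers_le.mpr (Subgroup.mem_centralizer_singleton_iff.mpr hvr.eq.symm))
    exact Subgroup.mem_centralizer_iff.mpr fun e he => Subgroup.mem_centralizer_singleton_iff.mp (this he)
  have hkey : ∀ (n : ℕ) (Q : Subgroup R), Nat.card Q = n → Q.Characteristic → Q ≤ T → (∀ v ∈ Q, v ^ p = 1) →
      ∀ v ∈ Q, (φ ^ (p - 1)) v = v := by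
    intro n
    induction n using Nat.strong_induction_on with
    | _ n ih =>
      intro Q hn hQc hQT hQe v hv
      rcases eq_or_ne Q ⊥ with rfl | hQ1
      · rw [Subgroup.mem_bot.mp hv, map_one]
      set K := ⁅Q, (⊤ : Subgroup R)⁆ with hK
      haveI := hQc
      haveI hKc : K.Characteristic := inferInstance
      have hKQ : K ≤ Q := Subgroup.commutator_le_left Q ⊤
      have hKlt : K < Q := by
        refine lt_of_le_of_ne hKQ fun e => hQ1 ?_
        have h2 : ∀ i, Q ≤ (⊤ : Subgroup R).lowerCentralSeries i := by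
          intro i
          induction i with
          | zero => simp
          | succ i ih => rw [Subgroup.lowerCentralSeries_succ, ← e]; exact Subgroup.commutator_mono ih le_rfl
        have hnil : Group.IsNilpotent (⊤ : Subgroup R) := (hR.to_subgroup ⊤).isNilpotent
        obtain ⟨m, hm⟩ := (Subgroup.isNilpotent_iff_lowerCentralSeries (⊤ : Subgroup R)).mp hnil
        exact le_bot_iff.mp (hm ▸ h2 m)
      refine fix_step hφ hKQ hQe ?_ (ih _ (hn ▸ Basics.card_lt_of_lt hKlt) K rfl hKc (hKQ.trans hQT)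
        (fun w hw => hQe w (hKQ hw))) v hv
      let g : Q → K := fun w => ⟨⁅(w : R), r⁆, Subgroup.commutator_mem_commutator w.2 (Subgroup.mem_top r)⟩
      have hfib : ∀ a b : Q, g a = g b → (a : R)⁻¹ * b ∈ Z := by
        intro a b hab
        refine hfibre _ (hQT (mul_mem (inv_mem a.2) b.2)) (hQe _ (mul_mem (inv_mem a.2) b.2)) ?_
        have h2 : ⁅(a : R), r⁆ = ⁅(b : R), r⁆ := congrArg Subtype.val hab
        rw [commutatorElement_def, commutatorElement_def, mul_left_inj] at h2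
        change (a : R)⁻¹ * b * r = r * ((a : R)⁻¹ * b)
        calc (a : R)⁻¹ * b * r = (a : R)⁻¹ * ((b : R) * r * (b : R)⁻¹) * b := by group
          _ = (a : R)⁻¹ * ((a : R) * r * (a : R)⁻¹) * b := by rw [h2]
          _ = r * ((a : R)⁻¹ * b) := by group
      let g' : Q ⧸ Z.subgroupOf Q → K := fun q => g q.out
      have hg' : Function.Injective g' := by
        intro a b hab
        rw [← QuotientGroup.out_eq' a, ← QuotientGroup.out_eq' b, QuotientGroup.eq]
        exact hfib _ _ hab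
      have h1 := Nat.card_le_card_of_injective g' hg'
      rw [← Subgroup.card_mul_index (Z.subgroupOf Q), Subgroup.index_eq_card]
      refine Nat.mul_le_mul ?_ h1
      rw [← hZc, ← Subgroup.card_map_of_injective Q.subtype_injective, Subgroup.subgroupOf_map_subtype]
      exact Subgroup.card_le_of_le inf_le_left
  obtain ⟨C, hCc, hCe, hdet⟩ := Fusion.exists_omega_detect hR
  have hCexp : ∀ v ∈ C, v ^ p = 1 := fun v hv => (hCe v hv).resolve_right fun h => hp2 h.1
  haveI := hCc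
  haveI hCTc : (C ⊓ T).Characteristic := by
    rw [Subgroup.characteristic_iff_comap_eq]
    intro ψ
    rw [Subgroup.comap_inf, Subgroup.characteristic_iff_comap_eq.mp hCc ψ, Subgroup.characteristic_iff_comap_eq.mp hTc ψ]
  refine hdet _ ((hφ.coprime_dvd_left (orderOf_pow_dvd _))) (fix_step hφ (inf_le_left : C ⊓ T ≤ C) hCexp ?_
    (hkey _ (C ⊓ T) rfl hCTc inf_le_right fun w hw => hCexp w hw.1))
  have h2 : Nat.card ↥(C ⊓ T) * T.relIndex C = Nat.card C := by
    rw [← Subgroup.inf_relIndex_left, Subgroup.relIndex,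
      ← Basics.card_subgroupOf (inf_le_left : C ⊓ T ≤ C), Subgroup.card_mul_index]
  rw [← h2, mul_comm p]
  exact Nat.mul_le_mul_left _ ((Nat.le_of_dvd hp.out.pos (hidx ▸ Subgroup.relIndex_dvd_index_of_normal T C)))

/-- A narrow group of rank at least three has a maximal elementary abelian subgroup of order `p ^ 2`. -/
theorem exists_maxEATwo_of_narrow (hR : IsPGroup p R) (hn : IsNarrow p R) (hr : ¬ PRankLE p 2 R) :
    ∃ E : Subgroup R, MaxEATwo p E := by
  obtain ⟨R₀, R₁, hR₀, hR₁, hdisj, hcomm, hsup⟩ := hn.resolve_left hr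
  haveI : IsCyclic R₀ := isCyclic_of_prime_card hR₀
  have hR₀c : R₀ ≤ Subgroup.centralizer (R₀ : Set R) := hsup ▸ le_sup_left
  have hcom : ∀ a ∈ R₀ ⊔ R₁, ∀ b ∈ R₀ ⊔ R₁, Commute a b := by
    have h0 : R₀ ⊔ R₁ ≤ Subgroup.centralizer ((R₀ ⊔ R₁ : Subgroup R) : Set R) := by
      haveI := hR₁
      have c0 : R₀ ≤ Subgroup.centralizer (R₁ : Set R) := fun a ha =>
        Subgroup.mem_centralizer_iff.mpr fun b hb => (hcomm a ha b hb).symm
      have c1 : R₁ ≤ Subgroup.centralizer (R₁ : Set R) :=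
        Subgroup.le_centralizer_iff_isMulCommutative.mpr IsCyclic.isMulCommutative
      refine Subgroup.le_centralizer_iff.mp (sup_le ?_ ?_)
      · exact Subgroup.le_centralizer_iff.mp (sup_le hR₀c (Subgroup.le_centralizer_iff.mp c0))
      · exact Subgroup.le_centralizer_iff.mp (sup_le c0 c1)
    exact fun a ha b hb => (Subgroup.mem_centralizer_iff.mp (h0 ha) b hb).symm
  let E : Subgroup R :=
    { carrier := {x | x ∈ R₀ ⊔ R₁ ∧ x ^ p = 1}
      one_mem' := ⟨one_mem _, one_pow p⟩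
      mul_mem' := fun {a b} ha hb => ⟨mul_mem ha.1 hb.1, by
        rw [(hcom a ha.1 b hb.1).mul_pow, ha.2, hb.2, one_mul]⟩
      inv_mem' := fun {a} ha => ⟨inv_mem ha.1, by rw [inv_pow, ha.2, inv_one]⟩ }
  have hEea : IsElementaryAbelian p E :=
    ⟨⟨⟨fun a b => Subtype.ext (hcom a a.2.1 b b.2.1).eq⟩⟩, fun a ha => ha.2⟩
  have hR₀E : R₀ ≤ E := fun a ha => ⟨Subgroup.mem_sup_left ha, by
    rw [← hR₀]; exact congrArg Subtype.val (pow_card_eq_one' (x := (⟨a, ha⟩ : R₀)))⟩
  refine ⟨E, hEea, ?_, fun x hx hxC => ⟨?_, hx⟩⟩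
  · have hE1 : Nat.card ↥(E ⊓ R₁) ≤ p := by
      haveI := hR₁
      haveI : IsCyclic (E ⊓ R₁ : Subgroup R) :=
        isCyclic_of_injective (Subgroup.inclusion (inf_le_right : E ⊓ R₁ ≤ R₁)) (Subgroup.inclusion_injective _)
      rw [← IsCyclic.exponent_eq_card]
      exact Nat.le_of_dvd hp.out.pos
        (Monoid.exponent_dvd_of_forall_pow_eq_one fun v => Subtype.ext v.2.1.2)
    have hR₁ne : R₁ ≠ ⊥ := by
      intro e
      rw [e, sup_bot_eq] at hsup
      refine hr fun X hXc hXe => ?_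
      have htop : (⊤ : Subgroup R) ≤ R₀ := by
        haveI : Nontrivial R := by
          refine ⟨?_⟩
          by_contra hne
          push Not at hne
          haveI : Subsingleton R₀ := ⟨fun a b => Subtype.ext (hne _ _)⟩
          exact hp.out.one_lt.ne (by rw [← hR₀, Nat.card_of_subsingleton (1 : R₀)])
        haveI := hR.center_nontrivial
        have hZ : Subgroup.center R ≤ R₀ := hsup ▸ fun z hz =>
          Subgroup.mem_centralizer_iff.mpr fun w _ => Subgroup.mem_center_iff.mp hz w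
        have hZe : Subgroup.center R = R₀ := by
          refine Subgroup.eq_of_le_of_card_ge hZ (hR₀ ▸ ?_)
          rcases (hR.to_subgroup (Subgroup.center R)).card_eq_or_dvd with h | h
          · exact absurd h (Finite.one_lt_card (α := Subgroup.center R)).ne'
          · exact Nat.le_of_dvd Nat.card_pos h
        intro v _
        rw [hsup, ← hZe]
        exact Subgroup.mem_centralizer_iff.mpr fun w hw => (Subgroup.mem_center_iff.mp hw v).symm
      calc Nat.card X ≤ Nat.card R₀ := Subgroup.card_le_of_le (le_top.trans htop)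
        _ ≤ p ^ 2 := hR₀.le.trans (Nat.le_self_pow two_ne_zero p)
    have hsupE : E = R₀ ⊔ (E ⊓ R₁) := by
      refine le_antisymm (fun x hx => ?_) (sup_le hR₀E inf_le_left)
      obtain ⟨a, ha, b, hb, rfl⟩ := (Basics.mem_sup_of_le_normalizer (H := R₁) (N := R₀) (fun b hb => by
        refine Subgroup.centralizer_le_normalizer _ (Subgroup.mem_centralizer_iff.mpr fun a ha => hcomm a ha b hb))).mp hx.1
      refine mul_mem (Subgroup.mem_sup_left ha) (Subgroup.mem_sup_right ⟨?_, hb⟩)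
      simpa using mul_mem (inv_mem (hR₀E ha)) hx
    have hcard : Nat.card E = p * Nat.card ↥(E ⊓ R₁) := by
      have h := Basics.card_mul_card_eq_card_sup_mul_card_inf (N := R₀) (H := E ⊓ R₁) (fun b hb =>
        Subgroup.centralizer_le_normalizer _ (Subgroup.mem_centralizer_iff.mpr fun a ha => hcomm a ha b hb.2))
      rw [← inf_assoc, inf_eq_left.mpr hR₀E, hdisj, Subgroup.card_bot, mul_one, ← hsupE, hR₀] at h
      exact h.symm
    rw [hcard, sq]
    congr 1
    refine le_antisymm hE1 ?_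
    obtain ⟨k, hk⟩ := (hR.to_subgroup R₁).exists_card_eq
    have hk0 : k ≠ 0 := by
      rintro rfl
      exact hR₁ne (Subgroup.card_eq_one.mp (hk.trans (pow_zero p)))
    obtain ⟨z, hz⟩ := exists_prime_orderOf_dvd_card' (G := R₁) p (hk ▸ dvd_pow_self p hk0)
    rw [← Subgroup.orderOf_coe] at hz
    have hzE : (z : R) ∈ E ⊓ R₁ :=
      ⟨⟨Subgroup.mem_sup_right z.2, orderOf_dvd_iff_pow_eq_one.mp hz.dvd⟩, z.2⟩
    exact Nat.le_of_dvd Nat.card_pos (hz ▸ Subgroup.orderOf_dvd_natCard _ hzE)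
  · rw [hsup]
    exact Subgroup.mem_centralizer_iff.mpr fun w hw => Subgroup.mem_centralizer_iff.mp hxC w (hR₀E hw)

end Auto

variable {G : Type u} [Group G] [Finite G] {p : ℕ} [hp : Fact p.Prime]

/-- The derived subgroup of an odd solvable group of automorphisms of a narrow `p`-group is a `p`-group. -/
theorem derived_isPGroup_narrow (hp2 : p ≠ 2) {R A : Subgroup G} (hR : IsPGroup p R) (hn : IsNarrow p R)
    (hA : A ≤ Subgroup.normalizer (R : Set G)) (hAs : Group.IsSolvable A)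
    (hAodd : Odd (Nat.card A)) (hf : A ⊓ Subgroup.centralizer (R : Set G) = ⊥) : IsPGroup p ↥⁅A, A⁆ := by
  by_cases hr : PRankLE p 2 R
  · exact derived_isPGroup hp2 hR hr hA hAs hAodd hf
  obtain ⟨E, hE⟩ := exists_maxEATwo_of_narrow hR hn hr
  set X := R ⊔ A with hX
  set R' := R.subgroupOf X with hR'
  haveI hR'n : R'.Normal :=
    (Subgroup.normal_subgroupOf_iff_le_normalizer le_sup_left).mpr (sup_le Subgroup.le_normalizer hA)
  have hRs : Group.IsSolvable R := by have := hR.isNilpotent; infer_instance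
  haveI hXs : Group.IsSolvable X := Components.isSolvable_sup hA hRs hAs
  have hXodd : Odd (Nat.card X) := by
    obtain ⟨k, hk⟩ := IsPGroup.iff_card.mp hR
    have h := Basics.card_mul_card_eq_card_sup_mul_card_inf (N := R) (H := A) hA
    exact (Odd.mul (hk ▸ (hp.out.odd_of_ne_two hp2).pow : Odd (Nat.card R)) hAodd).of_dvd_nat
      (Dvd.intro _ h.symm)
  let ι := Subgroup.inclusion (le_sup_left : R ≤ X)
  have hEle : E.map ι ≤ R' := by
    rintro _ ⟨e, -, rfl⟩
    exact e.2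
  have hrank : ∀ Y : Subgroup X, Y ≤ R' ⊓ Subgroup.centralizer (E.map ι : Set X) → IsElementaryAbelian p Y →
      Nat.card Y ≤ p ^ 2 := by
    intro Y hY hYe
    rw [← hE.card, ← Subgroup.card_map_of_injective (K := E) (Subgroup.inclusion_injective (le_sup_left : R ≤ X))]
    refine Subgroup.card_le_of_le fun y hy => ?_
    have hyR : (y : G) ∈ R := (hY hy).1
    refine ⟨⟨y, hyR⟩, hE.mem _ (Subtype.ext (congrArg Subtype.val (hYe.2 y hy) :)) ?_, rfl⟩
    exact Subgroup.mem_centralizer_iff.mpr fun e he => Subtype.ext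
      (congrArg Subtype.val (Subgroup.mem_centralizer_iff.mp (hY hy).2 _ ⟨e, he, rfl⟩) :)
  intro y
  refine ⟨Nat.factorization (Nat.card G) p, Subtype.ext ?_⟩
  rw [Subgroup.coe_pow, Subgroup.coe_one]
  set n := Nat.factorization (Nat.card G) p
  have hyA : (y : G) ^ p ^ n ∈ A := pow_mem (Subgroup.commutator_le_self A y.2) _
  let z : X := ⟨(y : G) ^ p ^ n, Subgroup.mem_sup_right hyA⟩
  have hcop : (orderOf z).Coprime p := by
    rw [← Subgroup.orderOf_coe]
    refine Nat.Coprime.coprime_dvd_left (orderOf_dvd_of_pow_eq_one (n := Nat.card G / p ^ n) ?_)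
      ((hp.out.coprime_iff_not_dvd.mpr (Nat.not_dvd_ordCompl hp.out Nat.card_pos.ne')).symm)
    change ((y : G) ^ p ^ n) ^ (Nat.card G / p ^ n) = 1
    rw [← pow_mul, Nat.mul_div_cancel' (Nat.ordProj_dvd _ _), pow_card_eq_one']
  have hzc : z ∈ commutator X := by
    have h1 : ⁅A, A⁆ ≤ (commutator X).map X.subtype := by
      rw [X.map_subtype_commutator]
      exact Subgroup.commutator_mono le_sup_right le_sup_right
    obtain ⟨v, hv, e⟩ := h1 (pow_mem y.2 (p ^ n))
    exact (Subtype.ext e : v = z) ▸ hv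
  have h := derived_centralizes_narrow hXodd hp2 (P := R') (hR.comap_subtype (K := X)) hEle
    ⟨isMulCommutative_map hE.ea.1 _, by rintro _ ⟨e, he, rfl⟩; rw [← map_pow, hE.ea.2 e he, map_one]⟩ hrank hzc hcop
  have hmem : (y : G) ^ p ^ n ∈ A ⊓ Subgroup.centralizer (R : Set G) := ⟨hyA, Subgroup.mem_centralizer_iff.mpr
    fun r hr' => congrArg Subtype.val (Subgroup.mem_centralizer_iff.mp h ⟨r, Subgroup.mem_sup_left hr'⟩ hr')⟩
  rw [hf, Subgroup.mem_bot] at hmem
  exact hmem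

omit [Finite G] in
theorem pow_eq_one_of_aut {R A : Subgroup G} (hA : A ≤ Subgroup.normalizer (R : Set G))
    (hf : A ⊓ Subgroup.centralizer (R : Set G) = ⊥) {a : G} (ha : a ∈ A) {n : ℕ}
    (h : (R.normalizerMonoidHom ⟨a, hA ha⟩) ^ n = 1) : a ^ n = 1 := by
  rw [← map_pow, ← MonoidHom.mem_ker, Subgroup.normalizerMonoidHom_ker, Subgroup.mem_subgroupOf] at h
  have h2 : a ^ n ∈ A ⊓ Subgroup.centralizer (R : Set G) := ⟨pow_mem ha n, by simpa using h⟩
  rwa [hf, Subgroup.mem_bot] at h2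

theorem narrow_orderOf_dvd (hp2 : p ≠ 2) {R A : Subgroup G} (hR : IsPGroup p R) (hn : IsNarrow p R)
    (hr : ¬ PRankLE p 2 R) (hA : A ≤ Subgroup.normalizer (R : Set G))
    (hf : A ⊓ Subgroup.centralizer (R : Set G) = ⊥) {a : G} (ha : a ∈ A) (hao : (orderOf a).Coprime p) :
    orderOf a ∣ p - 1 := by
  obtain ⟨E, hE⟩ := exists_maxEATwo_of_narrow hR hn hr
  refine orderOf_dvd_of_pow_eq_one (pow_eq_one_of_aut hA hf ha (hE.aut_pow hp2 hR hr _ ?_))
  refine hao.coprime_dvd_left ((orderOf_map_dvd _ _).trans ?_)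
  rw [← Subgroup.orderOf_coe]

/-- A group of prime order not dividing `p - 1` acting on a rank two `p`-group. -/
theorem prime_dvd_succ (hp2 : p ≠ 2) {R : Subgroup G} (hR : IsPGroup p R) (hr : PRankLE p 2 R) {q : ℕ}
    (hq : q.Prime) (hqp : q ≠ p) (hq1 : ¬ q ∣ p - 1) {a : G} (ha : a ∈ Subgroup.normalizer (R : Set G))
    (hao : orderOf a = q) (hac : a ∉ Subgroup.centralizer (R : Set G)) : q ∣ p + 1 := by
  haveI := Fact.mk hq
  set N := Subgroup.normalizer (R : Set G)
  haveI : (R.subgroupOf N).Normal := (Subgroup.normal_subgroupOf_iff_le_normalizer Subgroup.le_normalizer).mpr le_rfl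
  obtain ⟨WW, hWW, P, hPn, hPp, hPc, -, hPe, hkill⟩ := exists_small_section (T := R.subgroupOf N) hp2 hR.comap_subtype
    (fun X hX => by
      rw [← Subgroup.card_map_of_injective
        (f := (Subgroup.subgroupOfEquivOfLe (Subgroup.le_normalizer : R ≤ N)).toMonoidHom) (MulEquiv.injective _)]
      have h2 := Transfer.ea_map hX (Subgroup.subgroupOfEquivOfLe (Subgroup.le_normalizer : R ≤ N)).toMonoidHom
      exact hr _ h2.1 h2.2)
  haveI := hWW
  haveI := hPn
  set ψ : MulAut P := MulAut.conjNormal (QuotientGroup.mk' WW ⟨a, ha⟩) with hψdef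
  have hψq : ψ ^ q = 1 := by
    rw [hψdef, ← map_pow, ← map_pow, show (⟨a, ha⟩ : N) ^ q = 1 from Subtype.ext (hao ▸ pow_orderOf_eq_one a),
      map_one, map_one]
  have hψ1 : ψ ≠ 1 := by
    intro h
    refine hac ?_
    have h2 := hkill ⟨a, ha⟩ (by
      rw [← Subgroup.orderOf_coe]
      exact hao.symm ▸ (Nat.coprime_primes hq hp.out).mpr hqp)
      (Subgroup.mem_centralizer_iff.mpr fun v hv => by
        have h3 : (ψ ⟨v, hv⟩ : N ⧸ WW) = v := by rw [h]; rfl
        rw [hψdef, MulAut.conjNormal_apply] at h3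
        exact (mul_inv_eq_iff_eq_mul.mp h3).symm)
    exact Subgroup.mem_centralizer_iff.mpr fun r hr' => congrArg Subtype.val
      (Subgroup.mem_centralizer_iff.mp h2 ⟨r, Subgroup.le_normalizer hr'⟩ hr')
  have hψo : orderOf ψ = q := orderOf_eq_prime hψq hψ1
  let F : Subgroup P :=
    { carrier := {v | ψ v = v}
      one_mem' := map_one ψ
      mul_mem' := fun {x y} hx hy => by change ψ (x * y) = x * y; rw [map_mul, hx, hy]
      inv_mem' := fun {x} hx => by change ψ x⁻¹ = x⁻¹; rw [map_inv, hx] }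
  have hFtop : F ≠ ⊤ := fun h => hψ1 (MulEquiv.ext fun v => (h.ge (Subgroup.mem_top v) :))
  have hzq : IsPGroup q (Subgroup.zpowers ψ) := IsPGroup.of_card (n := 1) (by rw [Nat.card_zpowers, hψo, pow_one])
  have hfix : MulAction.fixedPoints (Subgroup.zpowers ψ) P = (F : Set P) := by
    ext v
    constructor
    · intro hv
      exact hv ⟨ψ, Subgroup.mem_zpowers ψ⟩
    · intro hv g
      have hg : (g : MulAut P) ∈ MulAction.stabilizer (MulAut P) v :=
        (Subgroup.zpowers_le.mpr (show ψ ∈ MulAction.stabilizer (MulAut P) v from hv)) g.2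
      exact hg
  have hmod := hzq.card_modEq_card_fixedPoints (α := P)
  rw [hfix] at hmod
  change Nat.card P ≡ Nat.card F [MOD q] at hmod
  obtain ⟨m, hm⟩ := hPp.exists_card_eq
  obtain ⟨k, hk⟩ := (hPp.to_subgroup F).exists_card_eq
  have hkm : k < m := by
    have h := Subgroup.card_mul_index F
    rw [hk, hm] at h
    by_contra hle
    push Not at hle
    have h2 : Nat.card P ≤ Nat.card F := hm ▸ hk ▸ Nat.pow_le_pow_right hp.out.pos hle
    exact hFtop (Subgroup.eq_top_of_card_eq F (le_antisymm (Subgroup.card_le_card_group F) h2))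
  rw [hm, Nat.pow_le_pow_iff_right hp.out.one_lt] at hPc
  have hd : q ∣ p ^ m - p ^ k := (Nat.modEq_iff_dvd' (Nat.pow_le_pow_right hp.out.pos hkm.le)).mp (hk ▸ hm ▸ hmod).symm
  have hp1 : 1 ≤ p := hp.out.pos
  obtain ⟨rfl, rfl⟩ | ⟨rfl, rfl⟩ | ⟨rfl, rfl⟩ :
      (m = 1 ∧ k = 0) ∨ (m = 2 ∧ k = 0) ∨ (m = 2 ∧ k = 1) := by omega
  · exact absurd (by simpa using hd) hq1
  · have e : p ^ 2 - p ^ 0 = (p + 1) * (p - 1) := by
      rw [pow_zero, ← Nat.sq_sub_sq, one_pow]
    rw [e] at hd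
    exact (hq.dvd_mul.mp hd).resolve_right hq1
  · have e : p ^ 2 - p ^ 1 = p * (p - 1) := by rw [pow_one, Nat.mul_sub_one, sq]
    rw [e] at hd
    rcases hq.dvd_mul.mp hd with h | h
    · exact absurd ((Nat.prime_dvd_prime_iff_eq hq hp.out).mp h) hqp
    · exact absurd h hq1

/-- A group of prime order not dividing `p (p - 1)` with `[R, A] = R` nonabelian of rank two forces order `p ^ 3`. -/
theorem card_eq_cube (hp2 : p ≠ 2) {R A : Subgroup G} (hR : IsPGroup p R) (hr : PRankLE p 2 R)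
    (hA : A ≤ Subgroup.normalizer (R : Set G)) (hAodd : Odd (Nat.card A)) {q : ℕ} (hq : q.Prime)
    (hAq : Nat.card A = q) (hqp : q ≠ p) (hq1 : ¬ q ∣ p - 1) (hRA : ⁅R, A⁆ = R) (hnab : ¬ IsMulCommutative R) :
    Nat.card R = p ^ 3 := by
  have hR1 : R ≠ ⊥ := by
    rintro rfl
    exact hnab ⟨⟨fun a b => Subsingleton.elim _ _⟩⟩
  have hcop : (Nat.card A).Coprime p := hAq.symm ▸ (Nat.coprime_primes hq hp.out).mpr hqp
  obtain ⟨-, h⟩ := blackburn hp2 hR hR1 hr hA hcop hAodd hRA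
  obtain ⟨R₁, R₂, hsup, hcom, -, hc3, hexp, hcyc, hom, -⟩ := h.resolve_left hnab
  have hR₁R : R₁ ≤ R := hsup ▸ le_sup_left
  have hR₂R : R₂ ≤ R := hsup ▸ le_sup_right
  obtain ⟨⟨b, hb⟩, hbgen⟩ := hcyc.exists_generator
  have hexp1 : ∀ v ∈ R₁, v ^ p = 1 := fun v hv => congrArg Subtype.val
    (hexp ▸ Monoid.pow_exponent_eq_one (⟨v, hv⟩ : R₁) : (⟨v, hv⟩ : R₁) ^ p = 1)
  have hR₂N : R₂ ≤ Subgroup.normalizer (R₁ : Set G) := fun v hv =>
    Subgroup.centralizer_le_normalizer _ (Subgroup.mem_centralizer_iff.mpr fun w hw => hcom w hw v hv)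
  have hdec : ∀ r ∈ R, ∃ d ∈ R₁, ∃ j : ℤ, r = d * b ^ j ∧ Commute d (b ^ j) := by
    intro r hr'
    obtain ⟨d, hd, c, hc, rfl⟩ := (Basics.mem_sup_of_le_normalizer hR₂N).mp (hsup.symm ▸ hr')
    obtain ⟨j, hj⟩ := hbgen ⟨c, hc⟩
    have hj' : b ^ j = c := congrArg Subtype.val hj
    exact ⟨d, hd, j, by rw [hj'], hj' ▸ hcom d hd c hc⟩
  -- `R₁` consists of the elements of order dividing `p`
  have hchar : ∀ v ∈ R, v ^ p = 1 → v ∈ R₁ := by
    intro v hv hvp
    obtain ⟨d, hd, j, rfl, hcd⟩ := hdec v hv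
    rw [hcd.mul_pow, hexp1 d hd, one_mul] at hvp
    refine mul_mem hd ?_
    have h1 : b ^ j ∈ Subgroup.closure {x : G | x ∈ R₂ ∧ x ^ p = 1} :=
      Subgroup.subset_closure ⟨zpow_mem hb j, hvp⟩
    exact (R₁.commutator_le_self) (hom ▸ h1)
  have hconj : ∀ a ∈ A, ∀ v ∈ R₁, a * v * a⁻¹ ∈ R₁ := fun a ha v hv =>
    hchar _ ((Subgroup.mem_normalizer_iff.mp (hA ha) v).mp (hR₁R hv)) (by rw [conj_pow, hexp1 v hv, mul_one, mul_inv_cancel])
  set S := R₁ ⊔ Subgroup.zpowers (b ^ (p : ℤ)) with hS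
  have hbp : ∀ t : ℤ, b ^ ((p : ℤ) * t) ∈ S := fun t => by
    rw [zpow_mul]
    exact zpow_mem (Subgroup.mem_sup_right (Subgroup.mem_zpowers _)) t
  suffices hbS : b ∈ S by
    -- `b ∈ R₁`
    obtain ⟨d, hd, c, hc, e⟩ := (Basics.mem_sup_of_le_normalizer (N := R₁) (H := Subgroup.zpowers (b ^ (p : ℤ)))
      (Subgroup.zpowers_le.mpr (hR₂N (zpow_mem hb _)))).mp hbS
    obtain ⟨t, rfl⟩ := hc
    have hbd : b ^ (1 - (p : ℤ) * t) ∈ R₁ := by
      rw [zpow_sub, zpow_one, zpow_mul]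
      change b * ((b ^ (p : ℤ)) ^ t)⁻¹ ∈ R₁
      rw [show b * ((b ^ (p : ℤ)) ^ t)⁻¹ = d by rw [mul_inv_eq_iff_eq_mul]; exact e]
      exact hd
    obtain ⟨n, hn⟩ := hR ⟨b, hR₂R hb⟩
    have hn' : b ^ p ^ n = 1 := congrArg Subtype.val hn
    obtain ⟨x, y, hxy⟩ : IsCoprime (1 - (p : ℤ) * t) ((p : ℤ) ^ n) :=
      IsCoprime.pow_right (show IsCoprime (1 - (p : ℤ) * t) (p : ℤ) from ⟨1, t, by ring⟩)
    have hb1 : b ∈ R₁ := by
      rw [← zpow_one b, ← hxy, zpow_add, mul_comm x, zpow_mul, mul_comm y, zpow_mul, ← Nat.cast_pow, zpow_natCast,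
        hn', one_zpow, mul_one]
      exact zpow_mem hbd x
    have : R = R₁ := le_antisymm (fun r hr' => by
      obtain ⟨d', hd', j, rfl, -⟩ := hdec r hr'
      exact mul_mem hd' (zpow_mem hb1 j)) hR₁R
    rw [this, hc3]
  by_contra hbS
  obtain ⟨a, hagen⟩ := (isCyclic_of_prime_card (p := q) (hp := ⟨hq⟩) hAq).exists_generator
  have haN := hA a.2
  obtain ⟨e, he, i, hi, -⟩ := hdec _ ((Subgroup.mem_normalizer_iff.mp haN b).mp (hR₂R hb))
  -- powers of `a` act on `b` through powers of `i`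
  have hbR₁ : ∀ j : ℤ, ∀ v ∈ R₁, Commute v (b ^ j) := fun j v hv => hcom v hv _ (zpow_mem hb j)
  have hconjb : ∀ j : ℤ, (a : G) * b ^ j * (a : G)⁻¹ = e ^ j * b ^ (i * j) := fun j => by
    rw [← conj_zpow, hi, (hbR₁ i e he).mul_zpow, ← zpow_mul]
  have hiter : ∀ n : ℕ, ∃ d ∈ R₁, (a : G) ^ n * b * ((a : G) ^ n)⁻¹ = d * b ^ (i ^ n) := by
    intro n
    induction n with
    | zero => exact ⟨1, one_mem _, by simp⟩
    | succ n ih =>
      obtain ⟨d, hd, hdn⟩ := ih
      refine ⟨(a : G) * d * (a : G)⁻¹ * e ^ (i ^ n), mul_mem (hconj _ a.2 d hd) (zpow_mem he _), ?_⟩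
      rw [pow_succ', mul_inv_rev,
        show (a : G) * (a : G) ^ n * b * (((a : G) ^ n)⁻¹ * (a : G)⁻¹) = (a : G) * ((a : G) ^ n * b * ((a : G) ^ n)⁻¹) * (a : G)⁻¹ by group,
        hdn, show (a : G) * (d * b ^ (i ^ n)) * (a : G)⁻¹ = ((a : G) * d * (a : G)⁻¹) * ((a : G) * b ^ (i ^ n) * (a : G)⁻¹) by group,
        hconjb, ← mul_assoc, pow_succ']
  obtain ⟨d, hd, hdq⟩ := hiter q
  rw [show (a : G) ^ q = 1 by rw [← hAq]; exact congrArg Subtype.val (pow_card_eq_one' (x := a)), one_mul, inv_one,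
    mul_one] at hdq
  have hiq : b ^ (i ^ q - 1) ∈ S := by
    rw [zpow_sub, zpow_one, show b ^ (i ^ q) * b⁻¹ = d⁻¹ by rw [mul_inv_eq_iff_eq_mul, eq_inv_mul_iff_mul_eq]; exact hdq.symm]
    exact inv_mem (Subgroup.mem_sup_left hd)
  have hmem : ∀ j : ℤ, ¬ (p : ℤ) ∣ j → b ^ j ∉ S := by
    intro j hj hjS
    obtain ⟨x, y, hxy⟩ := (Prime.coprime_iff_not_dvd (Nat.prime_iff_prime_int.mp hp.out)).mpr hj
    refine hbS ?_
    rw [← zpow_one b, ← hxy, zpow_add, mul_comm x, mul_comm y]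
    exact mul_mem (hbp x) (by rw [zpow_mul]; exact zpow_mem hjS y)
  have hdiv : (p : ℤ) ∣ i ^ q - 1 := by
    by_contra h
    exact hmem _ h hiq
  have hi1 : (p : ℤ) ∣ i - 1 := by
    rw [← ZMod.intCast_zmod_eq_zero_iff_dvd, Int.cast_sub, Int.cast_one, sub_eq_zero] at *
    rw [Int.cast_pow] at hdiv
    have hu : (i : ZMod p) ≠ 0 := fun h => by simp [h, hq.ne_zero] at hdiv
    refine orderOf_eq_one_iff.mp (Nat.eq_one_of_dvd_coprimes ((Nat.Prime.coprime_iff_not_dvd hq).mpr hq1)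
      (orderOf_dvd_of_pow_eq_one hdiv) ?_)
    exact orderOf_dvd_of_pow_eq_one (ZMod.pow_card_sub_one_eq_one hu)
  -- so `[R, A] ≤ S`
  refine hbS ?_
  have hle : ⁅R, A⁆ ≤ S := by
    refine Subgroup.commutator_le.mpr fun r hr' v hv => ?_
    obtain ⟨n, rfl⟩ : ∃ n : ℕ, (a : G) ^ n = v := by
      obtain ⟨n, hn⟩ := (Submonoid.mem_powers_iff _ _).mp
        ((mem_powers_iff_mem_zpowers).mpr (hagen ⟨v, hv⟩))
      exact ⟨n, congrArg Subtype.val hn⟩
    obtain ⟨d', hd', j, rfl, hdj⟩ := hdec r hr'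
    obtain ⟨dn, hdn, hn⟩ := hiter n
    have h1 : (a : G) ^ n * (d' * b ^ j) * ((a : G) ^ n)⁻¹ =
        ((a : G) ^ n * d' * ((a : G) ^ n)⁻¹) * dn ^ j * b ^ (i ^ n * j) := by
      rw [show (a : G) ^ n * (d' * b ^ j) * ((a : G) ^ n)⁻¹ =
        ((a : G) ^ n * d' * ((a : G) ^ n)⁻¹) * ((a : G) ^ n * b ^ j * ((a : G) ^ n)⁻¹) by group,
        ← conj_zpow, hn, (hbR₁ _ dn hdn).mul_zpow, ← zpow_mul]
      group
    rw [commutatorElement_def, show d' * b ^ j * (a : G) ^ n * (d' * b ^ j)⁻¹ * ((a : G) ^ n)⁻¹ =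
      (d' * b ^ j) * ((a : G) ^ n * (d' * b ^ j) * ((a : G) ^ n)⁻¹)⁻¹ by group, h1, mul_inv_rev, mul_assoc d',
      ← mul_assoc (b ^ j), ← zpow_neg, ← zpow_add]
    obtain ⟨t, ht⟩ : (p : ℤ) ∣ j + -(i ^ n * j) := by
      rw [show j + -(i ^ n * j) = -((i ^ n - 1 ^ n) * j) by ring, dvd_neg]
      exact (hi1.trans (sub_dvd_pow_sub_pow i 1 n)).mul_right j
    rw [ht]
    exact mul_mem (Subgroup.mem_sup_left hd') (mul_mem (hbp t) (inv_mem (Subgroup.mem_sup_left
      (mul_mem (hconj _ (pow_mem a.2 n) d' hd') (zpow_mem hdn j)))))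
  exact hle (hRA.symm ▸ hR₂R hb)

end Cfsg.Agent.OddLocal
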