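import Cfsg.Agent.Lib.OddLocal.ExceptionalB
import Cfsg.Agent.Lib.OddLocal.NarrowAction
import Cfsg.Agent.S1450

/-! `M` normalizes `M_σ A` (BG 11.6). -/

set_option autoImplicit false
set_option linter.unusedSectionVars false
set_option linter.style.haveILetI false

namespace Cfsg.Agent.OddLocal

open scoped commutatorElement Pointwise
open Cfsg
open Basics (IsSylowIn)

universe u

variable {G : Type u} [Group G] [Finite G] {p : ℕ} [hp : Fact p.Prime]

/-- A nontrivial normal subgroup of an `r`-group has a central element of order `r`. -/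
theorem exists_central_mem {r : ℕ} [hr : Fact r.Prime] {S R : Subgroup G} (hS : IsPGroup r S) (hRS : R ≤ S)
    (hn : S ≤ Subgroup.normalizer (R : Set G)) (hR : R ≠ ⊥) :
    ∃ z ∈ R, orderOf z = r ∧ S ≤ Subgroup.centralizer ({z} : Set G) := by
  induction hc : Nat.card R using Nat.strong_induction_on generalizing R with
  | _ m ih =>
  subst hc
  by_cases hD : ⁅R, S⁆ = ⊥
  · obtain ⟨z, hz, hzo⟩ := exists_orderOf_eq (hS.to_le hRS) hR
    exact ⟨z, hz, hzo, fun s hs => Subgroup.mem_centralizer_singleton_iff.mpr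
      (Subgroup.mem_centralizer_iff.mp (Subgroup.commutator_eq_bot_iff_le_centralizer.mp hD hz) s hs)⟩
  have hle : ⁅R, S⁆ ≤ R := Subgroup.le_normalizer_iff_commutator_le_left.mp hn
  have hlt : ⁅R, S⁆ < R := lt_of_le_of_ne hle
    (Basics.commutator_ne_self_of_isNilpotent hS.isNilpotent hRS le_rfl hR)
  obtain ⟨z, hz, h1, h2⟩ := ih _ (Basics.card_lt_of_lt hlt) (hle.trans hRS)
    (Subgroup.normalizer_commutator_ge_right _ _) hD rfl
  exact ⟨z, hle hz, h1, h2⟩

/-- A `p`-element acting nontrivially on an `r`-group of rank at most two forces `p < r`. -/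
theorem lt_of_not_centralizes {r : ℕ} [hr : Fact r.Prime] (hr2 : r ≠ 2) (hp2 : p ≠ 2) (hpr : p ≠ r) {S A : Subgroup G}
    (hS : IsPGroup r S) (hrk : PRankLE r 2 S) (hA : A ≤ Subgroup.normalizer (S : Set G))
    (hexp : ∀ a ∈ A, a ^ p = 1) (hnc : ¬ A ≤ Subgroup.centralizer (S : Set G)) : p < r := by
  obtain ⟨a, ha, hac⟩ := SetLike.not_le_iff_exists.mp hnc
  have ha1 : a ≠ 1 := fun e => hac (e ▸ one_mem _)
  have := hr.out.two_le
  have := hp.out.two_le
  by_cases h1 : p ∣ r - 1
  · have := Nat.le_of_dvd (by omega) h1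
    omega
  have h2 := prime_dvd_succ hr2 hS hrk hp.out hpr h1 (hA ha) (orderOf_eq_prime (hexp a ha) ha1) hac
  obtain ⟨k, hk⟩ := h2
  have hrodd := hr.out.odd_of_ne_two hr2
  have hpodd := hp.out.odd_of_ne_two hp2
  rcases k with _ | _ | k
  · omega
  · exfalso
    rw [Nat.zero_add, mul_one] at hk
    rw [← hk] at hpodd
    exact (Nat.not_even_iff_odd.mpr hpodd) (hrodd.add_one)
  · have : p * 2 ≤ p * (k + 1 + 1) := Nat.mul_le_mul_left p (by omega)
    omega

/-- A complement to a Sylow subgroup in its normalizer. -/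
theorem exists_complement_normalizer {q : ℕ} [Fact q.Prime] (P : Sylow q G) :
    ∃ V : Subgroup G, Cfsg.IsComplIn (P : Subgroup G) V (Subgroup.normalizer ((P : Subgroup G) : Set G)) ∧
      (Nat.card V).Coprime q := by
  set N := Subgroup.normalizer ((P : Subgroup G) : Set G) with hN
  have hPN : (P : Subgroup G) ≤ N := Subgroup.le_normalizer
  haveI : ((P : Subgroup G).subgroupOf N).Normal :=
    (Subgroup.normal_subgroupOf_iff_le_normalizer hPN).mpr le_rfl
  have hcop : (Nat.card ((P : Subgroup G).subgroupOf N)).Coprime ((P : Subgroup G).subgroupOf N).index := by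
    rw [Basics.card_subgroupOf hPN]
    exact Nat.Coprime.coprime_dvd_right (Subgroup.relIndex_dvd_index_of_le hPN) P.card_coprime_index
  obtain ⟨K, hK⟩ := Subgroup.exists_right_complement'_of_coprime hcop
  refine ⟨K.map N.subtype, ⟨hPN, Subgroup.map_subtype_le K, ?_, fun m hm => ?_⟩, ?_⟩
  · rw [eq_bot_iff]
    rintro _ ⟨hv, b, hb, rfl⟩
    have h := hK.disjoint.le_bot (⟨hv, hb⟩ : b ∈ (P : Subgroup G).subgroupOf N ⊓ K)
    rw [Subgroup.mem_bot] at h
    simp [h]
  · obtain ⟨⟨a, b⟩, h⟩ := (hK.existsUnique ⟨m, hm⟩).exists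
    exact ⟨_, a.2, _, ⟨b, b.2, rfl⟩, (congrArg Subtype.val h).symm⟩
  · rw [Subgroup.card_map_of_injective N.subtype_injective, ← hK.symm.index_eq_card]
    exact ((Nat.Prime.coprime_iff_not_dvd Fact.out).mpr fun h => P.not_dvd_index
      (h.trans (Subgroup.relIndex_dvd_index_of_le hPN))).symm

namespace Exc

variable {M A A₀ : Subgroup G}

theorem sq_notMem (h : Exc p M A A₀) (hG : IsMinSimpleOddOrder G) {n : G} (hn : n ∉ M) : n * n ∉ M := by
  intro hm
  obtain ⟨k, hk⟩ := (hG.1.of_dvd_nat (orderOf_dvd_natCard n) : Odd (orderOf n))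
  refine hn ?_
  have he : n = ((n * n) ^ k)⁻¹ := by
    rw [← pow_two, ← pow_mul, eq_inv_iff_mul_eq_one, ← pow_succ', ← hk, pow_orderOf_eq_one]
  rw [he]
  exact inv_mem (pow_mem hm k)

/-- Besides any given line there is a fixed point free line. -/
theorem exists_fpf_line_ne (h : Exc p M A A₀) (hG : IsMinSimpleOddOrder G) (X : Subgroup G) :
    ∃ Y : Subgroup G, Y ≤ A ∧ Nat.card Y = p ∧ Y ≠ X ∧
      Cfsg.sigmaCore M ⊓ Subgroup.centralizer (Y : Set G) = ⊥ := by
  obtain ⟨n, hn, hnM⟩ := h.exists_notMem hG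
  obtain ⟨h1, h2, h3, h4⟩ := h.conj_line hG hn hnM
  obtain ⟨g1, g2, -, g4⟩ := h.conj_line hG (mul_mem hn hn) (h.sq_notMem hG hnM)
  by_cases hX : A₀.map (MulAut.conj n).toMonoidHom = X
  · refine ⟨_, g1, g2, fun e => h3 ?_, g4⟩
    rw [← hX, ← map_conj_map_conj] at e
    exact Subgroup.map_injective (MulAut.conj n).injective e
  · exact ⟨_, h1, h2, hX, h4⟩

/-- The normalizer of a nontrivial invariant subgroup centralizing `M_σ` lies in `M`. -/
theorem normalizer_le_of_centralizing (h : Exc p M A A₀) (hG : IsMinSimpleOddOrder G) {U : Subgroup G}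
    (hU1 : U ≠ ⊥) (hUt : U ≠ ⊤) (hAU : A ≤ Subgroup.normalizer (U : Set G))
    (hUσ : U ≤ Subgroup.centralizer (Cfsg.sigmaCore M : Set G)) : Subgroup.normalizer (U : Set G) ≤ M := by
  obtain ⟨L, hL, hle⟩ := exists_maximal_ge (normalizer_ne_top hG hU1 hUt)
  by_contra hn
  have hne : L ≠ M := fun e => hn (e ▸ hle)
  have hσL : Cfsg.sigmaCore M ≤ L :=
    ((Subgroup.le_centralizer_iff.mp hUσ).trans (Subgroup.centralizer_le_normalizer _)).trans hle
  exact sigmaCore_ne_bot hG h.max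
    (le_bot_iff.mp ((le_inf le_rfl hσL).trans (h.inf_maximal hG hL hne (hAU.trans hle)).le))

theorem piCore_eq (h : Exc p M A A₀) :
    piCoreOf (primesNotDvd (Nat.card A)) M = (Cfsg.pPrimeCore p ↥M).map M.subtype := by
  rw [primesNotDvd_card_pGroup h.isPGroup h.ne_bot, piCoreOf, piCore_eq_pPrimeCore]

theorem inv_le_core (h : Exc p M A A₀) (hG : IsMinSimpleOddOrder G) {r : ℕ} [hr : Fact r.Prime] (hrp : r ≠ p)
    {S : Subgroup G} (hSM : S ≤ M) (hS : IsPGroup r S) (hAS : A ≤ Subgroup.normalizer (S : Set G)) :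
    S ≤ piCoreOf (primesNotDvd (Nat.card A)) M :=
  inv_le_piCoreOf (h.transHyp hG) h.max.1 h.le hSM (fun s hs hd => primes_of_isPGroup (fun e => by
    rw [h.card] at e
    exact hrp ((Nat.prime_dvd_prime_iff_eq hr.out hp.out).mp (hr.out.dvd_of_dvd_pow e))) hS hs hd) hAS

/-- `A` centralizes the invariant `r`-subgroups of `M` for `r ∉ σ(M)`, `r ≠ p`. -/
theorem centralizes_invariant (h : Exc p M A A₀) (hG : IsMinSimpleOddOrder G) {r : ℕ} [hr : Fact r.Prime]
    (hrs : r ∉ Cfsg.sigma M) (hrp : r ≠ p) {S₀ : Subgroup G} (hS₀M : S₀ ≤ M) (hS₀ : IsPGroup r S₀)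
    (hAS₀ : A ≤ Subgroup.normalizer (S₀ : Set G)) : A ≤ Subgroup.centralizer (S₀ : Set G) := by
  set π' := primesNotDvd (Nat.card A)
  set O := piCoreOf π' M with hO
  have hOM : O ≤ M := piCoreOf_le _ _
  have hAO : A ≤ Subgroup.normalizer (O : Set G) := h.le.trans (le_normalizer_piCoreOf_self π' M)
  have hpO : ¬ p ∣ Nat.card O := fun e => (piCoreOf_primes π' M hp.out e).2 (h.card ▸ dvd_pow_self p two_ne_zero)
  have hcopO : (Nat.card A).Coprime (Nat.card O) := coprime_of_pGroup h.isPGroup hpO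
  have hsolA := h.solvable
  obtain ⟨S, hS, hS₀S, hAS⟩ := Basics.exists_invariant_isSylowIn_ge A O hAO hcopO (Or.inl hsolA) r S₀
    (h.inv_le_core hG hrp hS₀M hS₀ hAS₀) hS₀ hAS₀
  refine le_trans ?_ (Subgroup.centralizer_le hS₀S)
  by_contra hnc
  have hSM : S ≤ M := hS.1.trans hOM
  have hSp : IsPGroup r S := hS.isPGroup
  have hS1 : S ≠ ⊥ := fun e => hnc fun a _ => by
    rw [Subgroup.mem_centralizer_iff]
    intro v hv
    rw [show v = 1 from Subgroup.mem_bot.mp (e ▸ hv), one_mul, mul_one]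
  obtain ⟨x₀, hx₀, hx₀o⟩ := exists_orderOf_eq hSp hS1
  have hrM : r ∣ Nat.card M := hx₀o ▸ Subgroup.orderOf_dvd_natCard M (hSM hx₀)
  have hr2 : r ≠ 2 := prime_ne_two hG (hrM.trans (Subgroup.card_subgroup_dvd_card M))
  have hp2 : p ≠ 2 := prime_ne_two hG h.dvd_cardG
  have hrank : ∀ X : Subgroup G, X ≤ S → IsElementaryAbelian r X → Nat.card X ≤ r ^ 2 := fun X hX hXe =>
    card_le_of_pRankLE (pRankLE_two_of_not_mem_sigma hG h.max hrs) (hX.trans hSM) hXe
  have hlt : p < r := lt_of_not_centralizes hr2 hp2 hrp.symm hSp (pRankLE_iff_le.mpr hrank) hAS h.ea.2 hnc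
  have hpb : p ∉ Cfsg.beta M := fun e => h.notσ (alpha_subset_sigma hG h.max e.1)
  have hidx := (facts_of_not_beta hG h.max h.dvd_card hpb).1
  have hSM' : IsSylowIn r M S := by
    refine ⟨hSM, hS.2.trans ?_⟩
    congr 1
    rw [hO, h.piCore_eq, Subgroup.card_map_of_injective M.subtype_injective,
      ← Subgroup.card_mul_index (Cfsg.pPrimeCore p ↥M), Nat.factorization_mul Nat.card_pos.ne'
        Subgroup.index_ne_zero_of_finite, Finsupp.add_apply,
      Nat.factorization_eq_zero_of_not_dvd (n := (Cfsg.pPrimeCore p ↥M).index) fun e => by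
        have := hidx r hr.out e
        omega, add_zero]
  obtain ⟨g, hgS, hgM⟩ : ∃ g ∈ Subgroup.normalizer (S : Set G), g ∉ M := by
    obtain ⟨T, rfl⟩ := hSM'.exists_sylow
    exact SetLike.not_le_iff_exists.mp (not_normalizer_le hrs hrM T)
  have hSN : S ≤ Subgroup.normalizer (Cfsg.sigmaCore M : Set G) := hSM.trans (le_normalizer_sigmaCore M)
  set R := S ⊓ Subgroup.centralizer (Cfsg.sigmaCore M : Set G) with hR
  have hAR : A ≤ Subgroup.normalizer (R : Set G) :=
    (le_inf hAS ((h.le.trans (le_normalizer_sigmaCore M)).trans (le_normalizer_centralizer le_rfl))).trans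
      le_normalizer_inf'
  have hSR : S ≤ Subgroup.normalizer (R : Set G) :=
    (le_inf Subgroup.le_normalizer (hSN.trans (le_normalizer_centralizer le_rfl))).trans le_normalizer_inf'
  have hcopS : (Nat.card A).Coprime (Nat.card S) := hcopO.coprime_dvd_right (Subgroup.card_dvd_of_le hS.1)
  -- `[S, A]` centralizes `M_σ`
  let T : Subgroup G :=
    { carrier := {s | s ∈ S ∧ ∀ a ∈ A, ⁅a, s⁆ ∈ R}
      one_mem' := ⟨one_mem S, fun a _ => by rw [commutatorElement_one_right]; exact one_mem R⟩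
      mul_mem' := fun {s t} hs ht => ⟨mul_mem hs.1 ht.1, fun a ha => by
        have e : ⁅a, s * t⁆ = ⁅a, s⁆ * (s * ⁅a, t⁆ * s⁻¹) := by simp only [commutatorElement_def]; group
        rw [e]
        exact mul_mem (hs.2 a ha) ((Subgroup.mem_normalizer_iff.mp (hSR hs.1) _).mp (ht.2 a ha))⟩
      inv_mem' := fun {s} hs => ⟨inv_mem hs.1, fun a ha => by
        have e : ⁅a, s⁻¹⁆ = s⁻¹ * (⁅a, s⁆)⁻¹ * (s⁻¹)⁻¹ := by simp only [commutatorElement_def]; group
        rw [e]
        exact (Subgroup.mem_normalizer_iff.mp (inv_mem (hSR hs.1)) _).mp (inv_mem (hs.2 a ha))⟩ }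
  have hST : S ≤ T := by
    refine le_of_lines h.ea h.card hAS (fun e => hpO (e.trans (Subgroup.card_dvd_of_le hS.1))) fun X hXA hX => ?_
    obtain ⟨Y, hYA, hY, hYX, hYf⟩ := h.exists_fpf_line_ne hG X
    set K := S ⊓ Subgroup.centralizer (X : Set G) with hK
    have hAK : A ≤ Subgroup.normalizer (K : Set G) :=
      (le_inf hAS (((Subgroup.le_centralizer_iff_isMulCommutative.mpr h.ea.1).trans
        (Subgroup.centralizer_le hXA)).trans Subgroup.le_normalizer)).trans le_normalizer_inf'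
    have hc := fpf_centralizes_nilpotent (r := p) (K := K) (h.isNilpotent hG) (odd_card_subgroup hG _) hY hp2
      h.not_dvd_sigma (odd_card_subgroup hG _)
      (fun e => hpO (e.trans ((Subgroup.card_dvd_of_le inf_le_left).trans (Subgroup.card_dvd_of_le hS.1))))
      (coprime_of_pGroup (hSp.to_le inf_le_left) (not_dvd_sigmaCore hr.out hrs)) (hYA.trans hAK)
      (inf_le_left.trans hSN) (hYA.trans h.le_normalizer_core) hYf
    intro k hk
    refine ⟨hk.1, fun a ha => ?_⟩
    rw [← sup_eq_of_lines h.card hXA hYA hX hY hYX.symm] at ha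
    obtain ⟨x, hx, y, hy, rfl⟩ := (Basics.mem_sup_of_le_normalizer
      ((hYA.trans ((Subgroup.le_centralizer_iff_isMulCommutative.mpr h.ea.1).trans
        (Subgroup.centralizer_le hXA))).trans (Subgroup.centralizer_le_normalizer _))).mp ha
    have hy' : ⁅y, k⁆ ∈ R := ⟨(Subgroup.le_normalizer_iff_commutator_le_right.mp (hYA.trans hAK)
      (Subgroup.commutator_mem_commutator hy hk)).1, hc (Subgroup.commutator_mem_commutator hy hk)⟩
    have hxk : Commute x k := Subgroup.mem_centralizer_iff.mp hk.2 x hx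
    have e : ⁅x * y, k⁆ = x * ⁅y, k⁆ * x⁻¹ := by
      simp only [commutatorElement_def]
      calc x * y * k * (x * y)⁻¹ * k⁻¹ = x * (y * k * y⁻¹) * (x⁻¹ * k⁻¹) := by group
        _ = x * (y * k * y⁻¹) * (k⁻¹ * x⁻¹) := by rw [hxk.inv_inv.eq]
        _ = x * (y * k * y⁻¹ * k⁻¹) * x⁻¹ := by group
    rw [e]
    exact (Subgroup.mem_normalizer_iff.mp (hAR (hXA hx)) _).mp hy'
  have hARnc : ¬ A ≤ Subgroup.centralizer (R : Set G) := by
    intro hc
    refine hnc (Basics.le_centralizer_of_commutator_commutator_eq_bot A S hAS hcopS (Or.inl hsolA) ?_)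
    rw [Subgroup.commutator_eq_bot_iff_le_centralizer]
    refine le_trans ?_ (Subgroup.le_centralizer_iff.mp hc)
    rw [Subgroup.commutator_comm, Subgroup.commutator_le]
    exact fun a ha s hs => (hST hs).2 a ha
  have hR1 : R ≠ ⊥ := fun e => hARnc fun a _ => by
    rw [Subgroup.mem_centralizer_iff]
    intro v hv
    rw [show v = 1 from Subgroup.mem_bot.mp (e ▸ hv), one_mul, mul_one]
  -- the central elements of order `r`
  obtain ⟨Vc, hVc1, hVc, hmem, hnVc⟩ := exists_omega_center hSp hS1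
  have hVcS : Vc ≤ S := fun v hv => ((hmem v).mp hv).1.1
  have hVcR : ¬ Vc ≤ R := by
    intro hle
    refine hgM ((h.normalizer_le_of_centralizing hG hVc1 ?_ (hAS.trans hnVc) (hle.trans inf_le_right)) (hnVc hgS))
    exact fun e => h.max.1 (top_le_iff.mp (e ▸ hVcS.trans hSM))
  obtain ⟨z, hzR, hzo, hzS⟩ := exists_central_mem hSp inf_le_left hSR hR1
  have hz1 : z ≠ 1 := fun e => by rw [e, orderOf_one] at hzo; exact hr.out.one_lt.ne hzo
  have hzV : z ∈ Vc := (hmem z).mpr ⟨⟨hzR.1, Subgroup.mem_centralizer_iff.mpr fun v hv =>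
    Subgroup.mem_centralizer_singleton_iff.mp (hzS hv)⟩, hzo ▸ pow_orderOf_eq_one z⟩
  have hZc : Nat.card (Subgroup.zpowers z) = r := by rw [Nat.card_zpowers, hzo]
  have hVcard : Nat.card Vc = r ^ 2 := by
    have hlt2 : r < Nat.card Vc := by
      rw [← hZc]
      refine lt_of_le_of_ne (Subgroup.card_le_of_le (Subgroup.zpowers_le.mpr hzV)) fun e => hVcR ?_
      rw [← Subgroup.eq_of_le_of_card_ge (Subgroup.zpowers_le.mpr hzV) e.ge]
      exact Subgroup.zpowers_le.mpr hzR
    exact ea_card_eq_sq (pRankLE_two_of_not_mem_sigma hG h.max hrs) hVc (hVcS.trans hSM) hlt2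
  have hall : ∀ x ∈ S, x ^ r = 1 → x ∈ Vc := by
    intro x hx hxr
    have hea := ea_sup_zpowers hVc (v := x) (Subgroup.mem_centralizer_iff.mpr fun v hv =>
      (Subgroup.mem_centralizer_iff.mp ((hmem v).mp hv).1.2 x hx).symm) hxr
    have h1 := hrank _ (sup_le hVcS (Subgroup.zpowers_le.mpr hx)) hea
    exact (Subgroup.eq_of_le_of_card_ge le_sup_left (h1.trans hVcard.ge)).ge
      (Subgroup.mem_sup_right (Subgroup.mem_zpowers x))
  have hRV : ∀ x ∈ R, x ^ r = 1 → x ∈ Subgroup.zpowers z := by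
    intro x hx hxr
    by_contra hxz
    have hx1 : x ≠ 1 := fun e => hxz (e ▸ one_mem _)
    refine hVcR ?_
    rw [← sup_eq_of_lines hVcard (Subgroup.zpowers_le.mpr hzV) (Subgroup.zpowers_le.mpr (hall x hx.1 hxr)) hZc
      (card_zpowers_of_ea hVc (hall x hx.1 hxr) hx1) fun e => hxz (e ▸ Subgroup.mem_zpowers x)]
    exact sup_le (Subgroup.zpowers_le.mpr hzR) (Subgroup.zpowers_le.mpr hx)
  -- `A` moves `z`
  have hAz : ¬ A ≤ Subgroup.centralizer ({z} : Set G) := by
    intro hc
    refine hARnc fun a ha => ?_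
    have hcop : (orderOf (conjAut (hAR ha))).Coprime r := by
      refine Nat.Coprime.coprime_dvd_left (orderOf_dvd_of_pow_eq_one (MulEquiv.ext fun w => Subtype.ext ?_))
        ((Nat.coprime_primes hp.out hr.out).mpr hrp.symm)
      rw [coe_conjAut_pow, h.ea.2 a ha]
      simp
    rw [Subgroup.mem_centralizer_iff]
    intro x hx
    have h2 := congrArg Subtype.val (Coprime23.fix_of_fix_omega (hSp.to_le inf_le_left) hr2 _ hcop (fun w hw =>
      Subtype.ext (by
        obtain ⟨i, hi⟩ := hRV _ w.2 (congrArg Subtype.val hw)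
        change a * (w : G) * a⁻¹ = w
        rw [← hi]
        change a * z ^ i * a⁻¹ = z ^ i
        rw [((show Commute a z from Subgroup.mem_centralizer_singleton_iff.mp (hc ha)).zpow_right i).eq,
          mul_inv_cancel_right])) ⟨x, hx⟩)
    change a * x * a⁻¹ = x at h2
    exact (mul_inv_eq_iff_eq_mul.mp h2).symm
  have hAVc : A ≤ Subgroup.normalizer (Vc : Set G) := hAS.trans hnVc
  have hAZ : A ≤ Subgroup.normalizer (Subgroup.zpowers z : Set G) := by
    intro a ha
    refine mem_normalizer_of_conj_mem fun x hx => hRV _ ((Subgroup.mem_normalizer_iff.mp (hAR ha) x).mp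
      (Subgroup.zpowers_le.mpr hzR hx)) ?_
    obtain ⟨i, rfl⟩ := hx
    rw [conj_pow, ← zpow_natCast, ← zpow_mul, mul_comm, zpow_mul, zpow_natCast, ← hzo, pow_orderOf_eq_one, one_zpow,
      mul_one, mul_inv_cancel]
  set W := Vc ⊓ Subgroup.centralizer (A : Set G) with hW
  have hVA : ⁅Vc, A⁆ ≤ Subgroup.zpowers z := by
    rw [Subgroup.commutator_le]
    intro v hv a ha
    have h1 : ⁅v, a⁆ ∈ Vc := Subgroup.le_normalizer_iff_commutator_le_left.mp hAVc
      (Subgroup.commutator_mem_commutator hv ha)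
    have h2 : ⁅v, a⁆ ∈ R := by
      rw [← commutatorElement_inv a v]
      exact inv_mem ((hST (hVcS hv)).2 a ha)
    exact hRV _ h2 (hVc.2 _ h1)
  have hWR : ¬ W ≤ R := fun hle => hVcR <| by
    rw [← Basics.commutator_sup_inf_centralizer A Vc hAVc (hcopS.coprime_dvd_right (Subgroup.card_dvd_of_le hVcS))
      (Or.inl hsolA)]
    exact sup_le (hVA.trans (Subgroup.zpowers_le.mpr hzR)) hle
  obtain ⟨w, hw, hwR⟩ := SetLike.not_le_iff_exists.mp hWR
  have hw1 : w ≠ 1 := fun e => hwR (e ▸ one_mem R)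
  have hWc : Nat.card W = r := by
    obtain ⟨k, hk, e⟩ := (Nat.dvd_prime_pow hr.out).mp (hVcard ▸ Subgroup.card_dvd_of_le (inf_le_left : W ≤ Vc))
    interval_cases k
    · have hb : W = ⊥ := Subgroup.card_eq_one.mp (e.trans (pow_zero r))
      exact absurd (Subgroup.mem_bot.mp (hb ▸ hw)) hw1
    · rw [e, pow_one]
    · refine absurd (fun a ha => Subgroup.mem_centralizer_singleton_iff.mpr ?_) hAz
      have hb : W = Vc := Subgroup.eq_of_le_of_card_ge inf_le_left (hVcard.trans e.symm).le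
      exact Subgroup.mem_centralizer_iff.mp (hb.ge hzV).2 a ha
  -- adjust elements of `N(A)` to normalize `W`
  have hadj : ∀ n ∈ Subgroup.normalizer (A : Set G), n ∉ M → ∃ n' : G, n' ∈ Subgroup.normalizer (W : Set G) ∧
      ∀ a ∈ A, n' * a * n'⁻¹ = n * a * n⁻¹ := by
    intro n hn _
    set U := W.map (MulAut.conj n).toMonoidHom with hU
    have hUC : U ≤ Subgroup.centralizer (A : Set G) := (Subgroup.map_mono inf_le_right).trans
      (Subgroup.mem_normalizer_iff_map_conj_eq.mp (le_normalizer_centralizer le_rfl hn)).le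
    have hUp : IsPGroup r U := ((hSp.to_le hVcS).to_le inf_le_left).map _
    have hAU : A ≤ Subgroup.normalizer (U : Set G) :=
      (Subgroup.le_centralizer_iff.mp hUC).trans (Subgroup.centralizer_le_normalizer _)
    obtain ⟨S', hS', hUS', hAS'⟩ := Basics.exists_invariant_isSylowIn_ge A O hAO hcopO (Or.inl hsolA) r U
      (h.inv_le_core hG hrp (hUC.trans h.centralizer_le) hUp hAU) hUp hAU
    obtain ⟨c, hc, e⟩ := Basics.invariant_isSylowIn_conj A O hAO hcopO (Or.inl hsolA) r hS' hS hAS' hAS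
    refine ⟨c * n, ?_, fun a ha => ?_⟩
    · rw [Subgroup.mem_normalizer_iff_map_conj_eq]
      change W.map (MulAut.conj (c * n)).toMonoidHom = W
      rw [← map_conj_map_conj]
      refine Subgroup.eq_of_le_of_card_ge (fun x hx => ?_) (le_of_eq ?_)
      · obtain ⟨u, hu, rfl⟩ := hx
        have h1 : (MulAut.conj c).toMonoidHom u ∈ S := e.le ⟨u, hUS' hu, rfl⟩
        obtain ⟨w', hw', rfl⟩ := hu
        refine ⟨hall _ h1 ?_, ?_⟩
        · rw [← map_pow, ← map_pow, hVc.2 w' hw'.1, map_one, map_one]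
        · have hcc : c ∈ Subgroup.centralizer (A : Set G) := hc.2
          exact Subgroup.mul_mem _ (Subgroup.mul_mem _ hcc (hUC ⟨w', hw', rfl⟩)) (Subgroup.inv_mem _ hcc)
      · rw [Subgroup.card_map_of_injective (MulAut.conj c).injective,
          Subgroup.card_map_of_injective (MulAut.conj n).injective]
    · have h2 : c * (n * a * n⁻¹) = n * a * n⁻¹ * c :=
        (Subgroup.mem_centralizer_iff.mp hc.2 _ ((Subgroup.mem_normalizer_iff.mp hn a).mp ha)).symm
      calc c * n * a * (c * n)⁻¹ = c * (n * a * n⁻¹) * c⁻¹ := by group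
        _ = _ := by rw [h2, mul_inv_cancel_right]
  have hW1 : W ≠ ⊥ := fun e => by rw [e, Subgroup.card_bot] at hWc; exact hr.out.one_lt.ne hWc
  obtain ⟨L, hL, hNW⟩ := exists_maximal_ge (normalizer_ne_top hG hW1
    (pGroup_ne_top hG (IsPGroup.of_card (n := 1) (hWc.trans (pow_one r).symm))))
  have hAL : A ≤ L :=
    ((Subgroup.le_centralizer_iff.mp inf_le_right).trans (Subgroup.centralizer_le_normalizer _)).trans hNW
  have hzL : z ∈ L := by
    refine hNW (Subgroup.centralizer_le_normalizer _ (Subgroup.mem_centralizer_iff.mpr fun x hx => ?_))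
    exact Subgroup.mem_centralizer_singleton_iff.mp (hzS (hVcS hx.1))
  have hnideal : ¬ IsIdealPrime r G := by
    refine not_isIdealPrime_of_not_sigma hG h.max hrs fun h1 => ?_
    have := card_le_of_pRankLE h1 (hVcS.trans hSM) hVc
    rw [hVcard, pow_one] at this
    nlinarith [hr.out.two_le]
  have hZder : ∀ H : Subgroup G, z ∈ H → A ≤ H → Subgroup.zpowers z ≤ ⁅H, H⁆ := by
    intro H hzH hAH
    have hle := Subgroup.le_normalizer_iff_commutator_le_left.mp hAZ
    have hne : ⁅Subgroup.zpowers z, A⁆ ≠ ⊥ := fun e => hAz fun a ha => by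
      rw [Subgroup.commutator_eq_bot_iff_le_centralizer] at e
      exact Subgroup.mem_centralizer_singleton_iff.mpr
        (Subgroup.mem_centralizer_iff.mp (e (Subgroup.mem_zpowers z)) a ha)
    have heq : ⁅Subgroup.zpowers z, A⁆ = Subgroup.zpowers z := by
      refine Subgroup.eq_of_le_of_card_ge hle ?_
      rw [hZc]
      rcases (hSp.to_le (hle.trans (Subgroup.zpowers_le.mpr hzR.1))).card_eq_or_dvd with e | e
      · exact absurd (Subgroup.card_eq_one.mp e) hne
      · exact Nat.le_of_dvd Nat.card_pos e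
    rw [← heq]
    exact Subgroup.commutator_mono (Subgroup.zpowers_le.mpr hzH) hAH
  have hcomm : ∀ H : Subgroup G, IsCoatom H → z ∈ H → A ≤ H →
      A ⊓ ⁅H, H⁆ ≤ Subgroup.centralizer ({z} : Set G) := by
    intro H hH hzH hAH
    have hc := commute_of_not_beta hG hH (fun hb => hnideal hb.2)
      (hSp.to_le (Subgroup.zpowers_le.mpr hzR.1)) (hZder H hzH hAH) (inf_le_right : A ⊓ ⁅H, H⁆ ≤ _)
      (fun e => by
        have := e.trans (Subgroup.card_dvd_of_le (inf_le_left : A ⊓ ⁅H, H⁆ ≤ A))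
        rw [h.card] at this
        exact hrp ((Nat.prime_dvd_prime_iff_eq hr.out hp.out).mp (hr.out.dvd_of_dvd_pow this)))
      (inf_le_left.trans hAZ)
    intro a ha
    exact Subgroup.mem_centralizer_singleton_iff.mpr
      (Subgroup.mem_centralizer_iff.mp (hc ha) z (Subgroup.mem_zpowers z)).symm
  set Y := A ⊓ Subgroup.centralizer ({z} : Set G) with hY
  have hkey : ∀ n ∈ Subgroup.normalizer (A : Set G), n ∉ M → ∀ a ∈ A, n * a * n⁻¹ * a⁻¹ ∈ Y := by
    intro n hn hnM a ha
    obtain ⟨n', hn'W, hn'⟩ := hadj n hn hnM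
    have hmemA : n * a * n⁻¹ * a⁻¹ ∈ A := mul_mem ((Subgroup.mem_normalizer_iff.mp hn a).mp ha) (inv_mem ha)
    refine ⟨hmemA, hcomm L hL hzL hAL ⟨hmemA, ?_⟩⟩
    rw [← hn' a ha]
    exact Subgroup.commutator_mem_commutator (hNW hn'W) (hAL ha)
  obtain ⟨n₀, hn₀, hn₀M⟩ := h.exists_notMem hG
  have hkeyall : ∀ m ∈ Subgroup.normalizer (A : Set G), ∀ b ∈ A, m * b * m⁻¹ * b⁻¹ ∈ Y := by
    intro m hm b hb
    by_cases hmM : m ∈ M
    swap
    · exact hkey m hm hmM b hb
    set a := n₀⁻¹ * b * n₀ with ha'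
    have ha : a ∈ A := (Subgroup.mem_normalizer_iff''.mp hn₀ b).mp hb
    have hmn : m * n₀ ∉ M := fun h' => hn₀M (by
      have := mul_mem (inv_mem hmM) h'
      rwa [inv_mul_cancel_left] at this)
    have h1 := hkey _ (mul_mem hm hn₀) hmn a ha
    have h2 := hkey n₀ hn₀ hn₀M a ha
    have h3 := mul_mem h1 (inv_mem h2)
    have e : m * n₀ * a * (m * n₀)⁻¹ * a⁻¹ * (n₀ * a * n₀⁻¹ * a⁻¹)⁻¹ = m * b * m⁻¹ * b⁻¹ := by
      rw [ha']; group
    rwa [e] at h3
  obtain ⟨P, hP, hAP⟩ := exists_sylowIn_ge h.isPGroup h.le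
  have hPab := h.sylow_abelian hG hP hAP
  obtain ⟨T', hPT⟩ := hP.isPGroup.exists_le_sylow
  by_cases hTP : (T' : Subgroup G) = P
  · -- the complement of the Sylow subgroup in its normalizer
    obtain ⟨V, hV, hVcop⟩ := exists_complement_normalizer T'
    have hcommPV := sylow_eq_commutator hG T' hV
    rw [hTP] at hV hcommPV
    haveI := hPab
    have hVN : V ≤ Subgroup.normalizer (P : Set G) := hV.2.1
    have hcopV : (Nat.card V).Coprime (Nat.card P) := by
      rw [hP.2]
      exact hVcop.pow_right _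
    have hfix : P ⊓ Subgroup.centralizer (V : Set G) = ⊥ := by
      have h1 := Basics.inf_centralizer_inf_commutator_eq_bot V P hVN hcopV
      rwa [← hcommPV, inf_eq_left.mpr inf_le_left] at h1
    have hVA' : V ≤ Subgroup.normalizer (A : Set G) := hVN.trans (h.normalizer_le hG hP hAP)
    have hsolV : Group.IsSolvable V := Basics.isSolvable_of_le hVN (isSolvable_of_ne_top hG
      (normalizer_ne_top hG (fun e => h.ne_bot (le_bot_iff.mp (e ▸ hAP))) (pGroup_ne_top hG hP.isPGroup)))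
    have hAle : A ≤ Y := by
      rw [← Basics.commutator_sup_inf_centralizer V A hVA' (hcopV.coprime_dvd_right (Subgroup.card_dvd_of_le hAP))
        (Or.inl hsolV)]
      refine sup_le ?_ (((inf_le_inf_right _ hAP).trans hfix.le).trans bot_le)
      rw [Subgroup.commutator_comm, Subgroup.commutator_le]
      exact fun v hv a ha => hkeyall v (hVA' hv) a ha
    exact hAz (hAle.trans inf_le_right)
  · obtain ⟨n, hnT, hnP⟩ := SetLike.exists_of_lt (lt_inf_normalizer_of_lt T'.2 (lt_of_le_of_ne hPT (Ne.symm hTP)))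
    have hnM : n ∉ M := fun hm => hnP <| by
      have h1 := hP.eq_of_le (R := P ⊔ Subgroup.zpowers n)
        (T'.2.to_le (sup_le hPT (Subgroup.zpowers_le.mpr hnT.1))) (sup_le hP.1 (Subgroup.zpowers_le.mpr hm))
        le_sup_left
      exact h1.le (Subgroup.mem_sup_right (Subgroup.mem_zpowers n))
    have hnA : n ∈ Subgroup.normalizer (A : Set G) := h.normalizer_le hG hP hAP hnT.2
    set Z := A ⊓ Subgroup.centralizer ((T' : Subgroup G) : Set G) with hZ
    have hZ1 : Z ≠ ⊥ := by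
      obtain ⟨t, ht, hto, htc⟩ := exists_central_mem T'.2 le_rfl Subgroup.le_normalizer
        (fun e => h.ne_bot (le_bot_iff.mp (e ▸ hAP.trans hPT)))
      intro e
      have htZ : t ∈ Z := by
        have hc : t ∈ Subgroup.centralizer ((T' : Subgroup G) : Set G) :=
          Subgroup.mem_centralizer_iff.mpr fun v hv => Subgroup.mem_centralizer_singleton_iff.mp (htc hv)
        exact ⟨h.mem hG (Subgroup.centralizer_le (hAP.trans hPT) hc) (hto ▸ pow_orderOf_eq_one t), hc⟩
      rw [e, Subgroup.mem_bot] at htZ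
      rw [htZ, orderOf_one] at hto
      exact hp.out.one_lt.ne hto
    have hNT : Subgroup.normalizer ((T' : Subgroup G) : Set G) ≤ Subgroup.normalizer (Z : Set G) := by
      intro g hg
      refine mem_normalizer_of_conj_mem fun a ha => ?_
      have hc : g * a * g⁻¹ ∈ Subgroup.centralizer ((T' : Subgroup G) : Set G) :=
        (Subgroup.mem_normalizer_iff.mp (le_normalizer_centralizer le_rfl hg) a).mp ha.2
      exact ⟨h.mem hG (Subgroup.centralizer_le (hAP.trans hPT) hc)
        (by rw [conj_pow, h.ea.2 a ha.1, mul_one, mul_inv_cancel]), hc⟩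
    -- `Z` centralizes `z`
    have hZz : Z ≤ Subgroup.centralizer ({z} : Set G) := by
      by_contra hnle
      obtain ⟨v, hvZ, hvz⟩ := SetLike.not_le_iff_exists.mp hnle
      obtain ⟨k, hk⟩ := T'.2 ⟨n, hnT.1⟩
      have hnk : n ^ p ^ k = 1 := congrArg Subtype.val hk
      have hvA : v ∈ A := hvZ.1
      have hv1 : v ≠ 1 := fun e => hvz (e ▸ one_mem _)
      have hvn : n * v * n⁻¹ = v :=
        mul_inv_eq_iff_eq_mul.mpr (Subgroup.mem_centralizer_iff.mp hvZ.2 n hnT.1)
      have hYn : ∀ y ∈ Y, n * y * n⁻¹ = y := by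
        intro y hy
        by_contra hne
        have hy1 : y ≠ 1 := fun e => hne (by rw [e, mul_one, mul_inv_cancel])
        have hX : Subgroup.zpowers (v * y) ≠ Subgroup.zpowers v := fun e => by
          obtain ⟨i, hi⟩ := (e ▸ Subgroup.mem_zpowers (v * y) : v * y ∈ Subgroup.zpowers v)
          have hy' : y ∈ Subgroup.zpowers v := by
            rw [show y = v⁻¹ * (v * y) by group, ← hi]
            exact mul_mem (inv_mem (Subgroup.mem_zpowers v)) (zpow_mem (Subgroup.mem_zpowers v) i)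
          obtain ⟨j, rfl⟩ := hy'
          exact hne (by simp only [← conj_zpow, hvn])
        have hvy : v * y ≠ 1 := fun e => hvz (by rw [eq_inv_of_mul_eq_one_left e]; exact inv_mem hy.2)
        obtain ⟨i, hi⟩ := exists_conj_line h.ea h.card hvA hv1 hy.1 hnA hnk hvn hne
          (X := Subgroup.zpowers (v * y)) (Subgroup.zpowers_le.mpr (mul_mem hvA hy.1))
          (card_zpowers_of_ea h.ea (mul_mem hvA hy.1) hvy) hX
        obtain ⟨w, ⟨j, rfl⟩, hw⟩ := hi.ge (Subgroup.mem_zpowers (v * y))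
        have h1 : n ^ i * y ^ j * (n ^ i)⁻¹ ∈ Y := by
          have hyA : y ∈ A := hy.1
          have h2 := mul_mem (hkeyall (n ^ i) (pow_mem hnA i) _ (zpow_mem hyA j)) (zpow_mem hy j)
          rwa [inv_mul_cancel_right] at h2
        change n ^ i * y ^ j * (n ^ i)⁻¹ = v * y at hw
        rw [hw] at h1
        have h3 := (mul_mem h1 (inv_mem hy)).2
        rw [mul_inv_cancel_right] at h3
        exact hvz h3
      refine hnM (h.centralizer_le (Subgroup.mem_centralizer_iff.mpr fun a ha => ?_))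
      suffices hA' : A ≤ Subgroup.centralizer ({n} : Set G) from
        Subgroup.mem_centralizer_singleton_iff.mp (hA' ha)
      intro b hb
      rw [Subgroup.mem_centralizer_singleton_iff]
      by_cases hYbot : Y = ⊥
      · have h1 : n * b * n⁻¹ * b⁻¹ = 1 := Subgroup.mem_bot.mp (hYbot ▸ hkeyall n hnA b hb)
        exact (mul_inv_eq_iff_eq_mul.mp (mul_inv_eq_one.mp h1)).symm
      obtain ⟨y, hy, hy1⟩ : ∃ y ∈ Y, y ≠ 1 := by
        by_contra hc
        push Not at hc
        exact hYbot ((Subgroup.eq_bot_iff_forall Y).mpr hc)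
      have hgen := sup_eq_of_lines h.card (Subgroup.zpowers_le.mpr hvA) (Subgroup.zpowers_le.mpr hy.1)
        (card_zpowers_of_ea h.ea hvA hv1) (card_zpowers_of_ea h.ea hy.1 hy1)
        fun e => hvz ((Subgroup.zpowers_le.mpr hy.2) (e ▸ Subgroup.mem_zpowers v))
      have hle : A ≤ Subgroup.centralizer ({n} : Set G) := by
        rw [← hgen]
        exact sup_le (Subgroup.zpowers_le.mpr (Subgroup.mem_centralizer_singleton_iff.mpr
            (mul_inv_eq_iff_eq_mul.mp hvn).symm))
          (Subgroup.zpowers_le.mpr (Subgroup.mem_centralizer_singleton_iff.mpr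
            (mul_inv_eq_iff_eq_mul.mp (hYn y hy)).symm))
      exact Subgroup.mem_centralizer_singleton_iff.mp (hle hb)
    obtain ⟨L₂, hL₂, hNZ⟩ := exists_maximal_ge (normalizer_ne_top hG hZ1 fun e =>
      h.max.1 (top_le_iff.mp (e ▸ inf_le_left.trans h.le)))
    have hTL : (T' : Subgroup G) ≤ L₂ := (Subgroup.le_normalizer.trans hNT).trans hNZ
    have hpσ : p ∈ Cfsg.sigma L₂ := by
      refine ⟨hp.out, (h.card ▸ dvd_pow_self p two_ne_zero).trans
        (Subgroup.card_dvd_of_le ((hAP.trans hPT).trans hTL)), T'.subtype hTL, ?_⟩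
      rw [Sylow.coe_subtype, Subgroup.subgroupOf_map_subtype, inf_eq_left.mpr hTL]
      exact hNT.trans hNZ
    have hAder : A ≤ ⁅L₂, L₂⁆ := (hAP.trans hPT).trans
      ((pGroup_le_sigmaCore hG hL₂ hpσ T'.2 hTL).trans (sigmaCore_le_derived hG hL₂))
    have hzL₂ : z ∈ L₂ := hNZ (Subgroup.centralizer_le_normalizer _ (Subgroup.mem_centralizer_iff.mpr fun v hv =>
      Subgroup.mem_centralizer_singleton_iff.mp (hZz hv)))
    exact hAz ((le_inf le_rfl hAder).trans (hcomm L₂ hL₂ hzL₂ ((hAP.trans hPT).trans hTL)))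

theorem commutator_core_le (h : Exc p M A A₀) (hG : IsMinSimpleOddOrder G) :
    ∀ a ∈ A, ∀ o ∈ piCoreOf (primesNotDvd (Nat.card A)) M, ⁅a, o⁆ ∈ Cfsg.sigmaCore M := by
  set O := piCoreOf (primesNotDvd (Nat.card A)) M with hO
  have hOM : O ≤ M := piCoreOf_le _ _
  have hAO : A ≤ Subgroup.normalizer (O : Set G) := h.le.trans (le_normalizer_piCoreOf_self _ M)
  have hpO : ¬ p ∣ Nat.card O := fun e =>
    (piCoreOf_primes _ M hp.out e).2 (h.card ▸ dvd_pow_self p two_ne_zero)
  have hn : ∀ {s : G}, s ∈ O → s ∈ Subgroup.normalizer (Cfsg.sigmaCore M : Set G) := fun hs =>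
    le_normalizer_sigmaCore M (hOM hs)
  let T : Subgroup G :=
    { carrier := {s | s ∈ O ∧ ∀ a ∈ A, ⁅a, s⁆ ∈ Cfsg.sigmaCore M}
      one_mem' := ⟨one_mem O, fun a _ => by rw [commutatorElement_one_right]; exact one_mem _⟩
      mul_mem' := fun {s t} hs ht => ⟨mul_mem hs.1 ht.1, fun a ha => by
        have e : ⁅a, s * t⁆ = ⁅a, s⁆ * (s * ⁅a, t⁆ * s⁻¹) := by simp only [commutatorElement_def]; group
        rw [e]
        exact mul_mem (hs.2 a ha) ((Subgroup.mem_normalizer_iff.mp (hn hs.1) _).mp (ht.2 a ha))⟩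
      inv_mem' := fun {s} hs => ⟨inv_mem hs.1, fun a ha => by
        have e : ⁅a, s⁻¹⁆ = s⁻¹ * (⁅a, s⁆)⁻¹ * (s⁻¹)⁻¹ := by simp only [commutatorElement_def]; group
        rw [e]
        exact (Subgroup.mem_normalizer_iff.mp (inv_mem (hn hs.1)) _).mp (inv_mem (hs.2 a ha))⟩ }
  have hdvd : Nat.card O ∣ Nat.card T := by
    rw [Nat.dvd_iff_prime_pow_dvd_dvd]
    intro r i hr hri
    rcases Nat.eq_zero_or_pos i with rfl | hi
    · simp
    haveI := Fact.mk hr
    have hrp : r ≠ p := fun e => hpO (e ▸ (dvd_pow_self r hi.ne').trans hri)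
    obtain ⟨S, hS, hAS⟩ := Basics.exists_invariant_isSylowIn A O hAO (coprime_of_pGroup h.isPGroup hpO)
      (Or.inl h.solvable) r
    refine dvd_trans ?_ (Subgroup.card_dvd_of_le (show S ≤ T from fun s hs => ⟨hS.1 hs, fun a ha => ?_⟩))
    · rw [hS.2]
      exact pow_dvd_pow r ((hr.pow_dvd_iff_le_factorization Nat.card_pos.ne').mp hri)
    by_cases hrs : r ∈ Cfsg.sigma M
    · exact pGroup_le_sigmaCore hG h.max hrs hS.isPGroup (hS.1.trans hOM)
        (Subgroup.le_normalizer_iff_commutator_le_right.mp hAS (Subgroup.commutator_mem_commutator ha hs))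
    · have hc : ⁅a, s⁆ = 1 := commutatorElement_eq_one_iff_mul_comm.mpr
        (Subgroup.mem_centralizer_iff.mp (h.centralizes_invariant hG hrs hrp (hS.1.trans hOM) hS.isPGroup hAS ha)
          s hs).symm
      rw [hc]
      exact one_mem _
  intro a ha o ho
  have hT : T = O := Subgroup.eq_of_le_of_card_ge (fun s hs => hs.1) (Nat.le_of_dvd Nat.card_pos hdvd)
  exact (hT.ge ho).2 a ha

/-- BG 11.6: `M` normalizes `M_σ A`. -/
theorem le_normalizer_sup (h : Exc p M A A₀) (hG : IsMinSimpleOddOrder G) :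
    M ≤ Subgroup.normalizer ((Cfsg.sigmaCore M ⊔ A : Subgroup G) : Set G) := by
  obtain ⟨P, hP, hAP⟩ := exists_sylowIn_ge h.isPGroup h.le
  haveI : Group.IsSolvable M := isSolvable_of_ne_top hG h.max.1
  obtain ⟨-, -, -, -, -, hidx⟩ := Cfsg.Agent.S1450.result (odd_card_subgroup hG M) p h.dvd_card
    (pRankLE_two_of_not_mem_sigma hG h.max h.notσ)
  set O' := Cfsg.pPrimeCore p ↥M with hO'
  set φ := QuotientGroup.mk' O'
  set PM := P.subgroupOf M with hPM
  have hcore : IsPGroup p (Cfsg.pCore p (↥M ⧸ O')) := Basics.pCore_isPGroup p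
  have hPφ : PM.map φ = Cfsg.pCore p (↥M ⧸ O') := by
    obtain ⟨S, hS⟩ := hP.exists_sylow
    have hSP : (S : Subgroup M) = PM := by
      rw [hPM, ← hS, Subgroup.subgroupOf, Subgroup.comap_map_eq_self_of_injective M.subtype_injective]
    set S' := S.mapSurjective (QuotientGroup.mk'_surjective O')
    have hS' : (S' : Subgroup (↥M ⧸ O')) = PM.map φ := by rw [← hSP]; rfl
    rw [← hS']
    refine (S'.3 hcore fun y hy => ?_).symm
    -- a `p`-element lies in the normal subgroup of index prime to `p`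
    obtain ⟨x, rfl⟩ := QuotientGroup.mk'_surjective O' y
    obtain ⟨k, hk⟩ := S'.2 ⟨φ x, hy⟩
    have hk' : (φ x) ^ p ^ k = 1 := congrArg Subtype.val hk
    have hidx' : ((Cfsg.pCore p (↥M ⧸ O')).index).Coprime p := by
      rwa [Cfsg.pPrimePCore, Subgroup.index_comap_of_surjective _ (QuotientGroup.mk'_surjective O')] at hidx
    rw [← QuotientGroup.eq_one_iff (N := Cfsg.pCore p (↥M ⧸ O'))]
    refine orderOf_eq_one_iff.mp (Nat.eq_one_of_dvd_coprimes (hidx'.symm.pow_left k) ?_ ?_)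
    · exact orderOf_dvd_of_pow_eq_one (by rw [← QuotientGroup.mk_pow, hk', QuotientGroup.mk_one])
    · rw [Subgroup.index_eq_card]
      exact orderOf_dvd_natCard _
  have hkey : ∀ m ∈ M, ∀ a ∈ A, m * a * m⁻¹ ∈ Cfsg.sigmaCore M ⊔ A := by
    intro m hm a ha
    set y : M := ⟨m * a * m⁻¹, mul_mem (mul_mem hm (h.le ha)) (inv_mem hm)⟩ with hy
    have hy' : φ y ∈ PM.map φ := by
      rw [hPφ]
      have hacore : φ ⟨a, h.le ha⟩ ∈ Cfsg.pCore p (↥M ⧸ O') := hPφ ▸ ⟨⟨a, h.le ha⟩, hAP ha, rfl⟩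
      have h1 := (inferInstance : (Cfsg.pCore p (↥M ⧸ O')).Normal).conj_mem _ hacore (φ ⟨m, hm⟩)
      rw [← map_inv, ← map_mul, ← map_mul] at h1
      exact h1
    obtain ⟨x, hx, hxy⟩ := hy'
    have hcopO : (Nat.card O').Coprime p := Basics.pPrimeCore_coprime p
    have hyp : y ^ p = 1 := Subtype.ext (by
      rw [Subgroup.coe_pow, conj_pow, h.ea.2 a ha, mul_one, mul_inv_cancel]; rfl)
    have hxA : (x : G) ∈ A := by
      refine h.omega_sylow hG hP hAP hx ?_
      have h1 : φ (x ^ p) = 1 := by rw [map_pow, hxy, ← map_pow, hyp, map_one]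
      have h2 : x ^ p = 1 := by
        refine orderOf_eq_one_iff.mp (Nat.eq_one_of_dvd_coprimes (coprime_of_pGroup (p := p) hP.isPGroup
          (K := O'.map M.subtype) ?_) ?_ ?_)
        · rw [Subgroup.card_map_of_injective M.subtype_injective]
          exact hp.out.coprime_iff_not_dvd.mp hcopO.symm
        · rw [← Subgroup.orderOf_coe, Subgroup.coe_pow]
          exact Subgroup.orderOf_dvd_natCard _ (pow_mem hx p)
        · rw [Subgroup.card_map_of_injective M.subtype_injective]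
          exact Subgroup.orderOf_dvd_natCard _ ((QuotientGroup.eq_one_iff _).mp h1)
      rw [← Subgroup.coe_pow, h2]; rfl
    set o : G := (x : G)⁻¹ * (m * a * m⁻¹) with ho
    have hoO : o ∈ piCoreOf (primesNotDvd (Nat.card A)) M := by
      rw [h.piCore_eq]
      exact ⟨x⁻¹ * y, QuotientGroup.eq.mp hxy, rfl⟩
    have hcom := h.commutator_core_le hG _ hxA o hoO
    -- modulo the core the product has order dividing `p`
    set N := (Cfsg.piCore (Cfsg.sigma M) ↥M) with hN
    have hoM : o ∈ M := piCoreOf_le _ _ hoO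
    set ψ := QuotientGroup.mk' N
    have hmemN : ∀ v : M, (v : G) ∈ Cfsg.sigmaCore M → ψ v = 1 := by
      rintro v ⟨w, hw, e⟩
      exact (QuotientGroup.eq_one_iff v).mpr ((Subtype.ext e : w = v) ▸ hw)
    have hcm : Commute (ψ x) (ψ ⟨o, hoM⟩) := by
      have h1 := hmemN ⁅x, (⟨o, hoM⟩ : M)⁆ hcom
      rwa [map_commutatorElement, commutatorElement_eq_one_iff_mul_comm] at h1
    have hxy' : y = x * ⟨o, hoM⟩ := Subtype.ext (by simp [ho, hy])
    have hop : ψ ⟨o, hoM⟩ ^ p = 1 := by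
      have h1 : ψ y ^ p = 1 := by rw [← map_pow, hyp, map_one]
      rwa [hxy', map_mul, hcm.mul_pow, ← map_pow, show x ^ p = 1 from Subtype.ext (by
        rw [Subgroup.coe_pow]; exact h.ea.2 _ hxA), map_one, one_mul] at h1
    have hoσ : o ∈ Cfsg.sigmaCore M := by
      have h1 : ψ ⟨o, hoM⟩ = 1 := by
        have hd : orderOf (ψ ⟨o, hoM⟩) ∣ Nat.card (piCoreOf (primesNotDvd (Nat.card A)) M) := by
          refine (orderOf_map_dvd ψ _).trans ?_
          rw [← Subgroup.orderOf_coe]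
          exact Subgroup.orderOf_dvd_natCard _ hoO
        refine orderOf_eq_one_iff.mp (Nat.eq_one_of_dvd_coprimes ?_ (orderOf_dvd_of_pow_eq_one hop) hd)
        exact hp.out.coprime_iff_not_dvd.mpr fun e =>
          (piCoreOf_primes _ M hp.out e).2 (h.card ▸ dvd_pow_self p two_ne_zero)
      exact ⟨⟨o, hoM⟩, (QuotientGroup.eq_one_iff _).mp h1, rfl⟩
    rw [show m * a * m⁻¹ = (x : G) * o by rw [ho, mul_inv_cancel_left]]
    exact mul_mem (Subgroup.mem_sup_right hxA) (Subgroup.mem_sup_left hoσ)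
  intro m hm
  rw [Subgroup.mem_normalizer_iff_map_conj_eq]
  change (Cfsg.sigmaCore M ⊔ A).map (MulAut.conj m).toMonoidHom = _
  refine Subgroup.eq_of_le_of_card_ge ?_ (Subgroup.card_map_of_injective (MulAut.conj m).injective).ge
  rw [Subgroup.map_sup]
  refine sup_le ((Subgroup.mem_normalizer_iff_map_conj_eq.mp (le_normalizer_sigmaCore M hm)).le.trans le_sup_left) ?_
  rintro _ ⟨a, ha, rfl⟩
  exact hkey m hm a ha

end Exc

end Cfsg.Agent.OddLocal
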