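import Mathlib.GroupTheory.GroupAction.Quotient
import Mathlib
import Cfsg.Agent.Lib.Basics.Tools

/-! A cyclic group of odd order acting on a nonabelian group of order `p ^ 3` and exponent `p`, fixed point
freely off the centre, has order dividing `p - 1` or `p + 1`. -/

set_option autoImplicit false
set_option linter.unusedSectionVars false
set_option linter.style.haveILetI false

namespace Cfsg.Agent.OddLocal

open scoped commutatorElement

universe u

variable {G : Type u} [Group G] [Finite G]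

section free

/-- A free action divides the cardinality. -/
theorem card_dvd_of_free {H : Type*} [Group H] [Finite H] {X : Type*} [Finite X] [MulAction H X]
    (h : ∀ b : X, MulAction.stabilizer H b = ⊥) : Nat.card H ∣ Nat.card X := by
  rw [Nat.card_congr (MulAction.selfEquivOrbitsQuotientProd h), Nat.card_prod]
  exact dvd_mul_left _ _

end free

/-- A cyclic group fixing a subgroup of prime order and acting freely on it. -/
theorem card_dvd_pred_of_line {K Z : Subgroup G} {p : ℕ} [hp : Fact p.Prime] (hZ : Nat.card Z = p)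
    (hn : K ≤ Subgroup.normalizer (Z : Set G)) (hfix : ∀ k ∈ K, (∀ z ∈ Z, k * z = z * k) → k = 1) :
    Nat.card K ∣ p - 1 := by
  let f : K →* MulAut Z := (Z.normalizerMonoidHom).comp (Subgroup.inclusion hn)
  have hf : Function.Injective f := by
    refine (injective_iff_map_eq_one f).mpr fun k hk => Subtype.ext (hfix k k.2 fun z hz => ?_)
    have h : (k : G) * z * (k : G)⁻¹ = z := congrArg Subtype.val (DFunLike.congr_fun hk (⟨z, hz⟩ : Z))
    exact mul_inv_eq_iff_eq_mul.mp h
  have h := Subgroup.card_dvd_of_injective f hf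
  haveI : IsCyclic Z := isCyclic_of_prime_card hZ
  rwa [IsCyclic.card_mulAut, hZ, Nat.totient_prime hp.out] at h

/-- The main lemma. -/
theorem card_dvd_pred_or_succ {R V K : Subgroup G} {p : ℕ} [hp : Fact p.Prime] (hVR : V ≤ R)
    (hR : Nat.card R = p ^ 3) (hV : Nat.card V = p) (hexp : ∀ r ∈ R, r ^ p = 1) (hnc : ¬ IsMulCommutative R)
    (hVc : R ≤ Subgroup.centralizer (V : Set G)) (hder : ⁅R, R⁆ ≤ V)
    (hKc : IsCyclic K) (hKR : K ≤ Subgroup.normalizer (R : Set G)) (hKV : K ≤ Subgroup.centralizer (V : Set G))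
    (hK2 : Odd (Nat.card K)) (hKp : (Nat.card K).Coprime p)
    (hfree : ∀ k ∈ K, k ≠ 1 → ∀ r ∈ R, k * r * k⁻¹ * r⁻¹ ∈ V → r ∈ V) :
    Nat.card K ∣ p - 1 ∨ Nat.card K ∣ p + 1 := by
  classical
  obtain ⟨⟨k₀, hk₀⟩, hgen⟩ := hKc.exists_generator
  have hp2 : p ≠ 2 := by
    rintro rfl
    refine hnc ⟨⟨fun a b => ?_⟩⟩
    have e : ∀ r : R, r⁻¹ = r := fun r => inv_eq_of_mul_eq_one_right
      (Subtype.ext (by rw [Subgroup.coe_mul, ← sq]; exact hexp r r.2))
    calc a * b = (a * b)⁻¹ := (e _).symm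
      _ = b⁻¹ * a⁻¹ := mul_inv_rev _ _
      _ = b * a := by rw [e a, e b]
  have hcard : ∀ {X : Subgroup G}, X ≤ R → V ≤ X → X ≠ V → X ≠ R → Nat.card X = p ^ 2 := by
    intro X hXR hVX hX1 hX2
    obtain ⟨i, -, hi⟩ := (Nat.dvd_prime_pow hp.out).mp (hR ▸ Subgroup.card_dvd_of_le hXR)
    have h1 : p < Nat.card X := hV ▸ lt_of_not_ge fun h =>
      hX1 (Subgroup.eq_of_le_of_card_ge hVX h).symm
    have h2 : Nat.card X < p ^ 3 := hR ▸ lt_of_not_ge fun h =>
      hX2 (Subgroup.eq_of_le_of_card_ge hXR h)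
    rw [hi] at h1 h2 ⊢
    have h1' : 1 < i := (Nat.pow_lt_pow_iff_right hp.out.one_lt).mp (by rwa [pow_one])
    have h2' : i < 3 := (Nat.pow_lt_pow_iff_right hp.out.one_lt).mp h2
    rw [show i = 2 by omega]
  -- the lines
  let T := {L : Subgroup G // V ≤ L ∧ L ≤ R ∧ Nat.card L = p ^ 2}
  have hline : ∀ r ∈ R, r ∉ V → Nat.card ↥(V ⊔ Subgroup.zpowers r) = p ^ 2 := by
    intro r hr hrV
    refine hcard (sup_le hVR (Subgroup.zpowers_le.mpr hr)) le_sup_left (fun e => hrV ?_) fun e => hnc ?_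
    · rw [← e]; exact Subgroup.mem_sup_right (Subgroup.mem_zpowers r)
    · have hcomm : IsMulCommutative ↥(V ⊔ Subgroup.zpowers r) := by
        have hle : V ⊔ Subgroup.zpowers r ≤ Subgroup.centralizer ((V ⊔ Subgroup.zpowers r : Subgroup G) : Set G) := by
          rw [Subgroup.le_centralizer_iff]
          refine sup_le ?_ ?_
          · refine Subgroup.le_centralizer_iff.mp ?_
            exact (sup_le hVR (Subgroup.zpowers_le.mpr hr)).trans hVc
          · refine Subgroup.zpowers_le.mpr ?_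
            rw [Subgroup.mem_centralizer_iff]
            intro v hv
            obtain ⟨a, ha, b, hb, rfl⟩ : ∃ a ∈ V, ∃ b ∈ Subgroup.zpowers r, v = a * b := by
              refine Subgroup.closure_induction (p := fun v _ => ∃ a ∈ V, ∃ b ∈ Subgroup.zpowers r, v = a * b)
                ?_ ?_ ?_ ?_ (show v ∈ Subgroup.closure ((V : Set G) ∪ Subgroup.zpowers r) by
                  rw [Subgroup.closure_union, Subgroup.closure_eq, Subgroup.closure_eq]; exact hv)
              · rintro x (hx | hx)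
                · exact ⟨x, hx, 1, one_mem _, (mul_one x).symm⟩
                · exact ⟨1, one_mem _, x, hx, (one_mul x).symm⟩
              · exact ⟨1, one_mem _, 1, one_mem _, (one_mul 1).symm⟩
              · rintro _ _ _ _ ⟨a, ha, b, hb, rfl⟩ ⟨c, hc, d, hd, rfl⟩
                have hbc : b * c = c * b := (Subgroup.mem_centralizer_iff.mp
                  (hVc (Subgroup.zpowers_le.mpr hr hb)) c hc).symm
                exact ⟨a * c, mul_mem ha hc, b * d, mul_mem hb hd, by
                  rw [mul_assoc, ← mul_assoc b c d, hbc, mul_assoc c b d, ← mul_assoc]⟩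
              · rintro _ _ ⟨a, ha, b, hb, rfl⟩
                have hba : b⁻¹ * a⁻¹ = a⁻¹ * b⁻¹ := (Subgroup.mem_centralizer_iff.mp
                  (hVc (Subgroup.zpowers_le.mpr hr (inv_mem hb))) _ (inv_mem ha)).symm
                exact ⟨a⁻¹, inv_mem ha, b⁻¹, inv_mem hb, by rw [mul_inv_rev, hba]⟩
            have h1 : a * r = r * a := (Subgroup.mem_centralizer_iff.mp (hVc hr) a ha)
            obtain ⟨j, rfl⟩ := hb
            rw [mul_assoc, (Commute.zpow_self r j).eq, ← mul_assoc, h1, mul_assoc]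
        exact ⟨⟨fun a b => Subtype.ext (Subgroup.mem_centralizer_iff.mp (hle b.2) a a.2)⟩⟩
      rwa [e] at hcomm
  haveI : Finite T := Subtype.finite
  have hT : Nat.card T = p + 1 := by
    let e : (Σ L : T, {r : G // r ∈ (L : Subgroup G) ∧ r ∉ V}) ≃ {r : G // r ∈ R ∧ r ∉ V} :=
      { toFun := fun a => ⟨a.2.1, a.1.2.2.1 a.2.2.1, a.2.2.2⟩
        invFun := fun r => ⟨⟨V ⊔ Subgroup.zpowers r.1, le_sup_left,
          sup_le hVR (Subgroup.zpowers_le.mpr r.2.1), hline r.1 r.2.1 r.2.2⟩,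
          ⟨r.1, Subgroup.mem_sup_right (Subgroup.mem_zpowers _), r.2.2⟩⟩
        left_inv := by
          rintro ⟨⟨L, hVL, hLR, hLc⟩, r, hrL, hrV⟩
          have hLe : V ⊔ Subgroup.zpowers r = L :=
            Subgroup.eq_of_le_of_card_ge (sup_le hVL (Subgroup.zpowers_le.mpr hrL))
              (le_of_eq (hLc.trans (hline r (hLR hrL) hrV).symm))
          subst hLe
          rfl
        right_inv := fun r => rfl }
    have hfib : ∀ (X : Subgroup G), V ≤ X → Nat.card {r : G // r ∈ X ∧ r ∉ V} + p = Nat.card X := by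
      intro X hVX
      have h := Nat.card_congr (Equiv.Set.sumDiffSubset (show (V : Set G) ⊆ (X : Set G) from hVX))
      rw [Nat.card_sum] at h
      have h2 : Nat.card ((X : Set G) \ (V : Set G) : Set G) = Nat.card {r : G // r ∈ X ∧ r ∉ V} := rfl
      change Nat.card V + _ = Nat.card X at h
      rw [h2, hV, add_comm] at h
      exact h
    letI := Fintype.ofFinite T
    have h1 := hfib R hVR
    rw [← Nat.card_congr e, Nat.card_sigma, hR] at h1
    have h2 : ∀ L : T, Nat.card {r : G // r ∈ (L : Subgroup G) ∧ r ∉ V} = p ^ 2 - p := fun L => by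
      have h := hfib L L.2.1
      rw [L.2.2.2] at h
      omega
    simp only [h2, Finset.sum_const, smul_eq_mul, Finset.card_univ, ← Nat.card_eq_fintype_card] at h1
    have hp0 := hp.out.two_le
    have h3 : (p + 1) * (p ^ 2 - p) + p = p ^ 3 := by
      obtain ⟨m, rfl⟩ : ∃ m, p = m + 1 := ⟨p - 1, by omega⟩
      rw [show (m + 1) ^ 2 - (m + 1) = m * (m + 1) by rw [sq, ← Nat.sub_one_mul]; simp]
      ring
    have h4 : 0 < p ^ 2 - p := by
      have : p * 2 ≤ p * p := Nat.mul_le_mul_left p hp0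
      rw [sq]; omega
    exact Nat.eq_of_mul_eq_mul_right h4 (by omega)
  -- conjugation on the lines
  have hmove : ∀ (k : K) (L : T), V ≤ (L : Subgroup G).map (MulAut.conj (k : G)).toMonoidHom ∧
      (L : Subgroup G).map (MulAut.conj (k : G)).toMonoidHom ≤ R ∧
      Nat.card ↥((L : Subgroup G).map (MulAut.conj (k : G)).toMonoidHom) = p ^ 2 := by
    intro k L
    refine ⟨fun v hv => ⟨v, L.2.1 hv, ?_⟩, ?_, ?_⟩
    · change (k : G) * v * (k : G)⁻¹ = v
      rw [← Subgroup.mem_centralizer_iff.mp (hKV k.2) v hv, mul_inv_cancel_right]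
    · rintro _ ⟨r, hr, rfl⟩
      exact (Subgroup.mem_normalizer_iff.mp (hKR k.2) r).mp (L.2.2.1 hr)
    · rw [Subgroup.card_map_of_injective (MulAut.conj (k : G)).injective]; exact L.2.2.2
  letI : MulAction K T :=
    { smul := fun k L => ⟨(L : Subgroup G).map (MulAut.conj (k : G)).toMonoidHom, hmove k L⟩
      one_smul := fun L => Subtype.ext (by
        change (L : Subgroup G).map (MulAut.conj ((1 : K) : G)).toMonoidHom = _
        rw [Subgroup.coe_one, map_one]; exact Subgroup.map_id _)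
      mul_smul := fun a b L => Subtype.ext (by
        change (L : Subgroup G).map (MulAut.conj ((a * b : K) : G)).toMonoidHom =
          ((L : Subgroup G).map (MulAut.conj (b : G)).toMonoidHom).map (MulAut.conj (a : G)).toMonoidHom
        rw [Subgroup.map_map, Subgroup.coe_mul, map_mul]; rfl) }
  by_cases hfr : ∀ L : T, MulAction.stabilizer K L = ⊥
  · exact Or.inr (hT ▸ card_dvd_of_free hfr)
  left
  push Not at hfr
  obtain ⟨⟨L, hVL, hLR, hLc⟩, hL⟩ := hfr
  haveI := (Subgroup.nontrivial_iff_ne_bot _).mpr hL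
  obtain ⟨⟨⟨a, haK⟩, haL'⟩, ha1'⟩ := exists_ne (1 : MulAction.stabilizer K (⟨L, hVL, hLR, hLc⟩ : T))
  have ha1 : a ≠ 1 := fun e => ha1' (Subtype.ext (Subtype.ext e))
  have haL : L.map (MulAut.conj a).toMonoidHom = L := congrArg Subtype.val haL'
  obtain ⟨v, hvL, hvV⟩ : ∃ v ∈ L, v ∉ V := Set.not_subset.mp fun h => by
    have h2 := Subgroup.card_le_of_le (show L ≤ V from h)
    rw [hLc, hV, sq] at h2
    have := hp.out.two_le
    nlinarith
  have hLeq : V ⊔ Subgroup.zpowers v = L := Subgroup.eq_of_le_of_card_ge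
    (sup_le hVL (Subgroup.zpowers_le.mpr hvL)) (le_of_eq (hLc.trans (hline v (hLR hvL) hvV).symm))
  have hsup : ∀ {w : G}, w ∈ R → ∀ y ∈ V ⊔ Subgroup.zpowers w, ∃ z ∈ V, ∃ i : ℤ, y = z * w ^ i := by
    intro w hw y hy
    have hn : Subgroup.zpowers w ≤ Subgroup.normalizer (V : Set G) :=
      (Subgroup.zpowers_le.mpr hw).trans (hVc.trans (Subgroup.centralizer_le_normalizer _))
    obtain ⟨z, hz, _, ⟨i, rfl⟩, rfl⟩ := (Basics.mem_sup_of_le_normalizer hn).mp hy
    exact ⟨z, hz, i, rfl⟩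
  obtain ⟨z₁, hz₁, i, hi⟩ := hsup (hLR hvL) _ (by rw [hLeq, ← haL]; exact ⟨v, hvL, rfl⟩ : a * v * a⁻¹ ∈ _)
  by_cases hkL : L.map (MulAut.conj k₀).toMonoidHom = L
  · -- `K` fixes the line: compare with the action on a complement
    have hKL : ∀ k ∈ K, L.map (MulAut.conj k).toMonoidHom = L := by
      intro k hk
      have h1 : (⟨k, hk⟩ : K) ∈ MulAction.stabilizer K (⟨L, hVL, hLR, hLc⟩ : T) :=
        (Subgroup.zpowers_le.mpr (show (⟨k₀, hk₀⟩ : K) ∈ MulAction.stabilizer K (⟨L, hVL, hLR, hLc⟩ : T) from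
          Subtype.ext hkL)) (hgen ⟨k, hk⟩)
      exact congrArg Subtype.val h1
    have hexp' : ∀ k : K, ∃ i : ℤ, ∃ z ∈ V, (k : G) * v * (k : G)⁻¹ = z * v ^ i := fun k => by
      obtain ⟨z, hz, i, h⟩ := hsup (hLR hvL) _ (by rw [hLeq, ← hKL k k.2]; exact ⟨v, hvL, rfl⟩ : (k : G) * v * (k : G)⁻¹ ∈ _)
      exact ⟨i, z, hz, h⟩
    choose χ zz hzz hχ using hexp'
    have hvo : orderOf v = p := orderOf_eq_prime (hexp v (hLR hvL)) fun e => hvV (e ▸ one_mem V)
    have hmod : ∀ (i j : ℤ), v ^ i * (v ^ j)⁻¹ ∈ V → (p : ℤ) ∣ i - j := by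
      intro i j h
      by_contra hd
      obtain ⟨x, y, hxy⟩ := (Prime.coprime_iff_not_dvd (Nat.prime_iff_prime_int.mp hp.out)).mpr hd
      refine hvV ?_
      rw [← zpow_one v, ← hxy, zpow_add, mul_comm x, zpow_mul, zpow_natCast, hexp v (hLR hvL), one_zpow, one_mul,
        mul_comm, zpow_mul, zpow_sub]
      exact zpow_mem h y
    have hval : ∀ (k : K) (j : ℤ), v ^ χ k * (v ^ j)⁻¹ ∈ V ↔ (k : G) * v * (k : G)⁻¹ * (v ^ j)⁻¹ ∈ V := fun k j => by
      rw [hχ k, mul_assoc]
      exact (Subgroup.mul_mem_cancel_left V (hzz k)).symm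
    let f : K →* ZMod p :=
      { toFun := fun k => (χ k : ZMod p)
        map_one' := by
          have h := hmod (χ 1) 1 ((hval 1 1).mpr (by simp))
          exact ((ZMod.intCast_eq_intCast_iff_dvd_sub _ _ _).mpr h).symm.trans Int.cast_one
        map_mul' := fun a b => by
          have h := hmod (χ (a * b)) (χ a * χ b) ((hval _ _).mpr ?_)
          · rw [← Int.cast_mul]
            exact ((ZMod.intCast_eq_intCast_iff_dvd_sub _ _ _).mpr h).symm
          rw [show ((a * b : K) : G) * v * ((a * b : K) : G)⁻¹ = (a : G) * ((b : G) * v * (b : G)⁻¹) * (a : G)⁻¹ by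
            simp [Subgroup.coe_mul, mul_assoc], hχ b,
            show (a : G) * (zz b * v ^ χ b) * (a : G)⁻¹ = ((a : G) * zz b * (a : G)⁻¹) * ((a : G) * v * (a : G)⁻¹) ^ χ b by
              rw [conj_zpow]; group,
            hχ a, (show Commute (zz a) (v ^ χ a) from Subgroup.mem_centralizer_iff.mp
              (hVc (zpow_mem (hLR hvL) _)) _ (hzz a)).mul_zpow, ← zpow_mul, ← mul_assoc, mul_inv_cancel_right]
          refine mul_mem ?_ (zpow_mem (hzz a) _)
          rw [← Subgroup.mem_centralizer_iff.mp (hKV a.2) _ (hzz b), mul_inv_cancel_right]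
          exact hzz b }
    have hf : Function.Injective f.toHomUnits := by
      refine (injective_iff_map_eq_one _).mpr fun k hk => ?_
      by_contra hk1
      have h1 : (χ k : ZMod p) = ((1 : ℤ) : ZMod p) := by
        rw [Int.cast_one]
        exact congrArg Units.val hk
      obtain ⟨t, ht⟩ := (ZMod.intCast_eq_intCast_iff_dvd_sub _ _ _).mp h1.symm
      refine hvV (hfree k k.2 (fun e => hk1 (Subtype.ext e)) v (hLR hvL) ?_)
      rw [hχ k, show χ k = (p : ℤ) * t + 1 by omega, zpow_add, zpow_mul, zpow_natCast, hexp v (hLR hvL), one_zpow,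
        one_mul, zpow_one, mul_inv_cancel_right]
      exact hzz k
    have h := Subgroup.card_dvd_of_injective f.toHomUnits hf
    rwa [Nat.card_eq_fintype_card (α := (ZMod p)ˣ), ZMod.card_units] at h
  · -- `K` moves a line fixed by `a`: then `a` is a scalar, so inverts
    exfalso
    set w := k₀ * v * k₀⁻¹ with hw
    have hwR : w ∈ R := (Subgroup.mem_normalizer_iff.mp (hKR hk₀) v).mp (hLR hvL)
    have hwL : w ∉ L := fun h => hkL (Subgroup.eq_of_le_of_card_ge (by
      rintro _ ⟨y, hy, rfl⟩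
      rw [SetLike.mem_coe, ← hLeq] at hy
      obtain ⟨z, hz, j, rfl⟩ := hsup (hLR hvL) y hy
      change k₀ * (z * v ^ j) * k₀⁻¹ ∈ L
      rw [show k₀ * (z * v ^ j) * k₀⁻¹ = (k₀ * z * k₀⁻¹) * (k₀ * v * k₀⁻¹) ^ j by rw [conj_zpow]; group,
        ← Subgroup.mem_centralizer_iff.mp (hKV hk₀) z hz, mul_inv_cancel_right]
      exact mul_mem (hVL hz) (zpow_mem h j))
      (Subgroup.card_map_of_injective (MulAut.conj k₀).injective).ge)
    have hak : a * k₀ = k₀ * a := by
      obtain ⟨j, hj⟩ := hgen ⟨a, haK⟩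
      have e : k₀ ^ j = a := congrArg Subtype.val hj
      rw [← e, (Commute.zpow_self k₀ j).eq]
    have hwa : a * w * a⁻¹ = z₁ * w ^ i := by
      rw [hw, show a * (k₀ * v * k₀⁻¹) * a⁻¹ = (a * k₀) * v * (a * k₀)⁻¹ by group, hak,
        show k₀ * a * v * (k₀ * a)⁻¹ = k₀ * (a * v * a⁻¹) * k₀⁻¹ by group, hi, conj_zpow,
        show k₀ * (z₁ * v ^ i) * k₀⁻¹ = k₀ * z₁ * k₀⁻¹ * (k₀ * v ^ i * k₀⁻¹) by group,
        ← Subgroup.mem_centralizer_iff.mp (hKV hk₀) z₁ hz₁, mul_inv_cancel_right]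
    have hvw : v * w ≠ w * v := by
      intro hc
      refine hnc ?_
      have hle : L ≤ Subgroup.centralizer ({w} : Set G) := by
        rw [← hLeq]
        refine sup_le (fun z hz => Subgroup.mem_centralizer_singleton_iff.mpr
          (Subgroup.mem_centralizer_iff.mp (hVc hwR) z hz)) (Subgroup.zpowers_le.mpr
            (Subgroup.mem_centralizer_singleton_iff.mpr hc))
      have hgenR : L ⊔ Subgroup.zpowers w = R := by
        refine Subgroup.eq_of_le_of_card_ge (sup_le hLR (Subgroup.zpowers_le.mpr hwR)) ?_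
        by_contra hlt
        have h := hcard (sup_le hLR (Subgroup.zpowers_le.mpr hwR)) (hVL.trans le_sup_left)
          (fun e => hvV (e ▸ Subgroup.mem_sup_left hvL)) (fun e => hlt (le_of_eq (by rw [e])))
        exact hwL (Subgroup.eq_of_le_of_card_ge le_sup_left (le_of_eq (h.trans hLc.symm)) ▸
          Subgroup.mem_sup_right (Subgroup.mem_zpowers w))
      have hLab : ∀ x ∈ L, ∀ y ∈ L, x * y = y * x := by
        intro x hx y hy
        rw [← hLeq] at hx hy
        obtain ⟨z, hz, j, rfl⟩ := hsup (hLR hvL) x hx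
        obtain ⟨z', hz', j', rfl⟩ := hsup (hLR hvL) y hy
        have e : ∀ (n : ℤ), ∀ z ∈ V, Commute z (v ^ n) := fun n z hz =>
          Subgroup.mem_centralizer_iff.mp (hVc (zpow_mem (hLR hvL) n)) z hz
        exact (((show Commute z z' from (Subgroup.mem_centralizer_iff.mp (hVc (hVR hz')) z hz)).mul_right
          (e j' z hz)).mul_left ((e j z' hz').symm.mul_right ((Commute.refl v).zpow_zpow j j'))).eq
      have hall : R ≤ Subgroup.centralizer (R : Set G) := by
        rw [Subgroup.le_centralizer_iff]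
        conv_lhs => rw [← hgenR]
        refine sup_le (Subgroup.le_centralizer_iff.mp ?_) (Subgroup.zpowers_le.mpr
          (Subgroup.mem_centralizer_iff.mpr ?_))
        · rw [← hgenR, Subgroup.le_centralizer_iff]
          exact fun x hx => by
            have hxw := Subgroup.mem_centralizer_singleton_iff.mp (hle hx)
            refine (Subgroup.mem_centralizer_iff.mpr fun y hy => ?_)
            refine Subgroup.closure_induction (p := fun y _ => y * x = x * y) ?_ (by simp) ?_ ?_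
              (show y ∈ Subgroup.closure ((L : Set G) ∪ Subgroup.zpowers w) by
                rw [Subgroup.closure_union, Subgroup.closure_eq, Subgroup.closure_eq]; exact hy)
            · rintro y (hy | ⟨j, rfl⟩)
              · exact hLab y hy x hx
              · exact ((show Commute x w from hxw).zpow_right j).eq.symm
            · intro a b _ _ ha hb
              exact ((show Commute a x from ha).mul_left hb).eq
            · intro a _ ha
              exact ((show Commute a x from ha).inv_left).eq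
        · intro y hy
          rw [SetLike.mem_coe, ← hgenR] at hy
          have : L ⊔ Subgroup.zpowers w ≤ Subgroup.centralizer ({w} : Set G) := sup_le hle
            (Subgroup.zpowers_le.mpr (Subgroup.mem_centralizer_singleton_iff.mpr rfl))
          exact Subgroup.mem_centralizer_singleton_iff.mp (this hy)
      exact ⟨⟨fun x y => Subtype.ext (Subgroup.mem_centralizer_iff.mp (hall y.2) x x.2)⟩⟩
    set c := v * w * v⁻¹ * w⁻¹ with hc
    have hcV : c ∈ V := hder (Subgroup.commutator_mem_commutator (hLR hvL) hwR)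
    have hc1 : c ≠ 1 := fun e => hvw (mul_inv_eq_iff_eq_mul.mp (mul_inv_eq_one.mp e))
    have hco : orderOf c = p := orderOf_eq_prime (hexp c (hVR hcV)) hc1
    have hcc : ∀ r ∈ R, Commute c r := fun r hr => Subgroup.mem_centralizer_iff.mp (hVc hr) c hcV
    have hzc : ∀ r ∈ R, Commute z₁ r := fun r hr => Subgroup.mem_centralizer_iff.mp (hVc hr) z₁ hz₁
    have hpow1 : ∀ j : ℤ, v * w ^ j * v⁻¹ = c ^ j * w ^ j := fun j => by
      rw [← conj_zpow, show v * w * v⁻¹ = c * w by rw [hc]; group, (hcc w hwR).mul_zpow]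
    have hpow2 : ∀ (m j : ℤ), v ^ m * w ^ j * (v ^ m)⁻¹ = c ^ (j * m) * w ^ j := fun m j => by
      induction m with
      | zero => simp
      | succ m ih =>
        rw [zpow_add_one, mul_inv_rev, show v ^ (m : ℤ) * v * w ^ j * (v⁻¹ * (v ^ (m : ℤ))⁻¹) =
          v ^ (m : ℤ) * (v * w ^ j * v⁻¹) * (v ^ (m : ℤ))⁻¹ by group, hpow1,
          show v ^ (m : ℤ) * (c ^ j * w ^ j) * (v ^ (m : ℤ))⁻¹ = (v ^ (m : ℤ) * c ^ j) * (w ^ j * (v ^ (m : ℤ))⁻¹) by group,
          ← ((hcc _ (zpow_mem (hLR hvL) _)).zpow_left j).eq, mul_assoc, ← mul_assoc (v ^ (m : ℤ)), ih, ← mul_assoc,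
          ← zpow_add, mul_add, mul_one, add_comm]
      | pred m ih =>
        rw [zpow_sub_one, mul_inv_rev, inv_inv, show v ^ (-(m : ℤ)) * v⁻¹ * w ^ j * (v * (v ^ (-(m : ℤ)))⁻¹) =
          v ^ (-(m : ℤ)) * (v⁻¹ * w ^ j * v) * (v ^ (-(m : ℤ)))⁻¹ by group,
          show v⁻¹ * w ^ j * v = c ^ (-j) * w ^ j by
            have h := hpow1 j
            calc v⁻¹ * w ^ j * v = v⁻¹ * (c ^ (-j) * (v * w ^ j * v⁻¹)) * v := by rw [h]; group
              _ = c ^ (-j) * (v⁻¹ * (v * w ^ j * v⁻¹) * v) := by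
                rw [← mul_assoc, ← ((hcc _ (inv_mem (hLR hvL))).zpow_left (-j)).eq]; group
              _ = _ := by group,
          show v ^ (-(m : ℤ)) * (c ^ (-j) * w ^ j) * (v ^ (-(m : ℤ)))⁻¹ =
            (v ^ (-(m : ℤ)) * c ^ (-j)) * (w ^ j * (v ^ (-(m : ℤ)))⁻¹) by group,
          ← ((hcc _ (zpow_mem (hLR hvL) _)).zpow_left (-j)).eq, mul_assoc, ← mul_assoc (v ^ (-(m : ℤ))), ih,
          ← mul_assoc, ← zpow_add, mul_sub, mul_one, sub_eq_add_neg, add_comm]
    have hsq : c = c ^ (i * i) := by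
      have h1 : a * c * a⁻¹ = c := by
        rw [← Subgroup.mem_centralizer_iff.mp (hKV haK) c hcV, mul_inv_cancel_right]
      have hz' : ∀ j : ℤ, Commute z₁ (v ^ j) ∧ Commute z₁ (w ^ j) := fun j =>
        ⟨hzc _ (zpow_mem (hLR hvL) j), hzc _ (zpow_mem hwR j)⟩
      calc c = a * c * a⁻¹ := h1.symm
        _ = (a * v * a⁻¹) * (a * w * a⁻¹) * (a * v * a⁻¹)⁻¹ * (a * w * a⁻¹)⁻¹ := by rw [hc]; group
        _ = (z₁ * v ^ i) * (z₁ * w ^ i) * (z₁ * v ^ i)⁻¹ * (z₁ * w ^ i)⁻¹ := by rw [hi, hwa]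
        _ = v ^ i * w ^ i * (v ^ i)⁻¹ * (w ^ i)⁻¹ := by
          rw [mul_inv_rev, mul_inv_rev]
          have e1 := (hz' i).1.eq
          have e2 := (hz' i).2.eq
          calc z₁ * v ^ i * (z₁ * w ^ i) * ((v ^ i)⁻¹ * z₁⁻¹) * ((w ^ i)⁻¹ * z₁⁻¹)
              = z₁ * (v ^ i * z₁) * w ^ i * (v ^ i)⁻¹ * ((z₁⁻¹ * (w ^ i)⁻¹) * z₁⁻¹) := by group
            _ = z₁ * (z₁ * v ^ i) * w ^ i * (v ^ i)⁻¹ * (((w ^ i)⁻¹ * z₁⁻¹) * z₁⁻¹) := by
              rw [← e1, ((hz' i).2.inv_left.inv_right).eq]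
            _ = (z₁ * z₁) * (v ^ i * w ^ i * (v ^ i)⁻¹ * (w ^ i)⁻¹) * (z₁ * z₁)⁻¹ := by group
            _ = _ := by
              have hr : v ^ i * w ^ i * (v ^ i)⁻¹ * (w ^ i)⁻¹ ∈ R := mul_mem (mul_mem (mul_mem
                (zpow_mem (hLR hvL) i) (zpow_mem hwR i)) (inv_mem (zpow_mem (hLR hvL) i))) (inv_mem (zpow_mem hwR i))
              rw [((hzc _ hr).mul_left (hzc _ hr)).eq, mul_inv_cancel_right]
        _ = c ^ (i * i) := by rw [hpow2, mul_inv_cancel_right]
    have hd : (p : ℤ) ∣ (i - 1) * (i + 1) := by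
      have h : c ^ ((i - 1) * (i + 1)) = 1 := by
        rw [show (i - 1) * (i + 1) = i * i - 1 by ring, zpow_sub, ← hsq, zpow_one, mul_inv_cancel]
      rw [← hco]
      exact orderOf_dvd_iff_zpow_eq_one.mpr h
    rcases (Nat.prime_iff_prime_int.mp hp.out).dvd_or_dvd hd with ⟨t, ht⟩ | ⟨t, ht⟩
    · refine hvV (hfree a haK ha1 v (hLR hvL) ?_)
      rw [hi, show i = (p : ℤ) * t + 1 by omega, zpow_add, zpow_mul, zpow_natCast, hexp v (hLR hvL), one_zpow,
        one_mul, zpow_one, mul_inv_cancel_right]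
      exact hz₁
    · -- `a` inverts `v` modulo `V`, against odd order
      have hinv : a * v * a⁻¹ = z₁ * v⁻¹ := by
        rw [hi, show i = (p : ℤ) * t + (-1) by omega, zpow_add, zpow_mul, zpow_natCast, hexp v (hLR hvL), one_zpow,
          one_mul, zpow_neg_one]
      have hiter : ∀ n : ℕ, ∃ z ∈ V, a ^ n * v * (a ^ n)⁻¹ = z * v ^ ((-1 : ℤ) ^ n) := by
        intro n
        induction n with
        | zero => exact ⟨1, one_mem _, by simp⟩
        | succ n ih =>
          obtain ⟨z, hz, e⟩ := ih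
          refine ⟨z * z₁ ^ ((-1 : ℤ) ^ n), mul_mem hz (zpow_mem hz₁ _), ?_⟩
          rw [pow_succ' a, mul_inv_rev, show a * a ^ n * v * ((a ^ n)⁻¹ * a⁻¹) = a * (a ^ n * v * (a ^ n)⁻¹) * a⁻¹ by group,
            e, show a * (z * v ^ ((-1 : ℤ) ^ n)) * a⁻¹ = (a * z * a⁻¹) * (a * v * a⁻¹) ^ ((-1 : ℤ) ^ n) by
              rw [conj_zpow]; group,
            ← Subgroup.mem_centralizer_iff.mp (hKV haK) z hz, mul_inv_cancel_right, hinv,
            (hzc v⁻¹ (inv_mem (hLR hvL))).mul_zpow, ← mul_assoc, inv_zpow', pow_succ', neg_one_mul]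
      obtain ⟨z, hz, e⟩ := hiter (Nat.card K)
      have haN : a ^ Nat.card K = 1 := congrArg Subtype.val (pow_card_eq_one' (x := (⟨a, haK⟩ : K)))
      rw [haN, one_mul, inv_one, mul_one, hK2.neg_one_pow, zpow_neg_one] at e
      refine hvV ?_
      have hv2 : v ^ (2 : ℤ) ∈ V := by
        rw [show v ^ (2 : ℤ) = z by rw [zpow_two]; exact (eq_mul_inv_iff_mul_eq.mp e)]
        exact hz
      obtain ⟨x, y, hxy⟩ := Nat.Coprime.isCoprime (show Nat.Coprime p 2 from
        (Nat.coprime_primes hp.out Nat.prime_two).mpr hp2)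
      rw [← zpow_one v, ← hxy, zpow_add, mul_comm x, zpow_mul, zpow_natCast, hexp v (hLR hvL), one_zpow, one_mul,
        mul_comm, zpow_mul]
      exact zpow_mem (by exact_mod_cast hv2) y

end Cfsg.Agent.OddLocal
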