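import Cfsg.Agent.Lib.OddLocal.Tau2Abelian

/-! The part of `F(M)` prime to `σ(M)` (BG 15.3). -/

set_option autoImplicit false
set_option linter.unusedSectionVars false
set_option linter.style.haveILetI false

namespace Cfsg.Agent.OddLocal

open scoped commutatorElement Pointwise
open Cfsg
open Basics (IsSylowIn)

universe u

variable {G : Type u} [Group G] [Finite G]

theorem coreP_not_sigma (hG : IsMinSimpleOddOrder G) {M : Subgroup G} (hM : IsCoatom M) {r : ℕ} [hr : Fact r.Prime]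
    (hrs : r ∉ Cfsg.sigma M) (hne : coreP r M ≠ ⊥) :
    r ∈ Cfsg.tau2 M ∧ IsCyclic (coreP r M) := by
  set K := coreP r M with hK
  have hKp : IsPGroup r K := isPGroup_coreP r M
  have hKM : K ≤ M := coreP_le r M
  have hr2 : r ≠ 2 := prime_ne_two hG ((hKp.card_eq_or_dvd.resolve_left
    fun e => hne (Subgroup.card_eq_one.mp e)).trans (Subgroup.card_subgroup_dvd_card K))
  have h1 : ¬ PRankLE r 1 M := by
    intro h1
    have hcyc := isCyclic_of_pRankLE_one hr2 h1 hKM hKp
    obtain ⟨z, hz, hzo⟩ := exists_orderOf_eq hKp hne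
    have hz1 : z ≠ 1 := fun e => by rw [e, orderOf_one] at hzo; exact hr.out.one_lt.ne hzo
    have hn : M ≤ Subgroup.normalizer (Subgroup.zpowers z : Set G) := fun m hm => by
      rw [Subgroup.mem_normalizer_iff_map_conj_eq]
      refine eq_of_le_cyclic hcyc ?_ (Subgroup.zpowers_le.mpr hz)
        (Subgroup.card_map_of_injective (MulAut.conj m).injective)
      exact (Subgroup.map_mono (Subgroup.zpowers_le.mpr hz)).trans
        (Subgroup.mem_normalizer_iff_map_conj_eq.mp (le_normalizer_coreP r M hm)).le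
    exact (rank_two_of_normalizer_le hG hM hrs (by rw [Nat.card_zpowers, hzo] : Nat.card (Subgroup.zpowers z) = r)
      (normalizer_eq_of_le hG hM (fun e => hz1 (Subgroup.zpowers_eq_bot.mp e))
        (Subgroup.zpowers_le.mpr (hKM hz)) hn).le).1 h1
  refine ⟨⟨hr.out, hrs, pRankLE_two_of_not_mem_sigma hG hM hrs, h1⟩, ?_⟩
  by_contra hnc
  obtain ⟨X, hX, hXc⟩ := exists_ea_two_of_not_isCyclic hr2 hKp hnc
  have hXe : IsElementaryAbelian r (X.map K.subtype) := ea_map hX _
  have hXK : X.map K.subtype ≤ K := Subgroup.map_subtype_le X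
  have hX2 : Nat.card (X.map K.subtype) = r ^ 2 := by
    refine ea_card_eq_sq (pRankLE_two_of_not_mem_sigma hG hM hrs) hXe (hXK.trans hKM) ?_
    rwa [Subgroup.card_map_of_injective K.subtype_injective]
  obtain ⟨X₀, h⟩ := exists_exc hG hM hrs (hXK.trans hKM) hXe hX2
  refine sigmaCore_ne_bot hG hM (le_bot_iff.mp ?_)
  rw [← h.centralizer_eq_bot hG]
  refine le_inf le_rfl (le_trans ?_ (Subgroup.centralizer_le hXK))
  refine Subgroup.commutator_eq_bot_iff_le_centralizer.mp (le_bot_iff.mp ?_)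
  rw [← inf_sigmaCore_eq_bot hrs hKp]
  exact le_inf (Subgroup.le_normalizer_iff_commutator_le_right.mp ((sigmaCore_le M).trans (le_normalizer_coreP r M)))
    (Subgroup.le_normalizer_iff_commutator_le_left.mp (hKM.trans (le_normalizer_sigmaCore M)))

theorem fitting_split (hG : IsMinSimpleOddOrder G) {M : Subgroup G} (hM : IsCoatom M) :
    IsCyclic ↥(Cfsg.piCoreOf {q | q.Prime ∧ q ∉ Cfsg.sigma M} (Cfsg.fittingOf M)) ∧
      (∀ p : ℕ, p.Prime → p ∣ Nat.card ↥(Cfsg.piCoreOf {q | q.Prime ∧ q ∉ Cfsg.sigma M} (Cfsg.fittingOf M)) → p ∈ Cfsg.tau2 M) ∧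
      Cfsg.fittingOf M = Cfsg.fittingOf (Cfsg.sigmaCore M) ⊔ Cfsg.piCoreOf {q | q.Prime ∧ q ∉ Cfsg.sigma M} (Cfsg.fittingOf M) := by
  set π := {q | q.Prime ∧ q ∉ Cfsg.sigma M} with hπ
  set F := Cfsg.fittingOf M with hF
  set Y := Cfsg.piCoreOf π F with hY
  have hYF : Y ≤ F := piCoreOf_le _ _
  have hcore : ∀ (r : ℕ) [Fact r.Prime] (U : Subgroup G), IsPGroup r U → U ≤ F → U ≤ coreP r M := by
    intro r _ U hU hUF x hx
    obtain ⟨j, hj⟩ := hU ⟨x, hx⟩
    exact mem_coreP_of_mem_fittingOf (hUF hx) ⟨j, congrArg Subtype.val hj⟩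
  haveI : Group.IsNilpotent Y := by
    haveI := isNilpotent_fittingOf M
    exact Group.nilpotent_of_mulEquiv (Subgroup.subgroupOfEquivOfLe hYF)
  refine ⟨?_, fun p hp hd => ?_, le_antisymm ?_ (sup_le ?_ hYF)⟩
  · haveI : IsZGroup Y := ⟨fun q hq S => by
      haveI := Fact.mk hq
      set U := (S : Subgroup Y).map Y.subtype with hU
      have e : (S : Subgroup Y) ≃* U := Subgroup.equivMapOfInjective _ Y.subtype Y.subtype_injective
      by_cases hU1 : U = ⊥
      · exact e.isCyclic.mpr (hU1 ▸ (inferInstance : IsCyclic (⊥ : Subgroup G)))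
      have hUY : U ≤ Y := Subgroup.map_subtype_le _
      have hUp : IsPGroup q U := S.2.map _
      have hqπ : q ∈ π := piCoreOf_primes π F hq ((hUp.card_eq_or_dvd.resolve_left
        fun h => hU1 (Subgroup.card_eq_one.mp h)).trans (Subgroup.card_dvd_of_le hUY))
      have hle := hcore q U hUp (hUY.trans hYF)
      haveI := (coreP_not_sigma hG hM hqπ.2 (fun h => hU1 (le_bot_iff.mp (h ▸ hle)))).2
      exact e.isCyclic.mpr (Subgroup.isCyclic_of_le hle)⟩
    infer_instance
  · haveI := Fact.mk hp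
    obtain ⟨U, hU⟩ := exists_sylowIn (q := p) Y
    have hU1 : U ≠ ⊥ := fun e => by
      have h1 := hU.2
      rw [e, Subgroup.card_bot] at h1
      exact (Nat.one_lt_pow (hp.factorization_pos_of_dvd Nat.card_pos.ne' hd).ne' hp.one_lt).ne h1
    exact (coreP_not_sigma hG hM (piCoreOf_primes π F hp hd).2
      (fun h => hU1 (le_bot_iff.mp (h ▸ hcore p U hU.isPGroup (hU.1.trans hYF))))).1
  · rw [hF, fittingOf_eq_iSup]
    refine iSup_le fun r => ?_
    haveI := Fact.mk r.2
    by_cases hrs : (r : ℕ) ∈ Cfsg.sigma M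
    · refine le_sup_of_le_left ?_
      have hle := pGroup_le_sigmaCore hG hM hrs (isPGroup_coreP _ M) (coreP_le (r : ℕ) M)
      rw [Cfsg.fittingOf, ← Subgroup.map_subgroupOf_eq_of_le hle]
      refine Subgroup.map_mono (le_sSup ⟨?_, ?_⟩)
      · exact (Subgroup.normal_subgroupOf_iff_le_normalizer hle).mpr
          ((sigmaCore_le M).trans (le_normalizer_coreP _ M))
      · exact ((isPGroup_coreP (r : ℕ) M).comap_subtype).isNilpotent
    · refine le_sup_of_le_right ?_
      refine le_piCoreOf (coreP_le_fittingOf _ M) ((fittingOf_le M).trans (le_normalizer_coreP _ M)) ?_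
      intro s hs hd
      obtain ⟨j, hj⟩ := IsPGroup.iff_card.mp (isPGroup_coreP (r : ℕ) M)
      exact (Nat.prime_dvd_prime_iff_eq hs r.2).mp (hs.dvd_of_dvd_pow (hj ▸ hd)) ▸ ⟨r.2, hrs⟩
  · have hn : M ≤ Subgroup.normalizer (Cfsg.fittingOf (Cfsg.sigmaCore M) : Set G) :=
      (le_normalizer_sigmaCore M).trans (normalizer_le_normalizer_map_characteristic _)
    have hle : Cfsg.fittingOf (Cfsg.sigmaCore M) ≤ M := (fittingOf_le _).trans (sigmaCore_le M)
    rw [hF, Cfsg.fittingOf, Cfsg.fittingOf, ← Cfsg.fittingOf, ← Subgroup.map_subgroupOf_eq_of_le hle]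
    refine Subgroup.map_mono (le_sSup ⟨(Subgroup.normal_subgroupOf_iff_le_normalizer hle).mpr hn, ?_⟩)
    haveI := isNilpotent_fittingOf (Cfsg.sigmaCore M)
    exact Group.nilpotent_of_mulEquiv (Subgroup.subgroupOfEquivOfLe hle).symm

end Cfsg.Agent.OddLocal
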