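import Mathlib

/-! Eigenvalues of an operator permuting an extraspecial-type basis of a matrix algebra (for BG 3.4). -/

set_option autoImplicit false
set_option maxHeartbeats 800000

namespace Cfsg.Agent.OddLocal

variable {k : Type*} [Field k] {W : Type*} [AddCommGroup W] [Module k W] [FiniteDimensional k W]

/-- Burnside: a multiplicatively closed family without invariant subspaces spans all endomorphisms. -/
theorem span_eq_top_of_irreducible [IsAlgClosed k] [Nontrivial W] {Q : Type*} [Monoid Q] (ρ : Q →* Module.End k W)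
    (hirr : ∀ U : Submodule k W, (∀ a, ∀ w ∈ U, ρ a w ∈ U) → U = ⊥ ∨ U = ⊤) :
    Submodule.span k (Set.range ρ) = ⊤ := by
  set A : Subalgebra k (Module.End k W) := Algebra.adjoin k (Set.range ρ) with hA
  have hA_le : Subalgebra.toSubmodule A ≤ Submodule.span k (Set.range ρ) := by
    rw [hA, Algebra.adjoin_eq_span]
    refine Submodule.span_mono ?_
    intro x hx
    have hx' : x ∈ MonoidHom.mrange ρ := (Submonoid.closure_le.mpr (by intro y hy; exact hy)) hx
    exact hx'
  have hmem : ∀ a, ρ a ∈ A := fun a => Algebra.subset_adjoin ⟨a, rfl⟩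
  have : IsSimpleModule A W := by
    rw [isSimpleModule_iff]
    refine ⟨fun U => ?_⟩
    rcases hirr (U.restrictScalars k) (fun a w hw => U.smul_mem (⟨ρ a, hmem a⟩ : A) hw) with h | h
    · exact Or.inl (eq_bot_iff.mpr fun w hw => h.le hw)
    · exact Or.inr (eq_top_iff.mpr fun w _ => h.ge Submodule.mem_top)
  have hscalar : ∀ f : Module.End A W, ∃ c : k, ∀ w, f w = c • w := by
    intro f
    obtain ⟨c, hc⟩ := Module.End.exists_eigenvalue (f.restrictScalars k)
    refine ⟨c, fun w => ?_⟩
    rcases hirr (Module.End.eigenspace (f.restrictScalars k) c) (fun a v hv => by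
      rw [Module.End.mem_eigenspace_iff] at hv ⊢
      change f ((⟨ρ a, hmem a⟩ : A) • v) = c • ρ a v
      rw [map_smul]
      change ρ a (f v) = _
      rw [show f v = c • v from hv, map_smul]) with h | h
    · exact absurd h hc
    · exact Module.End.mem_eigenspace_iff.mp (h ▸ Submodule.mem_top : w ∈ Module.End.eigenspace (f.restrictScalars k) c)
  rw [eq_top_iff]
  intro g _
  let g' : Module.End (Module.End A W) W :=
    { toFun := g
      map_add' := g.map_add
      map_smul' := fun f w => by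
        obtain ⟨c, hc⟩ := hscalar f
        change g (f w) = f (g w)
        rw [hc, hc, map_smul] }
  obtain ⟨s, hs⟩ := Module.Finite.fg_top (R := k) (M := W)
  obtain ⟨r, hr⟩ := jacobson_density g' s
  have : (r : Module.End k W) = g := LinearMap.ext_on hs fun w hw => (hr w hw).symm
  exact this ▸ hA_le r.2

theorem finrank_eigenspace_eq_card {M : Type*} [AddCommGroup M] [Module k M] {ι : Type*} [Fintype ι]
    (b : Module.Basis ι k M) (f : Module.End k M) (μ : ι → k) (hb : ∀ i, f (b i) = μ i • b i) (ν : k)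
    [DecidablePred fun i => μ i = ν] :
    Module.finrank k (Module.End.eigenspace f ν) = Fintype.card {i // μ i = ν} := by
  have h : Module.End.eigenspace f ν = Submodule.span k (Set.range (fun i : {i // μ i = ν} => b i)) := by
    refine le_antisymm (fun x hx => ?_) (Submodule.span_le.mpr ?_)
    · rw [Module.End.mem_eigenspace_iff] at hx
      rw [← b.sum_repr x]
      refine Submodule.sum_mem _ fun i _ => ?_
      by_cases hi : μ i = ν
      · exact Submodule.smul_mem _ _ (Submodule.subset_span ⟨⟨i, hi⟩, rfl⟩)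
      · have h1 : f x = ∑ j, (b.repr x j * μ j) • b j := by
          have e : f x = f (∑ j, b.repr x j • b j) := congrArg f (b.sum_repr x).symm
          rw [e, map_sum]
          exact Finset.sum_congr rfl fun j _ => by rw [map_smul, hb, smul_smul]
        have h2 : b.repr (f x) i = b.repr x i * μ i := by
          rw [h1, b.repr_sum_self]
        rw [hx, map_smul, Finsupp.smul_apply, smul_eq_mul, mul_comm] at h2
        have h3 : b.repr x i = 0 := by
          by_contra h3
          exact hi (mul_left_cancel₀ h3 h2).symm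
        simp [h3]
    · rintro _ ⟨i, rfl⟩
      exact Module.End.mem_eigenspace_iff.mpr (by rw [hb, i.2])
  rw [h]
  exact finrank_span_eq_card (b.linearIndependent.comp _ Subtype.val_injective)

theorem counts_pos {r : ℕ} [Fact r.Prime] (hr : Odd r) (a : ZMod r → ℕ) (m : ℕ) (h0 : ∑ j, a j * a (j + 0) = m + 1)
    (hk : ∀ l : ZMod r, l ≠ 0 → ∑ j, a j * a (j + l) = m) (hn : (∑ j, a j) * (∑ j, a j) = r * m + 1)
    (hodd : Odd (∑ j, a j)) (h1 : ∑ j, a j ≠ 1) (j0 : ZMod r) : a j0 ≠ 0 := by
  intro ha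
  have hsq : ∀ l : ZMod r, l ≠ 0 → ∑ j, ((a j : ℤ) - a (j + l)) ^ 2 = 2 := by
    intro l hl
    have e1 : ∑ j, ((a (j + l) : ℤ) * a (j + l)) = ∑ j, ((a j : ℤ) * a j) :=
      Equiv.sum_comp (Equiv.addRight l) (fun j => ((a j : ℤ) * a j))
    have e2 : ∑ j, ((a j : ℤ) * a j) = (m : ℤ) + 1 := by
      have := congrArg (fun x : ℕ => (x : ℤ)) h0
      simpa using this
    have e3 : ∑ j, ((a j : ℤ) * a (j + l)) = (m : ℤ) := by
      have := congrArg (fun x : ℕ => (x : ℤ)) (hk l hl)
      simpa using this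
    have : ∀ j, ((a j : ℤ) - a (j + l)) ^ 2 =
        (a j : ℤ) * a j + (a (j + l) : ℤ) * a (j + l) - 2 * ((a j : ℤ) * a (j + l)) := fun j => by ring
    simp only [this, Finset.sum_sub_distrib, Finset.sum_add_distrib, ← Finset.mul_sum, e1, e2, e3]
    ring
  have hle : ∀ j, a j ≤ 1 := by
    intro j
    rcases eq_or_ne j j0 with rfl | hj
    · omega
    · set l := j - j0 with hl
      have hl0 : l ≠ 0 := sub_ne_zero.mpr hj
      have hne : j0 ≠ j0 - l := fun e => hl0 (by simpa using e.symm)
      have h2 := Finset.sum_le_sum_of_subset_of_nonneg (Finset.subset_univ {j0, j0 - l})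
        (f := fun i => ((a i : ℤ) - a (i + l)) ^ 2) (fun i _ _ => sq_nonneg _)
      rw [hsq l hl0, Finset.sum_pair hne, ha, sub_add_cancel, ha, hl, add_sub_cancel] at h2
      by_contra h3
      have : (4 : ℤ) ≤ (((0 : ℕ) : ℤ) - a j) ^ 2 := by
        have : (2 : ℤ) ≤ a j := by exact_mod_cast (by omega : 2 ≤ a j)
        push_cast
        nlinarith
      nlinarith [sq_nonneg ((a (j0 - (j - j0)) : ℤ) - ((0 : ℕ) : ℤ))]
  have hsum : ∑ j, a j = m + 1 := by
    rw [← h0]
    refine Finset.sum_congr rfl fun j _ => ?_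
    rw [add_zero]
    rcases Nat.le_one_iff_eq_zero_or_eq_one.mp (hle j) with e | e <;> simp [e]
  rw [hsum] at hn h1 hodd
  have hm : 0 < m := by omega
  have : m + 2 = r := by
    have : m * (m + 2) = m * r := by nlinarith
    exact Nat.eq_of_mul_eq_mul_left hm this
  rw [← this] at hr
  simp only [Nat.odd_iff] at hr hodd
  omega

variable {Q : Type*} [Group Q]

/-- Conjugation averages of noncentral elements vanish. -/
theorem sum_conj_eq_zero [Fintype Q] (ρ : Q →* Module.End k W) {a : Q}
    (h : ∃ b : Q, ∃ c : k, c ≠ 1 ∧ ρ (b * a * b⁻¹) = c • ρ a) : ∑ b, ρ (b * a * b⁻¹) = 0 := by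
  obtain ⟨b0, c, hc, e⟩ := h
  have h1 : ∑ b, ρ (b * a * b⁻¹) = c • ∑ b, ρ (b * a * b⁻¹) := by
    conv_lhs => rw [← Equiv.sum_comp (Equiv.mulRight b0) (fun b => ρ (b * a * b⁻¹))]
    rw [Finset.smul_sum]
    refine Finset.sum_congr rfl fun b _ => ?_
    rw [Equiv.coe_mulRight, show b * b0 * a * (b * b0)⁻¹ = b * (b0 * a * b0⁻¹) * b⁻¹ by group, map_mul, map_mul,
      e, mul_smul_comm, smul_mul_assoc, ← map_mul, ← map_mul]
  have h2 : (c - 1) • ∑ b, ρ (b * a * b⁻¹) = 0 := by rw [sub_smul, one_smul, ← h1, sub_self]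
  exact (smul_eq_zero.mp h2).resolve_left (sub_ne_zero.mpr hc)

/-- An operator of odd prime order acting fixed point freely on `Q` modulo its scalar part has every eigenvalue. -/
theorem exists_eigenvector [IsAlgClosed k] [Nontrivial W] [Fintype Q] {r : ℕ} [Fact r.Prime] (hr : Odd r)
    (hr0 : (r : k) ≠ 0) (hQ0 : (Fintype.card Q : k) ≠ 0) (hQodd : Odd (Nat.card Q)) (C : Subgroup Q) [C.Normal]
    (hC : C ≠ ⊤) (ρ : Q →* Module.End k W)
    (hirr : ∀ U : Submodule k W, (∀ a, ∀ w ∈ U, ρ a w ∈ U) → U = ⊥ ∨ U = ⊤)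
    (hCs : ∀ a ∈ C, ∃ c : k, ρ a = c • 1)
    (hnd : ∀ a ∉ C, ∃ b : Q, ∃ c : k, c ≠ 1 ∧ ρ (b * a * b⁻¹) = c • ρ a)
    (σ : MulAut Q) (hσr : σ ^ r = 1) (hσC : ∀ a ∈ C, σ a = a) (hfree : ∀ a, a⁻¹ * σ a ∈ C → a ∈ C)
    (D : Module.End k W) (hD : D ^ r = 1) (hDσ : ∀ a, D * ρ a = ρ (σ a) * D) (ω : k) (hω : ω ^ r = 1) :
    ∃ w : W, w ≠ 0 ∧ D w = ω • w := by
  classical
  have hrp : r.Prime := Fact.out
  have : NeZero r := ⟨hrp.ne_zero⟩
  have : NeZero (r : k) := ⟨hr0⟩
  obtain ⟨ζ, hζ⟩ := HasEnoughRootsOfUnity.exists_primitiveRoot k r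
  set χ : ZMod r → k := fun i => ζ ^ i.val with hχ
  have hχadd : ∀ i j, χ (i + j) = χ i * χ j := fun i j => by
    simp only [hχ]
    rw [← pow_add, ZMod.val_add, ← pow_eq_pow_mod _ hζ.pow_eq_one]
  have hχinj : Function.Injective χ := fun i j h =>
    ZMod.val_injective r (hζ.pow_inj (ZMod.val_lt i) (ZMod.val_lt j) h)
  have hχ0 : χ 0 = 1 := by simp [hχ]
  have hχsum : ∀ d : ZMod r, ∑ j, χ (d * j) = if d = 0 then (r : k) else 0 := by
    intro d
    split_ifs with hd
    · simp [hd, hχ0, ZMod.card]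
    · have h1 : ∑ j, χ (d * j) = χ d * ∑ j, χ (d * j) := by
        conv_lhs => rw [← Equiv.sum_comp (Equiv.addRight (1 : ZMod r)) (fun j => χ (d * j))]
        rw [Finset.mul_sum]
        refine Finset.sum_congr rfl fun j _ => ?_
        rw [Equiv.coe_addRight, mul_add, mul_one, hχadd, mul_comm]
      have h2 : (χ d - 1) * ∑ j, χ (d * j) = 0 := by rw [sub_mul, one_mul, ← h1, sub_self]
      exact (mul_eq_zero.mp h2).resolve_left (sub_ne_zero.mpr fun e => hd (hχinj (e.trans hχ0.symm)))
  obtain ⟨j0, hj0⟩ : ∃ j, χ j = ω := by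
    obtain ⟨i, hi, e⟩ := hζ.eq_pow_of_pow_eq_one hω
    exact ⟨i, by simp [hχ, ZMod.val_natCast, Nat.mod_eq_of_lt hi, e]⟩
  -- eigenbasis of `D`
  set E : Set W := {w | ∃ j, D w = χ j • w} with hE
  have hEspan : Submodule.span k E = ⊤ := by
    rw [eq_top_iff]
    intro w _
    let f : ZMod r → W := fun j => ∑ i, χ (-j * i) • (D ^ i.val) w
    have hf : ∀ j, f j ∈ E := fun j => by
      refine ⟨j, ?_⟩
      have hstep : ∀ i : ZMod r, D ((D ^ i.val) w) = (D ^ (i + 1).val) w := fun i => by
        rw [← Module.End.mul_apply, ← pow_succ']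
        congr 1
        rw [ZMod.val_add, ZMod.val_one, ← pow_eq_pow_mod _ hD]
      simp only [f, map_sum, map_smul, hstep, Finset.smul_sum, smul_smul]
      conv_rhs => rw [← Equiv.sum_comp (Equiv.addRight (1 : ZMod r)) (fun i => (χ j * χ (-j * i)) • (D ^ i.val) w)]
      refine Finset.sum_congr rfl fun i _ => ?_
      rw [Equiv.coe_addRight, ← hχadd]
      congr 2
      ring
    have hsum : ∑ j, f j = (r : k) • w := by
      simp only [f]
      rw [Finset.sum_comm]
      simp only [← Finset.sum_smul, show ∀ i j : ZMod r, -j * i = (-i) * j from fun i j => by ring, hχsum, neg_eq_zero]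
      simp [ite_smul]
    rw [← inv_smul_smul₀ hr0 w, ← hsum]
    exact Submodule.smul_mem _ _ (Submodule.sum_mem _ fun j _ => Submodule.subset_span (hf j))
  obtain ⟨B, hBE, hBspan, hBli⟩ := exists_linearIndependent k E
  rw [hEspan] at hBspan
  let bW : Module.Basis B k W := Module.Basis.mk hBli (by rw [Subtype.range_coe, hBspan])
  have hbW : ∀ s : B, bW s = s.1 := fun s => Module.Basis.mk_apply _ _ s
  have : Fintype B := FiniteDimensional.fintypeBasisIndex bW
  choose φ hφ using fun s : B => hBE s.2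
  by_contra hno
  rw [not_exists] at hno
  have hφ0 : ∀ s, φ s ≠ j0 := fun s e => hno s.1 ⟨hBli.ne_zero s, by rw [hφ s, e, hj0]⟩
  -- the two eigenbases of `End W`
  let L : Module.End k (Module.End k W) :=
    (LinearMap.mulLeft k D).comp (LinearMap.mulRight k (D ^ (r - 1)))
  have hL : ∀ (X : Module.End k W) (μ : k), D * X = μ • (X * D) → L X = μ • X := fun X μ h => by
    change D * (X * D ^ (r - 1)) = _
    rw [← mul_assoc, h, smul_mul_assoc, mul_assoc, ← pow_succ', Nat.sub_add_cancel hrp.one_le, hD, mul_one]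
  have hLρ : ∀ a, L (ρ a) = ρ (σ a) := fun a => by
    change D * (ρ a * D ^ (r - 1)) = _
    rw [← mul_assoc, hDσ, mul_assoc, ← pow_succ', Nat.sub_add_cancel hrp.one_le, hD, mul_one]
  -- `σ` on the cosets
  have hCmap : C.map σ.toMonoidHom = C := by
    ext x
    refine ⟨?_, fun hx => ⟨x, hx, hσC x hx⟩⟩
    rintro ⟨y, hy, rfl⟩
    exact (hσC y hy).symm ▸ hy
  let f : Q ⧸ C ≃* Q ⧸ C := QuotientGroup.congr C C σ hCmap
  have hf : ∀ a : Q, f a = ((σ a : Q) : Q ⧸ C) := fun a => rfl
  have hfiter : ∀ (n : ℕ) (a : Q), (f : Q ⧸ C → Q ⧸ C)^[n] a = (((σ ^ n) a : Q) : Q ⧸ C) := by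
    intro n
    induction n with
    | zero => intro a; rfl
    | succ n ih => intro a; rw [Function.iterate_succ_apply, hf, ih, pow_succ, MulAut.mul_apply]
  let g : Equiv.Perm {x : Q ⧸ C // x ≠ 1} := Equiv.Perm.subtypePerm f.toEquiv fun x => by simp
  have hgval : ∀ x, ((g x).1 : Q ⧸ C) = f x.1 := fun x => rfl
  have hgiter : ∀ (n : ℕ) (x), (((g ^ n) x).1 : Q ⧸ C) = (f : Q ⧸ C → Q ⧸ C)^[n] x.1 := by
    intro n
    induction n with
    | zero => intro x; rfl
    | succ n ih => intro x; rw [Function.iterate_succ_apply, pow_succ, Equiv.Perm.mul_apply, ih, hgval]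
  have hgr : g ^ r = 1 := by
    refine Equiv.ext fun x => Subtype.ext ?_
    rw [hgiter, ← QuotientGroup.out_eq' x.1, hfiter, hσr]
    exact QuotientGroup.out_eq' x.1
  have hgfix : ∀ x, g x ≠ x := fun x e => x.2 (by
    have h1 : ((σ x.1.out : Q) : Q ⧸ C) = (x.1.out : Q ⧸ C) := by
      rw [← hf, QuotientGroup.out_eq']
      rw [← hgval, e]
    rw [← QuotientGroup.out_eq' x.1, QuotientGroup.eq_one_iff]
    exact hfree _ (QuotientGroup.eq.mp h1.symm))
  let O := Quotient (Equiv.Perm.SameCycle.setoid g)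
  let e0 : O × ZMod r → {x : Q ⧸ C // x ≠ 1} := fun oi => (g ^ oi.2.val) oi.1.out
  have he0 : Function.Bijective e0 := by
    constructor
    · rintro ⟨o, i⟩ ⟨o', i'⟩ h
      change (g ^ i.val) o.out = (g ^ i'.val) o'.out at h
      have hoo : o = o' := by
        rw [← Quotient.out_eq o, ← Quotient.out_eq o']
        exact Quotient.sound ((Equiv.Perm.sameCycle_pow_left.mp (Equiv.Perm.sameCycle_pow_right.mp
          (⟨0, by simpa using h⟩ : Equiv.Perm.SameCycle g ((g ^ i.val) o.out) ((g ^ i'.val) o'.out)))))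
      subst hoo
      have hper : Function.minimalPeriod g o.out = r := by
        refine (hrp.eq_one_or_self_of_dvd _ (Function.IsPeriodicPt.minimalPeriod_dvd ?_)).resolve_left
          fun e => hgfix _ (Function.minimalPeriod_eq_one_iff_isFixedPt.mp e)
        rw [Function.IsPeriodicPt, Function.IsFixedPt, ← Equiv.Perm.coe_pow, hgr]
        rfl
      rw [Equiv.Perm.coe_pow, Equiv.Perm.coe_pow] at h
      exact Prod.ext rfl (ZMod.val_injective r ((Function.iterate_eq_iterate_iff_of_lt_minimalPeriod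
        (hper ▸ ZMod.val_lt i) (hper ▸ ZMod.val_lt i')).mp h))
    · intro x
      have hsc : Equiv.Perm.SameCycle g (Quotient.mk (Equiv.Perm.SameCycle.setoid g) x).out x :=
        Quotient.exact (Quotient.out_eq (Quotient.mk (Equiv.Perm.SameCycle.setoid g) x))
      obtain ⟨i, hi⟩ := hsc.exists_nat_pow_eq
      refine ⟨⟨Quotient.mk (Equiv.Perm.SameCycle.setoid g) x, (i : ZMod r)⟩, ?_⟩
      change (g ^ (i : ZMod r).val) _ = x
      rw [ZMod.val_natCast, ← pow_eq_pow_mod _ hgr]
      exact hi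
  let u : O × ZMod r → Module.End k W := fun oi => ρ ((σ ^ oi.2.val) oi.1.out.1.out)
  have hu : ∀ o i, L (u (o, i)) = u (o, i + 1) := fun o i => by
    simp only [u, hLρ]
    rw [ZMod.val_add, ZMod.val_one, ← pow_eq_pow_mod _ hσr, pow_succ', MulAut.mul_apply]
  let μ : Option (O × ZMod r) → ZMod r := fun i => i.elim 0 Prod.snd
  let v : Option (O × ZMod r) → Module.End k W :=
    fun i => i.elim 1 fun oj => ∑ l, χ (-oj.2 * l) • u (oj.1, l)
  have hv : ∀ i, L (v i) = χ (μ i) • v i := by
    rintro (_ | ⟨o, j⟩)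
    · exact (hL (1 : Module.End k W) 1 (by simp)).trans (by simp [μ, v, hχ0])
    · simp only [v, μ, Option.elim_some, map_sum, map_smul, hu, Finset.smul_sum, smul_smul]
      conv_rhs => rw [← Equiv.sum_comp (Equiv.addRight (1 : ZMod r)) (fun i => (χ j * χ (-j * i)) • u (o, i))]
      refine Finset.sum_congr rfl fun i _ => ?_
      rw [Equiv.coe_addRight, ← hχadd]
      congr 2
      ring
  have hvspan : ⊤ ≤ Submodule.span k (Set.range v) := by
    rw [← span_eq_top_of_irreducible ρ hirr, Submodule.span_le]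
    rintro _ ⟨a, rfl⟩
    by_cases ha : (a : Q ⧸ C) = 1
    · obtain ⟨c, hc⟩ := hCs a ((QuotientGroup.eq_one_iff a).mp ha)
      rw [hc]
      exact Submodule.smul_mem _ _ (Submodule.subset_span ⟨none, rfl⟩)
    · obtain ⟨⟨o, i⟩, hoi⟩ := he0.2 ⟨_, ha⟩
      have h1 : (((σ ^ i.val) o.out.1.out : Q) : Q ⧸ C) = (a : Q ⧸ C) := by
        rw [← hfiter, QuotientGroup.out_eq', ← hgiter]
        exact congrArg Subtype.val hoi
      obtain ⟨c, hc⟩ := hCs _ (QuotientGroup.eq.mp h1)
      have h2 : ρ a = c • u (o, i) := by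
        conv_lhs => rw [← mul_inv_cancel_left ((σ ^ i.val) o.out.1.out) a, map_mul, hc]
        rw [mul_smul_comm, mul_one]
      have h3 : ∑ j, χ (i * j) • v (some (o, j)) = (r : k) • u (o, i) := by
        simp only [v, Option.elim_some, Finset.smul_sum, smul_smul, ← hχadd]
        rw [Finset.sum_comm]
        simp only [← Finset.sum_smul, ← sub_eq_add_neg, ← sub_mul, mul_comm _ i]
        simp only [show ∀ j l : ZMod r, i * j + -j * l = (i - l) * j from fun j l => by ring, hχsum, sub_eq_zero]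
        simp [ite_smul]
      rw [h2, SetLike.mem_coe, ← inv_smul_smul₀ hr0 (u (o, i)), ← h3]
      exact Submodule.smul_mem _ _ (Submodule.smul_mem _ _
        (Submodule.sum_mem _ fun j _ => Submodule.smul_mem _ _ (Submodule.subset_span ⟨_, rfl⟩)))
  have hcardI : Fintype.card (Option (O × ZMod r)) = Fintype.card (Q ⧸ C) := by
    rw [Fintype.card_option, Fintype.card_congr (Equiv.ofBijective e0 he0), Fintype.card_subtype_compl,
      Fintype.card_subtype_eq]
    have : 0 < Fintype.card (Q ⧸ C) := Fintype.card_pos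
    omega
  have hli : LinearIndependent k (fun x : Q ⧸ C => ρ x.out) := by
    rw [Fintype.linearIndependent_iff]
    intro c hc x0
    have h1 : ∑ b : Q, ρ b * ((∑ x, c x • ρ x.out) * ρ (x0.out)⁻¹) * ρ b⁻¹ = 0 := by rw [hc]; simp
    simp only [Finset.sum_mul, Finset.mul_sum, smul_mul_assoc, mul_smul_comm, ← map_mul] at h1
    rw [Finset.sum_comm] at h1
    simp only [← Finset.smul_sum] at h1
    rw [Finset.sum_eq_single x0 (fun x _ hx => by
      rw [sum_conj_eq_zero ρ (hnd _ fun hmem => hx ?_), smul_zero]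
      rw [← QuotientGroup.out_eq' x, ← QuotientGroup.out_eq' x0, eq_comm, ← mul_inv_eq_one, eq_comm]
      rw [← QuotientGroup.mk_inv, ← QuotientGroup.mk_mul, eq_comm, QuotientGroup.eq_one_iff]
      simpa using inv_mem hmem) (by simp)] at h1
    simp [Finset.sum_const, ← Nat.cast_smul_eq_nsmul k, hQ0] at h1
    exact h1
  have hfin : Module.finrank k (Module.End k W) = Fintype.card (Option (O × ZMod r)) := by
    refine le_antisymm ?_ (hcardI ▸ hli.fintype_card_le_finrank)
    rw [← finrank_top k, ← top_le_iff.mp hvspan]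
    exact (finrank_range_le_card v)
  let bV := basisOfTopLeSpanOfCardEqFinrank v hvspan hfin.symm
  have hbV : ∀ i, bV i = v i := fun i => by simp [bV]
  let bE := bW.end
  have hbE : ∀ st : B × B, L (bE st) = χ (φ st.1 - φ st.2) • bE st := by
    rintro ⟨s, t⟩
    refine hL _ _ (bW.ext fun w => ?_)
    simp only [Module.End.mul_apply, LinearMap.smul_apply]
    rw [hbW w, hφ w, ← hbW w, map_smul]
    change D (bW.linearMap bW (s, t) (bW w)) = _ • _ • bW.linearMap bW (s, t) (bW w)
    rw [Module.Basis.linearMap_apply_apply, smul_smul]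
    split_ifs with h
    · subst h
      rw [hbW, hφ, ← hχadd, sub_add_cancel]
    · simp
  have hcount : ∀ l : ZMod r, Fintype.card {st : B × B // φ st.1 - φ st.2 = l} =
      Fintype.card {i : Option (O × ZMod r) // μ i = l} := by
    intro l
    have h1 := finrank_eigenspace_eq_card bE L (fun st => χ (φ st.1 - φ st.2)) hbE (χ l)
    have h2 := finrank_eigenspace_eq_card bV L (fun i => χ (μ i)) (fun i => by rw [hbV]; exact hv i) (χ l)
    rw [h1] at h2
    simpa [hχinj.eq_iff] using h2
  set a : ZMod r → ℕ := fun j => (Finset.univ.filter fun s => φ s = j).card with ha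
  have hA : ∀ l, Fintype.card {st : B × B // φ st.1 - φ st.2 = l} = ∑ j, a j * a (j + l) := by
    intro l
    rw [Fintype.card_subtype, Finset.card_filter, Fintype.sum_prod_type_right]
    simp only [sub_eq_iff_eq_add, add_comm l]
    simp only [← Finset.card_filter]
    change ∑ t, a (φ t + l) = _
    rw [← Finset.sum_fiberwise' Finset.univ φ (fun j => a (j + l))]
    simp [ha]
  have hR : ∀ l : ZMod r, Fintype.card {i : Option (O × ZMod r) // μ i = l} =
      (if l = 0 then 1 else 0) + Fintype.card O := by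
    intro l
    rw [Fintype.card_subtype, Finset.card_filter, Fintype.sum_option, Fintype.sum_prod_type]
    simp [μ, eq_comm]
  have hsum : ∑ j, a j = Fintype.card B := by
    simp only [ha]
    exact (Finset.card_eq_sum_card_fiberwise (f := φ) (s := Finset.univ) (t := Finset.univ) (by simp)).symm
  have hnn : Fintype.card B * Fintype.card B = Fintype.card (Q ⧸ C) := by
    rw [← hcardI, ← hfin, Module.finrank_eq_card_basis bE, Fintype.card_prod]
  have hidx : Fintype.card (Q ⧸ C) = C.index := by rw [Subgroup.index_eq_card, Nat.card_eq_fintype_card]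
  refine counts_pos hr a (Fintype.card O) ?_ ?_ ?_ ?_ ?_ j0 ?_
  · rw [← hA 0, hcount, hR, if_pos rfl, add_comm]
  · intro l hl
    rw [← hA l, hcount, hR, if_neg hl, zero_add]
  · rw [hsum, hnn, ← hcardI, Fintype.card_option, Fintype.card_prod, ZMod.card, mul_comm]
  · rw [hsum]
    refine (Nat.odd_mul.mp (?_ : Odd (Fintype.card B * Fintype.card B))).1
    rw [hnn, hidx]
    exact hQodd.of_dvd_nat C.index_dvd_card
  · rw [hsum]
    intro e
    refine hC (Subgroup.index_eq_one.mp ?_)
    rw [← hidx, ← hnn, e]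
  · simp only [ha, Finset.card_eq_zero, Finset.filter_eq_empty_iff]
    exact fun s _ => hφ0 s

end Cfsg.Agent.OddLocal
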