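import Cfsg.Agent.Lib.OddLocal.RankTwo
import Cfsg.Agent.Lib.OddLocal.UniqueI
import Cfsg.Agent.Lib.OddLocal.Transitivity

/-! The fusion of `p`-subgroups of a maximal subgroup for `p ∈ σ(M)` (BG 10.1). -/

set_option autoImplicit false

namespace Cfsg.Agent.OddLocal

variable {G : Type*} [Group G]

theorem normalizer_coatom (hG : IsMinSimpleOddOrder G) {M : Subgroup G} (hM : IsCoatom M) :
    Subgroup.normalizer (M : Set G) = M := by
  have := hG.2.1
  refine (hM.le_iff.mp Subgroup.le_normalizer).resolve_left fun h => ?_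
  rcases IsSimpleGroup.eq_bot_or_eq_top_of_normal M (Subgroup.normalizer_eq_top_iff.mp h) with e | e
  · obtain ⟨x, hx⟩ := exists_ne (1 : G)
    have h1 : Subgroup.zpowers x = ⊤ := hM.2 _ (bot_lt_iff_ne_bot.mpr (by simpa using hx) |> (e ▸ ·))
    exact ne_top_of_isMulCommutative hG (A := Subgroup.zpowers x) inferInstance h1
  · exact hM.1 e

theorem map_conj_one (H : Subgroup G) : H.map (MulAut.conj (1 : G)).toMonoidHom = H := by
  ext x
  simp [mem_map_conj_iff]

theorem map_conj_eq_self {M : Subgroup G} {g : G} (h : g ∈ M) : M.map (MulAut.conj g).toMonoidHom = M := by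
  ext x
  rw [mem_map_conj_iff, Subgroup.mul_mem_cancel_right _ h, Subgroup.mul_mem_cancel_left _ (inv_mem h)]

theorem mem_of_map_conj_eq (hG : IsMinSimpleOddOrder G) {M : Subgroup G} (hM : IsCoatom M) {g : G}
    (h : M.map (MulAut.conj g).toMonoidHom = M) : g ∈ M := by
  rw [← normalizer_coatom hG hM, Subgroup.mem_normalizer_iff]
  intro y
  constructor <;> intro hy
  · exact h ▸ ⟨y, hy, rfl⟩
  · have h1 := h.symm ▸ hy
    rw [mem_map_conj_iff] at h1
    simpa [mul_assoc] using h1

theorem inv_mul_mem_of_map_conj_eq (hG : IsMinSimpleOddOrder G) {M : Subgroup G} (hM : IsCoatom M) {g k : G}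
    (h : M.map (MulAut.conj g).toMonoidHom = M.map (MulAut.conj k).toMonoidHom) : k⁻¹ * g ∈ M := by
  refine mem_of_map_conj_eq hG hM ?_
  rw [← map_conj_map_conj, h, map_conj_map_conj, inv_mul_cancel, map_conj_one]

theorem map_conj_le_map_conj {H K : Subgroup G} (g : G) (h : H ≤ K) :
    H.map (MulAut.conj g).toMonoidHom ≤ K.map (MulAut.conj g).toMonoidHom := Subgroup.map_mono h

theorem le_map_conj_iff {X M : Subgroup G} {g : G} :
    X ≤ M.map (MulAut.conj g).toMonoidHom ↔ X.map (MulAut.conj g⁻¹).toMonoidHom ≤ M := by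
  constructor <;> intro h
  · exact (map_conj_le_map_conj _ h).trans (by rw [map_conj_map_conj, inv_mul_cancel, map_conj_one])
  · exact (by rw [map_conj_map_conj, mul_inv_cancel, map_conj_one] :
      X ≤ (X.map (MulAut.conj g⁻¹).toMonoidHom).map (MulAut.conj g).toMonoidHom).trans (map_conj_le_map_conj _ h)

variable [Finite G] {p : ℕ} [hp : Fact p.Prime]

theorem isCoatom_map_conj {M : Subgroup G} (hM : IsCoatom M) (g : G) :
    IsCoatom (M.map (MulAut.conj g).toMonoidHom) :=
  (OrderIso.isCoatom_iff (MulAut.conj g).mapSubgroup M).mpr hM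

omit [Finite G] hp in
/-- A `p`-subgroup properly contained in a larger one has a larger normalizer there. -/
theorem lt_inf_normalizer {X S : Subgroup G} [Group.IsNilpotent S] (h : X < S) :
    X < S ⊓ Subgroup.normalizer (X : Set G) := by
  have h2 := Group.normalizerCondition_of_isNilpotent (G := S) (X.subgroupOf S)
    (lt_top_iff_ne_top.mpr fun ht => h.not_ge (Subgroup.subgroupOf_eq_top.mp ht))
  obtain ⟨x, hx, hxX⟩ := SetLike.exists_of_lt h2
  refine lt_of_le_of_ne (le_inf h.le Subgroup.le_normalizer) fun he => hxX ?_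
  rw [Subgroup.mem_subgroupOf, he]
  rw [← Subgroup.subgroupOf_normalizer_eq h.le] at hx
  exact ⟨x.2, hx⟩

/-- For `p ∈ σ(M)` the normalizer of each Sylow `p`-subgroup of `M` lies in `M`. -/
theorem sigma_normalizer_le (hG : IsMinSimpleOddOrder G) {M : Subgroup G} (hM : IsCoatom M)
    (h : p ∈ Cfsg.sigma M) (S : Sylow p M) :
    Subgroup.normalizer (((S : Subgroup M).map M.subtype : Subgroup G) : Set G) ≤ M := by
  obtain ⟨-, -, P, hP⟩ := h
  obtain ⟨m, hm⟩ := MulAction.exists_smul_eq M P S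
  intro g hg
  have e : (S : Subgroup M).map M.subtype =
      ((P : Subgroup M).map M.subtype).map (MulAut.conj (m : G)).toMonoidHom := by
    rw [← hm, Subgroup.map_map]
    change ((P : Subgroup M).map (MulAut.conj m).toMonoidHom).map M.subtype = _
    rw [Subgroup.map_map]
    rfl
  rw [e, ← Subgroup.map_equiv_normalizer_eq, MulEquiv.toMonoidHom_eq_coe] at hg
  obtain ⟨y, hy, rfl⟩ := hg
  exact mul_mem (mul_mem m.2 (hP hy)) (inv_mem m.2)

theorem sigma_ne_bot {M : Subgroup G} (h : p ∈ Cfsg.sigma M) (S : Sylow p M) :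
    (S : Subgroup M).map M.subtype ≠ ⊥ := fun e =>
  Sylow.ne_bot_of_dvd_card S h.2.1 ((Subgroup.map_eq_bot_iff_of_injective _ M.subtype_injective).mp e)

/-- For `p ∈ σ(M)` a Sylow `p`-subgroup of `M` is one of `G`. -/
theorem sigma_sylow (hG : IsMinSimpleOddOrder G) {M : Subgroup G} (hM : IsCoatom M)
    (h : p ∈ Cfsg.sigma M) (S : Sylow p M) : ∃ P : Sylow p G, (P : Subgroup G) = (S : Subgroup M).map M.subtype := by
  obtain ⟨P, hP⟩ := (S.2.map M.subtype).exists_le_sylow
  refine ⟨P, le_antisymm ?_ hP⟩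
  by_contra hne
  have : Group.IsNilpotent (P : Subgroup G) := P.2.isNilpotent
  obtain ⟨x, hx, hxS⟩ := SetLike.exists_of_lt (lt_inf_normalizer (lt_of_le_not_ge hP hne))
  have hxM : x ∈ M := sigma_normalizer_le hG hM h S hx.2
  have h1 : ((P : Subgroup G).subgroupOf M) = S :=
    S.3 P.2.comap_subtype fun s hs => hP ⟨s, hs, rfl⟩
  exact hxS ⟨⟨x, hxM⟩, h1 ▸ hx.1, rfl⟩

theorem sylow_normalizer_le (hG : IsMinSimpleOddOrder G) {M : Subgroup G} (hM : IsCoatom M)
    (h : p ∈ Cfsg.sigma M) {P : Sylow p G} (hP : (P : Subgroup G) ≤ M) :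
    Subgroup.normalizer ((P : Subgroup G) : Set G) ≤ M := by
  have e := Subgroup.subgroupOf_map_subtype (P : Subgroup G) M
  rw [inf_eq_left.mpr hP] at e
  have := sigma_normalizer_le hG hM h (P.subtype hP)
  rwa [Sylow.coe_subtype, e] at this

theorem exists_conj_ge (hG : IsMinSimpleOddOrder G) {M : Subgroup G} (hM : IsCoatom M) (h : p ∈ Cfsg.sigma M)
    {X : Subgroup G} (hX : IsPGroup p X) : ∃ g : G, X ≤ M.map (MulAut.conj g).toMonoidHom := by
  obtain ⟨S⟩ : Nonempty (Sylow p M) := inferInstance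
  obtain ⟨P, hP⟩ := sigma_sylow hG hM h S
  obtain ⟨Q, hQ⟩ := hX.exists_le_sylow
  obtain ⟨g, hg⟩ := MulAction.exists_smul_eq G P Q
  refine ⟨g, hQ.trans ?_⟩
  rw [← hg]
  exact map_conj_le_map_conj g (hP ▸ Subgroup.map_subtype_le _)

/-- In `N = N_G(X)` the centralizer of `X` and the part inside a conjugate generate. -/
theorem normalizer_decomp (hG : IsMinSimpleOddOrder G) {M : Subgroup G} (hM : IsCoatom M)
    {X : Subgroup G} (hXp : IsPGroup p X) (hX1 : X ≠ ⊥)
    {N : Subgroup G} (hN : N = Subgroup.normalizer (X : Set G)) (R : Sylow p N)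
    (hRM : (R : Subgroup N).map N.subtype ≤ M)
    (hR : ∀ a ∈ N,
      a ∈ Subgroup.normalizer (((R : Subgroup N).map N.subtype : Subgroup G) : Set G) →
        ∃ c ∈ Subgroup.centralizer (X : Set G), c⁻¹ * a ∈ M) :
    ∀ n ∈ N, ∃ c ∈ Subgroup.centralizer (X : Set G), c⁻¹ * n ∈ M := by
  have hNt : N ≠ ⊤ := hN ▸ normalizer_ne_top hG hX1 (pGroup_ne_top hG hXp)
  have hXN : X ≤ N := hN ▸ Subgroup.le_normalizer
  by_cases hr : PRankLE p 2 N
  · have hsol : Group.IsSolvable N := isSolvable_of_ne_top hG hNt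
    have hodd := odd_card_subgroup hG N
    obtain ⟨k, hk⟩ := IsPGroup.iff_card.mp hXp
    have hpX : p ∣ Nat.card X := by
      rcases Nat.eq_zero_or_pos k with rfl | hk0
      · exact absurd (Subgroup.card_eq_one.mp (by simpa using hk)) hX1
      · exact hk ▸ dvd_pow_self p hk0.ne'
    have hp2 : p ≠ 2 := prime_ne_two hG (hpX.trans X.card_subgroup_dvd_card)
    obtain ⟨-, hS⟩ := quotient_structure hodd hp2 hr
    set O := Cfsg.pPrimeCore p N with hO
    have hsurj := QuotientGroup.mk'_surjective O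
    have e := hS (R.mapSurjective hsurj)
    have hRO : ((R : Subgroup N) ⊔ O).Normal := by
      have h1 : ((R : Subgroup N).map (QuotientGroup.mk' O)).comap (QuotientGroup.mk' O) = (R : Subgroup N) ⊔ O := by
        rw [Subgroup.comap_map_eq, QuotientGroup.ker_mk']
      rw [← h1, show (R : Subgroup N).map (QuotientGroup.mk' O) = Cfsg.pCore p (N ⧸ O) from e]
      infer_instance
    have htop := Sylow.normalizer_sup_eq_top' R (N := (R : Subgroup N) ⊔ O) le_sup_left
    have htop' : Subgroup.normalizer ((R : Subgroup N) : Set N) ⊔ O = ⊤ := by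
      rw [eq_top_iff, ← htop]
      exact sup_le le_sup_left (sup_le (Subgroup.le_normalizer.trans le_sup_left) le_sup_right)
    intro n hn
    obtain ⟨o, ho, a, ha, hoa⟩ := Subgroup.mem_sup_of_normal_left.mp
      (show (⟨n, hn⟩ : N) ∈ O ⊔ Subgroup.normalizer ((R : Subgroup N) : Set N) by
        rw [sup_comm, htop']; exact Subgroup.mem_top _)
    have hoX : (o : G) ∈ Subgroup.centralizer (X : Set G) := by
      rw [Subgroup.mem_centralizer_iff]
      intro x hx
      have hXn : (X.subgroupOf N).Normal :=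
        (Subgroup.normal_subgroupOf_iff_le_normalizer hXN).mpr hN.le
      have hd : Disjoint (X.subgroupOf N) O := by
        rw [disjoint_iff]
        refine Subgroup.inf_eq_bot_of_coprime ?_
        rw [Basics.card_subgroupOf hXN, hk]
        exact (Basics.pPrimeCore_coprime (G := N) p).symm.pow_left k
      exact congrArg Subtype.val (Subgroup.commute_of_normal_of_disjoint _ _ hXn inferInstance hd
        ⟨x, hXN hx⟩ o hx ho).eq
    have haG : (a : G) ∈ Subgroup.normalizer (((R : Subgroup N).map N.subtype : Subgroup G) : Set G) :=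
      Subgroup.le_normalizer_map N.subtype ⟨a, ha, rfl⟩
    obtain ⟨c, hc, hca⟩ := hR a a.2 haG
    refine ⟨(o : G) * c, mul_mem hoX hc, ?_⟩
    have e1 : (o : G) * a = n := congrArg Subtype.val hoa
    rw [← e1]
    convert hca using 1
    group
  · obtain ⟨E, hEN, hE, hE3⟩ := pRankLE_not_iff hr
    obtain ⟨S, hS⟩ := ((isPGroup_of_exponent hE.2).comap_subtype (K := N)).exists_le_sylow
    obtain ⟨g, hg⟩ := MulAction.exists_smul_eq N S R
    have hE' : E.map (MulAut.conj (g : G)).toMonoidHom ≤ (R : Subgroup N).map N.subtype := by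
      rintro _ ⟨x, hx, rfl⟩
      refine ⟨g * ⟨x, hEN hx⟩ * g⁻¹, hg ▸ ⟨⟨x, hEN hx⟩, hS hx, rfl⟩, rfl⟩
    have hU := inUniqueMaximal_of_rank_three hG (ea_map hE (MulAut.conj (g : G)).toMonoidHom)
      (by rwa [Subgroup.card_map_of_injective (MulAut.conj (g : G)).injective])
    obtain ⟨L, hL, hNL⟩ := exists_maximal_ge hNt
    have hLM : L = M := hU.unique ⟨hL, hE'.trans ((Subgroup.map_subtype_le _).trans hNL)⟩ ⟨hM, hE'.trans hRM⟩
    intro n hn
    exact ⟨1, one_mem _, by simpa using (hLM ▸ hNL) hn⟩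

/-- BG 10.1 (a): conjugates of `M` containing a nontrivial `p`-subgroup `X` are conjugate under `C(X)`. -/
theorem sigma_transitive (hG : IsMinSimpleOddOrder G) {M : Subgroup G} (hM : IsCoatom M) (h : p ∈ Cfsg.sigma M) :
    ∀ (n : ℕ) (X : Subgroup G), IsPGroup p X → X ≠ ⊥ → Nat.card G ≤ Nat.card X + n → X ≤ M →
      ∀ g : G, X ≤ M.map (MulAut.conj g).toMonoidHom →
        ∃ c ∈ Subgroup.centralizer (X : Set G), c⁻¹ * g ∈ M := by
  intro n
  induction n with
  | zero =>
    intro X hXp _ hn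
    exact absurd (Subgroup.eq_top_of_le_card _ (by simpa using hn)) (pGroup_ne_top hG hXp)
  | succ n ih =>
    intro X hXp hX1 hn hXM g hXg
    obtain ⟨P, hP⟩ := (hXp.comap_subtype (K := M)).exists_le_sylow
    obtain ⟨PG, hPG⟩ := sigma_sylow hG hM h P
    have hXP : X ≤ (PG : Subgroup G) := hPG ▸ fun x hx => ⟨⟨x, hXM hx⟩, hP hx, rfl⟩
    have hPM : (PG : Subgroup G) ≤ M := hPG ▸ Subgroup.map_subtype_le _
    have hXM' : X.map (MulAut.conj g⁻¹).toMonoidHom ≤ M := le_map_conj_iff.mp hXg
    obtain ⟨P', hP'⟩ := ((hXp.map (MulAut.conj g⁻¹).toMonoidHom).comap_subtype (K := M)).exists_le_sylow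
    obtain ⟨PG', hPG'⟩ := sigma_sylow hG hM h P'
    have hXP' : X.map (MulAut.conj g⁻¹).toMonoidHom ≤ (PG' : Subgroup G) :=
      hPG' ▸ fun x hx => ⟨⟨x, hXM' hx⟩, hP' hx, rfl⟩
    have hPM' : (PG' : Subgroup G) ≤ M := hPG' ▸ Subgroup.map_subtype_le _
    rcases hXP.eq_or_lt with hXeq | hlt
    · -- `X` is a Sylow subgroup
      have he : X.map (MulAut.conj g⁻¹).toMonoidHom = PG' := by
        refine Subgroup.eq_of_le_of_card_ge hXP' ?_
        rw [Subgroup.card_map_of_injective (MulAut.conj g⁻¹).injective, hXeq]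
        exact (Nat.card_congr (Sylow.equiv PG' PG).toEquiv).le
      obtain ⟨m, hm⟩ := MulAction.exists_smul_eq M (PG'.subtype hPM') (PG.subtype hPM)
      have hm' : (PG' : Subgroup G).map (MulAut.conj (m : G)).toMonoidHom = PG := by
        have := congrArg (fun S : Sylow p M => (S : Subgroup M).map M.subtype) hm
        simp only [Sylow.coe_subtype, Subgroup.subgroupOf_map_subtype, inf_eq_left.mpr hPM] at this
        rw [← this]
        change _ = (((PG' : Subgroup G).subgroupOf M).map (MulAut.conj m).toMonoidHom).map M.subtype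
        rw [Subgroup.map_map, ← inf_eq_left.mpr hPM', ← Subgroup.subgroupOf_map_subtype, Subgroup.map_map,
          Subgroup.subgroupOf_map_subtype, inf_eq_left.mpr hPM']
        rfl
      have hN : (m : G) * g⁻¹ ∈ Subgroup.normalizer ((PG : Subgroup G) : Set G) := by
        rw [← he, map_conj_map_conj, hXeq] at hm'
        rw [Subgroup.mem_normalizer_iff]
        intro y
        constructor <;> intro hy
        · exact hm' ▸ ⟨y, hy, rfl⟩
        · have h1 := hm'.symm ▸ hy
          rw [mem_map_conj_iff] at h1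
          simpa [mul_assoc] using h1
      exact ⟨1, one_mem _, by simpa using (Subgroup.mul_mem_cancel_left M m.2).mp (sylow_normalizer_le hG hM h hPM hN)⟩
    · set N := Subgroup.normalizer (X : Set G) with hN
      -- enlarge `X` on both sides
      have grow : ∀ Q : Subgroup G, IsPGroup p Q → X < Q → X < Q ⊓ N := fun Q hQ hlt => by
        have : Group.IsNilpotent Q := hQ.isNilpotent
        exact lt_inf_normalizer hlt
      have hR0 := grow _ PG.2 hlt
      have hlt' : X < (PG' : Subgroup G).map (MulAut.conj g).toMonoidHom := by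
        refine lt_of_le_of_ne (le_map_conj_iff.mpr hXP') fun e => hlt.ne ?_
        refine Subgroup.eq_of_le_of_card_ge hXP ?_
        rw [e, Subgroup.card_map_of_injective (MulAut.conj g).injective]
        exact (Nat.card_congr (Sylow.equiv PG PG').toEquiv).le
      have hR0' := grow _ (PG'.2.map _) hlt'
      set R0 := (PG : Subgroup G) ⊓ N
      set R0' := (PG' : Subgroup G).map (MulAut.conj g).toMonoidHom ⊓ N
      obtain ⟨R1, hR1⟩ := (PG.2.to_inf_left (K := N) |>.comap_subtype (K := N)).exists_le_sylow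
      obtain ⟨R2, hR2⟩ := ((PG'.2.map (MulAut.conj g).toMonoidHom).to_inf_left (K := N) |>.comap_subtype
        (K := N)).exists_le_sylow
      set R := (R1 : Subgroup N).map N.subtype with hR
      have hR0R : R0 ≤ R := fun x hx => ⟨⟨x, hx.2⟩, hR1 hx, rfl⟩
      obtain ⟨v, hv⟩ := MulAction.exists_smul_eq N R2 R1
      have hR0'R : R0'.map (MulAut.conj (v : G)).toMonoidHom ≤ R := by
        rintro _ ⟨x, hx, rfl⟩
        exact ⟨v * ⟨x, hx.2⟩ * v⁻¹, hv ▸ ⟨⟨x, hx.2⟩, hR2 hx, rfl⟩, rfl⟩
      obtain ⟨k, hk⟩ := exists_conj_ge hG hM h (R1.2.map N.subtype)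
      -- step one: `M` and the conjugate containing `R`
      have card_gt : ∀ Q : Subgroup G, X < Q → Nat.card G ≤ Nat.card Q + n := fun Q hQ => by
        have := Basics.card_lt_of_lt hQ
        omega
      have hXR : X < R := hR0.trans_le hR0R
      obtain ⟨c, hc, hck⟩ := ih R0 PG.2.to_inf_left (ne_bot_of_le_ne_bot hX1 hR0.le) (card_gt _ hR0)
        (inf_le_left.trans hPM) k (hR0R.trans hk)
      have hcX : c ∈ Subgroup.centralizer (X : Set G) := Subgroup.centralizer_le hR0.le hc
      have hRc : R ≤ M.map (MulAut.conj c).toMonoidHom := by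
        have e : k = c * (c⁻¹ * k) := by group
        rw [hR]
        refine hk.trans (le_of_eq ?_)
        conv_lhs => rw [e, ← map_conj_map_conj, map_conj_eq_self hck]
      -- step two: the conjugate containing `R` and `(v g) M`
      set R'' := R0'.map (MulAut.conj (c⁻¹ * (v : G))).toMonoidHom with hR''
      have hXv : X.map (MulAut.conj (v : G)).toMonoidHom = X := by
        ext y
        rw [mem_map_conj_iff]
        have := Subgroup.mem_normalizer_iff'.mp v.2
        rw [Subgroup.mem_normalizer_iff.mp (inv_mem v.2) y, inv_inv]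
      have hcconj : ∀ d ∈ Subgroup.centralizer (X : Set G), X.map (MulAut.conj d).toMonoidHom = X := fun d hd => by
        ext y
        rw [mem_map_conj_iff]
        have := Subgroup.mem_normalizer_iff.mp (inv_mem (Subgroup.centralizer_le_normalizer (X : Set G) hd)) y
        rw [this, inv_inv]
      have hXR'' : X < R'' := by
        rw [hR'', ← map_conj_map_conj]
        have h1 := (Subgroup.map_lt_map_iff_of_injective (f := (MulAut.conj (v : G)).toMonoidHom) (MulAut.conj (v : G)).injective).mpr hR0'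
        rw [hXv] at h1
        have h2 := (Subgroup.map_lt_map_iff_of_injective (f := (MulAut.conj c⁻¹).toMonoidHom) (MulAut.conj c⁻¹).injective).mpr h1
        rwa [hcconj _ (inv_mem hcX)] at h2
      have hR''M : R'' ≤ M := by
        rw [hR'', ← map_conj_map_conj]
        exact le_map_conj_iff.mp (hR0'R.trans hRc)
      obtain ⟨d, hd, hdM⟩ := ih R'' ((PG'.2.map _).to_inf_left.map _) (ne_bot_of_le_ne_bot hX1 hXR''.le)
        (card_gt _ hXR'') hR''M (c⁻¹ * (v : G) * g) (by
          rw [hR'']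
          refine (map_conj_le_map_conj _ (inf_le_left.trans (map_conj_le_map_conj g hPM'))).trans ?_
          rw [map_conj_map_conj])
      have hdX : d ∈ Subgroup.centralizer (X : Set G) := Subgroup.centralizer_le hXR''.le hd
      -- step three: `N = C(X) (N ∩ c M c⁻¹)`
      have hdec := normalizer_decomp hG (isCoatom_map_conj hM c) hXp hX1 hN R1 hRc (fun a _ haR => by
        have hRa : R.map (MulAut.conj c⁻¹).toMonoidHom ≤ M := le_map_conj_iff.mp hRc
        obtain ⟨e, he, heM⟩ := ih (R.map (MulAut.conj c⁻¹).toMonoidHom) ((R1.2.map _).map _)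
          (ne_bot_of_le_ne_bot hX1 (by
            rw [← hcconj _ (inv_mem hcX)]
            exact map_conj_le_map_conj _ hXR.le))
          (card_gt _ (by
            have h2 := (Subgroup.map_lt_map_iff_of_injective (f := (MulAut.conj c⁻¹).toMonoidHom) (MulAut.conj c⁻¹).injective).mpr hXR
            rwa [hcconj _ (inv_mem hcX)] at h2))
          hRa (c⁻¹ * a * c) (by
            rw [le_map_conj_iff, map_conj_map_conj, show (c⁻¹ * a * c)⁻¹ * c⁻¹ = c⁻¹ * a⁻¹ by group,
              ← map_conj_map_conj R a⁻¹ c⁻¹]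
            refine le_trans (le_of_eq (congrArg (fun Q : Subgroup G => Q.map (MulAut.conj c⁻¹).toMonoidHom) ?_)) hRa
            ext y
            rw [mem_map_conj_iff, inv_inv]
            exact (Subgroup.mem_normalizer_iff.mp haR y).symm)
        have heX : e ∈ Subgroup.centralizer (X : Set G) := by
          refine Subgroup.centralizer_le ?_ he
          rw [← hcconj _ (inv_mem hcX)]
          exact map_conj_le_map_conj _ hXR.le
        refine ⟨c * e * c⁻¹, mul_mem (mul_mem hcX heX) (inv_mem hcX), ?_⟩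
        rw [mem_map_conj_iff]
        convert heM using 1
        group)
      obtain ⟨u, hu, huM⟩ := hdec (v : G)⁻¹ (inv_mem v.2)
      rw [mem_map_conj_iff] at huM
      -- assemble
      have hvN : c * d * c⁻¹ ∈ Subgroup.centralizer (X : Set G) := mul_mem (mul_mem hcX hdX) (inv_mem hcX)
      have hconj : (v : G)⁻¹ * (c * d * c⁻¹) * v ∈ Subgroup.centralizer (X : Set G) := by
        rw [Subgroup.mem_centralizer_iff]
        intro x hx
        have hx' : (v : G) * x * (v : G)⁻¹ ∈ X := (Subgroup.mem_normalizer_iff.mp v.2 x).mp hx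
        calc x * ((v : G)⁻¹ * (c * d * c⁻¹) * v)
            = (v : G)⁻¹ * ((v * x * (v : G)⁻¹) * (c * d * c⁻¹)) * v := by group
          _ = (v : G)⁻¹ * ((c * d * c⁻¹) * (v * x * (v : G)⁻¹)) * v := by
            rw [Subgroup.mem_centralizer_iff.mp hvN _ hx']
          _ = (v : G)⁻¹ * (c * d * c⁻¹) * v * x := by group
      refine ⟨(v : G)⁻¹ * (c * d * c⁻¹) * v * u * c, mul_mem (mul_mem hconj hu) hcX, ?_⟩
      have : ((v : G)⁻¹ * (c * d * c⁻¹) * v * u * c)⁻¹ * g =
          (c⁻¹ * (u⁻¹ * (v : G)⁻¹) * c) * (d⁻¹ * (c⁻¹ * v * g)) := by group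
      rw [this]
      exact mul_mem huM hdM

/-- BG 10.1: fusion in `M`. -/
theorem sigma_fusion (hG : IsMinSimpleOddOrder G) {M : Subgroup G} (hM : IsCoatom M) (h : p ∈ Cfsg.sigma M)
    {X : Subgroup G} (hXp : IsPGroup p X) (hX1 : X ≠ ⊥) (hXM : X ≤ M) {g : G}
    (hg : X.map (MulAut.conj g).toMonoidHom ≤ M) :
    ∃ m ∈ M, ∃ c ∈ Subgroup.centralizer (X : Set G), g = m * c := by
  obtain ⟨c, hc, hcg⟩ := sigma_transitive hG hM h (Nat.card G) X hXp hX1 (by omega) hXM g⁻¹
    (le_map_conj_iff.mpr (by rwa [inv_inv]))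
  exact ⟨(c⁻¹ * g⁻¹)⁻¹, inv_mem hcg, c⁻¹, inv_mem hc, by group⟩

end Cfsg.Agent.OddLocal
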