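import Cfsg.Agent.Lib.OddLocal.Weights
import Cfsg.Agent.Lib.OddLocal.Pencil
import Cfsg.Agent.Lib.OddLocal.Sigma
import Cfsg.Agent.Lib.Coprime23.Omega

/-! The Frobenius case in BG 3.6: a `p`-group inverted freely by an element with at most `p` fixed vectors. -/

set_option autoImplicit false
set_option maxHeartbeats 1600000

namespace Cfsg.Agent.OddLocal

open scoped commutatorElement IsMulCommutative

universe u

variable {G : Type u} [Group G] [Finite G]

theorem conj_mem_commutator {H K : Subgroup G} {g : G} (hH : g ∈ Subgroup.normalizer (H : Set G))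
    (hK : g ∈ Subgroup.normalizer (K : Set G)) : g ∈ Subgroup.normalizer ((⁅H, K⁆ : Subgroup G) : Set G) := by
  refine mem_normalizer_of_conj_mem fun a ha => ?_
  have h : (⁅H, K⁆).map (MulAut.conj g).toMonoidHom ≤ ⁅H, K⁆ := by
    rw [Subgroup.map_commutator]
    refine Subgroup.commutator_mono ?_ ?_
    · rintro _ ⟨x, hx, rfl⟩; exact (Subgroup.mem_normalizer_iff.mp hH x).mp hx
    · rintro _ ⟨x, hx, rfl⟩; exact (Subgroup.mem_normalizer_iff.mp hK x).mp hx
  exact h ⟨a, ha, rfl⟩

theorem centralizes_zpowers {t x : G} (h : t * x = x * t) : x ∈ Subgroup.centralizer (Subgroup.zpowers t : Set G) := by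
  rw [Subgroup.mem_centralizer_iff]
  rintro y ⟨n, rfl⟩
  exact ((show Commute t x from h).zpow_left n).eq

theorem eq_of_mem_centralizer_zpowers {t x : G} (h : x ∈ Subgroup.centralizer (Subgroup.zpowers t : Set G)) :
    t * x = x * t := Subgroup.mem_centralizer_iff.mp h t (Subgroup.mem_zpowers t)

/-- A representation over an algebraically closed field attached to an elementary abelian subgroup. -/
theorem exists_rep {p r : ℕ} [hp : Fact p.Prime] [hr : Fact r.Prime] (hrp : r ≠ p) {V X : Subgroup G}
    (hV : IsElementaryAbelian p V) (hX : X ≤ Subgroup.normalizer (V : Set G)) {t : X} (htr : t ^ r = 1)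
    (hfix : Nat.card ↥(V ⊓ Subgroup.centralizer ({(t : G)} : Set G)) ≤ p) :
    ∃ (ι : Type u) (_ : Fintype ι) (ρ : X →* Module.End (AlgebraicClosure (ZMod p)) (ι → AlgebraicClosure (ZMod p)))
      (u : ι → AlgebraicClosure (ZMod p)), (∀ g : X, ρ g = 1 → (g : G) ∈ Subgroup.centralizer (V : Set G)) ∧
        ∀ v, ρ t v = v → v ∈ Submodule.span (AlgebraicClosure (ZMod p)) {u} := by
  classical
  have hVc : IsMulCommutative V := hV.1
  have hn : ∀ x : Additive V, p • x = 0 := fun x => by
    refine Additive.toMul.injective (Subtype.ext ?_)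
    rw [toMul_nsmul, Subgroup.coe_pow, hV.2 _ (Additive.toMul x).2]
    rfl
  have hmod : Nonempty (Module (ZMod p) (Additive V)) := ⟨AddCommGroup.zmodModule hn⟩
  obtain ⟨_⟩ := hmod
  have : Module.Finite (ZMod p) (Additive V) := Module.Finite.of_finite
  let act0 := zmodEnd p (conjEnd V)
  let act : X →* Module.End (ZMod p) (Additive V) := act0.comp (Subgroup.inclusion hX)
  set K := AlgebraicClosure (ZMod p)
  have : CharP K p := charP_of_injective_algebraMap (algebraMap (ZMod p) K).injective p
  let ι := Module.Free.ChooseBasisIndex (ZMod p) (Additive V)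
  let b := Module.Free.chooseBasis (ZMod p) (Additive V)
  let Φ : Module.End (ZMod p) (Additive V) →+* Module.End K (ι → K) :=
    (Matrix.toLinAlgEquiv' (R := K)).toRingEquiv.toRingHom.comp
      ((algebraMap (ZMod p) K).mapMatrix.comp (LinearMap.toMatrixAlgEquiv b).toRingEquiv.toRingHom)
  have hΦ : Function.Injective Φ := by
    intro x y h
    have h1 := (Matrix.toLinAlgEquiv' (R := K)).injective h
    have h2 : Function.Injective (fun M : Matrix ι ι (ZMod p) => M.map (algebraMap (ZMod p) K)) :=
      Matrix.map_injective (algebraMap (ZMod p) K).injective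
    exact (LinearMap.toMatrixAlgEquiv b).injective (h2 h1)
  have hr0 : (r : K) ≠ 0 := fun e => hrp ((Nat.prime_dvd_prime_iff_eq hp.out hr.out).mp
    ((CharP.cast_eq_zero_iff K p r).mp e)).symm
  set E := ∑ i ∈ Finset.range r, act (t ^ i)
  -- the fixed space is at most a line
  obtain ⟨u0, hu0⟩ : ∃ u0 : Additive V, ∀ x, act t x = x → ∃ c : ZMod p, x = c • u0 := by
    by_cases h : ∀ x, act t x = x → x = 0
    · exact ⟨0, fun x hx => ⟨0, by rw [h x hx, smul_zero]⟩⟩
    · push Not at h
      obtain ⟨u0, hu, hu0⟩ := h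
      refine ⟨u0, fun x hx => ?_⟩
      by_contra hne
      push Not at hne
      let F : Submodule (ZMod p) (Additive V) := LinearMap.ker (act t - 1)
      have hFmem : ∀ y, y ∈ F ↔ act t y = y := fun y => by simp [F, sub_eq_zero]
      have hFcard : Nat.card F ≤ p := by
        refine le_trans ?_ hfix
        refine Nat.card_le_card_of_injective
          (fun y : F => (⟨((Additive.toMul (y : Additive V) : V) : G), (Additive.toMul (y : Additive V)).2, ?_⟩ :
            ↥(V ⊓ Subgroup.centralizer ({(t : G)} : Set G)))) ?_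
        · refine Subgroup.mem_centralizer_singleton_iff.mpr ?_
          have h1 := coe_conjEnd_apply V (Subgroup.inclusion hX t) (y : Additive V)
          rw [show conjEnd V (Subgroup.inclusion hX t) (y : Additive V) = y from (hFmem _).mp y.2] at h1
          exact (eq_mul_inv_iff_mul_eq.mp h1)
        · intro y z e
          exact Subtype.ext (Additive.toMul.injective (Subtype.ext (congrArg (fun w => (w.1 : G)) e)))
      let g : ZMod p × ZMod p → F := fun cd => ⟨cd.1 • u0 + cd.2 • x,
        F.add_mem (F.smul_mem _ ((hFmem _).mpr hu)) (F.smul_mem _ ((hFmem _).mpr hx))⟩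
      have hg : Function.Injective g := by
        rintro ⟨c, d⟩ ⟨c', d'⟩ e
        have e1 : (d - d') • x = (c' - c) • u0 := by
          have := congrArg Subtype.val e
          simp only [g] at this
          linear_combination (norm := module) this
        have hd : d = d' := by
          by_contra hd
          refine hne ((d - d')⁻¹ * (c' - c)) ?_
          rw [← smul_smul, ← e1, inv_smul_smul₀ (sub_ne_zero.mpr hd)]
        subst hd
        rw [sub_self, zero_smul] at e1
        have := (smul_eq_zero.mp e1.symm).resolve_right hu0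
        rw [sub_eq_zero] at this
        rw [this]
      have h2 := (Nat.card_le_card_of_injective g hg).trans hFcard
      rw [Nat.card_prod, Nat.card_zmod] at h2
      exact absurd h2 (by nlinarith [hp.out.two_le])
  have hEfix : ∀ x, act t (E x) = E x := fun x => by
    have hr' : act t ^ r = 1 := by rw [← map_pow, htr, map_one]
    have := sum_pow_fixed act htr x
    simpa [E, LinearMap.sum_apply] using this
  refine ⟨ι, inferInstance, Φ.toMonoidHom.comp act, fun i => algebraMap (ZMod p) K (b.repr u0 i), fun g hg => ?_, fun v hv => ?_⟩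
  · have h1 : act g = 1 := hΦ ((show Φ (act g) = 1 from hg).trans (map_one Φ).symm)
    rw [Subgroup.mem_centralizer_iff]
    intro x hx
    have h2 := coe_conjEnd_apply V (Subgroup.inclusion hX g) (Additive.ofMul (⟨x, hx⟩ : V))
    rw [show conjEnd V (Subgroup.inclusion hX g) (Additive.ofMul (⟨x, hx⟩ : V)) = Additive.ofMul (⟨x, hx⟩ : V) from
      LinearMap.congr_fun h1 (Additive.ofMul (⟨x, hx⟩ : V))] at h2
    exact eq_mul_inv_iff_mul_eq.mp h2
  · have hpow : ∀ i : ℕ, Φ (act (t ^ i)) v = v := by
      intro i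
      induction i with
      | zero => rw [pow_zero, map_one, map_one, Module.End.one_apply]
      | succ i ih =>
        rw [pow_succ, map_mul, map_mul, Module.End.mul_apply, show Φ (act t) v = v from hv, ih]
    have h1 : Φ E v = (r : K) • v := by
      simp only [E, map_sum, LinearMap.sum_apply, hpow, Finset.sum_const, Finset.card_range, Nat.cast_smul_eq_nsmul]
    choose c hc using fun j => hu0 (E (b j)) (hEfix (b j))
    have h2 : Φ E v = (∑ j, algebraMap (ZMod p) K (c j) * v j) • fun i => algebraMap (ZMod p) K (b.repr u0 i) := by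
      funext i
      change (Matrix.toLinAlgEquiv' ((LinearMap.toMatrixAlgEquiv b E).map (algebraMap (ZMod p) K))) v i = _
      rw [Matrix.toLinAlgEquiv'_apply, Matrix.mulVec, dotProduct, Pi.smul_apply, smul_eq_mul, Finset.sum_mul]
      refine Finset.sum_congr rfl fun j _ => ?_
      rw [Matrix.map_apply, LinearMap.toMatrixAlgEquiv_apply, hc j, map_smul, Finsupp.smul_apply, smul_eq_mul, map_mul]
      ring
    rw [← inv_smul_smul₀ hr0 v, ← h1, h2, smul_smul]
    exact Submodule.smul_mem _ _ (Submodule.mem_span_singleton_self _)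

/-- A `p`-group on which `t` is fixed point free centralizes a `q`-group faithful on `V`. -/
theorem le_centralizer_of_small_fixed {p q r : ℕ} [hp : Fact p.Prime] [hq : Fact q.Prime] [hr : Fact r.Prime]
    (hqp : q ≠ p) (hrp : r ≠ p) (hqr : q ≠ r) (hp2 : p ≠ 2) (hq2 : q ≠ 2) (hr2 : r ≠ 2) {V P Q : Subgroup G} {t : G}
    (hV : IsElementaryAbelian p V) (hP : IsPGroup p P) (hQ : IsPGroup q Q)
    (hPV : P ≤ Subgroup.normalizer (V : Set G)) (hQV : Q ≤ Subgroup.normalizer (V : Set G))
    (htV : t ∈ Subgroup.normalizer (V : Set G)) (hPQ : P ≤ Subgroup.normalizer (Q : Set G))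
    (htQ : t ∈ Subgroup.normalizer (Q : Set G)) (htP : t ∈ Subgroup.normalizer (P : Set G)) (htr : t ^ r = 1)
    (hfree : ∀ a ∈ P, t * a = a * t → a = 1) (hQc : IsCyclic ↥(Q ⊓ Subgroup.centralizer ({t} : Set G)))
    (hfix : Nat.card ↥(V ⊓ Subgroup.centralizer ({t} : Set G)) ≤ p)
    (hfaith : Q ⊓ Subgroup.centralizer (V : Set G) = ⊥) : P ≤ Subgroup.centralizer (Q : Set G) := by
  by_contra hnot
  obtain ⟨Q0, ⟨hQ0Q, hPQ0, htQ0, hQ0n⟩, hmin⟩ := exists_minimal_of_wellFoundedLT
    (fun R : Subgroup G => R ≤ Q ∧ P ≤ Subgroup.normalizer (R : Set G) ∧ t ∈ Subgroup.normalizer (R : Set G) ∧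
      ¬ P ≤ Subgroup.centralizer (R : Set G)) ⟨Q, le_rfl, hPQ, htQ, hnot⟩
  have key : ∀ R : Subgroup G, R ≤ Q0 → R ≠ Q0 → P ≤ Subgroup.normalizer (R : Set G) →
      t ∈ Subgroup.normalizer (R : Set G) → P ≤ Subgroup.centralizer (R : Set G) := fun R hR hne h1 h2 =>
    by_contra fun h => hne (le_antisymm hR (hmin ⟨hR.trans hQ0Q, h1, h2, h⟩ hR))
  have hQ0p : IsPGroup q Q0 := hQ.to_le hQ0Q
  set T := Subgroup.zpowers t
  have hTcard : Nat.card T ∣ r := by rw [Nat.card_zpowers]; exact orderOf_dvd_of_pow_eq_one htr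
  have hcopT : ∀ {R : Subgroup G} {s : ℕ}, [Fact s.Prime] → IsPGroup s R → r ≠ s → (Nat.card T).Coprime (Nat.card R) := by
    intro R s hs hR hne
    obtain ⟨n, hn⟩ := IsPGroup.iff_card.mp hR
    rw [hn]
    exact (((Nat.coprime_primes hr.out hs.out).mpr hne).coprime_dvd_left hTcard).pow_right n
  have hPcop : (Nat.card P).Coprime (Nat.card Q0) := by
    obtain ⟨n, hn⟩ := IsPGroup.iff_card.mp hP
    obtain ⟨m, hm⟩ := IsPGroup.iff_card.mp hQ0p
    rw [hn, hm]
    exact ((Nat.coprime_primes hp.out hq.out).mpr hqp.symm).pow n m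
  have hTP : T ≤ Subgroup.normalizer (P : Set G) := Subgroup.zpowers_le.mpr htP
  have hTs : Group.IsSolvable T := inferInstance
  have hPs : Group.IsSolvable P := by have := hP.isNilpotent; infer_instance
  have hPT : ⁅P, T⁆ = P := by
    have h := Basics.commutator_sup_inf_centralizer T P hTP (hcopT hP hrp) (Or.inl hTs)
    have h0 : P ⊓ Subgroup.centralizer (T : Set G) = ⊥ := eq_bot_iff.mpr fun a ha =>
      Subgroup.mem_bot.mpr (hfree a ha.1 (eq_of_mem_centralizer_zpowers ha.2))
    rwa [h0, sup_bot_eq] at h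
  -- `Q0 = [Q0, P]`
  have hQP : ⁅Q0, P⁆ = Q0 := by
    by_contra hne
    have h1 := key ⁅Q0, P⁆ (Subgroup.le_normalizer_iff_commutator_le_left.mp hPQ0) hne
      (Subgroup.normalizer_commutator_ge_right _ _) (conj_mem_commutator htQ0 htP)
    refine hQ0n (Basics.le_centralizer_of_commutator_commutator_eq_bot P Q0 hPQ0 hPcop (Or.inl hPs) ?_)
    rw [Subgroup.commutator_comm ⁅Q0, P⁆]
    exact Subgroup.commutator_eq_bot_iff_le_centralizer.mpr h1
  -- `Q0` is generated by its elements of order `q`
  set Ω := Subgroup.closure {x : G | x ∈ Q0 ∧ x ^ q = 1} with hΩ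
  have hΩle : Ω ≤ Q0 := (Subgroup.closure_le _).mpr fun x hx => hx.1
  have hΩinv : ∀ g ∈ Subgroup.normalizer (Q0 : Set G), g ∈ Subgroup.normalizer (Ω : Set G) := by
    intro g hg
    refine mem_normalizer_of_conj_mem fun a ha => ?_
    have h : Ω.map (MulAut.conj g).toMonoidHom ≤ Ω := by
      rw [hΩ, MonoidHom.map_closure, Subgroup.closure_le]
      rintro _ ⟨x, hx, rfl⟩
      exact Subgroup.subset_closure ⟨(Subgroup.mem_normalizer_iff.mp hg x).mp hx.1, by rw [← map_pow, hx.2, map_one]⟩
    exact h ⟨a, ha, rfl⟩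
  have hΩeq : Ω = Q0 := by
    by_contra hne
    have h1 := key Ω hΩle hne (fun a ha => hΩinv a (hPQ0 ha)) (hΩinv t htQ0)
    refine hQ0n fun a ha => ?_
    rw [Subgroup.mem_centralizer_iff]
    intro x hx
    let α : MulAut Q0 := conjAut (hPQ0 ha)
    have hαord : (orderOf α).Coprime q := by
      obtain ⟨n, hn⟩ := hP ⟨a, ha⟩
      refine Nat.Coprime.coprime_dvd_left (orderOf_dvd_of_pow_eq_one (n := p ^ n) (MulEquiv.ext fun y => Subtype.ext ?_))
        (((Nat.coprime_primes hp.out hq.out).mpr hqp.symm).pow_left n)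
      rw [coe_conjAut_pow, show a ^ p ^ n = 1 from congrArg Subtype.val hn]
      simp
    have h2 := congrArg Subtype.val (Coprime23.fix_of_fix_omega hQ0p hq2 α hαord (fun y hy => Subtype.ext (by
      have hyΩ : (y : G) ∈ Ω := Subgroup.subset_closure ⟨y.2, congrArg Subtype.val hy⟩
      change a * (y : G) * a⁻¹ = y
      rw [← Subgroup.mem_centralizer_iff.mp (h1 ha) _ hyΩ, mul_inv_cancel_right])) ⟨x, hx⟩)
    exact (mul_inv_eq_iff_eq_mul.mp h2).symm
  -- the derived subgroup
  set Z := ⁅Q0, Q0⁆ with hZdef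
  have hQ0ne : Q0 ≠ ⊥ := fun e => hQ0n (by rw [e]; intro a _; simp [Subgroup.mem_centralizer_iff])
  have hQ0nil : Group.IsNilpotent Q0 := hQ0p.isNilpotent
  have hZQ : Z ≤ Q0 := Subgroup.commutator_le_self _
  have hZne : Z ≠ Q0 := Basics.commutator_ne_self_of_isNilpotent hQ0nil le_rfl le_rfl hQ0ne
  have hPZ : P ≤ Subgroup.centralizer (Z : Set G) := key Z hZQ hZne
    (fun a ha => conj_mem_commutator (hPQ0 ha) (hPQ0 ha)) (conj_mem_commutator htQ0 htQ0)
  have hQ0Z : ⁅Q0, Z⁆ = ⊥ := by
    rw [← hQP]
    refine Subgroup.commutator_commutator_eq_bot_of_rotate ?_ ?_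
    · rw [Subgroup.commutator_eq_bot_iff_le_centralizer.mpr hPZ]
      exact Subgroup.commutator_bot_left Q0
    · rw [eq_bot_iff]
      refine le_trans (Subgroup.commutator_mono (?_ : ⁅Z, Q0⁆ ≤ Z) le_rfl) ?_
      · exact Subgroup.le_normalizer_iff_commutator_le_left.mp
          (fun a ha => conj_mem_commutator (Subgroup.le_normalizer ha) (Subgroup.le_normalizer ha))
      · rw [Subgroup.commutator_comm]
        exact (Subgroup.commutator_eq_bot_iff_le_centralizer.mpr hPZ).le
  have hZc : ∀ z ∈ Z, ∀ a ∈ Q0, a * z = z * a := fun z hz a ha =>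
    (Subgroup.mem_centralizer_iff.mp (Subgroup.commutator_eq_bot_iff_le_centralizer.mp hQ0Z ha) z hz).symm
  have hexp : ∀ x ∈ Q0, x ^ q = 1 := by
    intro x hx
    rw [← hΩeq] at hx
    refine (Subgroup.closure_induction (p := fun y _ => y ∈ Q0 ∧ y ^ q = 1) (fun y hy => hy) ⟨one_mem _, one_pow q⟩
      (fun a b _ _ ha hb => ⟨mul_mem ha.1 hb.1, ?_⟩) (fun a _ ha => ⟨inv_mem ha.1, by rw [inv_pow, ha.2, inv_one]⟩) hx).2
    set z := (a * b)⁻¹ * (b * a) with hz
    have hzZ : z ∈ Z := by
      have h1 : ⁅b⁻¹, a⁻¹⁆ ∈ Z := Subgroup.commutator_mem_commutator (inv_mem hb.1) (inv_mem ha.1)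
      have e : z = ⁅b⁻¹, a⁻¹⁆ := by rw [hz, commutatorElement_def]; group
      rw [e]; exact h1
    have he : b * a = a * b * z := by rw [hz]; group
    have hza : Commute z a := (hZc z hzZ a ha.1).symm
    have hzb : Commute z b := (hZc z hzZ b hb.1).symm
    have hzq : z ^ q = 1 := by
      have h2 := Coprime23.pow_mul_eq_of_central he hzb hza q
      rw [hb.2, one_mul, mul_one] at h2
      exact (mul_eq_left.mp h2.symm)
    rw [Coprime23.mul_pow_of_central he hzb hza q, ha.2, hb.2, one_mul, one_mul]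
    obtain ⟨m, hm⟩ := hq.out.odd_of_ne_two hq2
    have h3 : q * (q - 1) / 2 = q * m := by
      rw [hm, Nat.add_sub_cancel, show (2 * m + 1) * (2 * m) = 2 * ((2 * m + 1) * m) by ring, Nat.mul_div_cancel_left _ (by norm_num)]
    rw [h3, pow_mul, hzq, one_pow]
  -- the representation
  set X := Subgroup.normalizer (V : Set G) ⊓ Subgroup.normalizer (Q0 : Set G) with hX
  set tX : X := ⟨t, htV, htQ0⟩
  obtain ⟨ι, _, ρ, u, hker, hline⟩ := exists_rep (X := X) hrp hV inf_le_left (t := tX) (Subtype.ext htr) hfix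
  have hq0 : (q : AlgebraicClosure (ZMod p)) ≠ 0 := fun e => hqp ((Nat.prime_dvd_prime_iff_eq hp.out hq.out).mp
    ((CharP.cast_eq_zero_iff _ p q).mp e)).symm
  have hQ0X : Q0 ≤ X := le_inf (hQ0Q.trans hQV) Subgroup.le_normalizer
  have hPX : P ≤ X := le_inf hPV hPQ0
  have hcastA : ∀ A : Subgroup X, (A : Subgroup X).map X.subtype ≤ Q0 → (Nat.card A : AlgebraicClosure (ZMod p)) ≠ 0 := by
    intro A hA
    obtain ⟨n, hn⟩ := IsPGroup.iff_card.mp (hQ0p.to_le hA)
    rw [Subgroup.card_map_of_injective X.subtype_injective] at hn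
    rw [hn, Nat.cast_pow]
    exact pow_ne_zero _ hq0
  have hfaith0 : ∀ g : X, (g : G) ∈ Q0 → ρ g = 1 → g = 1 := fun g hg h => by
    have h1 : (g : G) ∈ Q ⊓ Subgroup.centralizer (V : Set G) := ⟨hQ0Q hg, hker g h⟩
    rw [hfaith, Subgroup.mem_bot] at h1
    exact Subtype.ext h1
  by_cases hZ : Z = ⊥
  · -- abelian case
    have hQ0c : IsMulCommutative Q0 := ⟨⟨fun a b => Subtype.ext (commutatorElement_eq_one_iff_mul_comm.mp
      (Subgroup.mem_bot.mp (hZ ▸ Subgroup.commutator_mem_commutator a.2 b.2)))⟩⟩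
    set A := Q0.subgroupOf X with hA
    have hAn : A.Normal := (Subgroup.normal_subgroupOf_iff_le_normalizer hQ0X).mpr inf_le_right
    have hAc : IsMulCommutative A := ⟨⟨fun a b => Subtype.ext (Subtype.ext
      (congrArg (fun y : Q0 => (y : G)) (hQ0c.is_comm.comm ⟨((a : X) : G), a.2⟩ ⟨((b : X) : G), b.2⟩)))⟩⟩
    have hA0 : (Nat.card A : AlgebraicClosure (ZMod p)) ≠ 0 := hcastA A (Subgroup.map_comap_le _ _)
    obtain ⟨x0, hx0, hx01⟩ := (Subgroup.bot_or_exists_ne_one Q0).resolve_left hQ0ne
    obtain ⟨χ, hχ, hχ1⟩ := exists_weight ρ A hAc hA0 (a0 := ⟨⟨x0, hQ0X hx0⟩, hx0⟩)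
      (fun h => hx01 (congrArg Subtype.val (hfaith0 ⟨x0, hQ0X hx0⟩ hx0 h)))
    refine false_of_no_fixed_weight ρ A (t := tX) (Subtype.ext htr) hline hA0 hp2 hr2 hrp.symm
      (P := P.subgroupOf X) hP.comap_subtype ?_ (fun a ha h => Subtype.ext (hfree a ha (congrArg Subtype.val h))) hχ hχ1 ?_
    · rw [← Subgroup.subgroupOf_normalizer_eq hPX, Subgroup.mem_subgroupOf]
      exact htP
    · intro ψ hψ hfixψ y
      let L : Subgroup A :=
        { carrier := {a | ψ a = 1}
          one_mem' := weight_one ρ A hψ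
          mul_mem' := fun {a b} ha hb => by
            change ψ (a * b) = 1
            rw [weight_mul ρ A hψ, show ψ a = 1 from ha, show ψ b = 1 from hb, mul_one]
          inv_mem' := fun {a} ha => by
            change ψ a⁻¹ = 1
            have h := weight_mul ρ A hψ a a⁻¹
            rw [mul_inv_cancel, weight_one ρ A hψ, show ψ a = 1 from ha, one_mul] at h
            exact h.symm }
      have hle : ⁅Q0, P⁆ ≤ (L.map A.subtype).map X.subtype := by
        rw [Subgroup.commutator_le]
        intro a ha b hb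
        set aA : A := ⟨⟨a, hQ0X ha⟩, ha⟩
        set bX : X := ⟨b, hPX hb⟩
        refine ⟨_, ⟨aA * ((MulAut.conjNormal bX : MulAut A) aA)⁻¹, ?_, rfl⟩, ?_⟩
        · change ψ (aA * ((MulAut.conjNormal bX : MulAut A) aA)⁻¹) = 1
          have h1 := congrFun (hfixψ bX hb) ((MulAut.conjNormal bX : MulAut A) aA)
          have e : (MulAut.conjNormal bX⁻¹ : MulAut A) ((MulAut.conjNormal bX : MulAut A) aA) = aA := by
            rw [← MulAut.mul_apply, ← map_mul, inv_mul_cancel, map_one, MulAut.one_apply]
          simp only [conjWeight, e] at h1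
          have h3 := weight_mul ρ A hψ (aA * ((MulAut.conjNormal bX : MulAut A) aA)⁻¹) ((MulAut.conjNormal bX : MulAut A) aA)
          rw [inv_mul_cancel_right, ← h1] at h3
          have h4 : ψ aA ≠ 0 := by
            intro h0
            have h5 := weight_mul ρ A hψ aA aA⁻¹
            rw [mul_inv_cancel, weight_one ρ A hψ, h0, zero_mul] at h5
            exact one_ne_zero h5
          exact (mul_left_eq_self₀.mp h3.symm).resolve_right h4
        · simp [commutatorElement_def, MulAut.conjNormal_apply, mul_assoc, aA, bX]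
      obtain ⟨_, ⟨l, hl, rfl⟩, e⟩ := hle (hQP.symm ▸ y.2 : ((y : X) : G) ∈ ⁅Q0, P⁆)
      have : l = y := Subtype.ext (Subtype.ext e)
      exact this ▸ hl
  · -- nonabelian case
    have hTQ0 : T ≤ Subgroup.normalizer (Q0 : Set G) := Subgroup.zpowers_le.mpr htQ0
    -- `t` has a fixed point on `Q0` outside `Z`
    obtain ⟨c, hc, hcZ⟩ : ∃ c ∈ Q0 ⊓ Subgroup.centralizer (T : Set G), c ∉ Z := by
      by_contra hcon
      push Not at hcon
      set N := Subgroup.normalizer (Z : Set G) with hN
      have hZn : (Z.subgroupOf N).Normal :=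
        (Subgroup.normal_subgroupOf_iff_le_normalizer Subgroup.le_normalizer).mpr le_rfl
      have hQ0N : Q0 ≤ N := fun a ha => conj_mem_commutator (Subgroup.le_normalizer ha) (Subgroup.le_normalizer ha)
      have hPN : P ≤ N := hPZ.trans (Subgroup.centralizer_le_normalizer _)
      have htN : t ∈ N := conj_mem_commutator htQ0 htQ0
      set π := QuotientGroup.mk' (Z.subgroupOf N)
      have hW : IsElementaryAbelian q ((Q0.subgroupOf N).map π) := by
        constructor
        · constructor
          constructor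
          rintro ⟨_, a, ha, rfl⟩ ⟨_, b, hb, rfl⟩
          refine Subtype.ext ?_
          change π a * π b = π b * π a
          rw [← commutatorElement_eq_one_iff_mul_comm, ← map_commutatorElement]
          exact (QuotientGroup.eq_one_iff _).mpr (show ((⁅a, b⁆ : N) : G) ∈ Z from
            Subgroup.commutator_mem_commutator ha hb)
        · rintro _ ⟨a, ha, rfl⟩
          rw [← map_pow, show a ^ q = 1 from Subtype.ext (hexp _ ha), map_one]
      have hnorm : ∀ {g : G} (hg : g ∈ N) (R : Subgroup G), R ≤ N → g ∈ Subgroup.normalizer (R : Set G) →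
          π ⟨g, hg⟩ ∈ Subgroup.normalizer (((R.subgroupOf N).map π : Subgroup _) : Set _) := by
        intro g hg R hR hgR
        refine Subgroup.le_normalizer_map π ⟨⟨g, hg⟩, ?_, rfl⟩
        rw [← Subgroup.subgroupOf_normalizer_eq hR]
        exact hgR
      have h := commutator_mem_centralizer_of_fpf (p := q) (q := p) (r := r) hqp.symm hqr.symm hrp.symm hp2 hr2 hW
        (hP.comap_subtype.map π : IsPGroup p ((P.subgroupOf N).map π))
        (by rintro _ ⟨a, ha, rfl⟩; exact hnorm a.2 Q0 hQ0N (hPQ0 ha))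
        (hnorm htN Q0 hQ0N htQ0) (hnorm htN P hPN htP)
        (by rw [← map_pow, show (⟨t, htN⟩ : N) ^ r = 1 from Subtype.ext htr, map_one])
        (by
          rintro _ ⟨x, hx, rfl⟩ e
          have hxc : ∀ b ∈ T, b * (x : G) * b⁻¹ * (x : G)⁻¹ ∈ Z := by
            have hbN : T ≤ N := Subgroup.zpowers_le.mpr htN
            intro b hb
            have h1 : π ⟨b, hbN hb⟩ * π x = π x * π ⟨b, hbN hb⟩ := by
              obtain ⟨n, hn⟩ := hb
              have : (⟨b, hbN ⟨n, hn⟩⟩ : N) = (⟨t, htN⟩ : N) ^ n := Subtype.ext hn.symm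
              rw [this, map_zpow]
              exact ((show Commute (π ⟨t, htN⟩) (π x) from e).zpow_left n).eq
            rw [← commutatorElement_eq_one_iff_mul_comm, ← map_commutatorElement] at h1
            exact (QuotientGroup.eq_one_iff (N := Z.subgroupOf N) _).mp h1
          obtain ⟨c, hc, hcx⟩ := Basics.exists_inf_centralizer_mem_coset T Q0 Z hZQ hQ0N
            (Subgroup.zpowers_le.mpr htN) (hcopT hQ0p (Ne.symm hqr)) (Or.inl hTs) x hx hxc
          have h2 : (x : G) ∈ Z := by
            have := mul_mem (hcon c hc) (inv_mem hcx)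
            simpa using this
          exact (QuotientGroup.eq_one_iff x).mpr h2)
      -- so `P` centralizes `Q0 / Z`
      have hPc : ∀ a ∈ P, ∀ x ∈ Q0, ⁅a, x⁆ ∈ Z := by
        intro a ha x hx
        let S := (Subgroup.centralizer (((Q0.subgroupOf N).map π : Subgroup _) : Set _)).comap π
        have hle : ⁅P, T⁆ ≤ S.map N.subtype := by
          rw [Subgroup.commutator_le]
          intro b hb s hs
          have hcoe : (⁅(⟨b, hPN hb⟩ : N), ⟨s, Subgroup.zpowers_le.mpr htN hs⟩⁆ : N) ∈ S := by
            obtain ⟨n, rfl⟩ := hs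
            have hm : ∀ m : ℕ, ∀ d ∈ P.subgroupOf N, ⁅(⟨t, htN⟩ : N) ^ m, d⁆ ∈ S := by
              intro m
              induction m with
              | zero => intro d _; simp [one_mem]
              | succ m ih =>
                intro d hd
                have hd' : (⟨t, htN⟩ : N) * d * (⟨t, htN⟩ : N)⁻¹ ∈ P.subgroupOf N :=
                  (Subgroup.mem_normalizer_iff.mp htP _).mp hd
                have e : ⁅(⟨t, htN⟩ : N) ^ (m + 1), d⁆ =
                    ⁅(⟨t, htN⟩ : N) ^ m, (⟨t, htN⟩ : N) * d * (⟨t, htN⟩ : N)⁻¹⁆ * ⁅(⟨t, htN⟩ : N), d⁆ := by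
                  rw [pow_succ]
                  simp only [commutatorElement_def]
                  group
                rw [e]
                refine mul_mem (ih _ hd') ?_
                have := h (π d) ⟨d, hd, rfl⟩
                rw [← map_commutatorElement] at this
                exact this
            obtain ⟨m, hm'⟩ : ∃ m : ℕ, t ^ n = t ^ m := by
              have : t ^ n ∈ Submonoid.powers t := by
                rw [IsOfFinOrder.mem_powers_iff_mem_zpowers (isOfFinOrder_of_finite t)]
                exact ⟨n, rfl⟩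
              obtain ⟨m, hm'⟩ := this
              exact ⟨m, hm'.symm⟩
            have e2 : (⟨t ^ n, Subgroup.zpowers_le.mpr htN ⟨n, rfl⟩⟩ : N) = (⟨t, htN⟩ : N) ^ m := Subtype.ext hm'
            rw [e2, ← commutatorElement_inv]
            exact inv_mem (hm m _ hb)
          exact ⟨_, hcoe, rfl⟩
        obtain ⟨a', ha', e⟩ := hle (hPT.symm ▸ ha)
        have h3 : ⁅π a', π ⟨x, hQ0N hx⟩⁆ = 1 := commutatorElement_eq_one_iff_mul_comm.mpr
          (Subgroup.mem_centralizer_iff.mp ha' _ ⟨⟨x, hQ0N hx⟩, hx, rfl⟩).symm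
        rw [← map_commutatorElement] at h3
        have h4 : ((⁅a', (⟨x, hQ0N hx⟩ : N)⁆ : N) : G) ∈ Z := (QuotientGroup.eq_one_iff (N := Z.subgroupOf N) _).mp h3
        rw [← e]
        exact h4
      refine hZne (le_antisymm hZQ ?_)
      conv_lhs => rw [← hQP]
      rw [Subgroup.commutator_comm, Subgroup.commutator_le]
      exact hPc
    -- so `t` is fixed point free on `Z`
    have hZfree : ∀ z ∈ Z, t * z = z * t → z = 1 := by
      intro z hz e
      set C := Q0 ⊓ Subgroup.centralizer (T : Set G) with hC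
      have hCle : C ≤ Q ⊓ Subgroup.centralizer ({t} : Set G) :=
        inf_le_inf hQ0Q (Subgroup.centralizer_le (Set.singleton_subset_iff.mpr (Subgroup.mem_zpowers t)))
      have hCc : IsCyclic C := isCyclic_of_injective (Subgroup.inclusion hCle) (Subgroup.inclusion_injective hCle)
      have hcard : Nat.card C ≤ q := by
        obtain ⟨g, hg⟩ := hCc.exists_generator
        have htop : Subgroup.zpowers g = ⊤ := eq_top_iff.mpr fun x _ => hg x
        have hq' : g ^ q = 1 := Subtype.ext (hexp _ g.2.1)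
        rw [← Subgroup.card_top (G := C), ← htop, Nat.card_zpowers]
        exact Nat.le_of_dvd hq.out.pos (orderOf_dvd_of_pow_eq_one hq')
      have hc1 : c ≠ 1 := fun e => hcZ (e ▸ one_mem _)
      have hsub : C = Subgroup.zpowers c := by
        refine (Subgroup.eq_of_le_of_card_ge (Subgroup.zpowers_le.mpr hc) ?_).symm
        rw [Nat.card_zpowers, orderOf_eq_prime (hexp c hc.1) hc1]
        exact hcard
      have hzC : z ∈ C := ⟨hZQ hz, centralizes_zpowers e⟩
      by_contra hz1
      rw [hsub] at hzC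
      have hle2 : Subgroup.zpowers z = Subgroup.zpowers c := by
        refine Subgroup.eq_of_le_of_card_ge (Subgroup.zpowers_le.mpr hzC) ?_
        rw [Nat.card_zpowers, Nat.card_zpowers, orderOf_eq_prime (hexp z (hZQ hz)) hz1, orderOf_eq_prime (hexp c hc.1) hc1]
      have hmem : c ∈ Subgroup.zpowers z := hle2.symm ▸ Subgroup.mem_zpowers c
      exact hcZ ((Subgroup.zpowers_le.mpr hz) hmem)
    set A := Z.subgroupOf X with hA
    have hZX : Z ≤ X := hZQ.trans hQ0X
    have hAn : A.Normal := (Subgroup.normal_subgroupOf_iff_le_normalizer hZX).mpr fun g hg =>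
      conj_mem_commutator hg.2 hg.2
    have hAc : IsMulCommutative A := ⟨⟨fun a b => Subtype.ext (Subtype.ext (hZc _ b.2 _ (hZQ a.2)))⟩⟩
    have hA0 : (Nat.card A : AlgebraicClosure (ZMod p)) ≠ 0 := hcastA A ((Subgroup.map_comap_le _ _).trans hZQ)
    obtain ⟨z0, hz0, hz01⟩ := (Subgroup.bot_or_exists_ne_one Z).resolve_left hZ
    obtain ⟨χ, hχ, a1, ha1⟩ := exists_weight ρ A hAc hA0 (a0 := ⟨⟨z0, hZX hz0⟩, hz0⟩)
      (fun h => hz01 (congrArg Subtype.val (hfaith0 ⟨z0, hZX hz0⟩ (hZQ hz0) h)))
    -- the weight is moved by `t`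
    have hmove : conjWeight A tX χ ≠ χ := by
      intro e
      let L : Subgroup A :=
        { carrier := {a | χ a = 1}
          one_mem' := weight_one ρ A hχ
          mul_mem' := fun {a b} ha hb => by
            change χ (a * b) = 1
            rw [weight_mul ρ A hχ, show χ a = 1 from ha, show χ b = 1 from hb, mul_one]
          inv_mem' := fun {a} ha => by
            change χ a⁻¹ = 1
            have h := weight_mul ρ A hχ a a⁻¹
            rw [mul_inv_cancel, weight_one ρ A hχ, show χ a = 1 from ha, one_mul] at h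
            exact h.symm }
      let f : A → A := fun a => a * ((MulAut.conjNormal tX : MulAut A) a)⁻¹
      have hfinj : Function.Injective f := by
        intro a b hab
        have h1 : a * ((MulAut.conjNormal tX : MulAut A) a)⁻¹ = b * ((MulAut.conjNormal tX : MulAut A) b)⁻¹ := hab
        have h2 : (MulAut.conjNormal tX : MulAut A) (b⁻¹ * a) = b⁻¹ * a := by
          rw [map_mul, map_inv]
          calc ((MulAut.conjNormal tX : MulAut A) b)⁻¹ * (MulAut.conjNormal tX : MulAut A) a
              = b⁻¹ * (b * ((MulAut.conjNormal tX : MulAut A) b)⁻¹) * (MulAut.conjNormal tX : MulAut A) a := by group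
            _ = b⁻¹ * a := by rw [← h1]; group
        have h3 := congrArg (fun y : A => ((y : X) : G)) h2
        simp only [MulAut.conjNormal_apply] at h3
        have h4 := hZfree _ (b⁻¹ * a).2 (mul_inv_eq_iff_eq_mul.mp h3)
        exact (inv_mul_eq_one.mp (Subtype.ext (Subtype.ext h4))).symm
      obtain ⟨y, hy⟩ := (Finite.injective_iff_surjective.mp hfinj) a1
      apply ha1
      rw [← hy]
      have h1 := congrFun e ((MulAut.conjNormal tX : MulAut A) y)
      have e' : (MulAut.conjNormal tX⁻¹ : MulAut A) ((MulAut.conjNormal tX : MulAut A) y) = y := by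
        rw [← MulAut.mul_apply, ← map_mul, inv_mul_cancel, map_one, MulAut.one_apply]
      simp only [conjWeight, e'] at h1
      have h3 := weight_mul ρ A hχ (y * ((MulAut.conjNormal tX : MulAut A) y)⁻¹) ((MulAut.conjNormal tX : MulAut A) y)
      rw [inv_mul_cancel_right, ← h1] at h3
      have h4 : χ y ≠ 0 := by
        intro h0
        have h5 := weight_mul ρ A hχ y y⁻¹
        rw [mul_inv_cancel, weight_one ρ A hχ, h0, zero_mul] at h5
        exact one_ne_zero h5
      exact (mul_left_eq_self₀.mp h3.symm).resolve_right h4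
    -- the weight space is a line fixed by the commutators of `Q0`
    obtain ⟨w, hw, hw0⟩ := Submodule.exists_mem_ne_zero_of_ne_bot hχ
    have hscal : ∀ g : X, (g : G) ∈ Q0 → ∃ s : AlgebraicClosure (ZMod p), ρ g w = s • w := by
      intro g hg
      have hgχ : conjWeight A g χ = χ := by
        funext a
        simp only [conjWeight]
        congr 1
        refine Subtype.ext (Subtype.ext ?_)
        rw [MulAut.conjNormal_apply]
        change (g : G)⁻¹ * ((a : X) : G) * ((g : G)⁻¹)⁻¹ = _
        rw [inv_inv, mul_assoc, ← hZc ((a : X) : G) a.2 _ hg, inv_mul_cancel_left]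
      obtain ⟨s, hs⟩ := Submodule.mem_span_singleton.mp (free_weight_line ρ A (t := tX) (Subtype.ext htr) hline hA0
        hmove hw (hgχ ▸ map_weightSpace ρ A hw g) hw0)
      exact ⟨s, hs.symm⟩
    let L : Subgroup X :=
      { carrier := {g | ρ g w = w}
        one_mem' := by simp
        mul_mem' := fun {a b} ha hb => by
          change ρ (a * b) w = w
          rw [map_mul, Module.End.mul_apply, show ρ b w = w from hb, show ρ a w = w from ha]
        inv_mem' := fun {a} ha => by
          change ρ a⁻¹ w = w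
          conv_lhs => rw [← show ρ a w = w from ha]
          rw [← Module.End.mul_apply, ← map_mul, inv_mul_cancel, map_one, Module.End.one_apply] }
    have hle : Z ≤ L.map X.subtype := by
      rw [hZdef, Subgroup.commutator_le]
      intro a ha b hb
      refine ⟨⁅(⟨a, hQ0X ha⟩ : X), (⟨b, hQ0X hb⟩ : X)⁆, ?_, rfl⟩
      change ρ _ w = w
      obtain ⟨s1, h1⟩ := hscal ⟨a, hQ0X ha⟩ ha
      obtain ⟨s2, h2⟩ := hscal ⟨b, hQ0X hb⟩ hb
      obtain ⟨s3, h3⟩ := hscal (⟨a, hQ0X ha⟩⁻¹) (inv_mem ha)
      obtain ⟨s4, h4⟩ := hscal (⟨b, hQ0X hb⟩⁻¹) (inv_mem hb)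
      have h13 : s1 * s3 = 1 := by
        have := congrArg (fun f => f w) (map_mul ρ (⟨a, hQ0X ha⟩⁻¹ : X) ⟨a, hQ0X ha⟩)
        simp only [inv_mul_cancel, map_one, Module.End.one_apply, Module.End.mul_apply, h1, map_smul, h3, smul_smul] at this
        exact (smul_left_injective _ hw0 (this.symm.trans (one_smul _ w).symm))
      have h24 : s2 * s4 = 1 := by
        have := congrArg (fun f => f w) (map_mul ρ (⟨b, hQ0X hb⟩⁻¹ : X) ⟨b, hQ0X hb⟩)
        simp only [inv_mul_cancel, map_one, Module.End.one_apply, Module.End.mul_apply, h2, map_smul, h4, smul_smul] at this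
        exact (smul_left_injective _ hw0 (this.symm.trans (one_smul _ w).symm))
      simp only [commutatorElement_def, map_mul, Module.End.mul_apply, h1, h2, h3, h4, map_smul, smul_smul]
      rw [show s4 * (s3 * (s2 * s1)) = (s1 * s3) * (s2 * s4) by ring, h13, h24, one_mul, one_smul]
    apply ha1
    obtain ⟨l, hl, e⟩ := hle (a1.2 : ((a1 : X) : G) ∈ Z)
    have e1 : l = (a1 : X) := Subtype.ext e
    have h5 := (mem_weightSpace ρ A).mp hw a1
    rw [← e1, show ρ l w = w from hl] at h5
    exact smul_left_injective _ hw0 (h5.symm.trans (one_smul _ w).symm)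

end Cfsg.Agent.OddLocal
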