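import Mathlib

/-! Modules for a group of automorphisms acting freely on an abelian group of operators without fixed vectors. -/

set_option autoImplicit false
set_option maxHeartbeats 1000000

namespace Cfsg.Agent.OddLocal

open scoped Classical IsMulCommutative

universe u v

variable {L : Type v} [Field L] {W : Type u} [AddCommGroup W] [Module L W]

/-- The sum of the operators in a finite group. -/
noncomputable def opSum (S : Subgroup (Module.End L W)ˣ) [Finite S] : Module.End L W :=
  haveI := Fintype.ofFinite S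
  ∑ x : S, ((x : (Module.End L W)ˣ) : Module.End L W)

theorem opSum_eq (S : Subgroup (Module.End L W)ˣ) [Fintype S] :
    opSum S = ∑ x : S, ((x : (Module.End L W)ˣ) : Module.End L W) := by
  unfold opSum
  congr 1
  exact congrArg _ (Subsingleton.elim _ _)

theorem mul_opSum {S : Subgroup (Module.End L W)ˣ} [Finite S] {y : (Module.End L W)ˣ} (hy : y ∈ S) :
    (y : Module.End L W) * opSum S = opSum S := by
  haveI := Fintype.ofFinite S
  rw [opSum_eq, Finset.mul_sum]
  exact Fintype.sum_equiv (Equiv.mulLeft ⟨y, hy⟩) _ _ fun x => by simp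

variable {A : Subgroup (Module.End L W)ˣ} [Fintype A] [IsMulCommutative A]

/-- The projection to a weight. -/
noncomputable def weightProj (χ : A →* Lˣ) : Module.End L W :=
  (Fintype.card A : L)⁻¹ • ∑ a : A, (((χ a)⁻¹ : Lˣ) : L) • ((a : (Module.End L W)ˣ) : Module.End L W)

theorem mul_weightProj (χ : A →* Lˣ) (b : A) :
    ((b : (Module.End L W)ˣ) : Module.End L W) * weightProj χ = ((χ b : Lˣ) : L) • weightProj χ := by
  rw [weightProj, mul_smul_comm, Finset.mul_sum, smul_comm ((χ b : Lˣ) : L), Finset.smul_sum (r := ((χ b : Lˣ) : L))]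
  congr 1
  refine Fintype.sum_equiv (Equiv.mulLeft b) _ _ fun a => ?_
  rw [mul_smul_comm, smul_smul, Equiv.coe_mulLeft, Subgroup.coe_mul, Units.val_mul, map_mul, mul_inv, Units.val_mul,
    ← mul_assoc, Units.mul_inv, one_mul]

theorem weightProj_mul (h0 : (Fintype.card A : L) ≠ 0) (χ ψ : A →* Lˣ) :
    weightProj χ * weightProj ψ = if χ = ψ then weightProj ψ else 0 := by
  conv_lhs => rw [show weightProj χ = (Fintype.card A : L)⁻¹ • ∑ a : A, (((χ a)⁻¹ : Lˣ) : L) • ((a : (Module.End L W)ˣ) : Module.End L W) from rfl,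
    smul_mul_assoc, Finset.sum_mul]
  simp only [smul_mul_assoc, mul_weightProj, smul_smul, ← Finset.sum_smul]
  have h := sum_hom_units ((Units.coeHom L).comp (χ⁻¹ * ψ))
  have e : ∀ a, ((Units.coeHom L).comp (χ⁻¹ * ψ)) a = (((χ a)⁻¹ : Lˣ) : L) * ((ψ a : Lˣ) : L) := fun a => by
    simp [Units.coeHom]
  simp only [e] at h
  rw [h]
  by_cases hc : χ = ψ
  · subst hc
    rw [if_pos rfl, if_pos (by ext a; simp), inv_mul_cancel₀ h0, one_smul]
  · rw [if_neg hc, if_neg, Nat.cast_zero, mul_zero, zero_smul]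
    intro hh
    refine hc (MonoidHom.ext fun a => Units.ext ?_)
    have h1 := DFunLike.congr_fun hh a
    rw [e, MonoidHom.one_apply] at h1
    calc ((χ a : Lˣ) : L) = ((χ a : Lˣ) : L) * ((((χ a)⁻¹ : Lˣ) : L) * ((ψ a : Lˣ) : L)) := by rw [h1, mul_one]
      _ = (ψ a : Lˣ) := by rw [← mul_assoc, ← Units.val_mul, mul_inv_cancel, Units.val_one, one_mul]

theorem sum_weightProj [IsAlgClosed L] [Fintype (A →* Lˣ)] (h0 : (Fintype.card A : L) ≠ 0) :
    ∑ χ : A →* Lˣ, weightProj χ = 1 := by
  have hexp0 : ((Monoid.exponent A : ℕ) : L) ≠ 0 := fun h => by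
    obtain ⟨c, hc⟩ := Group.exponent_dvd_nat_card (G := A)
    rw [Nat.card_eq_fintype_card] at hc
    exact h0 (by rw [hc, Nat.cast_mul, h, zero_mul])
  haveI : NeZero ((Monoid.exponent A : ℕ) : L) := ⟨hexp0⟩
  have hz : ∀ a : A, a ≠ 1 → ∑ χ : A →* Lˣ, (((χ a)⁻¹ : Lˣ) : L) = 0 := by
    intro a ha
    obtain ⟨ψ, hψ⟩ := CommGroup.exists_apply_ne_one_of_hasEnoughRootsOfUnity A L ha
    set s := ∑ χ : A →* Lˣ, (((χ a)⁻¹ : Lˣ) : L) with hs
    have h1 : (((ψ a)⁻¹ : Lˣ) : L) * s = s := by
      rw [hs, Finset.mul_sum]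
      exact Fintype.sum_equiv (Equiv.mulLeft ψ) _ _ fun χ => by
        rw [Equiv.coe_mulLeft, MonoidHom.mul_apply, mul_inv, Units.val_mul]
    by_contra hs0
    exact hψ (inv_eq_one.mp (Units.ext (mul_eq_right₀ hs0 |>.mp h1)))
  have hcard : Fintype.card (A →* Lˣ) = Fintype.card A := by
    rw [← Nat.card_eq_fintype_card, ← Nat.card_eq_fintype_card, CommGroup.card_monoidHom_of_hasEnoughRootsOfUnity A L]
  simp only [weightProj, ← Finset.smul_sum]
  rw [Finset.sum_comm]
  simp only [← Finset.sum_smul]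
  rw [Finset.sum_eq_single 1 (fun a _ ha => by rw [hz a ha, zero_smul]) (fun h => absurd (Finset.mem_univ _) h)]
  simp [hcard, smul_smul, inv_mul_cancel₀ h0]

/-- Conjugation by a normalizing operator. -/
def conjOn {g : (Module.End L W)ˣ} (hg : g ∈ Subgroup.normalizer (A : Set (Module.End L W)ˣ)) : MulAut A :=
  A.normalizerMonoidHom ⟨g, hg⟩

theorem mul_weightProj_comm {g : (Module.End L W)ˣ} (hg : g ∈ Subgroup.normalizer (A : Set (Module.End L W)ˣ))
    (χ : A →* Lˣ) :
    (g : Module.End L W) * weightProj χ = weightProj (χ.comp (conjOn hg).symm.toMonoidHom) * (g : Module.End L W) := by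
  rw [weightProj, weightProj, mul_smul_comm, smul_mul_assoc, Finset.mul_sum, Finset.sum_mul]
  congr 1
  refine Fintype.sum_equiv (conjOn hg).toEquiv _ _ fun a => ?_
  rw [mul_smul_comm, smul_mul_assoc]
  congr 1
  · simp
  · rw [← Units.val_mul, ← Units.val_mul]
    refine congrArg Units.val ?_
    change g * (a : (Module.End L W)ˣ) = g * (a : (Module.End L W)ˣ) * g⁻¹ * g
    rw [inv_mul_cancel_right]

theorem weight_twist_eq_one {g : (Module.End L W)ˣ} (hg : g ∈ Subgroup.normalizer (A : Set (Module.End L W)ˣ))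
    (hfree : ∀ a ∈ A, g * a = a * g → a = 1) {χ : A →* Lˣ}
    (h : χ.comp (conjOn hg).symm.toMonoidHom = χ) : χ = 1 := by
  let f : A → A := fun a => (conjOn hg) a * a⁻¹
  have hf : Function.Injective f := by
    intro a b hab
    have h1 : (conjOn hg) (b⁻¹ * a) = b⁻¹ * a := by
      have h2 : (conjOn hg) a * a⁻¹ = (conjOn hg) b * b⁻¹ := hab
      rw [map_mul, map_inv]
      calc ((conjOn hg) b)⁻¹ * (conjOn hg) a = ((conjOn hg) b)⁻¹ * ((conjOn hg) a * a⁻¹) * a := by group
        _ = b⁻¹ * a := by rw [h2]; group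
    have h3 : g * ((b⁻¹ * a : A) : (Module.End L W)ˣ) * g⁻¹ = ((b⁻¹ * a : A) : (Module.End L W)ˣ) := congrArg Subtype.val h1
    have := hfree _ (b⁻¹ * a : A).2 (mul_inv_eq_iff_eq_mul.mp h3)
    exact (inv_mul_eq_one.mp (Subtype.ext this)).symm
  refine MonoidHom.ext fun c => ?_
  obtain ⟨a, rfl⟩ := (Finite.injective_iff_surjective.mp hf) c
  have h4 := DFunLike.congr_fun h ((conjOn hg) a)
  simp only [MonoidHom.comp_apply, MulEquiv.coe_toMonoidHom, MulEquiv.symm_apply_apply] at h4
  rw [MonoidHom.one_apply, map_mul, map_inv, ← h4, mul_inv_cancel]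

section main

variable [IsAlgClosed L] [FiniteDimensional L W] {R : Subgroup (Module.End L W)ˣ} [Finite R]
variable (h0 : (Fintype.card A : L) ≠ 0) (hsum : opSum A = 0)
variable (hRA : R ≤ Subgroup.normalizer (A : Set (Module.End L W)ˣ))
variable (hfree : ∀ x ∈ R, x ≠ 1 → ∀ a ∈ A, x * a = a * x → a = 1)

include hsum in
omit [IsAlgClosed L] [FiniteDimensional L W] [Finite R] in
theorem weightProj_one : weightProj (1 : A →* Lˣ) = 0 := by
  rw [weightProj]
  simp only [MonoidHom.one_apply, inv_one, Units.val_one, one_smul]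
  rw [← opSum_eq, hsum, smul_zero]

include h0 in
omit [IsAlgClosed L] [FiniteDimensional L W] [Finite R] in
theorem weightProj_twist_zero {g : (Module.End L W)ˣ} (hg : g ∈ Subgroup.normalizer (A : Set (Module.End L W)ˣ))
    {χ : A →* Lˣ} (h : weightProj χ = 0) : weightProj (χ.comp (conjOn hg).symm.toMonoidHom) = 0 := by
  have h1 := mul_weightProj_comm hg χ
  rw [h, mul_zero] at h1
  calc weightProj (χ.comp (conjOn hg).symm.toMonoidHom)
      = weightProj (χ.comp (conjOn hg).symm.toMonoidHom) * (g : Module.End L W) * ((g⁻¹ : (Module.End L W)ˣ) : Module.End L W) := by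
        rw [mul_assoc, ← Units.val_mul, mul_inv_cancel, Units.val_one, mul_one]
    _ = 0 := by rw [← h1, zero_mul]

omit [IsAlgClosed L] [FiniteDimensional L W] [Finite R] in
include hRA in
theorem twist_mul {x y : (Module.End L W)ˣ} (hx : x ∈ R) (hy : y ∈ R) (χ : A →* Lˣ) :
    (χ.comp (conjOn (hRA hy)).symm.toMonoidHom).comp (conjOn (hRA hx)).symm.toMonoidHom =
      χ.comp (conjOn (hRA (mul_mem hx hy))).symm.toMonoidHom := by
  refine MonoidHom.ext fun a => congrArg χ (Subtype.ext ?_)
  change y⁻¹ * (x⁻¹ * (a : (Module.End L W)ˣ) * x⁻¹⁻¹) * y⁻¹⁻¹ = (x * y)⁻¹ * (a : (Module.End L W)ˣ) * (x * y)⁻¹⁻¹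
  group

include h0 hsum hRA hfree in
/-- The dimension is `|R|` times that of the space fixed by `R`. -/
theorem finrank_eq_card_mul :
    Module.finrank L W = Nat.card R * Module.finrank L (LinearMap.range (opSum R)) := by
  haveI := Fintype.ofFinite R
  haveI : NeZero ((Monoid.exponent A : ℕ) : L) := ⟨fun h => by
    obtain ⟨c, hc⟩ := Group.exponent_dvd_nat_card (G := A)
    rw [Nat.card_eq_fintype_card] at hc
    exact h0 (by rw [hc, Nat.cast_mul, h, zero_mul])⟩
  haveI : Finite (A →* Lˣ) := Nat.finite_of_card_ne_zero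
    (by rw [CommGroup.card_monoidHom_of_hasEnoughRootsOfUnity A L]; exact Nat.card_pos.ne')
  haveI := Fintype.ofFinite (A →* Lˣ)
  let act : MulAction R (A →* Lˣ) :=
    { smul := fun x χ => χ.comp (conjOn (hRA x.2)).symm.toMonoidHom
      one_smul := fun χ => MonoidHom.ext fun a => congrArg χ (Subtype.ext (by
        change (1 : (Module.End L W)ˣ)⁻¹ * (a : (Module.End L W)ˣ) * (1 : (Module.End L W)ˣ)⁻¹⁻¹ = a
        group))
      mul_smul := fun x y χ => (twist_mul hRA x.2 y.2 χ).symm }
  have hfix : ∀ (x : R) (χ : A →* Lˣ), χ ≠ 1 → x • χ = χ → x = 1 := by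
    intro x χ hχ hx
    by_contra hx1
    exact hχ (weight_twist_eq_one (hRA x.2) (hfree x x.2 (fun h => hx1 (Subtype.ext h))) hx)
  let rep : (A →* Lˣ) → (A →* Lˣ) := fun χ => (Quotient.mk (MulAction.orbitRel R (A →* Lˣ)) χ).out
  have hrep : ∀ χ, ∃ x : R, χ = x • rep χ := by
    intro χ
    have h : MulAction.orbitRel R (A →* Lˣ) (rep χ) χ := Quotient.mk_out χ
    rw [MulAction.orbitRel_apply] at h
    obtain ⟨x, hx⟩ := h
    refine ⟨x⁻¹, ?_⟩
    change x • χ = rep χ at hx
    rw [← hx, inv_smul_smul]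
  choose idx hidx using hrep
  have hidx' : ∀ (y : R) (χ : A →* Lˣ), χ ≠ 1 → idx (y • χ) = y * idx χ := by
    intro y χ hχ
    have e : rep (y • χ) = rep χ := by
      refine congrArg Quotient.out (Quotient.sound ?_)
      exact MulAction.orbitRel_apply.mpr ⟨y, rfl⟩
    have h1 : y • χ = idx (y • χ) • rep χ := by rw [← e]; exact hidx _
    have h2 : y • χ = (y * idx χ) • rep χ := by rw [mul_smul, ← hidx χ]
    have h3 : (idx χ)⁻¹ • χ = rep χ := by rw [inv_smul_eq_iff]; exact hidx χ
    have hrep1 : rep χ ≠ 1 := by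
      intro h
      refine hχ ?_
      rw [hidx χ, h]
      exact MonoidHom.ext fun a => rfl
    have h4 : ((y * idx χ)⁻¹ * idx (y • χ)) • rep χ = rep χ := by
      rw [mul_smul, ← h1, h2, inv_smul_smul]
    exact (inv_mul_eq_one.mp (hfix _ _ hrep1 h4)).symm
  obtain ⟨z, hzdef⟩ : ∃ z : R → Module.End L W, ∀ x, z x = ∑ χ ∈ Finset.univ.filter (fun χ => idx χ = x), weightProj χ :=
    ⟨_, fun _ => rfl⟩
  have hz1 : ∑ x : R, z x = 1 := by
    rw [← sum_weightProj (A := A) h0]
    simp only [hzdef]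
    exact Finset.sum_fiberwise _ _ _
  have hzz : ∀ x y : R, z x * z y = if x = y then z y else 0 := by
    intro x y
    rw [hzdef x, hzdef y]
    rw [Finset.sum_mul]
    simp only [Finset.mul_sum, weightProj_mul h0, Finset.sum_ite_eq, Finset.mem_filter, Finset.mem_univ, true_and]
    by_cases h : x = y
    · subst h
      rw [if_pos rfl]
      exact Finset.sum_congr rfl fun χ hχ => if_pos (Finset.mem_filter.mp hχ).2
    · rw [if_neg h]
      exact Finset.sum_eq_zero fun χ hχ => if_neg fun h' => h ((Finset.mem_filter.mp hχ).2.symm.trans h')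
  have hconj : ∀ y x : R, ((y : (Module.End L W)ˣ) : Module.End L W) * z x = z (y * x) * ((y : (Module.End L W)ˣ) : Module.End L W) := by
    intro y x
    rw [hzdef x, hzdef (y * x)]
    rw [Finset.mul_sum, Finset.sum_mul, Finset.sum_filter, Finset.sum_filter]
    refine Fintype.sum_equiv (MulAction.toPerm y) _ _ fun χ => ?_
    by_cases hχ : χ = 1
    · subst hχ
      have : y • (1 : A →* Lˣ) = 1 := MonoidHom.ext fun a => rfl
      simp [MulAction.toPerm_apply, this, weightProj_one hsum]
    rw [MulAction.toPerm_apply, hidx' y χ hχ, mul_weightProj_comm (hRA y.2) χ]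
    simp only [mul_right_inj]
    exact if_congr Iff.rfl rfl rfl
  set T := opSum R with hT
  let C := LinearMap.range T
  let Ψ : W →ₗ[L] (R → C) := LinearMap.pi fun x => T.rangeRestrict.comp (z x)
  let Φ : (R → C) →ₗ[L] W := ∑ x : R, (z x).comp (C.subtype.comp (LinearMap.proj x))
  have hTsum : T = ∑ x : R, ((x : (Module.End L W)ˣ) : Module.End L W) := opSum_eq R
  have key1 : ∀ x : R, z x * T * z x = z x := by
    intro x
    rw [hTsum, Finset.mul_sum, Finset.sum_mul]
    rw [Finset.sum_eq_single 1 (fun y _ hy => by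
      rw [mul_assoc, hconj, ← mul_assoc, hzz, if_neg, zero_mul]
      exact fun h => hy (right_eq_mul.mp h)) (fun h => absurd (Finset.mem_univ _) h)]
    rw [Subgroup.coe_one, Units.val_one, mul_one, hzz, if_pos rfl]
  have hfixC : ∀ (y : R) (c : W), c ∈ C → ((y : (Module.End L W)ˣ) : Module.End L W) c = c := by
    rintro y _ ⟨w, rfl⟩
    exact LinearMap.congr_fun (mul_opSum y.2) w
  have hΦΨ : ∀ w, Φ (Ψ w) = w := by
    intro w
    have e : Φ (Ψ w) = (∑ x : R, z x * T * z x) w := by
      simp [Φ, Ψ, LinearMap.sum_apply, Module.End.mul_apply]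
    rw [e, Finset.sum_congr rfl (fun x _ => key1 x), hz1, Module.End.one_apply]
  have hΨΦ : ∀ c, Ψ (Φ c) = c := by
    intro c
    funext x
    refine Subtype.ext ?_
    have e1 : (z x) (Φ c) = z x (c x : W) := by
      simp only [Φ, LinearMap.sum_apply, LinearMap.comp_apply, LinearMap.proj_apply, Submodule.subtype_apply, map_sum]
      simp only [← Module.End.mul_apply, hzz]
      rw [Finset.sum_eq_single x (fun y _ hy => by rw [if_neg (Ne.symm hy), LinearMap.zero_apply])
        (fun h => absurd (Finset.mem_univ _) h), if_pos rfl]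
    change T ((z x) (Φ c)) = (c x : W)
    rw [e1, hTsum, LinearMap.sum_apply]
    calc ∑ y : R, ((y : (Module.End L W)ˣ) : Module.End L W) ((z x) (c x : W))
        = ∑ y : R, z (y * x) (c x : W) := Finset.sum_congr rfl fun y _ => by
          rw [← Module.End.mul_apply, hconj, Module.End.mul_apply, hfixC y _ (c x).2]
      _ = (∑ y : R, z y) (c x : W) := by
          rw [LinearMap.sum_apply]
          exact Fintype.sum_equiv (Equiv.mulRight x) _ _ fun y => rfl
      _ = (c x : W) := by rw [hz1, Module.End.one_apply]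
  rw [LinearEquiv.finrank_eq (LinearEquiv.ofLinear Ψ Φ (LinearMap.ext hΨΦ) (LinearMap.ext hΦΨ)),
    Module.finrank_pi_fintype, Finset.sum_const, Finset.card_univ, smul_eq_mul, Nat.card_eq_fintype_card]

include h0 hsum hRA hfree in
/-- If the fixed space is a line and `|R|` is a prime, a normalized group of coprime order acts abelianly. -/
theorem commute_of_finrank_le_one {r : ℕ} [hr : Fact r.Prime] (hR : Nat.card R = r)
    (hline : Module.finrank L (LinearMap.range (opSum R)) ≤ 1) {K : Subgroup (Module.End L W)ˣ} [Finite K]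
    (hKA : K ≤ Subgroup.normalizer (A : Set (Module.End L W)ˣ))
    (hRK : R ≤ Subgroup.normalizer (K : Set (Module.End L W)ˣ)) (hrK : ¬ r ∣ Nat.card K) :
    ∀ g ∈ K, ∀ h ∈ K, g * h = h * g := by
  intro g hg h hh
  refine Units.ext ?_
  haveI := Fintype.ofFinite R
  haveI : NeZero ((Monoid.exponent A : ℕ) : L) := ⟨fun h => by
    obtain ⟨c, hc⟩ := Group.exponent_dvd_nat_card (G := A)
    rw [Nat.card_eq_fintype_card] at hc
    exact h0 (by rw [hc, Nat.cast_mul, h, zero_mul])⟩
  haveI : Finite (A →* Lˣ) := Nat.finite_of_card_ne_zero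
    (by rw [CommGroup.card_monoidHom_of_hasEnoughRootsOfUnity A L]; exact Nat.card_pos.ne')
  haveI := Fintype.ofFinite (A →* Lˣ)
  set T := opSum R with hT
  have hTsum : T = ∑ x : R, ((x : (Module.End L W)ˣ) : Module.End L W) := opSum_eq R
  -- `e T` recovers a weight vector; distinct orbits cannot share the line
  have hne1 : ∀ χ : A →* Lˣ, weightProj χ ≠ 0 → χ ≠ 1 := fun χ h e => h (e ▸ weightProj_one hsum)
  have hrec : ∀ χ ψ : A →* Lˣ, weightProj χ * T * weightProj ψ ≠ 0 → ∃ x : R,
      χ = ψ.comp (conjOn (hRA x.2)).symm.toMonoidHom := by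
    intro χ ψ hne
    by_contra hno
    refine hne ?_
    rw [hTsum, Finset.mul_sum, Finset.sum_mul]
    refine Finset.sum_eq_zero fun x _ => ?_
    rw [mul_assoc, mul_weightProj_comm (hRA x.2), ← mul_assoc, weightProj_mul h0, if_neg fun e => hno ⟨x, e⟩, zero_mul]
  have hself : ∀ χ : A →* Lˣ, weightProj χ ≠ 0 → weightProj χ * T * weightProj χ = weightProj χ := by
    intro χ hχ
    rw [hTsum, Finset.mul_sum, Finset.sum_mul, Finset.sum_eq_single 1 (fun x _ hx => by
      rw [mul_assoc, mul_weightProj_comm (hRA x.2), ← mul_assoc, weightProj_mul h0, if_neg, zero_mul]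
      intro e
      exact hne1 χ hχ (weight_twist_eq_one (hRA x.2) (hfree x x.2 fun h => hx (Subtype.ext h)) e.symm))
      (fun h => absurd (Finset.mem_univ _) h)]
    rw [Subgroup.coe_one, Units.val_one, mul_one, weightProj_mul h0, if_pos rfl]
  -- a nonzero weight vector gives the line
  have hspan : ∀ χ : A →* Lˣ, weightProj χ ≠ 0 → ∃ w, T (weightProj χ w) ≠ 0 ∧
      ∀ v, ∃ a : L, T v = a • T (weightProj χ w) := by
    intro χ hχ
    obtain ⟨w, hw⟩ : ∃ w, weightProj χ w ≠ 0 := by
      by_contra h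
      push Not at h
      exact hχ (LinearMap.ext h)
    have hw' : T (weightProj χ w) ≠ 0 := by
      intro e
      have h1 := LinearMap.congr_fun (hself χ hχ) w
      rw [Module.End.mul_apply, Module.End.mul_apply, e, map_zero] at h1
      exact hw h1.symm
    refine ⟨w, hw', fun v => ?_⟩
    have hne : (⟨T (weightProj χ w), LinearMap.mem_range_self T _⟩ : LinearMap.range T) ≠ 0 := fun e =>
      hw' (congrArg Subtype.val e)
    have hpos : 0 < Module.finrank L (LinearMap.range T) := Module.finrank_pos_iff_exists_ne_zero.mpr ⟨_, hne⟩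
    obtain ⟨a, ha⟩ := exists_smul_eq_of_finrank_eq_one (le_antisymm hline hpos) hne ⟨T v, LinearMap.mem_range_self T v⟩
    exact ⟨a, (congrArg Subtype.val ha).symm⟩
  have horb : ∀ χ ψ : A →* Lˣ, weightProj χ ≠ 0 → weightProj ψ ≠ 0 → ∃ x : R,
      χ = ψ.comp (conjOn (hRA x.2)).symm.toMonoidHom := by
    intro χ ψ hχ hψ
    refine hrec χ ψ fun hz => ?_
    obtain ⟨w, -, hw⟩ := hspan ψ hψ
    obtain ⟨v, hv, -⟩ := hspan χ hχ
    obtain ⟨a, ha⟩ := hw (weightProj χ v)
    have h1 := LinearMap.congr_fun (hself χ hχ) v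
    rw [Module.End.mul_apply, Module.End.mul_apply, ha, map_smul] at h1
    have h2 := LinearMap.congr_fun hz w
    rw [Module.End.mul_apply, Module.End.mul_apply, LinearMap.zero_apply] at h2
    rw [h2, smul_zero] at h1
    rw [← h1, map_zero] at hv
    exact hv rfl
  -- every element of `K` fixes each weight
  have hfixK : ∀ k, (hk : k ∈ K) → ∀ χ : A →* Lˣ, weightProj χ ≠ 0 → χ.comp (conjOn (hKA hk)).symm.toMonoidHom = χ := by
    intro k hk χ hχ
    by_contra hmv
    let actK : MulAction K (A →* Lˣ) :=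
      { smul := fun x ψ => ψ.comp (conjOn (hKA x.2)).symm.toMonoidHom
        one_smul := fun ψ => MonoidHom.ext fun a => congrArg ψ (Subtype.ext (by
          change (1 : (Module.End L W)ˣ)⁻¹ * (a : (Module.End L W)ˣ) * (1 : (Module.End L W)ˣ)⁻¹⁻¹ = a
          group))
        mul_smul := fun x y ψ => (twist_mul hKA x.2 y.2 ψ).symm }
    let Y : Subgroup R :=
      { carrier := {x | ∃ l : K, l • χ = χ.comp (conjOn (hRA x.2)).symm.toMonoidHom}
        one_mem' := ⟨1, (one_smul K χ).trans (MonoidHom.ext fun a => congrArg χ (Subtype.ext (by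
          change (a : (Module.End L W)ˣ) = (1 : (Module.End L W)ˣ)⁻¹ * (a : (Module.End L W)ˣ) * (1 : (Module.End L W)ˣ)⁻¹⁻¹
          group)))⟩
        mul_mem' := fun {x y} hx hy => by
          obtain ⟨l, hl⟩ := hx
          obtain ⟨m, hm⟩ := hy
          refine ⟨⟨(x : (Module.End L W)ˣ) * m * (x : (Module.End L W)ˣ)⁻¹, (Subgroup.mem_normalizer_iff.mp (hRK x.2) m).mp m.2⟩ * l, ?_⟩
          rw [mul_smul, hl]
          rw [show χ.comp (conjOn (hRA (x * y).2)).symm.toMonoidHom =
            (χ.comp (conjOn (hRA y.2)).symm.toMonoidHom).comp (conjOn (hRA x.2)).symm.toMonoidHom from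
              (twist_mul hRA x.2 y.2 χ).symm, ← hm]
          refine MonoidHom.ext fun a => congrArg χ (Subtype.ext ?_)
          change (x : (Module.End L W)ˣ)⁻¹ * (((x : (Module.End L W)ˣ) * m * (x : (Module.End L W)ˣ)⁻¹)⁻¹ *
            (a : (Module.End L W)ˣ) * ((x : (Module.End L W)ˣ) * m * (x : (Module.End L W)ˣ)⁻¹)⁻¹⁻¹) * (x : (Module.End L W)ˣ)⁻¹⁻¹ =
            (m : (Module.End L W)ˣ)⁻¹ * ((x : (Module.End L W)ˣ)⁻¹ * (a : (Module.End L W)ˣ) * (x : (Module.End L W)ˣ)⁻¹⁻¹) * (m : (Module.End L W)ˣ)⁻¹⁻¹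
          group
        inv_mem' := fun {x} hx => by
          obtain ⟨l, hl⟩ := hx
          refine ⟨⟨((x : (Module.End L W)ˣ)⁻¹) * (l⁻¹ : K) * ((x : (Module.End L W)ˣ)⁻¹)⁻¹,
            (Subgroup.mem_normalizer_iff.mp (hRK (inv_mem x.2)) _).mp (l⁻¹ : K).2⟩, ?_⟩
          have e : χ = (l⁻¹ : K) • (χ.comp (conjOn (hRA x.2)).symm.toMonoidHom) := by rw [← hl, inv_smul_smul]
          conv_rhs => rw [e]
          refine MonoidHom.ext fun a => congrArg χ (Subtype.ext ?_)
          change (((x : (Module.End L W)ˣ)⁻¹) * ((l⁻¹ : K) : (Module.End L W)ˣ) * ((x : (Module.End L W)ˣ)⁻¹)⁻¹)⁻¹ *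
            (a : (Module.End L W)ˣ) * (((x : (Module.End L W)ˣ)⁻¹) * ((l⁻¹ : K) : (Module.End L W)ˣ) * ((x : (Module.End L W)ˣ)⁻¹)⁻¹)⁻¹⁻¹ =
            (x : (Module.End L W)ˣ)⁻¹ * (((l⁻¹ : K) : (Module.End L W)ˣ)⁻¹ * (((x⁻¹ : R) : (Module.End L W)ˣ)⁻¹ * (a : (Module.End L W)ˣ) *
              ((x⁻¹ : R) : (Module.End L W)ˣ)⁻¹⁻¹) * ((l⁻¹ : K) : (Module.End L W)ˣ)⁻¹⁻¹) * (x : (Module.End L W)ˣ)⁻¹⁻¹
          simp only [InvMemClass.coe_inv]
          group }
    have hknz : weightProj (χ.comp (conjOn (hKA hk)).symm.toMonoidHom) ≠ 0 := by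
      intro e
      have h1 := mul_weightProj_comm (hKA hk) χ
      rw [e, zero_mul] at h1
      apply hχ
      calc weightProj χ = ((k⁻¹ : (Module.End L W)ˣ) : Module.End L W) * ((k : Module.End L W) * weightProj χ) := by
            rw [← mul_assoc, ← Units.val_mul, inv_mul_cancel, Units.val_one, one_mul]
        _ = 0 := by rw [h1, mul_zero]
    obtain ⟨x0, hx0⟩ := horb _ _ hknz hχ
    have hYtop : Y = ⊤ := by
      have hYne : Y ≠ ⊥ := by
        intro e
        have hmem : x0 ∈ Y := ⟨⟨k, hk⟩, hx0⟩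
        rw [e, Subgroup.mem_bot] at hmem
        subst hmem
        refine hmv (hx0.trans (MonoidHom.ext fun a => congrArg χ (Subtype.ext ?_)))
        change (1 : (Module.End L W)ˣ)⁻¹ * (a : (Module.End L W)ˣ) * (1 : (Module.End L W)ˣ)⁻¹⁻¹ = a
        group
      rcases hr.out.eq_one_or_self_of_dvd _ (hR ▸ Y.card_subgroup_dvd_card) with h | h
      · exact absurd (Subgroup.card_eq_one.mp h) hYne
      · exact Subgroup.eq_top_of_card_eq Y (h.trans hR.symm)
    let φ : R → MulAction.orbit K χ := fun x => ⟨χ.comp (conjOn (hRA x.2)).symm.toMonoidHom, by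
      obtain ⟨l, hl⟩ : x ∈ Y := hYtop ▸ Subgroup.mem_top x
      exact ⟨l, hl⟩⟩
    have hφ : Function.Bijective φ := by
      constructor
      · intro x y hxy
        have e : χ.comp (conjOn (hRA x.2)).symm.toMonoidHom = χ.comp (conjOn (hRA y.2)).symm.toMonoidHom :=
          congrArg Subtype.val hxy
        have h1 : χ.comp (conjOn (hRA (y⁻¹ * x).2)).symm.toMonoidHom = χ := by
          rw [show χ.comp (conjOn (hRA (y⁻¹ * x).2)).symm.toMonoidHom =
            (χ.comp (conjOn (hRA x.2)).symm.toMonoidHom).comp (conjOn (hRA (y⁻¹).2)).symm.toMonoidHom from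
              (twist_mul hRA (y⁻¹).2 x.2 χ).symm, e]
          refine MonoidHom.ext fun a => congrArg χ (Subtype.ext ?_)
          change (y : (Module.End L W)ˣ)⁻¹ * (((y⁻¹ : R) : (Module.End L W)ˣ)⁻¹ * (a : (Module.End L W)ˣ) *
              ((y⁻¹ : R) : (Module.End L W)ˣ)⁻¹⁻¹) * (y : (Module.End L W)ˣ)⁻¹⁻¹ = a
          simp only [InvMemClass.coe_inv]
          group
        by_contra hne
        exact hne1 χ hχ (weight_twist_eq_one (hRA (y⁻¹ * x).2)
          (hfree _ (y⁻¹ * x).2 fun h => hne (inv_mul_eq_one.mp (Subtype.ext h)).symm) h1)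
      · rintro ⟨ψ, l, rfl⟩
        have hnz : weightProj (l • χ) ≠ 0 := by
          intro e
          have h1 := mul_weightProj_comm (hKA l.2) χ
          rw [show χ.comp (conjOn (hKA l.2)).symm.toMonoidHom = l • χ from rfl, e, zero_mul] at h1
          apply hχ
          calc weightProj χ = (((l : (Module.End L W)ˣ)⁻¹ : (Module.End L W)ˣ) : Module.End L W) *
                (((l : (Module.End L W)ˣ) : Module.End L W) * weightProj χ) := by
                rw [← mul_assoc, ← Units.val_mul, inv_mul_cancel, Units.val_one, one_mul]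
            _ = 0 := by rw [h1, mul_zero]
        obtain ⟨x, hx⟩ := horb _ _ hnz hχ
        exact ⟨x, Subtype.ext hx.symm⟩
    refine hrK ?_
    rw [← hR, Nat.card_eq_of_bijective φ hφ, Nat.card_congr (MulAction.orbitEquivQuotientStabilizer K χ)]
    exact Subgroup.index_dvd_card _
  -- on each weight space `K` acts by scalars
  have hscal : ∀ (k) (hk : k ∈ K) (χ : A →* Lˣ), ∃ a : L, (k : Module.End L W) * weightProj χ = a • weightProj χ := by
    intro k hk χ
    rcases eq_or_ne (weightProj χ) 0 with e | hχ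
    · exact ⟨0, by rw [e, mul_zero, smul_zero]⟩
    have hcomm := mul_weightProj_comm (hKA hk) χ
    rw [hfixK k hk χ hχ] at hcomm
    have hp : weightProj χ * (k : Module.End L W) = (k : Module.End L W) * weightProj χ := hcomm.symm
    obtain ⟨w, hw, hl⟩ := hspan χ hχ
    obtain ⟨a, ha⟩ := hl ((k : Module.End L W) (weightProj χ w))
    refine ⟨a, LinearMap.ext fun v => ?_⟩
    obtain ⟨b, hb⟩ := hl (weightProj χ v)
    have e1 : ∀ u, weightProj χ (T (weightProj χ u)) = weightProj χ u := fun u => LinearMap.congr_fun (hself χ hχ) u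
    have e2 : weightProj χ v = b • weightProj χ w := by rw [← e1 v, hb, map_smul, e1]
    have hid : weightProj χ * weightProj χ = weightProj χ := by rw [weightProj_mul h0, if_pos rfl]
    have e3 : (k : Module.End L W) (weightProj χ w) = weightProj χ ((k : Module.End L W) (weightProj χ w)) := by
      rw [← Module.End.mul_apply (weightProj χ), hp, Module.End.mul_apply, ← Module.End.mul_apply (weightProj χ), hid]
    rw [LinearMap.smul_apply, Module.End.mul_apply, e2, map_smul, smul_comm a b]
    congr 1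
    calc (k : Module.End L W) (weightProj χ w) = weightProj χ ((k : Module.End L W) (weightProj χ w)) := e3
      _ = weightProj χ (T (weightProj χ ((k : Module.End L W) (weightProj χ w)))) := (e1 _).symm
      _ = weightProj χ (a • T (weightProj χ w)) := by rw [← e3, ha]
      _ = a • weightProj χ w := by rw [map_smul, e1]
  have hone := sum_weightProj (A := A) h0
  rw [Units.val_mul, Units.val_mul, ← mul_one ((g : Module.End L W) * h), ← mul_one ((h : Module.End L W) * g), ← hone,
    Finset.mul_sum, Finset.mul_sum]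
  refine Finset.sum_congr rfl fun χ _ => ?_
  obtain ⟨a, ha⟩ := hscal g hg χ
  obtain ⟨b, hb⟩ := hscal h hh χ
  rw [mul_assoc, hb, mul_smul_comm, ha, mul_assoc, ha, mul_smul_comm, hb, smul_comm]

end main

/-- The rank of a linear map is unchanged by extension of scalars. -/
theorem finrank_range_baseChange {F : Type*} [Field F] (E : Type*) [Field E] [Algebra F E] {M : Type*}
    [AddCommGroup M] [Module F M] [FiniteDimensional F M] (f : Module.End F M) :
    Module.finrank E (LinearMap.range (f.baseChange E)) = Module.finrank F (LinearMap.range f) := by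
  have hi : Function.Injective ((LinearMap.range f).subtype.baseChange E) :=
    Module.Flat.lTensor_preserves_injective_linearMap (M := E) _ (Submodule.subtype_injective _)
  have hs : Function.Surjective (f.rangeRestrict.baseChange E) :=
    LinearMap.lTensor_surjective E f.surjective_rangeRestrict
  have hf : f.baseChange E = ((LinearMap.range f).subtype.baseChange E).comp (f.rangeRestrict.baseChange E) := by
    rw [← LinearMap.baseChange_comp]
    rfl
  rw [hf, LinearMap.range_comp, LinearMap.range_eq_top.mpr hs, Submodule.map_top, LinearMap.finrank_range_of_inj hi,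
    Module.finrank_baseChange]

end Cfsg.Agent.OddLocal
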