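import Cfsg.Agent.Lib.OddLocal.SigmaTilde

/-! Elements with fixed points on `M_σ` (BG 14.2, 14.6). -/

set_option autoImplicit false
set_option linter.unusedSectionVars false
set_option linter.style.haveILetI false

namespace Cfsg.Agent.OddLocal

open scoped commutatorElement Pointwise
open Cfsg
open Basics (IsSylowIn)

universe u

variable {G : Type u} [Group G] [Finite G]

theorem not_kappa_of_tau2 {M : Subgroup G} {r : ℕ} (h : r ∈ Cfsg.tau2 M) : r ∉ Cfsg.kappa M := fun hk => by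
  haveI := Fact.mk h.1
  exact h.2.2.2 (kappa_rank_one hk)

theorem decomp_normal (hG : IsMinSimpleOddOrder G) {M K U : Subgroup G} (hM : IsCoatom M)
    (h : IsSigmaDecomposition M K U) :
    M ≤ Subgroup.normalizer ((Cfsg.sigmaCore M ⊔ U : Subgroup G) : Set G) := by
  rcases eq_or_ne K ⊥ with hK | hK
  · have hc := h.compl
    rw [hK, bot_sup_eq] at hc
    refine le_trans (le_of_eq (le_antisymm ?_ (sup_le (sigmaCore_le M) hc.1))) Subgroup.le_normalizer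
    intro m hm
    obtain ⟨a, ha, b, hb, rfl⟩ := hc.2.2.2 m hm
    exact mul_mem (Subgroup.mem_sup_right ha) (Subgroup.mem_sup_left hb)
  obtain ⟨U₀, -, -, -, -, -, -, hN, -, -, hcmp⟩ := decomp_compare hG hM h.hall hK
  rw [hcmp U h]
  exact hN

theorem card_decomp (hG : IsMinSimpleOddOrder G) {M K U : Subgroup G} (hM : IsCoatom M)
    (h : IsSigmaDecomposition M K U) :
    Nat.card M = Nat.card ↥(Cfsg.sigmaCore M ⊔ U) * Nat.card K ∧
      Nat.card ↥(Cfsg.sigmaCore M ⊔ U) = Nat.card (Cfsg.sigmaCore M) * Nat.card U ∧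
      (Nat.card ↥(Cfsg.sigmaCore M ⊔ U)).Coprime (Nat.card K) := by
  obtain ⟨hMσ, -⟩ := sigmaCore_hall hG hM
  have hU := decomp_hall hG hM h
  have hSK : (Nat.card (Cfsg.sigmaCore M)).Coprime (Nat.card K) := Nat.coprime_of_dvd fun q hq h1 h2 =>
    (h.hall.2.1 q hq h2).2.2.1 (hMσ.2.1 q hq h1)
  have hSU : (Nat.card (Cfsg.sigmaCore M)).Coprime (Nat.card U) := Nat.coprime_of_dvd fun q hq h1 h2 =>
    (hU.2.1 q hq h2).2.2 (hMσ.2.1 q hq h1)
  have hUK : (Nat.card U).Coprime (Nat.card K) := Nat.coprime_of_dvd fun q hq h1 h2 =>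
    (hU.2.1 q hq h1).2.1 (h.hall.2.1 q hq h2)
  have hW : Nat.card ↥(Cfsg.sigmaCore M ⊔ U) = Nat.card (Cfsg.sigmaCore M) * Nat.card U :=
    Basics.card_sup_of_coprime (hU.1.trans (le_normalizer_sigmaCore M)) hSU
  refine ⟨?_, hW, hW ▸ hSK.mul_left hUK⟩
  rw [card_of_isComplIn h.compl, show K ⊔ Cfsg.sigmaCore M = Cfsg.sigmaCore M ⊔ K from sup_comm _ _,
    Basics.card_sup_of_coprime (h.hall.1.trans (le_normalizer_sigmaCore M)) hSK, hW]
  ring

/-- A subgroup of order prime to `κ(M)` lies in `U M_σ`. -/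
theorem le_decomp (hG : IsMinSimpleOddOrder G) {M K U Z : Subgroup G} (hM : IsCoatom M)
    (h : IsSigmaDecomposition M K U) (hZM : Z ≤ M)
    (hZ : ∀ q : ℕ, q.Prime → q ∣ Nat.card Z → q ∉ Cfsg.kappa M) : Z ≤ Cfsg.sigmaCore M ⊔ U := by
  obtain ⟨hc, -, hcop⟩ := card_decomp hG hM h
  refine Basics.KW.le_of_coprime_sup (Or.inr (hZM.trans (decomp_normal hG hM h))) (d := Nat.card K)
    (hc ▸ Subgroup.card_dvd_of_le (sup_le hZM (sup_le (sigmaCore_le M) h.compl.1))) ?_ hcop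
  exact Nat.coprime_of_dvd fun q hq h1 h2 => hZ q hq h1 (h.hall.2.1 q hq h2)

theorem exists_kappa_hall (hG : IsMinSimpleOddOrder G) {M : Subgroup G} (hM : IsCoatom M) :
    ∃ K : Subgroup G, IsPiHallOf (Cfsg.kappa M) K M := by
  obtain ⟨K, hKM, hπ, hf⟩ := exists_hall_in hG (H := M) hM.1 (Cfsg.kappa M)
  exact ⟨K, isPiHallOf_of_factorization hKM hπ hf⟩

/-- A `κ`-subgroup is conjugate into a given Hall `κ(M)`-subgroup. -/
theorem exists_conj_le_kappa (hG : IsMinSimpleOddOrder G) {M K Z : Subgroup G} (hM : IsCoatom M)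
    (hK : IsPiHallOf (Cfsg.kappa M) K M) (hZM : Z ≤ M)
    (hZ : ∀ q : ℕ, q.Prime → q ∣ Nat.card Z → q ∈ Cfsg.kappa M) : ∃ m ∈ M, MulAut.conj m • Z ≤ K := by
  haveI : Group.IsSolvable M := isSolvable_of_ne_top hG hM.1
  have hH : (Nat.card (K.subgroupOf M)).Coprime (K.subgroupOf M).index := by
    rw [Basics.card_subgroupOf hK.1]
    exact Nat.coprime_of_dvd fun q hq h1 h2 => hK.2.2 q hq (hK.2.1 q hq h1) h2
  have hZ' : (Nat.card (Z.subgroupOf M)).Coprime (K.subgroupOf M).index := by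
    rw [Basics.card_subgroupOf hZM]
    exact Nat.coprime_of_dvd fun q hq h1 h2 => hK.2.2 q hq (hZ q hq h1) h2
  obtain ⟨g, hg⟩ := Basics.exists_le_conj_hall hH hZ'
  refine ⟨((g⁻¹ : M) : G), (g⁻¹).2, ?_⟩
  rintro _ ⟨x, hx, rfl⟩
  obtain ⟨e, he, h1⟩ := hg (x := (⟨x, hZM hx⟩ : M)) hx
  have h2 : (g : G) * (e : G) * (g : G)⁻¹ = x := congrArg Subtype.val h1
  change ((g⁻¹ : M) : G) * x * (((g⁻¹ : M) : G))⁻¹ ∈ K
  rw [← h2, Subgroup.coe_inv,
    show (g : G)⁻¹ * ((g : G) * (e : G) * (g : G)⁻¹) * (g : G)⁻¹⁻¹ = (e : G) by group]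
  exact he

/-- Commuting elements of a `κ`-prime and of a prime outside `κ ∪ σ` do not exist. -/
theorem not_commute_kappa (hG : IsMinSimpleOddOrder G) {M : Subgroup G} (hM : IsCoatom M) {k z : G} {r s : ℕ}
    (hr : r.Prime) (hs : s.Prime) (hrk : r ∈ Cfsg.kappa M) (hsk : s ∉ Cfsg.kappa M) (hsσ : s ∉ Cfsg.sigma M)
    (hkM : k ∈ M) (hzM : z ∈ M) (hko : orderOf k = r) (hzo : orderOf z = s) (hkz : Commute k z) : False := by
  haveI := Fact.mk hr
  haveI := Fact.mk hs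
  obtain ⟨K, hK⟩ := exists_kappa_hall hG hM
  obtain ⟨m, hm, hmK⟩ := exists_conj_le_kappa hG hM hK (Subgroup.zpowers_le.mpr hkM) fun q hq hd => by
    rw [Nat.card_zpowers, hko] at hd
    rwa [(Nat.prime_dvd_prime_iff_eq hq hr).mp hd]
  set k' := m * k * m⁻¹ with hk'
  set z' := m * z * m⁻¹ with hz'
  have hk'K : k' ∈ K := hmK (Basics.conj_mem_conj_smul (Subgroup.mem_zpowers k))
  have hk'o : orderOf k' = r := by rw [hk', orderOf_conj_elt, hko]
  have hk'1 : k' ≠ 1 := fun e => by rw [e, orderOf_one] at hk'o; exact hr.one_lt.ne hk'o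
  have hz'o : orderOf z' = s := by rw [hz', orderOf_conj_elt, hzo]
  have hcomm : k' * z' = z' * k' := by
    calc k' * z' = m * (k * z) * m⁻¹ := by rw [hk', hz']; group
      _ = m * (z * k) * m⁻¹ := by rw [hkz.eq]
      _ = z' * k' := by rw [hk', hz']; group
  have hK1 : K ≠ ⊥ := fun e => hk'1 (Subgroup.mem_bot.mp (e ▸ hk'K))
  obtain ⟨U₀, -, hreg, hKU₀, hU₀M, -, hdis, hN, hM1, hWK, -⟩ := decomp_compare hG hM hK hK1
  set W := Cfsg.sigmaCore M ⊔ U₀ with hW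
  have hKW : K ≤ Subgroup.normalizer (W : Set G) := hK.1.trans hN
  have hWM : W ≤ M := sup_le (sigmaCore_le M) hU₀M
  have hcard : Nat.card M = Nat.card W * Nat.card K := by
    rw [Basics.card_mul_card_eq_card_sup_mul_card_inf hKW, hM1, hWK, Subgroup.card_bot, mul_one]
  have hWc : (Nat.card W).Coprime (Nat.card K) := Nat.coprime_of_dvd fun q hq h1 h2 => by
    haveI := Fact.mk hq
    have h3 := hallOf_factorization hK hq (hK.2.1 q hq h2)
    rw [hcard, Nat.factorization_mul Nat.card_pos.ne' Nat.card_pos.ne', Finsupp.add_apply] at h3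
    have := hq.factorization_pos_of_dvd Nat.card_pos.ne' h1
    omega
  have hz'M : z' ∈ M := mul_mem (mul_mem hm hzM) (inv_mem hm)
  have hz'W : Subgroup.zpowers z' ≤ W := by
    refine Basics.KW.le_of_coprime_sup (Or.inr ((Subgroup.zpowers_le.mpr hz'M).trans hN)) (d := Nat.card K)
      (hcard ▸ Subgroup.card_dvd_of_le (sup_le (Subgroup.zpowers_le.mpr hz'M) hWM)) ?_ hWc
    rw [Nat.card_zpowers, hz'o]
    exact hs.coprime_iff_not_dvd.mpr fun h => hsk (hK.2.1 s hs h)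
  obtain ⟨b, hb, u, hu, hbu⟩ := (Basics.mem_sup_of_le_normalizer (hU₀M.trans (le_normalizer_sigmaCore M))).mp
    (hz'W (Subgroup.mem_zpowers z'))
  have h1 : k' * u * k'⁻¹ * u⁻¹ ∈ U₀ ⊓ Cfsg.sigmaCore M := by
    refine Subgroup.mem_inf.mpr ⟨mul_mem ((Subgroup.mem_normalizer_iff.mp (hKU₀ hk'K) u).mp hu) (inv_mem hu), ?_⟩
    have e : k' * u * k'⁻¹ * u⁻¹ = (k' * b * k'⁻¹)⁻¹ * b := by
      calc k' * u * k'⁻¹ * u⁻¹ = (k' * b * k'⁻¹)⁻¹ * (k' * z' * k'⁻¹) * u⁻¹ := by rw [hbu]; group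
        _ = (k' * b * k'⁻¹)⁻¹ * b := by rw [hcomm, hbu]; group
    rw [e]
    exact mul_mem (inv_mem ((Subgroup.mem_normalizer_iff.mp
      (le_normalizer_sigmaCore M (hK.1 hk'K)) b).mp hb)) hb
  rw [hdis, Subgroup.mem_bot, mul_inv_eq_one, mul_inv_eq_iff_eq_mul] at h1
  have hu1 : u ∈ U₀ ⊓ Subgroup.centralizer ({k'} : Set G) :=
    Subgroup.mem_inf.mpr ⟨hu, Subgroup.mem_centralizer_singleton_iff.mpr h1.symm⟩
  rw [hreg k' hk'K hk'1, Subgroup.mem_bot] at hu1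
  rw [hu1, mul_one] at hbu
  rw [← hbu] at hb
  exact hsσ (piCoreOf_primes _ M hs (hz'o ▸ Subgroup.orderOf_dvd_natCard _ hb))

/-- The `τ₂` case: all primes lie in one `σ(L)`. -/
theorem tau2_single_sigma (hG : IsMinSimpleOddOrder G) {M : Subgroup G} (hM : IsCoatom M) {x' : G} (hx'M : x' ∈ M)
    (hx'1 : x' ≠ 1) (hτ : ∀ q : ℕ, q.Prime → q ∣ orderOf x' → q ∈ Cfsg.tau2 M) :
    ∃ L : Subgroup G, IsCoatom L ∧ ∀ q : ℕ, q.Prime → q ∣ orderOf x' → q ∈ Cfsg.sigma L := by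
  obtain ⟨E, hE, hxE⟩ := exists_compl_ge hG hM (Subgroup.zpowers_le.mpr hx'M) fun q hq hd =>
    (hτ q hq (by rwa [Nat.card_zpowers] at hd)).2.1
  obtain ⟨r, hr, hrd⟩ := Nat.exists_prime_and_dvd fun e => hx'1 (orderOf_eq_one_iff.mp e)
  haveI := Fact.mk hr
  have hrτ := hτ r hr hrd
  obtain ⟨A, hAE, -, hA2, A₁, hA⟩ := exists_ea_in_compl hG hM hE hrτ
  obtain ⟨L₀, hL₀, hrL₀⟩ := exists_mem_sigma hG hr (hA.dvd_cardG)
  obtain ⟨g, hg⟩ := exists_conj_ge hG hL₀ hrL₀ hA.isPGroup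
  set L := L₀.map (MulAut.conj g).toMonoidHom with hLdef
  have hL : IsCoatom L := isCoatom_map_conj hL₀ g
  have hrL : r ∈ Cfsg.sigma L := sigma_of_conj_inv rfl hrL₀
  have hLM : L ≠ M := fun e => hrτ.2.1 (e ▸ hrL)
  have hnc : ¬ IsCyclic A := not_isCyclic_of_ea hA.ea (hA2 ▸ lt_self_pow₀ hr.one_lt (by norm_num))
  have hEL : E ≤ L := (hA.compl_le_normalizer hG hE hAE).trans
    (normalizer_le_of_noncyclic hG hL hrL hA.isPGroup hg hnc)
  refine ⟨L, hL, fun s hs hsd => ?_⟩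
  haveI := Fact.mk hs
  by_contra hsL
  obtain ⟨B, hBE, hBe, hB2, -, -⟩ := exists_ea_in_compl hG hM hE (hτ s hs hsd)
  obtain ⟨B₁, hB⟩ := exists_exc hG hL hsL (hBE.trans hEL) hBe hB2
  have h0 := hB.inf_maximal hG hM hLM.symm (hBE.trans hE.1)
  exact hA.ne_bot (le_bot_iff.mp (h0 ▸ le_inf (pGroup_le_sigmaCore hG hL hrL hA.isPGroup hg) hA.le))

/-- BG 14.6 in element form: the `σ(M)'` elements with fixed points on `M_σ`. -/
theorem fixed_dichotomy (hG : IsMinSimpleOddOrder G) {M : Subgroup G} (hM : IsCoatom M) {x x' : G}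
    (hx : x ∈ Cfsg.sigmaCore M) (hx1 : x ≠ 1) (hx'M : x' ∈ M) (hxx : Commute x' x) (hx'1 : x' ≠ 1)
    (hσ : ∀ q : ℕ, q.Prime → q ∣ orderOf x' → q ∉ Cfsg.sigma M) :
    ((∀ q : ℕ, q.Prime → q ∣ orderOf x' → q ∈ Cfsg.kappa M) ∧ Subgroup.centralizer ({x} : Set G) ≤ M) ∨
      ((∀ q : ℕ, q.Prime → q ∣ orderOf x' → q ∈ Cfsg.tau2 M) ∧
        (Subgroup.centralizer ({x'} : Set G) ≤ M ∧
          ∀ L : Subgroup G, IsCoatom L → Subgroup.centralizer ({x'} : Set G) ≤ L → L = M)) := by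
  have helt : ∀ q : ℕ, q.Prime → q ∣ orderOf x' → orderOf (x' ^ (orderOf x' / q)) = q := fun q _ hd =>
    orderOf_pow_orderOf_div (orderOf_pos x').ne' hd
  have hkt : ∀ q : ℕ, q.Prime → q ∣ orderOf x' → q ∈ Cfsg.kappa M ∨ q ∈ Cfsg.tau2 M := fun q hq hd => by
    haveI := Fact.mk hq
    by_cases h1 : PRankLE q 1 M
    · exact Or.inl (mem_kappa_of_fixed hG hq (hσ q hq hd) h1 (pow_mem hx'M _) (helt q hq hd)
        ⟨pow_mem hx'M _, x, hx, hx1, (hxx.pow_left _).eq⟩)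
    · exact Or.inr ⟨hq, hσ q hq hd, pRankLE_two_of_not_mem_sigma hG hM (hσ q hq hd), h1⟩
  by_cases hk : ∃ r : ℕ, r.Prime ∧ r ∣ orderOf x' ∧ r ∈ Cfsg.kappa M
  · obtain ⟨r, hr, hrd, hrk⟩ := hk
    refine Or.inl ⟨fun q hq hd => ?_, ?_⟩
    · by_contra hqk
      exact not_commute_kappa hG hM hr hq hrk hqk (hσ q hq hd) (pow_mem hx'M _) (pow_mem hx'M _) (helt r hr hrd)
        (helt q hq hd) ((Commute.refl x').pow_pow _ _)
    haveI := Fact.mk hr
    obtain ⟨t, ht, htd⟩ := Nat.exists_prime_and_dvd fun e => hx1 (orderOf_eq_one_iff.mp e)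
    haveI := Fact.mk ht
    have hY := normalizer_le_of_fixed hG hM hrk.2.2.1 (kappa_rank_one hrk)
      (P := Subgroup.zpowers (x' ^ (orderOf x' / r))) (Subgroup.zpowers_le.mpr (pow_mem hx'M _))
      (by rw [Nat.card_zpowers, helt r hr hrd]) (X := Subgroup.zpowers (x ^ (orderOf x / t))) (q := t)
      (by rw [Nat.card_zpowers, orderOf_pow_orderOf_div (orderOf_pos x).ne' htd])
      (Subgroup.zpowers_le.mpr (Subgroup.mem_inf.mpr ⟨pow_mem hx _, by
        rw [centralizer_eq_of_zpowers]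
        exact Subgroup.mem_centralizer_singleton_iff.mpr ((hxx.symm.pow_pow _ _).eq)⟩))
    refine le_trans ?_ ((Subgroup.centralizer_le_normalizer _).trans hY)
    intro c hc
    rw [centralizer_eq_of_zpowers]
    exact Subgroup.mem_centralizer_singleton_iff.mpr
      ((show Commute c x from Subgroup.mem_centralizer_singleton_iff.mp hc).pow_right _).eq
  push Not at hk
  have hτ : ∀ q : ℕ, q.Prime → q ∣ orderOf x' → q ∈ Cfsg.tau2 M := fun q hq hd =>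
    (hkt q hq hd).resolve_left (hk q hq hd)
  obtain ⟨E, hE, -⟩ := exists_compl_ge hG hM (Subgroup.zpowers_le.mpr hx'M) fun q hq hd =>
    hσ q hq (by rwa [Nat.card_zpowers] at hd)
  exact Or.inr ⟨hτ, tau2_element_unique hG hM hE hx'M hx'1 hτ ⟨hx'M, x, hx, hx1, hxx.eq⟩⟩

end Cfsg.Agent.OddLocal
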