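import Cfsg.Agent.Lib.OddLocal.TauTwoFreeB

/-! A subgroup of full exponent acting freely on `M_σ` (BG 12.12(b), conclusion). -/

set_option autoImplicit false
set_option linter.unusedSectionVars false
set_option linter.style.haveILetI false

namespace Cfsg.Agent.OddLocal

open scoped commutatorElement Pointwise
open Cfsg
open Basics (IsSylowIn)

universe u

variable {G : Type u} [Group G] [Finite G]

theorem isPGroup_zpowers_of_pow {r n : ℕ} [Fact r.Prime] {g : G} (h : g ^ r ^ n = 1) :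
    IsPGroup r (Subgroup.zpowers g) := by
  obtain ⟨i, -, hi⟩ := (Nat.dvd_prime_pow Fact.out).mp (orderOf_dvd_of_pow_eq_one h)
  exact IsPGroup.of_card (n := i) (by rw [Nat.card_zpowers, hi])

/-- The orders of the `r`-elements of `F` divide the exponent of a Sylow `r`-subgroup. -/
theorem exists_conj_mem_sylowIn {r n : ℕ} [Fact r.Prime] {F S : Subgroup G} (hS : IsSylowIn r F S) {g : G}
    (hg : g ∈ F) (hgn : g ^ r ^ n = 1) : ∃ c ∈ F, c * g * c⁻¹ ∈ S := by
  obtain ⟨S', hS', hgS⟩ := exists_sylowIn_ge (isPGroup_zpowers_of_pow hgn) (Subgroup.zpowers_le.mpr hg)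
  obtain ⟨c, hc, ec⟩ := hS'.exists_conj hS
  exact ⟨c, hc, ec ▸ ⟨g, hgS (Subgroup.mem_zpowers g), rfl⟩⟩

theorem orderOf_conj_elt (c g : G) : orderOf (c * g * c⁻¹) = orderOf g :=
  MulEquiv.orderOf_eq (MulAut.conj c) g

theorem card_sup_dvd {N H : Subgroup G} (h : H ≤ Subgroup.normalizer (N : Set G)) :
    Nat.card (N ⊔ H : Subgroup G) ∣ Nat.card N * Nat.card H :=
  ⟨_, Basics.card_mul_card_eq_card_sup_mul_card_inf h⟩

/-- Assembling a free subgroup. -/
theorem free_finish {M : Subgroup G} {F D K : Subgroup G} {z : G} (hFM : F ≤ M) (hDF : D ≤ F) (hKF : K ≤ F)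
    (hzF : z ∈ F) (hzn : K ≤ Subgroup.normalizer (Subgroup.zpowers z : Set G))
    (hDn : K ⊔ Subgroup.zpowers z ≤ Subgroup.normalizer (D : Set G))
    (hD : ∀ r ∈ Cfsg.tau2 M, ¬ r ∣ Nat.card D) (hK : ∀ r ∈ Cfsg.tau2 M, ¬ r ∣ Nat.card K)
    (hK0 : ∀ q : ℕ, q.Prime → q ∉ Cfsg.tau2 M → ∃ S, IsSylowIn q F S ∧ S ≤ D ⊔ K)
    (hz : ∀ r ∈ Cfsg.tau2 M, ∀ g ∈ F, ∀ n : ℕ, g ^ r ^ n = 1 → orderOf g ∣ orderOf z)
    (hzfree : ∀ w ∈ Subgroup.zpowers z, (orderOf w).Prime → orderOf w ∈ Cfsg.tau2 M →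
      Cfsg.sigmaCore M ⊓ Subgroup.centralizer ({w} : Set G) = ⊥)
    (hfree : ∀ x ∈ F, (orderOf x).Prime → orderOf x ∉ Cfsg.tau2 M →
      Cfsg.sigmaCore M ⊓ Subgroup.centralizer ({x} : Set G) = ⊥) :
    ∃ F₀ : Subgroup G, F₀ ≤ F ∧ Monoid.exponent F₀ = Monoid.exponent F ∧
      ∀ e ∈ F₀, e ≠ 1 → Cfsg.sigmaCore M ⊓ Subgroup.centralizer ({e} : Set G) = ⊥ := by
  set Z := Subgroup.zpowers z with hZ
  set F₀ := D ⊔ (Z ⊔ K) with hF₀
  have hZKD : Z ⊔ K ≤ Subgroup.normalizer (D : Set G) := sup_comm Z K ▸ hDn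
  have hcard : Nat.card F₀ ∣ Nat.card D * (orderOf z * Nat.card K) := by
    refine (card_sup_dvd hZKD).trans (mul_dvd_mul_left _ ?_)
    rw [← Nat.card_zpowers]
    exact card_sup_dvd hzn
  have hle : F₀ ≤ F := sup_le hDF (sup_le (Subgroup.zpowers_le.mpr hzF) hKF)
  have hZF₀ : Z ≤ F₀ := le_sup_left.trans le_sup_right
  refine ⟨F₀, hle, Nat.dvd_antisymm (Monoid.exponent_dvd.mpr fun g => ?_) (Monoid.exponent_dvd.mpr fun g => ?_),
    fun e he he1 => ?_⟩
  · rw [← Subgroup.orderOf_coe g, ← Subgroup.orderOf_mk (g : G) (hle g.2)]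
    exact Monoid.order_dvd_exponent _
  · rw [← Subgroup.orderOf_coe g, Nat.dvd_iff_prime_pow_dvd_dvd]
    intro q i hq hqi
    haveI := Fact.mk hq
    set g' := (g : G) ^ (orderOf (g : G) / q ^ i) with hg'
    have ho : orderOf g' = q ^ i := orderOf_pow_orderOf_div (orderOf_pos _).ne' hqi
    have hgF : g' ∈ F := pow_mem g.2 _
    by_cases hqτ : q ∈ Cfsg.tau2 M
    · have h1 := hz q hqτ g' hgF i (by rw [← ho, pow_orderOf_eq_one])
      rw [ho] at h1
      exact h1.trans ((Subgroup.orderOf_mk z (hZF₀ (Subgroup.mem_zpowers z))).symm ▸ Monoid.order_dvd_exponent _)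
    · obtain ⟨S, hS, hSDK⟩ := hK0 q hq hqτ
      obtain ⟨c, -, hc⟩ := exists_conj_mem_sylowIn hS hgF (n := i) (by rw [← ho, pow_orderOf_eq_one])
      have hDK : D ⊔ K ≤ F₀ := sup_le le_sup_left (le_sup_right.trans le_sup_right)
      have hmem : c * g' * c⁻¹ ∈ F₀ := hDK (hSDK hc)
      rw [← ho, ← orderOf_conj_elt c g', ← Subgroup.orderOf_mk _ hmem]
      exact Monoid.order_dvd_exponent _
  · by_contra hne
    obtain ⟨y, hy, hy1⟩ := (Subgroup.bot_or_exists_ne_one _).resolve_left hne
    obtain ⟨r, hr, hrd⟩ := Nat.exists_prime_and_dvd (fun h => he1 (orderOf_eq_one_iff.mp h))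
    haveI := Fact.mk hr
    set w := e ^ (orderOf e / r) with hw
    have hwo : orderOf w = r := orderOf_pow_orderOf_div (orderOf_pos e).ne' hrd
    have hwy : y ∈ Cfsg.sigmaCore M ⊓ Subgroup.centralizer ({w} : Set G) := by
      refine ⟨hy.1, Subgroup.mem_centralizer_singleton_iff.mpr ?_⟩
      exact ((show Commute y e from Subgroup.mem_centralizer_singleton_iff.mp hy.2).pow_right _).eq
    have hwF₀ : w ∈ F₀ := pow_mem he _
    by_cases hrτ : r ∈ Cfsg.tau2 M
    · obtain ⟨S, hS⟩ := exists_sylowIn (q := r) Z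
      have hS' : IsSylowIn r F₀ S := by
        refine ⟨hS.1.trans hZF₀, hS.2.trans (congrArg (r ^ ·) ?_)⟩
        refine le_antisymm ((Nat.factorization_le_iff_dvd Nat.card_pos.ne' Nat.card_pos.ne').mpr
          (Subgroup.card_dvd_of_le hZF₀) r) ?_
        have h1 := (Nat.factorization_le_iff_dvd Nat.card_pos.ne'
          (mul_ne_zero Nat.card_pos.ne' (mul_ne_zero (orderOf_pos z).ne' Nat.card_pos.ne'))).mpr hcard r
        rw [Nat.factorization_mul Nat.card_pos.ne' (mul_ne_zero (orderOf_pos z).ne' Nat.card_pos.ne'),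
          Nat.factorization_mul (orderOf_pos z).ne' Nat.card_pos.ne', Finsupp.add_apply, Finsupp.add_apply,
          Nat.factorization_eq_zero_of_not_dvd (hD r hrτ), Nat.factorization_eq_zero_of_not_dvd (hK r hrτ),
          zero_add, add_zero] at h1
        rw [hZ, Nat.card_zpowers]
        exact h1
      obtain ⟨c, hc, hcS⟩ := exists_conj_mem_sylowIn hS' hwF₀ (n := 1) (by rw [pow_one, ← hwo, pow_orderOf_eq_one])
      have h0 := hzfree _ (hS.1 hcS) (by rw [orderOf_conj_elt, hwo]; exact hr) (by rw [orderOf_conj_elt, hwo]; exact hrτ)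
      have hcy : c * y * c⁻¹ ∈ Cfsg.sigmaCore M ⊓ Subgroup.centralizer ({c * w * c⁻¹} : Set G) := by
        refine ⟨(Subgroup.mem_normalizer_iff.mp (le_normalizer_sigmaCore M (hFM (hle hc))) y).mp hy.1,
          Subgroup.mem_centralizer_singleton_iff.mpr ?_⟩
        have h2 : y * w = w * y := Subgroup.mem_centralizer_singleton_iff.mp hwy.2
        calc c * y * c⁻¹ * (c * w * c⁻¹) = c * (y * w) * c⁻¹ := by group
          _ = c * (w * y) * c⁻¹ := by rw [h2]
          _ = _ := by group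
      rw [h0, Subgroup.mem_bot] at hcy
      exact hy1 (conj_eq_one_iff.mp hcy)
    · rw [hfree w (hle hwF₀) (by rw [hwo]; exact hr) (by rw [hwo]; exact hrτ), Subgroup.mem_bot] at hwy
      exact hy1 hwy

theorem exists_hall_in (hG : IsMinSimpleOddOrder G) {H : Subgroup G} (hH : H ≠ ⊤) (π : Set ℕ) :
    ∃ K : Subgroup G, K ≤ H ∧ (∀ q : ℕ, q.Prime → q ∣ Nat.card K → q ∈ π) ∧
      ∀ q : ℕ, q.Prime → q ∈ π → (Nat.card K).factorization q = (Nat.card H).factorization q := by
  haveI : Group.IsSolvable H := isSolvable_of_ne_top hG hH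
  obtain ⟨K, -, hK⟩ := Basics.exists_hall_pi (G := H) π
  refine ⟨K.map H.subtype, Subgroup.map_subtype_le K, fun q hq hd => ?_, fun q hq hqπ => ?_⟩
  · rw [Subgroup.card_map_of_injective H.subtype_injective] at hd
    exact ((hK q hq (hd.trans (Subgroup.card_subgroup_dvd_card K))).1).mp hd
  · rw [Subgroup.card_map_of_injective H.subtype_injective, ← Subgroup.card_mul_index K,
      Nat.factorization_mul Nat.card_pos.ne' K.index_ne_zero_of_finite, Finsupp.add_apply]
    by_cases hd : q ∣ Nat.card H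
    · rw [Nat.factorization_eq_zero_of_not_dvd (n := K.index) (fun h => (hK q hq hd).2.mp h hqπ), add_zero]
    · rw [Nat.factorization_eq_zero_of_not_dvd (n := K.index) (fun h => hd (h.trans K.index_dvd_card)), add_zero]

theorem sylowIn_of_hall_in {q : ℕ} [Fact q.Prime] {H K S : Subgroup G} (hKH : K ≤ H)
    (hf : (Nat.card K).factorization q = (Nat.card H).factorization q) (hS : IsSylowIn q K S) : IsSylowIn q H S :=
  ⟨hS.1.trans hKH, hf ▸ hS.2⟩

/-- Sylow subgroups for different primes, both normalized, centralize each other. -/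
theorem centralizes_of_normalized {r q : ℕ} [Fact r.Prime] [Fact q.Prime] (hrq : r ≠ q) {E R U : Subgroup G}
    (hR : IsPGroup r R) (hU : IsPGroup q U) (hRE : R ≤ E) (hUE : U ≤ E)
    (hER : E ≤ Subgroup.normalizer (R : Set G)) (hEU : E ≤ Subgroup.normalizer (U : Set G)) :
    U ≤ Subgroup.centralizer (R : Set G) := by
  rw [← Subgroup.commutator_eq_bot_iff_le_centralizer, eq_bot_iff,
    ← (Subgroup.disjoint_of_coprime_natCard (coprime_of_pGroups hrq hR hU)).eq_bot]
  refine le_inf (Subgroup.commutator_le.mpr fun a ha b hb => ?_) (Subgroup.commutator_le.mpr fun a ha b hb => ?_)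
  · rw [commutatorElement_def]
    exact mul_mem ((Subgroup.mem_normalizer_iff.mp (hER (hUE ha)) b).mp hb) (inv_mem hb)
  · rw [commutatorElement_def, mul_assoc a b, mul_assoc a]
    exact mul_mem ha ((Subgroup.mem_normalizer_iff.mp (hEU (hRE hb)) a⁻¹).mp (inv_mem ha))

/-- BG 12.12(b). -/
theorem exists_free_subgroup (hG : IsMinSimpleOddOrder G) {M E F : Subgroup G} (hM : IsCoatom M)
    (hE : IsComplIn E (Cfsg.sigmaCore M) M) (hFE : F ≤ E)
    (hfull : ∀ r ∈ Cfsg.tau2 M, ∃ R : Subgroup G, IsSylowIn r E R ∧ R ≤ F)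
    (hfree : ∀ x ∈ F, (orderOf x).Prime → orderOf x ∉ Cfsg.tau2 M →
      Cfsg.sigmaCore M ⊓ Subgroup.centralizer ({x} : Set G) = ⊥) :
    ∃ F₀ : Subgroup G, F₀ ≤ F ∧ Monoid.exponent F₀ = Monoid.exponent F ∧
      ∀ e ∈ F₀, e ≠ 1 → Cfsg.sigmaCore M ⊓ Subgroup.centralizer ({e} : Set G) = ⊥ := by
  classical
  have hFM : F ≤ M := hFE.trans hE.1
  have hFtop : F ≠ ⊤ := fun e => hM.1 (top_le_iff.mp (e ▸ hFM))
  by_cases hna : ∃ q ∈ Cfsg.tau2 M, ∃ S : Sylow q G, ¬ IsMulCommutative (S : Subgroup G)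
  · -- nonabelian Sylow subgroups: `τ₂(M) = {p}`
    obtain ⟨p, hp, S₀, hS₀⟩ := hna
    haveI := Fact.mk hp.1
    have hna : ∀ S : Sylow p G, ¬ IsMulCommutative (S : Subgroup G) := fun S hS =>
      hS₀ (sylow_commutative_of_one hS S₀)
    obtain ⟨A, hAE, -, -, A₀, h⟩ := exists_ea_in_compl hG hM hE hp
    have hτ : ∀ r ∈ Cfsg.tau2 M, r = p := fun r hr => h.nonAb_tau2 hG hna hE hAE hr
    obtain ⟨R, hR, hRF⟩ := hfull p hp
    have hRFs : IsSylowIn p F R := by
      refine ⟨hRF, hR.2.trans (congrArg (p ^ ·) (le_antisymm ?_ ?_))⟩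
      · have h1 := (Nat.factorization_le_iff_dvd Nat.card_pos.ne' Nat.card_pos.ne').mpr (Subgroup.card_dvd_of_le hRF) p
        rwa [hR.2, Nat.Prime.factorization_pow hp.1, Finsupp.single_eq_same] at h1
      · exact (Nat.factorization_le_iff_dvd Nat.card_pos.ne' Nat.card_pos.ne').mpr (Subgroup.card_dvd_of_le hFE) p
    set F' := ⁅F, F⁆ with hF'
    have hF'E : F' ≤ ⁅E, E⁆ := Subgroup.commutator_mono hFE hFE
    have hF'F : F' ≤ F := Subgroup.commutator_le_self F
    have hF'c : IsMulCommutative F' := by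
      have := derived_compl_commutative hG hM hE
      exact ⟨⟨fun a b => Subtype.ext
        (by simpa using congrArg Subtype.val (this.is_comm.comm ⟨a, hF'E a.2⟩ ⟨b, hF'E b.2⟩))⟩⟩
    have hFF' : F ≤ Subgroup.normalizer (F' : Set G) := by
      intro f hf
      rw [← Basics.conj_smul_eq_self_iff, hF']
      change (⁅F, F⁆).map (MulAut.conj f).toMonoidHom = ⁅F, F⁆
      rw [Subgroup.map_commutator, map_conj_eq_self hf]
    set m := ordCompl[p] (Nat.card F') with hm
    obtain ⟨D, hDea, hDmem, hDn⟩ := exists_omega_abelian hF'c m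
    have hDF : D ≤ F := fun d hd => hF'F ((hDmem d).mp hd).1
    have hFD : F ≤ Subgroup.normalizer (D : Set G) := hFF'.trans hDn
    have hDp : ∀ r ∈ Cfsg.tau2 M, ¬ r ∣ Nat.card D := fun r hr hd => by
      obtain rfl := hτ r hr
      obtain ⟨d, hd'⟩ := exists_prime_orderOf_dvd_card' (G := D) r hd
      refine Nat.not_dvd_ordCompl hp.1 (Nat.card_pos (α := F')).ne' ?_
      rw [← hm, ← hd', ← Subgroup.orderOf_coe]
      exact orderOf_dvd_of_pow_eq_one ((hDmem d).mp d.2).2
    have hF'le : F' ≤ D ⊔ R := le_of_sylows fun q hq hd => by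
      haveI := Fact.mk hq
      obtain ⟨Q, hQ⟩ := exists_sylowIn (q := q) F'
      refine ⟨Q, hQ, ?_⟩
      rcases eq_or_ne q p with rfl | hqp
      · exact (le_sylowIn_of_normalized hQ.isPGroup (hQ.1.trans hF'F)
          (le_normalizer_sylowIn hF'c hFF' hQ) hRFs).trans le_sup_right
      · refine le_trans (fun g hg => (hDmem g).mpr ⟨hQ.1 hg, ?_⟩) le_sup_left
        have h1 : Nat.card Q ∣ m := by
          refine Nat.Coprime.dvd_of_dvd_mul_right (k := Nat.card Q) (m := m) (n := p ^ (Nat.card F').factorization p)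
            ?_ (by rw [hm, mul_comm, Nat.ordProj_mul_ordCompl_eq_self]; exact Subgroup.card_dvd_of_le hQ.1)
          rw [hQ.2]
          exact Nat.Coprime.pow _ _ ((Nat.coprime_primes hq hp.1).mpr hqp)
        obtain ⟨c, hc⟩ := h1
        rw [hc, pow_mul, show g ^ Nat.card Q = 1 from congrArg Subtype.val (pow_card_eq_one' (x := (⟨g, hg⟩ : Q))),
          one_pow]
    set N := F ⊓ Subgroup.normalizer (R : Set G) with hN
    have hFDN : ∀ f ∈ F, f ∈ D ⊔ N := by
      intro f hf
      have hle : D ⊔ R ≤ F := sup_le hDF hRF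
      have hconj : MulAut.conj f • R ≤ D ⊔ R := by
        rintro _ ⟨a, ha, rfl⟩
        have h1 : ⁅f, a⁆ ∈ D ⊔ R := hF'le (Subgroup.commutator_mem_commutator hf (hRF ha))
        have h2 := mul_mem h1 (Subgroup.mem_sup_right ha : a ∈ D ⊔ R)
        rw [commutatorElement_def, inv_mul_cancel_right] at h2
        exact h2
      have hS1 : IsSylowIn p (D ⊔ R) R := ⟨le_sup_right, hRFs.2.trans (congrArg (p ^ ·) (le_antisymm
        (by
          have h1 := (Nat.factorization_le_iff_dvd Nat.card_pos.ne' Nat.card_pos.ne').mpr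
            (Subgroup.card_dvd_of_le (le_sup_right : R ≤ D ⊔ R)) p
          rwa [hRFs.2, Nat.Prime.factorization_pow hp.1, Finsupp.single_eq_same] at h1)
        ((Nat.factorization_le_iff_dvd Nat.card_pos.ne' Nat.card_pos.ne').mpr (Subgroup.card_dvd_of_le hle) p)))⟩
      have hS2 : IsSylowIn p (D ⊔ R) (MulAut.conj f • R) := ⟨hconj, (Basics.card_conj_smul f R).trans hS1.2⟩
      obtain ⟨c, hc, ec⟩ := hS2.exists_conj hS1
      rw [← mul_smul, ← map_mul, Basics.conj_smul_eq_self_iff] at ec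
      have hcf : c * f ∈ N := ⟨mul_mem (hle hc) hf, ec⟩
      rw [show f = c⁻¹ * (c * f) by group]
      exact mul_mem (inv_mem (sup_le le_sup_left
        (le_sup_right.trans' (le_inf hRF Subgroup.le_normalizer)) hc)) (Subgroup.mem_sup_right hcf)
    obtain ⟨K, hKN, hKπ, hKf⟩ := exists_hall_in hG (H := N) (fun e => hFtop (top_le_iff.mp (e ▸ inf_le_left)))
      (Cfsg.tau2 M)ᶜ
    have hKF : K ≤ F := hKN.trans inf_le_left
    have hpK : ¬ p ∣ Nat.card K := fun hd => hKπ p hp.1 hd hp
    obtain ⟨e, z, hzR, hKz, hzo, hzexp, hzfree⟩ := h.exists_free_root_nonAb hG hE hAE hna hR (hKF.trans hFE) hpK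
      (hKN.trans inf_le_right)
    refine free_finish hFM hDF hKF (hRF hzR) hKz
      ((sup_le hKF (Subgroup.zpowers_le.mpr (hRF hzR))).trans hFD) hDp
      (fun r hr hd => hKπ r hr.1 hd hr) (fun q hq hqτ => ?_) (fun r hr g hg n hgn => ?_)
      (fun w hw _ hwτ => hzfree w hw (hτ _ hwτ)) hfree
    · haveI := Fact.mk hq
      obtain ⟨S, hS⟩ := exists_sylowIn (q := q) (D ⊔ K)
      refine ⟨S, sylowIn_of_hall_in (sup_le hDF hKF) ?_ hS, hS.1⟩
      have hF : F = D ⊔ N := le_antisymm hFDN (sup_le hDF inf_le_left)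
      have h1 := congrArg (fun k => k.factorization q)
        (Basics.card_mul_card_eq_card_sup_mul_card_inf (N := D) (H := N) (inf_le_left.trans hFD))
      have h2 := congrArg (fun k => k.factorization q)
        (Basics.card_mul_card_eq_card_sup_mul_card_inf (N := D) (H := K) (hKF.trans hFD))
      have hDNK : D ⊓ N = D ⊓ K := by
        refine le_antisymm (le_inf inf_le_left (le_of_sylows fun t ht htd => ?_)) (inf_le_inf_left D hKN)
        haveI := Fact.mk ht
        obtain ⟨T, hT⟩ := exists_sylowIn (q := t) (D ⊓ N)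
        refine ⟨T, hT, ?_⟩
        have htτ : t ∉ Cfsg.tau2 M := fun hτt => hDp t hτt (htd.trans (Subgroup.card_dvd_of_le inf_le_left))
        obtain ⟨U, hU⟩ := exists_sylowIn (q := t) K
        have hc : IsMulCommutative (D ⊓ N : Subgroup G) := ⟨⟨fun a b => Subtype.ext
          (by simpa using congrArg Subtype.val (hDea.1.is_comm.comm ⟨a, a.2.1⟩ ⟨b, b.2.1⟩))⟩⟩
        exact (le_sylowIn_of_normalized hT.isPGroup (hT.1.trans inf_le_right)
          (le_normalizer_sylowIn hc ((le_inf (inf_le_left.trans hFD) Subgroup.le_normalizer).trans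
            le_normalizer_inf') hT)
          (sylowIn_of_hall_in hKN (hKf t ht htτ) hU)).trans hU.1
      rw [← hF] at h1
      simp only [Nat.factorization_mul Nat.card_pos.ne' Nat.card_pos.ne', Finsupp.add_apply, hDNK] at h1 h2
      have h3 := hKf q hq hqτ
      omega
    · obtain rfl := hτ r hr
      obtain ⟨c, -, hc⟩ := exists_conj_mem_sylowIn hRFs hg hgn
      rw [← orderOf_conj_elt c g, hzo]
      exact orderOf_dvd_of_pow_eq_one (hzexp _ hc)
  · -- abelian Sylow subgroups
    push Not at hna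
    have hRn : ∀ r ∈ Cfsg.tau2 M, ∀ R : Subgroup G, IsSylowIn r E R → E ≤ Subgroup.normalizer (R : Set G) := by
      intro r hr R hR
      haveI := Fact.mk hr.1
      exact tau2_sylow_normal hG hM hE hr (hna r hr) hR
    have hmem : ∀ r ∈ Cfsg.tau2 M, ∀ g ∈ E, ∀ n : ℕ, g ^ r ^ n = 1 → ∀ R : Subgroup G, IsSylowIn r E R → g ∈ R := by
      intro r hr g hg n hgn R hR
      haveI := Fact.mk hr.1
      exact (hR.eq_of_le (IsPGroup.to_sup_of_normal_left' hR.isPGroup (isPGroup_zpowers_of_pow hgn)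
        (Subgroup.zpowers_le.mpr (hRn r hr R hR hg))) (sup_le hR.1 (Subgroup.zpowers_le.mpr hg)) le_sup_left).le
          (Subgroup.mem_sup_right (Subgroup.mem_zpowers g))
    obtain ⟨K, hKF, hKπ, hKf⟩ := exists_hall_in hG hFtop (Cfsg.tau2 M)ᶜ
    have key : ∀ S : Finset ℕ, (∀ r ∈ S, r ∈ Cfsg.tau2 M) → ∃ z ∈ F,
        (∀ t : ℕ, t.Prime → t ∣ orderOf z → t ∈ S) ∧ K ≤ Subgroup.normalizer (Subgroup.zpowers z : Set G) ∧
        (∀ r ∈ S, ∀ g ∈ F, ∀ n : ℕ, g ^ r ^ n = 1 → orderOf g ∣ orderOf z) ∧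
        ∀ w ∈ Subgroup.zpowers z, (orderOf w).Prime →
          Cfsg.sigmaCore M ⊓ Subgroup.centralizer ({w} : Set G) = ⊥ := by
      intro S
      induction S using Finset.induction_on with
      | empty =>
        intro _
        refine ⟨1, one_mem F, fun t ht hd => absurd hd (by rw [orderOf_one]; exact ht.not_dvd_one), ?_, by simp,
          fun w hw hwp => ?_⟩
        · simp only [Subgroup.zpowers_one_eq_bot]
          intro k _
          exact mem_normalizer_of_conj_mem fun a ha => by rw [Subgroup.mem_bot] at ha ⊢; simp [ha]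
        · rw [Subgroup.zpowers_one_eq_bot, Subgroup.mem_bot] at hw
          rw [hw, orderOf_one] at hwp
          exact absurd hwp Nat.not_prime_one
      | @insert r S hrS ih =>
        intro hS
        obtain ⟨z, hzF, hzS, hKz, hzdvd, hzfree⟩ := ih fun t ht => hS t (Finset.mem_insert_of_mem ht)
        have hrτ := hS r (Finset.mem_insert_self r S)
        haveI := Fact.mk hrτ.1
        obtain ⟨A, hAE, -, -, A₀, h⟩ := exists_ea_in_compl hG hM hE hrτ
        obtain ⟨R, hR, hRF⟩ := hfull r hrτ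
        have hER := hRn r hrτ R hR
        obtain ⟨e, z', hz'R, hKz', hz'o, hexp, hz'free⟩ := h.exists_free_root_abelian hG hE hAE (hna r hrτ) hR hFE
          hKF (fun hd => hKπ r hrτ.1 hd hrτ) ((hKF.trans hFE).trans hER) hfree
        have hzR : z ∈ Subgroup.centralizer (R : Set G) := by
          refine le_of_sylows (N := Subgroup.zpowers z) (fun t ht hd => ?_) (Subgroup.mem_zpowers z)
          haveI := Fact.mk ht
          rw [Nat.card_zpowers] at hd
          have htS := hzS t ht hd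
          have htτ := hS t (Finset.mem_insert_of_mem htS)
          obtain ⟨U, hU⟩ := exists_sylowIn (q := t) (Subgroup.zpowers z)
          obtain ⟨T, hT, -⟩ := hfull t htτ
          refine ⟨U, hU, fun g hg => centralizes_of_normalized (fun e' : r = t => hrS (e' ▸ htS)) hR.isPGroup
            hT.isPGroup hR.1 hT.1 hER (hRn t htτ T hT) ?_⟩
          obtain ⟨n, hn⟩ := hU.isPGroup ⟨g, hg⟩
          exact hmem t htτ g (hFE (Subgroup.zpowers_le.mpr hzF (hU.1 hg))) n (congrArg Subtype.val hn) T hT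
        have hc : Commute z z' := (Subgroup.mem_centralizer_iff.mp hzR z' hz'R).symm
        have hcop : (orderOf z).Coprime (orderOf z') := by
          rw [hz'o]
          exact Nat.Coprime.pow_right _ ((hrτ.1.coprime_iff_not_dvd.mpr fun hd => hrS (hzS r hrτ.1 hd)).symm)
        have ho : orderOf (z * z') = orderOf z * orderOf z' := hc.orderOf_mul_eq_mul_orderOf_of_coprime hcop
        have hsub : Subgroup.zpowers z ⊔ Subgroup.zpowers z' = Subgroup.zpowers (z * z') := by
          refine le_antisymm ?_ ?_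
          swap
          · exact Subgroup.zpowers_le.mpr (mul_mem (Subgroup.mem_sup_left (Subgroup.mem_zpowers z))
              (Subgroup.mem_sup_right (Subgroup.mem_zpowers z')))
          have hzm : ∀ {a b : G}, Commute a b → (orderOf a).Coprime (orderOf b) → a ∈ Subgroup.zpowers (a * b) := by
            intro a b hab hco
            obtain ⟨k, hk⟩ := exists_pow_eq_self_of_coprime (x := a) hco.symm
            have h1 : (a * b) ^ orderOf b = a ^ orderOf b := by
              rw [hab.mul_pow, pow_orderOf_eq_one, mul_one]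
            have h2 : (a ^ orderOf b) ^ k ∈ Subgroup.zpowers (a * b) :=
              h1 ▸ pow_mem (pow_mem (Subgroup.mem_zpowers _) _) _
            rwa [hk] at h2
          exact sup_le (Subgroup.zpowers_le.mpr (hzm hc hcop))
            (Subgroup.zpowers_le.mpr (hc.eq ▸ hzm hc.symm hcop.symm))
        refine ⟨z * z', mul_mem hzF (hRF hz'R), fun t ht hd => ?_, ?_, fun t ht g hg n hgn => ?_, fun w hw hwp => ?_⟩
        · rw [ho] at hd
          rcases ht.dvd_mul.mp hd with hd | hd
          · exact Finset.mem_insert_of_mem (hzS t ht hd)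
          · rw [hz'o] at hd
            exact (Nat.prime_dvd_prime_iff_eq ht hrτ.1).mp (ht.dvd_of_dvd_pow hd) ▸ Finset.mem_insert_self r S
        · intro k hk
          rw [← hsub, ← Basics.conj_smul_eq_self_iff, Subgroup.smul_sup, Basics.conj_smul_eq_self_iff.mpr (hKz hk),
            Basics.conj_smul_eq_self_iff.mpr (hKz' hk)]
        · rw [ho]
          rcases Finset.mem_insert.mp ht with rfl | ht
          · refine dvd_mul_of_dvd_right (hz'o.symm ▸ orderOf_dvd_of_pow_eq_one ?_) _
            exact hexp g (hmem t hrτ g (hFE hg) n hgn R hR)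
          · exact dvd_mul_of_dvd_left (hzdvd t ht g hg n hgn) _
        · have hd : orderOf w ∣ orderOf z * orderOf z' := by
            rw [← ho]
            obtain ⟨i, rfl⟩ := hw
            exact orderOf_dvd_of_pow_eq_one (by
              rw [← zpow_natCast, ← zpow_mul, mul_comm, zpow_mul, zpow_natCast, pow_orderOf_eq_one, one_zpow])
          have huniq : ∀ u : G, Subgroup.zpowers u ≤ Subgroup.zpowers (z * z') → orderOf w ∣ orderOf u →
              w ∈ Subgroup.zpowers u := by
            intro u hu hdu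
            have ho' : orderOf (u ^ (orderOf u / orderOf w)) = orderOf w :=
              orderOf_pow_orderOf_div (orderOf_pos u).ne' hdu
            have he := eq_of_le_cyclic (S := Subgroup.zpowers (z * z')) inferInstance (Subgroup.zpowers_le.mpr hw)
              (Subgroup.zpowers_le.mpr (hu (pow_mem (Subgroup.mem_zpowers u) (orderOf u / orderOf w))))
              (by rw [Nat.card_zpowers, Nat.card_zpowers, ho'])
            exact (Subgroup.zpowers_le.mpr (pow_mem (Subgroup.mem_zpowers u) _)) (he ▸ Subgroup.mem_zpowers w)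
          rcases hwp.dvd_mul.mp hd with hd | hd
          · exact hzfree w (huniq z (hsub ▸ le_sup_left) hd) hwp
          · refine hz'free w (huniq z' (hsub ▸ le_sup_right) hd) ?_
            rw [hz'o] at hd
            exact (Nat.prime_dvd_prime_iff_eq hwp hrτ.1).mp (hwp.dvd_of_dvd_pow hd)
    obtain ⟨z, hzF, -, hKz, hzdvd, hzfree⟩ :=
      key ((Nat.card F).primeFactors.filter (· ∈ Cfsg.tau2 M)) fun r hr => (Finset.mem_filter.mp hr).2
    refine free_finish (D := ⊥) hFM bot_le hKF hzF hKz (fun k _ => mem_normalizer_of_conj_mem fun a ha => by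
        rw [Subgroup.mem_bot] at ha ⊢; simp [ha])
      (fun r hr hd => absurd hd (by rw [Subgroup.card_bot]; exact hr.1.not_dvd_one))
      (fun r hr hd => hKπ r hr.1 hd hr) (fun q hq hqτ => ?_) (fun r hr g hg n hgn => ?_)
      (fun w hw hwp _ => hzfree w hw hwp) hfree
    · haveI := Fact.mk hq
      obtain ⟨S, hS⟩ := exists_sylowIn (q := q) K
      exact ⟨S, sylowIn_of_hall_in hKF (hKf q hq hqτ) hS, hS.1.trans le_sup_right⟩
    · by_cases hrF : r ∣ Nat.card F
      · exact hzdvd r (Finset.mem_filter.mpr ⟨Nat.mem_primeFactors.mpr ⟨hr.1, hrF, Nat.card_pos.ne'⟩, hr⟩) g hg n hgn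
      · obtain ⟨i, -, hi⟩ := (Nat.dvd_prime_pow hr.1).mp (orderOf_dvd_of_pow_eq_one hgn)
        rcases Nat.eq_zero_or_pos i with rfl | h0
        · rw [hi, pow_zero]; exact one_dvd _
        · exact absurd ((hi ▸ dvd_pow_self r h0.ne').trans (Subgroup.orderOf_dvd_natCard F hg)) hrF

end Cfsg.Agent.OddLocal
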