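import Cfsg.Agent.Lib.OddLocal.KappaNonNil
import Cfsg.Agent.Lib.OddLocal.SigmaMixed
import Cfsg.Agent.S1421

/-! Hall subgroups of `M_σ`: centralizers and fusion. -/

set_option autoImplicit false
set_option linter.unusedSectionVars false
set_option linter.style.haveILetI false

namespace Cfsg.Agent.OddLocal

open scoped commutatorElement Pointwise
open Cfsg
open Basics (IsSylowIn)

universe u

variable {G : Type u} [Group G] [Finite G]

/-- The `σ(M)'`-elements with fixed points and without `κ`-primes lie in `M_σ A₀`, `A₀` abelian. -/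
theorem exists_fixed_abelian (hG : IsMinSimpleOddOrder G) {M : Subgroup G} (hM : IsCoatom M) :
    ∃ A₀ : Subgroup G, A₀ ≤ M ∧ IsMulCommutative A₀ ∧ ∀ k ∈ M,
      (∀ q : ℕ, q.Prime → q ∣ orderOf k → q ∉ Cfsg.sigma M ∧ q ∉ Cfsg.kappa M) →
      (∃ y ∈ Cfsg.sigmaCore M, y ≠ 1 ∧ Commute k y) → k ∈ Cfsg.sigmaCore M ⊔ A₀ := by
  obtain ⟨K, hK⟩ := exists_kappa_hall hG hM
  rcases eq_or_ne K ⊥ with hK1 | hK1
  · have hκ : ∀ r : ℕ, r ∉ Cfsg.kappa M := fun r hr => by
      refine hK.2.2 r hr.1 hr ?_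
      rw [hK1, Subgroup.relIndex_bot_left]
      exact hr.2.1
    obtain ⟨E, hE⟩ := exists_compl hG hM
    obtain ⟨⟨A₀, hA₀E, hA₀n, hA₀c, hA₀⟩, -⟩ := S1421.result hG M hM E hE fun e he he1 hτ => by
      by_contra hne
      obtain ⟨z, hz, hz1⟩ := (Subgroup.bot_or_exists_ne_one _).resolve_left hne
      obtain ⟨r, hr, hrd⟩ := Nat.exists_prime_and_dvd fun h => he1 (orderOf_eq_one_iff.mp h)
      rcases fixed_dichotomy hG hM hz.1 hz1 (hE.1 he)
        (Subgroup.mem_centralizer_singleton_iff.mp hz.2).symm he1 (fun s hs hd => compl_primes hG hM hE hs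
          (hd.trans (Subgroup.orderOf_dvd_natCard _ he))) with ⟨h, -⟩ | ⟨h, -⟩
      · exact hκ r (h r hr hrd)
      · rcases hτ r hr hrd with h' | h'
        · exact (h r hr hrd).2.2.2 h'.2.2.2.2
        · exact (h r hr hrd).2.2.2 h'.2.2.2
    refine ⟨A₀, hA₀E.trans hE.1, hA₀c, fun k hkM hkσ ⟨y, hy, hy1, hky⟩ => ?_⟩
    obtain ⟨m, hm, hmE⟩ := exists_conj_le_compl hG hM hE (Subgroup.zpowers_le.mpr hkM)
      fun q hq hd => (hkσ q hq (by rwa [Nat.card_zpowers] at hd)).1
    have hk' : m * k * m⁻¹ ∈ E := hmE (Basics.conj_mem_conj_smul (Subgroup.mem_zpowers k))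
    have hkA : m * k * m⁻¹ ∈ A₀ := hA₀ (m * y * m⁻¹)
      ((Subgroup.mem_normalizer_iff.mp (le_normalizer_sigmaCore M hm) y).mp hy)
      (fun e => hy1 (conj_eq_one_iff.mp e)) (Subgroup.mem_inf.mpr ⟨hk', Subgroup.mem_centralizer_singleton_iff.mpr (by
        calc m * k * m⁻¹ * (m * y * m⁻¹) = m * (k * y) * m⁻¹ := by group
          _ = m * (y * k) * m⁻¹ := by rw [hky.eq]
          _ = _ := by group)⟩)
    have hn' : M ≤ Subgroup.normalizer ((Cfsg.sigmaCore M ⊔ A₀ : Subgroup G) : Set G) := by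
      intro a ha
      obtain ⟨e, he, b, hb, rfl⟩ := hE.2.2.2 a ha
      refine mul_mem ?_ (Subgroup.le_normalizer (Subgroup.mem_sup_left hb))
      rw [Subgroup.mem_normalizer_iff_map_conj_eq, Subgroup.map_sup,
        Subgroup.mem_normalizer_iff_map_conj_eq.mp (le_normalizer_sigmaCore M (hE.1 he)),
        Subgroup.mem_normalizer_iff_map_conj_eq.mp (hA₀n he)]
    exact (Subgroup.mem_normalizer_iff.mp (hn' hm) k).mpr (Subgroup.mem_sup_right hkA)
  · obtain ⟨V, hV⟩ := exists_decomp hG hM hK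
    obtain ⟨U₀, hU₀c, -, -, hU₀M, -, -, -, -, -, hcmp⟩ := decomp_compare hG hM hK hK1
    refine ⟨U₀, hU₀M, hU₀c, fun k hkM hkσ _ => ?_⟩
    rw [← hcmp V hV]
    exact le_decomp hG hM hV (Subgroup.zpowers_le.mpr hkM)
      (fun r hr hd => (hkσ r hr (by rwa [Nat.card_zpowers] at hd)).2) (Subgroup.mem_zpowers k)

/-- A `κ`-element centralizes no Sylow subgroup of `M` for a prime of `σ(M)`. -/
theorem kappa_not_centralize_sylow (hG : IsMinSimpleOddOrder G) {M : Subgroup G} (hM : IsCoatom M) {k : G} (hk : k ∈ M)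
    {r : ℕ} (hr : r.Prime) (hko : orderOf k = r) (hrk : r ∈ Cfsg.kappa M) {p : ℕ} [hp : Fact p.Prime]
    (hpσ : p ∈ Cfsg.sigma M) {S : Subgroup G} (hS : IsSylowIn p M S)
    (hc : S ≤ Subgroup.centralizer ({k} : Set G)) : False := by
  obtain ⟨K, hK⟩ := exists_kappa_hall hG hM
  obtain ⟨m, hm, hmK⟩ := exists_conj_le_kappa hG hM hK (Subgroup.zpowers_le.mpr hk) fun s hs hd => by
    rw [Nat.card_zpowers, hko] at hd
    rwa [(Nat.prime_dvd_prime_iff_eq hs hr).mp hd]
  have hkK : m * k * m⁻¹ ∈ K := hmK (Basics.conj_mem_conj_smul (Subgroup.mem_zpowers k))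
  have hk1 : m * k * m⁻¹ ≠ 1 := fun e => by rw [conj_eq_one_iff.mp e, orderOf_one] at hko; exact hr.one_lt.ne hko
  have hK1 : K ≠ ⊥ := fun e => hk1 (Subgroup.mem_bot.mp (e ▸ hkK))
  obtain ⟨L, hL, -, hKL, hs, -⟩ := exists_dual hG hM hK hK1
  have h : DualPair M K L := ⟨hM, hL, hK, hK1, hKL, hs⟩
  have hS' : IsSylowIn p M (S.map (MulAut.conj m).toMonoidHom) := by
    refine ⟨(Subgroup.map_mono hS.1).trans (map_conj_eq_self hm).le, ?_⟩
    rw [Subgroup.card_map_of_injective (MulAut.conj m).injective, hS.2]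
  have hle : S.map (MulAut.conj m).toMonoidHom ≤ Cfsg.sigmaCore M ⊓ Subgroup.centralizer (K : Set G) := by
    rw [← kappa_semiprime hG hM hK hkK hk1]
    rintro _ ⟨s, hs', rfl⟩
    refine Subgroup.mem_inf.mpr ⟨(Subgroup.mem_normalizer_iff.mp (le_normalizer_sigmaCore M hm) s).mp
      (pGroup_le_sigmaCore hG hM hpσ hS.isPGroup hS.1 hs'), Subgroup.mem_centralizer_singleton_iff.mpr ?_⟩
    have e := Subgroup.mem_centralizer_singleton_iff.mp (hc hs')
    simp only [MulEquiv.coe_toMonoidHom, MulAut.conj_apply]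
    calc m * s * m⁻¹ * (m * k * m⁻¹) = m * (s * k) * m⁻¹ := by group
      _ = m * (k * s) * m⁻¹ := by rw [e]
      _ = _ := by group
  haveI := (h.facts hG).2.2
  haveI : IsCyclic ↥(Cfsg.sigmaCore M ⊓ Subgroup.centralizer (K : Set G)) := Subgroup.isCyclic_of_le
    (le_sup_right : _ ≤ K ⊔ (Cfsg.sigmaCore M ⊓ Subgroup.centralizer (K : Set G)))
  haveI : IsCyclic (S.map (MulAut.conj m).toMonoidHom) := Subgroup.isCyclic_of_le hle
  rcases eq_or_ne S ⊥ with hS1 | hS1
  · rw [hS1] at hS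
    have := hS.2
    rw [Subgroup.card_bot] at this
    exact (Nat.one_lt_pow (hp.out.factorization_pos_of_dvd Nat.card_pos.ne' hpσ.2.1).ne' hp.out.one_lt).ne this
  · refine h.sylow_not_abelian hG ?_ hS' IsCyclic.isMulCommutative fun V hV hVe => (card_le_of_cyclic_ea hVe
      (Subgroup.isCyclic_of_le hV)).trans (Nat.le_self_pow two_ne_zero p)
    exact ((hS.isPGroup.map (MulAut.conj m).toMonoidHom).card_eq_or_dvd.resolve_left fun e => hS1 (by
      rwa [Subgroup.card_map_of_injective (MulAut.conj m).injective, Subgroup.card_eq_one] at e)).trans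
      (Subgroup.card_dvd_of_le hle)

/-- The Hall subgroups of a nilpotent group are normal. -/
theorem hall_normal_of_nilpotent {D B : Subgroup G} (hD : Group.IsNilpotent D) (hBD : B ≤ D)
    (hc : ∀ q : ℕ, q.Prime → q ∣ Nat.card B → ¬ q ∣ B.relIndex D) : D ≤ Subgroup.normalizer (B : Set G) := by
  intro d hd
  rw [Subgroup.mem_normalizer_iff_map_conj_eq]
  refine Subgroup.eq_of_le_of_card_ge (le_of_sylows fun r hr hrd => ?_)
    (Subgroup.card_map_of_injective (MulAut.conj d).injective).ge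
  haveI := Fact.mk hr
  rw [Subgroup.card_map_of_injective (MulAut.conj d).injective] at hrd
  obtain ⟨S, hS⟩ := exists_sylowIn (q := r) B
  have hSD : IsSylowIn r D S := by
    refine ⟨hS.1.trans hBD, ?_⟩
    have h := Subgroup.relIndex_mul_relIndex ⊥ B D bot_le hBD
    rw [Subgroup.relIndex_bot_left, Subgroup.relIndex_bot_left] at h
    rw [hS.2, ← h, Nat.factorization_mul Nat.card_pos.ne' (show B.relIndex D ≠ 0 from Subgroup.index_ne_zero_of_finite), Finsupp.add_apply,
      Nat.factorization_eq_zero_of_not_dvd (n := B.relIndex D) (hc r hr hrd), add_zero]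
  obtain ⟨P, hP⟩ := hSD.exists_sylow
  haveI := hD
  haveI : (P : Subgroup D).Normal := P.normal_of_normalizerCondition Group.normalizerCondition_of_isNilpotent
  have hn : d ∈ Subgroup.normalizer (S : Set G) := by
    rw [← hP]
    exact le_normalizer_map_subtype _ hd
  have e := Subgroup.mem_normalizer_iff_map_conj_eq.mp hn
  refine ⟨S, ⟨e ▸ Subgroup.map_mono hS.1, ?_⟩, hS.1⟩
  rw [Subgroup.card_map_of_injective (MulAut.conj d).injective]
  exact hS.2

/-- `M_σ` has a Hall `π`- or `π'`-subgroup normal in `M`. -/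
theorem core_hall (hG : IsMinSimpleOddOrder G) {M : Subgroup G} (hM : IsCoatom M) (π : Set ℕ) :
    ∃ N : Subgroup G, M ≤ Subgroup.normalizer (N : Set G) ∧
      (IsPiHallOf π N (Cfsg.sigmaCore M) ∨ IsPiHallOf {q | q ∉ π} N (Cfsg.sigmaCore M)) := by
  classical
  have hWM : Cfsg.sigmaCore M ≤ M := sigmaCore_le M
  have hne : ∀ {B : Subgroup G}, B ≤ M → B ≠ ⊤ := fun hB e => hM.1 (top_le_iff.mp (e ▸ hB))
  have normal : ∀ {π' : Set ℕ} {N : Subgroup G}, IsPiHallOf π' N (Cfsg.sigmaCore M) →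
      Cfsg.sigmaCore M ≤ Subgroup.normalizer (N : Set G) → M ≤ Subgroup.normalizer (N : Set G) := by
    intro π' N hN hn m hm
    rw [Subgroup.mem_normalizer_iff_map_conj_eq]
    refine Subgroup.eq_of_le_of_card_ge (le_of_coprime_index hN.1 hn (fun q hq hd => hN.2.2 q hq (hN.2.1 q hq hd))
      ((Subgroup.map_mono hN.1).trans (Subgroup.mem_normalizer_iff_map_conj_eq.mp (le_normalizer_sigmaCore M hm)).le)
      fun q hq hd => by rwa [Subgroup.card_map_of_injective (MulAut.conj m).injective] at hd)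
      (Subgroup.card_map_of_injective (MulAut.conj m).injective).ge
  by_cases hn : Group.IsNilpotent (Cfsg.sigmaCore M)
  · obtain ⟨B, hB, hBπ, hBf⟩ := exists_hall_in hG (hne hWM) π
    have hH := isPiHallOf_of_factorization hB hBπ hBf
    exact ⟨B, normal hH (hall_normal_of_nilpotent hn hB fun q hq hd => hH.2.2 q hq (hH.2.1 q hq hd)), Or.inl hH⟩
  obtain ⟨hP, K, hK, hK1⟩ := p1_of_not_nilpotent hG hM hn
  obtain ⟨q, hq, -, Q, D, hQ, hQn, -, hDS, -, hqD, hW, -, hDn, -⟩ := p1_structure hG hM hK hK1 hP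
  haveI := Fact.mk hq
  set π₀ : Set ℕ := if q ∈ π then π else {s | s ∉ π} with hπ₀
  have hq₀ : q ∈ π₀ := by
    rw [hπ₀]
    split_ifs with h
    · exact h
    · exact h
  obtain ⟨B, hB, hBπ, hBf⟩ := exists_hall_in hG (hne (hDS.trans hWM)) π₀
  have hHB := isPiHallOf_of_factorization hB hBπ hBf
  have hBn := hall_normal_of_nilpotent hDn hB fun q hq hd => hHB.2.2 q hq (hHB.2.1 q hq hd)
  have hDQ : D ≤ Subgroup.normalizer (Q : Set G) := (hDS.trans hWM).trans hQn
  have hcop : ∀ {X : Subgroup G}, X ≤ D → (Nat.card Q).Coprime (Nat.card X) := fun hX => by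
    rw [hQ.2]
    exact (hq.coprime_iff_not_dvd.mpr fun h => hqD (h.trans (Subgroup.card_dvd_of_le hX))).pow_left _
  have hH : IsPiHallOf π₀ (Q ⊔ B) (Cfsg.sigmaCore M) := by
    refine isPiHallOf_of_factorization (hW ▸ sup_le_sup_left hB Q) (fun s hs hd => ?_) fun s hs hsπ => ?_
    · rw [Basics.card_sup_of_coprime (hB.trans hDQ) (hcop hB)] at hd
      rcases hs.dvd_mul.mp hd with h | h
      · rw [hQ.2] at h
        exact (Nat.prime_dvd_prime_iff_eq hs hq).mp (hs.dvd_of_dvd_pow h) ▸ hq₀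
      · exact hBπ s hs h
    · rw [hW, Basics.card_sup_of_coprime (hB.trans hDQ) (hcop hB), Basics.card_sup_of_coprime hDQ (hcop le_rfl),
        Nat.factorization_mul Nat.card_pos.ne' Nat.card_pos.ne', Nat.factorization_mul Nat.card_pos.ne'
        Nat.card_pos.ne', Finsupp.add_apply, Finsupp.add_apply, hBf s hs hsπ]
  refine ⟨Q ⊔ B, normal hH ?_, ?_⟩
  · rw [hW]
    refine sup_le (le_sup_left.trans Subgroup.le_normalizer) fun d hd => ?_
    rw [Subgroup.mem_normalizer_iff_map_conj_eq, Subgroup.map_sup,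
      Subgroup.mem_normalizer_iff_map_conj_eq.mp (hDQ hd), Subgroup.mem_normalizer_iff_map_conj_eq.mp (hBn hd)]
  · rw [hπ₀] at hH
    split_ifs at hH with h
    · exact Or.inl hH
    · exact Or.inr hH

/-- BG 15.9 (b): fusion in a Hall subgroup of `M_σ` is controlled by `N_M(H)`. -/
theorem hall_fusion (hG : IsMinSimpleOddOrder G) {M H : Subgroup G} (hM : IsCoatom M) (hH : H ≤ Cfsg.sigmaCore M)
    (hc : (Nat.card H).Coprime (H.relIndex (Cfsg.sigmaCore M))) {x g : G} (hx : x ∈ H) (hgx : g * x * g⁻¹ ∈ H) :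
    ∃ n ∈ M ⊓ Subgroup.normalizer (H : Set G), n * x * n⁻¹ = g * x * g⁻¹ := by
  rcases eq_or_ne x 1 with rfl | hx1
  · exact ⟨1, one_mem _, by group⟩
  set W := Cfsg.sigmaCore M with hW
  have hWM : W ≤ M := sigmaCore_le M
  -- fusion in `M`
  obtain ⟨m, hm, hmx⟩ : ∃ m ∈ M, m * x * m⁻¹ = g * x * g⁻¹ := by
    obtain ⟨c, hc', e⟩ := conj_of_mem hG hM (g := g⁻¹) (hH hx) hx1
      ⟨g * x * g⁻¹, hWM (hH hgx), by simp [mul_assoc]⟩
    have e2 : M.map (MulAut.conj (g * c)).toMonoidHom = M := by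
      rw [← map_conj_map_conj, e, map_conj_map_conj, mul_inv_cancel, map_conj_one]
    refine ⟨g * c, mem_of_map_conj_eq hG hM e2, ?_⟩
    calc g * c * x * (g * c)⁻¹ = g * (c * x) * c⁻¹ * g⁻¹ := by group
      _ = g * (x * c) * c⁻¹ * g⁻¹ := by rw [Subgroup.mem_centralizer_singleton_iff.mp hc']
      _ = _ := by group
  set π : Set ℕ := {q | q ∣ Nat.card H} with hπ
  obtain ⟨N, hNn, hN | hN⟩ := core_hall hG hM π
  · have hHN : H ≤ N := le_of_coprime_index hN.1 (hWM.trans hNn) (fun q hq hd => hN.2.2 q hq (hN.2.1 q hq hd)) hH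
      fun q hq hd => by
        by_contra hcon
        refine hN.2.2 q hq hd ?_
        have h := Subgroup.relIndex_mul_relIndex ⊥ N W bot_le hN.1
        rw [Subgroup.relIndex_bot_left, Subgroup.relIndex_bot_left] at h
        exact (hq.dvd_mul.mp (h.symm ▸ hd.trans (Subgroup.card_dvd_of_le hH))).resolve_left hcon
    have hNH : N ≤ H := by
      refine (Subgroup.relIndex_eq_one.mp (Nat.eq_one_iff_not_exists_prime_dvd.mpr fun q hq hd => ?_))
      exact Nat.not_coprime_of_dvd_of_dvd hq.one_lt (hN.2.1 q hq (hd.trans (Subgroup.relIndex_dvd_card H N)))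
        (hd.trans (Dvd.intro _ (Subgroup.relIndex_mul_relIndex H N W hHN hN.1))) hc
    exact ⟨m, Subgroup.mem_inf.mpr ⟨hm, le_antisymm hHN hNH ▸ hNn hm⟩, hmx⟩
  · haveI : Group.IsSolvable W := Basics.isSolvable_of_le hWM (isSolvable_of_ne_top hG hM.1)
    have hdis : N ⊓ H = ⊥ := (Subgroup.disjoint_of_coprime_natCard (Nat.coprime_of_dvd fun q hq h1 h2 =>
      hN.2.1 q hq h1 h2)).eq_bot
    have hsup : W = N ⊔ H := by
      refine (Subgroup.eq_of_le_of_card_ge (sup_le hN.1 hH) (le_of_eq ?_)).symm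
      rw [Basics.card_sup_of_coprime (hH.trans (hWM.trans hNn)) (Nat.coprime_of_dvd fun q hq h1 h2 => hN.2.1 q hq h1 h2)]
      refine Nat.eq_of_factorization_eq Nat.card_pos.ne' (mul_ne_zero Nat.card_pos.ne' Nat.card_pos.ne') fun q => ?_
      rw [Nat.factorization_mul Nat.card_pos.ne' Nat.card_pos.ne', Finsupp.add_apply]
      by_cases hq : q.Prime
      swap
      · simp [Nat.factorization_eq_zero_of_not_prime _ hq]
      by_cases hqH : q ∣ Nat.card H
      · rw [Nat.factorization_eq_zero_of_not_dvd (n := Nat.card N) fun h => hN.2.1 q hq h hqH, zero_add]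
        have h := Subgroup.relIndex_mul_relIndex ⊥ H W bot_le hH
        rw [Subgroup.relIndex_bot_left, Subgroup.relIndex_bot_left] at h
        rw [← h, Nat.factorization_mul Nat.card_pos.ne' (show H.relIndex W ≠ 0 from Subgroup.index_ne_zero_of_finite),
          Finsupp.add_apply, Nat.factorization_eq_zero_of_not_dvd (n := H.relIndex W)
            fun h' => Nat.not_coprime_of_dvd_of_dvd hq.one_lt hqH h' hc, add_zero]
      · rw [Nat.factorization_eq_zero_of_not_dvd hqH, add_zero, hallOf_factorization hN hq hqH]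
    -- Schur–Zassenhaus in `W`
    set H' := H.map (MulAut.conj m).toMonoidHom with hH'
    have hH'W : H' ≤ W := (Subgroup.map_mono hH).trans
      (Subgroup.mem_normalizer_iff_map_conj_eq.mp (le_normalizer_sigmaCore M hm)).le
    obtain ⟨w, hw⟩ := Basics.exists_le_conj_hall (H := H.subgroupOf W) (K := H'.subgroupOf W)
      (by rw [Basics.card_subgroupOf hH]; exact hc)
      (by rw [Basics.card_subgroupOf hH'W, hH', Subgroup.card_map_of_injective (MulAut.conj m).injective]; exact hc)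
    have hle : H' ≤ H.map (MulAut.conj (w : G)).toMonoidHom := by
      intro a ha
      obtain ⟨b, hb, e⟩ := hw (show (⟨a, hH'W ha⟩ : W) ∈ H'.subgroupOf W from ha)
      exact ⟨(b : G), hb, congrArg Subtype.val e⟩
    obtain ⟨u, hu, h, hh, e⟩ := (Basics.mem_sup_of_le_normalizer (hH.trans (hWM.trans hNn))).mp
      (show (w : G) ∈ N ⊔ H from hsup.le w.2)
    have heq : H.map (MulAut.conj m).toMonoidHom = H.map (MulAut.conj u).toMonoidHom := by
      refine Subgroup.eq_of_le_of_card_ge (hle.trans (le_of_eq ?_)) ?_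
      · rw [e, ← map_conj_map_conj]
        exact congrArg _ (Subgroup.mem_normalizer_iff_map_conj_eq.mp (Subgroup.le_normalizer hh))
      · exact ((Subgroup.card_map_of_injective (MulAut.conj u).injective).trans
          (Subgroup.card_map_of_injective (MulAut.conj m).injective).symm).le
    have hn : u⁻¹ * m ∈ Subgroup.normalizer (H : Set G) := by
      rw [Subgroup.mem_normalizer_iff_map_conj_eq]
      change H.map (MulAut.conj (u⁻¹ * m)).toMonoidHom = H
      rw [← map_conj_map_conj, heq, map_conj_map_conj, inv_mul_cancel, map_conj_one]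
    have huM : u ∈ M := hWM (hN.1 hu)
    refine ⟨u⁻¹ * m, Subgroup.mem_inf.mpr ⟨mul_mem (inv_mem huM) hm, hn⟩, ?_⟩
    have hy : (u⁻¹ * m) * x * (u⁻¹ * m)⁻¹ ∈ H := (Subgroup.mem_normalizer_iff.mp hn x).mp hx
    set y := (u⁻¹ * m) * x * (u⁻¹ * m)⁻¹ with hydef
    have huy : u * y * u⁻¹ = g * x * g⁻¹ := by rw [hydef, ← hmx]; group
    have hz : u * y * u⁻¹ * y⁻¹ ∈ N ⊓ H := by
      refine Subgroup.mem_inf.mpr ⟨?_, mul_mem (huy ▸ hgx) (inv_mem hy)⟩
      rw [show u * y * u⁻¹ * y⁻¹ = u * (y * u⁻¹ * y⁻¹) by group]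
      exact mul_mem hu ((Subgroup.mem_normalizer_iff.mp (hNn (hWM (hH hy))) _).mp (inv_mem hu))
    rw [hdis, Subgroup.mem_bot, mul_inv_eq_one] at hz
    rw [← huy, hz]

end Cfsg.Agent.OddLocal
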