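import Cfsg.Agent.Lib.OddLocal.ActionTools
import Cfsg.Agent.Lib.LocalEvenA.InvariantComplement

/-! Invariant cyclic subgroups and invariant lines for coprime actions. -/

set_option autoImplicit false
set_option linter.unusedSectionVars false
set_option linter.style.haveILetI false

namespace Cfsg.Agent.OddLocal

open scoped commutatorElement Pointwise
open Cfsg

universe u

variable {G : Type u} [Group G] [Finite G] {p : ℕ} [hp : Fact p.Prime]

/-- An invariant line that is a `p ^ e`-th power image lifts to an invariant cyclic subgroup. -/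
theorem exists_invariant_lift {e : ℕ} {R K : Subgroup G} (hR : IsMulCommutative R)
    (hexp : ∀ g ∈ R, g ^ p ^ (e + 1) = 1) (hKR : K ≤ Subgroup.normalizer (R : Set G))
    (hpK : ¬ p ∣ Nat.card K) {x : G} (hx : x ∈ R) (hy : orderOf (x ^ p ^ e) = p)
    (hKy : K ≤ Subgroup.normalizer (Subgroup.zpowers (x ^ p ^ e) : Set G)) :
    ∃ z ∈ R, K ≤ Subgroup.normalizer (Subgroup.zpowers z : Set G) ∧ orderOf z = p ^ (e + 1) ∧
      z ^ p ^ e ∈ Subgroup.zpowers (x ^ p ^ e) := by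
  classical
  letI : CommGroup R := { (inferInstance : Group R) with mul_comm := hR.is_comm.comm }
  letI : Fintype K := Fintype.ofFinite K
  set y := x ^ p ^ e with hy'
  have hν' : ∀ k : K, ∃ i : ℕ, y ^ i = (k : G) * y * (k : G)⁻¹ := fun k =>
    (isOfFinOrder_of_finite y).mem_powers_iff_mem_zpowers.mpr
      ((Subgroup.mem_normalizer_iff.mp (hKy k.2) y).mp (Subgroup.mem_zpowers y))
  choose ν hν using hν'
  have hνmul : ∀ k l : K, ν (k * l) ≡ ν k * ν l [MOD p] := fun k l => by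
    rw [← hy, ← pow_eq_pow_iff_modEq, hν, pow_mul, hν k, conj_pow, hν l, Subgroup.coe_mul, mul_inv_rev]
    group
  set lam : K → ℕ := fun k => ν k ^ p ^ e with hlam
  have hlmul : ∀ k l : K, lam (k * l) ≡ lam k * lam l [MOD p ^ (e + 1)] := fun k l => by
    have h1 := Nat.modEq_iff_dvd.mp (hνmul k l)
    have h2 := dvd_sub_pow_of_dvd_sub h1 e
    rw [Nat.modEq_iff_dvd]
    simp only [hlam, ← mul_pow]
    push_cast at h2 ⊢
    exact h2
  have hlν : ∀ k : K, lam k ≡ ν k [MOD p] := fun k => by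
    rw [← ZMod.natCast_eq_natCast_iff]
    simp [hlam, ZMod.pow_card_pow]
  have hν1 : ν 1 ≡ 1 [MOD p] := by
    rw [← hy, ← pow_eq_pow_iff_modEq, hν, pow_one]
    simp
  set c : K → R := fun k => ⟨(k : G) * x * (k : G)⁻¹, (Subgroup.mem_normalizer_iff.mp (hKR k.2) x).mp hx⟩ with hc
  set z : R := ∏ k : K, c k ^ lam k⁻¹ with hz
  have hexpR : ∀ g : R, g ^ p ^ (e + 1) = 1 := fun g => Subtype.ext (hexp g g.2)
  have hinv : ∀ l : K, (l : G) * (z : G) * (l : G)⁻¹ = (z : G) ^ lam l := by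
    intro l
    have h1 : conjAut (hKR l.2) z = z ^ lam l := by
      rw [hz, map_prod, ← Finset.prod_pow]
      refine Fintype.prod_equiv (Equiv.mulLeft l) _ _ fun k => ?_
      have h2 : conjAut (hKR l.2) (c k) = c (l * k) := Subtype.ext (by
        change (l : G) * ((k : G) * x * (k : G)⁻¹) * (l : G)⁻¹ = _
        simp only [hc, Subgroup.coe_mul, mul_inv_rev]
        group)
      have h3 := hlmul (l * k)⁻¹ l
      rw [show (l * k)⁻¹ * l = k⁻¹ by group] at h3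
      rw [map_pow, h2, Equiv.coe_mulLeft, ← pow_mul, pow_eq_pow_iff_modEq]
      exact h3.of_dvd (orderOf_dvd_of_pow_eq_one (hexpR _))
    exact (congrArg Subtype.val h1).trans (SubgroupClass.coe_pow z _)
  set Y : R := ⟨y, pow_mem hx _⟩ with hY
  have hpow : z ^ p ^ e = Y ^ Nat.card K := by
    rw [hz, ← Finset.prod_pow, Nat.card_eq_fintype_card, ← Finset.card_univ, ← Finset.prod_const]
    refine Finset.prod_congr rfl fun k _ => Subtype.ext ?_
    simp only [SubgroupClass.coe_pow, hc, hY]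
    rw [← pow_mul, mul_comm, pow_mul, conj_pow, ← hy', ← hν k, ← pow_mul]
    conv_rhs => rw [← pow_one y]
    rw [pow_eq_pow_iff_modEq, hy]
    refine ((hlν k⁻¹).mul_left (ν k)).trans ((hνmul k k⁻¹).symm.trans ?_)
    rw [mul_inv_cancel]
    exact hν1
  have hne : ¬ z ^ p ^ e = 1 := by
    rw [hpow]
    intro h
    have h' : y ^ Nat.card K = 1 := congrArg Subtype.val h
    exact hpK (hy ▸ orderOf_dvd_of_pow_eq_one h')
  refine ⟨z, z.2, fun l hl => mem_normalizer_of_conj_mem fun a ha => ?_, ?_, ?_⟩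
  · obtain ⟨i, rfl⟩ := ha
    exact ⟨(lam ⟨l, hl⟩ : ℤ) * i, by rw [← conj_zpow, hinv ⟨l, hl⟩]; simp [zpow_mul]⟩
  · rw [Subgroup.orderOf_coe]
    exact orderOf_eq_prime_pow hne (hexpR z)
  · rw [← SubgroupClass.coe_pow, hpow]
    exact ⟨(Nat.card K : ℤ), by simp [hY]⟩

/-- An element fixing three lines of `A` fixes every line. -/
theorem mem_normalizer_of_three_lines {A : Subgroup G} (hA : IsElementaryAbelian p A) (hA2 : Nat.card A = p ^ 2)
    {X Y Z : Subgroup G} (hXA : X ≤ A) (hYA : Y ≤ A) (hZA : Z ≤ A) (hX : Nat.card X = p) (hY : Nat.card Y = p)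
    (hZ : Nat.card Z = p) (hXY : X ≠ Y) (hXZ : X ≠ Z) (hYZ : Y ≠ Z) {g : G}
    (hgX : g ∈ Subgroup.normalizer (X : Set G)) (hgY : g ∈ Subgroup.normalizer (Y : Set G))
    (hgZ : g ∈ Subgroup.normalizer (Z : Set G)) {W : Subgroup G} (hW : W ≤ A) :
    g ∈ Subgroup.normalizer (W : Set G) := by
  have hYX : Y ≤ Subgroup.normalizer (X : Set G) := fun b hb => Subgroup.centralizer_le_normalizer _
    (Subgroup.mem_centralizer_iff.mpr fun a ha => (ea_commute hA (hXA ha) (hYA hb)).eq)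
  have hsup := sup_eq_of_lines hA2 hXA hYA hX hY hXY
  have hdisj : ∀ v : G, v ∈ X → v ∈ Y → v = 1 := by
    intro v hvX hvY
    by_contra hv
    exact hXY ((Subgroup.eq_of_le_of_card_ge (Subgroup.zpowers_le.mpr hvX)
      (by rw [hX, card_zpowers_of_ea hA (hXA hvX) hv])).symm.trans
      (Subgroup.eq_of_le_of_card_ge (Subgroup.zpowers_le.mpr hvY)
      (by rw [hY, card_zpowers_of_ea hA (hXA hvX) hv])))
  have hgen : ∀ {V : Subgroup G}, V ≤ A → Nat.card V = p → ∀ v ∈ V, v ≠ 1 → Subgroup.zpowers v = V :=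
    fun hVA hV v hv hv1 => Subgroup.eq_of_le_of_card_ge (Subgroup.zpowers_le.mpr hv)
      (by rw [hV, card_zpowers_of_ea hA (hVA hv) hv1])
  have hZ1 : Z ≠ ⊥ := fun h => by rw [h, Subgroup.card_bot] at hZ; exact hp.out.one_lt.ne hZ
  obtain ⟨z, hz, hz1⟩ := (Subgroup.bot_or_exists_ne_one Z).resolve_left hZ1
  obtain ⟨a, ha, b, hb, hab⟩ := (Basics.mem_sup_of_le_normalizer hYX).mp (hsup.symm ▸ hZA hz)
  have ha1 : a ≠ 1 := by
    rintro rfl
    rw [one_mul] at hab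
    exact hYZ ((hgen hYA hY z (hab ▸ hb) hz1).symm.trans (hgen hZA hZ z hz hz1))
  have hb1 : b ≠ 1 := by
    rintro rfl
    rw [mul_one] at hab
    exact hXZ ((hgen hXA hX z (hab ▸ ha) hz1).symm.trans (hgen hZA hZ z hz hz1))
  obtain ⟨i, hi⟩ : g * a * g⁻¹ ∈ Subgroup.zpowers a := by
    rw [hgen hXA hX a ha ha1]; exact (Subgroup.mem_normalizer_iff.mp hgX a).mp ha
  obtain ⟨j, hj⟩ : g * b * g⁻¹ ∈ Subgroup.zpowers b := by
    rw [hgen hYA hY b hb hb1]; exact (Subgroup.mem_normalizer_iff.mp hgY b).mp hb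
  obtain ⟨k, hk⟩ : g * z * g⁻¹ ∈ Subgroup.zpowers z := by
    rw [hgen hZA hZ z hz hz1]; exact (Subgroup.mem_normalizer_iff.mp hgZ z).mp hz
  have hc : Commute a b := ea_commute hA (hXA ha) (hYA hb)
  have heq : a ^ k * b ^ k = a ^ i * b ^ j := by
    simp only at hi hj hk
    rw [← hc.mul_zpow, ← hab, hk, hi, hj, hab]
    group
  have hd : (a ^ i)⁻¹ * a ^ k = b ^ j * (b ^ k)⁻¹ := by
    calc (a ^ i)⁻¹ * a ^ k = (a ^ i)⁻¹ * (a ^ k * b ^ k) * (b ^ k)⁻¹ := by group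
      _ = (a ^ i)⁻¹ * (a ^ i * b ^ j) * (b ^ k)⁻¹ := by rw [heq]
      _ = _ := by group
  have h0 : (a ^ i)⁻¹ * a ^ k = 1 :=
    hdisj _ (mul_mem (inv_mem (zpow_mem ha i)) (zpow_mem ha k))
      (hd ▸ mul_mem (zpow_mem hb j) (inv_mem (zpow_mem hb k)))
  have hik : a ^ k = a ^ i := (inv_mul_eq_one.mp h0).symm
  have hjk : b ^ k = b ^ j := by
    rw [h0] at hd
    exact (mul_inv_eq_one.mp hd.symm).symm
  refine mem_normalizer_of_conj_mem fun w hw => ?_
  obtain ⟨u, hu, v, hv, huv⟩ := (Basics.mem_sup_of_le_normalizer hYX).mp (hsup.symm ▸ hW hw)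
  rw [← hgen hXA hX a ha ha1] at hu
  rw [← hgen hYA hY b hb hb1] at hv
  obtain ⟨s, rfl⟩ := hu
  obtain ⟨t, rfl⟩ := hv
  have hwk : g * w * g⁻¹ = w ^ k := by
    simp only at hi hj
    rw [huv, show g * (a ^ s * b ^ t) * g⁻¹ = (g * a * g⁻¹) ^ s * (g * b * g⁻¹) ^ t by
      rw [conj_zpow, conj_zpow]; group]
    rw [← hi, ← hj, ← hik, ← hjk, ((hc.zpow_zpow s t)).mul_zpow, ← zpow_mul, ← zpow_mul, ← zpow_mul, ← zpow_mul,
      mul_comm k s, mul_comm k t]
  exact hwk ▸ zpow_mem hw k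

/-- Elements of odd order that commute on `A` and fix a line each fix a common line. -/
theorem exists_common_line {A : Subgroup G} (hA : IsElementaryAbelian p A) (hA2 : Nat.card A = p ^ 2)
    (hodd : Odd (Nat.card G)) {S : Set G} (hSA : ∀ l ∈ S, l ∈ Subgroup.normalizer (A : Set G))
    (hcom : ∀ k ∈ S, ∀ l ∈ S, ⁅k, l⁆ ∈ Subgroup.centralizer (A : Set G))
    (hfix : ∀ l ∈ S, ∃ X : Subgroup G, X ≤ A ∧ Nat.card X = p ∧ l ∈ Subgroup.normalizer (X : Set G))
    {A₀ : Subgroup G} (hA₀ : A₀ ≤ A) (hA₀p : Nat.card A₀ = p) :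
    ∃ X : Subgroup G, X ≤ A ∧ Nat.card X = p ∧ ∀ l ∈ S, l ∈ Subgroup.normalizer (X : Set G) := by
  by_cases hall : ∀ k ∈ S, ∀ W : Subgroup G, W ≤ A → Nat.card W = p → k ∈ Subgroup.normalizer (W : Set G)
  · exact ⟨A₀, hA₀, hA₀p, fun l hl => hall l hl A₀ hA₀ hA₀p⟩
  push Not at hall
  obtain ⟨k, hk, W, hWA, hWp, hkW⟩ := hall
  obtain ⟨X, hXA, hXp, hkX⟩ := hfix k hk
  refine ⟨X, hXA, hXp, fun l hl => ?_⟩
  -- the image under `l` of a line fixed by `k` is again one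
  have hmove : ∀ V : Subgroup G, V ≤ A → Nat.card V = p → k ∈ Subgroup.normalizer (V : Set G) →
      MulAut.conj l • V ≤ A ∧ Nat.card (MulAut.conj l • V : Subgroup G) = p ∧
        k ∈ Subgroup.normalizer ((MulAut.conj l • V : Subgroup G) : Set G) := by
    intro V hVA hVp hkV
    have hle : MulAut.conj l • V ≤ A := by
      rintro _ ⟨v, hv, rfl⟩
      exact (Subgroup.mem_normalizer_iff.mp (hSA l hl) v).mp (hVA hv)
    refine ⟨hle, by rw [Basics.card_conj_smul, hVp], mem_normalizer_of_conj_mem ?_⟩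
    rintro _ ⟨v, hv, rfl⟩
    have hv' : k * v * k⁻¹ ∈ V := (Subgroup.mem_normalizer_iff.mp hkV v).mp hv
    have hmem : l * (k * v * k⁻¹) * l⁻¹ ∈ MulAut.conj l • V := ⟨_, hv', rfl⟩
    have hc := Subgroup.mem_centralizer_iff.mp (hcom k hk l hl) _ (hle hmem)
    refine (show k * (MulAut.conj l v) * k⁻¹ = l * (k * v * k⁻¹) * l⁻¹ from ?_) ▸ hmem
    rw [MulAut.conj_apply]
    calc k * (l * v * l⁻¹) * k⁻¹ = ⁅k, l⁆ * (l * (k * v * k⁻¹) * l⁻¹) * ⁅k, l⁆⁻¹ := by
          rw [commutatorElement_def]; group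
      _ = _ := by rw [← hc]; group
  obtain ⟨h1A, h1p, h1k⟩ := hmove X hXA hXp hkX
  obtain ⟨h2A, h2p, h2k⟩ := hmove _ h1A h1p h1k
  rw [← Basics.conj_smul_eq_self_iff]
  by_contra hne
  by_cases h21 : MulAut.conj l • (MulAut.conj l • X) = MulAut.conj l • X
  · exact hne (smul_left_cancel _ h21)
  by_cases h20 : MulAut.conj l • (MulAut.conj l • X) = X
  · rw [← mul_smul, ← map_mul, Basics.conj_smul_eq_self_iff] at h20
    refine hne (Basics.conj_smul_eq_self_iff.mpr ?_)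
    obtain ⟨n, hn⟩ := Odd.of_dvd_nat hodd (orderOf_dvd_natCard l)
    have hl' : l = (l * l) ^ (n + 1) := by
      rw [← pow_two, ← pow_mul, show 2 * (n + 1) = orderOf l + 1 by omega, pow_succ, pow_orderOf_eq_one, one_mul]
    rw [hl']
    exact pow_mem h20 _
  exact hkW (mem_normalizer_of_three_lines hA hA2 hXA h1A h2A hXp h1p h2p (Ne.symm hne) (Ne.symm h20)
    (Ne.symm h21) hkX h1k h2k hWA)

end Cfsg.Agent.OddLocal
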