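import Cfsg.Agent.Lib.OddLocal.KappaCover
import Cfsg.Agent.Lib.Basics.KWTools

/-! The set `A₀(M) - A(M)`. -/

set_option autoImplicit false
set_option linter.unusedSectionVars false
set_option linter.style.haveILetI false

namespace Cfsg.Agent.OddLocal

open scoped commutatorElement Pointwise
open Cfsg

universe u

variable {G : Type u} [Group G] [Finite G]

/-- A `σ(M)`-subgroup of `M` lies in `M_σ`. -/
theorem sigma_le_core (hG : IsMinSimpleOddOrder G) {M Z : Subgroup G} (hM : IsCoatom M) (hZM : Z ≤ M)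
    (hZ : ∀ q : ℕ, q.Prime → q ∣ Nat.card Z → q ∈ Cfsg.sigma M) : Z ≤ Cfsg.sigmaCore M := by
  obtain ⟨⟨-, hπ, hidx⟩, -⟩ := sigmaCore_hall hG hM
  have hc : (Cfsg.sigmaCore M).relIndex M * Nat.card (Cfsg.sigmaCore M) = Nat.card M := by
    have := Subgroup.relIndex_mul_relIndex ⊥ (Cfsg.sigmaCore M) M bot_le (sigmaCore_le M)
    rw [Subgroup.relIndex_bot_left, Subgroup.relIndex_bot_left] at this
    rw [← this, mul_comm]
  refine Basics.KW.le_of_coprime_sup (Or.inr (hZM.trans (le_normalizer_sigmaCore M))) (d := (Cfsg.sigmaCore M).relIndex M) ?_ ?_ ?_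
  · exact (Subgroup.card_dvd_of_le (sup_le hZM (sigmaCore_le M))).trans (dvd_of_eq (by rw [← hc, mul_comm]))
  · exact Nat.coprime_of_dvd fun q hq h1 h2 => hidx q hq (hZ q hq h1) h2
  · exact Nat.coprime_of_dvd fun q hq h1 h2 => hidx q hq (hπ q hq h1) h2

/-- An element of `M` of order prime to `κ(M)` lies in `U M_σ`. -/
theorem mem_decomp (hG : IsMinSimpleOddOrder G) {M K U : Subgroup G} (hM : IsCoatom M)
    (h : IsSigmaDecomposition M K U) {a : G} (ha : a ∈ M)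
    (hq : ∀ q : ℕ, q.Prime → q ∣ orderOf a → q ∉ Cfsg.kappa M) : a ∈ U ⊔ Cfsg.sigmaCore M := by
  rw [sup_comm]
  exact le_decomp hG hM h (Subgroup.zpowers_le.mpr ha) (fun q hq' hd => hq q hq' (by rwa [Nat.card_zpowers] at hd))
    (Subgroup.mem_zpowers a)

/-- The elements of `U M_σ` have order prime to `κ(M)`. -/
theorem decomp_prime (hG : IsMinSimpleOddOrder G) {M K U : Subgroup G} (hM : IsCoatom M)
    (h : IsSigmaDecomposition M K U) {a : G} (ha : a ∈ U ⊔ Cfsg.sigmaCore M) {q : ℕ} (hq : q.Prime)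
    (hd : q ∣ orderOf a) : q ∉ Cfsg.kappa M := fun hk => by
  rw [sup_comm] at ha
  have h1 := hd.trans (Subgroup.orderOf_dvd_natCard _ ha)
  rw [(card_decomp hG hM h).2.1] at h1
  rcases hq.dvd_mul.mp h1 with h2 | h2
  · exact hk.2.2.1 (piCoreOf_primes _ M hq h2)
  · exact ((decomp_hall hG hM h).2.1 q hq h2).2.1 hk

/-- BG 14.7 (e): `A₀(M) - A(M)` is the union of the `M`-conjugates of `Ẑ`. -/
theorem hat_conj_eq (hG : IsMinSimpleOddOrder G) {M K U L : Subgroup G} (h : DualPair M K L)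
    (hKU : IsSigmaDecomposition M K U) :
    {a : G | ∃ m ∈ M, ∃ z ∈ ((↑(K ⊔ (Cfsg.sigmaCore M ⊓ Subgroup.centralizer (K : Set G))) : Set G) \
      ((K : Set G) ∪ ↑(Cfsg.sigmaCore M ⊓ Subgroup.centralizer (K : Set G)))), a = m * z * m⁻¹} =
      Cfsg.sigmaA0 M K \ Cfsg.sigmaA M U := by
  ext z
  constructor
  · rintro ⟨m, hm, w, hw, rfl⟩
    obtain ⟨k, hk, a, ha, hk1, ha1, rfl, hka⟩ := DualPair.mem_hat hw
    have hkM := h.hK.1 hk
    have haM := sigmaCore_le M ha.1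
    have hcop : (orderOf k).Coprime (orderOf a) :=
      coprime_of_sets (π := {q | q ∉ Cfsg.sigma M}) (fun s hs hd => (orderOf_kappa h.hK hk s hs hd).2)
        fun s hs hd hn => hn (orderOf_core ha.1 s hs hd)
    have ho : orderOf (m * (k * a) * m⁻¹) = orderOf k * orderOf a := by
      rw [orderOf_conj_elt, orderOf_mul_of_coprime hka hcop]
    refine ⟨⟨⟨mul_mem (mul_mem hm (mul_mem hkM haM)) (inv_mem hm), m * a * m⁻¹,
      (Subgroup.mem_normalizer_iff.mp (le_normalizer_sigmaCore M hm) a).mp ha.1,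
      fun e => ha1 (conj_eq_one_iff.mp e), ?_⟩, ?_⟩, ?_⟩
    · calc m * (k * a) * m⁻¹ * (m * a * m⁻¹) = m * (k * a * a) * m⁻¹ := by group
        _ = m * (a * k * a) * m⁻¹ := by rw [hka.eq]
        _ = _ := by group
    · rintro ⟨k', hk', -, m', -, e⟩
      obtain ⟨q, hq, hqd⟩ := Nat.exists_prime_and_dvd fun e' => ha1 (orderOf_eq_one_iff.mp e')
      refine (orderOf_kappa h.hK hk' q hq ?_).2 (orderOf_core ha.1 q hq hqd)
      rw [← orderOf_conj_elt m' k', ← e, ho]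
      exact dvd_mul_of_dvd_right hqd _
    · rintro ⟨-, hU⟩
      obtain ⟨q, hq, hqd⟩ := Nat.exists_prime_and_dvd fun e' => hk1 (orderOf_eq_one_iff.mp e')
      exact decomp_prime hG h.hM hKU hU hq (by rw [ho]; exact dvd_mul_of_dvd_left hqd _)
        (orderOf_kappa h.hK hk q hq hqd).1
  · rintro ⟨⟨⟨hzM, y, hy, hy1, hzy⟩, hnK⟩, hnA⟩
    have hnU : z ∉ U ⊔ Cfsg.sigmaCore M := fun hU => hnA ⟨⟨hzM, y, hy, hy1, hzy⟩, hU⟩
    obtain ⟨s, k, hz, hsk, hsz, hkz, hsσ, hkσ⟩ := exists_split hG z (Cfsg.sigma M)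
    have hsM : s ∈ M := Subgroup.zpowers_le.mpr hzM hsz
    have hkM : k ∈ M := Subgroup.zpowers_le.mpr hzM hkz
    have hsS : s ∈ Cfsg.sigmaCore M := sigma_le_core hG h.hM (Subgroup.zpowers_le.mpr hsM)
      (fun q hq hd => hsσ q hq (by rwa [Nat.card_zpowers] at hd)) (Subgroup.mem_zpowers s)
    have hk1 : k ≠ 1 := fun e => hnU (by rw [hz, e, mul_one]; exact Subgroup.mem_sup_right hsS)
    have hky : Commute k y := by
      obtain ⟨n, hn⟩ := Subgroup.mem_zpowers_iff.mp hkz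
      rw [← hn]
      exact Commute.zpow_left hzy n
    rcases fixed_dichotomy hG h.hM hy hy1 hkM hky hk1 hkσ with ⟨hκ, -⟩ | ⟨hτ, -⟩
    swap
    · refine absurd ?_ hnU
      rw [hz]
      exact mul_mem (Subgroup.mem_sup_right hsS) (mem_decomp hG h.hM hKU hkM fun q hq hd hk => by
        haveI := Fact.mk hq
        exact (hτ q hq hd).2.2.2 (kappa_rank_one hk))
    obtain ⟨m, hm, hmK⟩ := exists_conj_le_kappa hG h.hM h.hK (Subgroup.zpowers_le.mpr hkM)
      fun q hq' hd => hκ q hq' (by rwa [Nat.card_zpowers] at hd)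
    have hkK : m * k * m⁻¹ ∈ K := hmK (Basics.conj_mem_conj_smul (Subgroup.mem_zpowers k))
    have hk'1 : m * k * m⁻¹ ≠ 1 := fun e => hk1 (conj_eq_one_iff.mp e)
    have hs1 : s ≠ 1 := fun e => hnK ⟨m * k * m⁻¹, hkK, hk'1, m⁻¹, inv_mem hm, by rw [hz, e]; group⟩
    refine ⟨m⁻¹, inv_mem hm, m * k * m⁻¹ * (m * s * m⁻¹), DualPair.hat_mem h hkK ?_ hk'1
      (fun e => hs1 (conj_eq_one_iff.mp e)), by rw [hz, hsk.eq]; group⟩
    rw [← kappa_semiprime hG h.hM h.hK hkK hk'1]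
    refine Subgroup.mem_inf.mpr ⟨(Subgroup.mem_normalizer_iff.mp (le_normalizer_sigmaCore M hm) s).mp hsS,
      Subgroup.mem_centralizer_singleton_iff.mpr ?_⟩
    calc m * s * m⁻¹ * (m * k * m⁻¹) = m * (s * k) * m⁻¹ := by group
      _ = m * (k * s) * m⁻¹ := by rw [hsk.eq]
      _ = _ := by group

/-- `A₀(M) - A(M)` is a TI-subset. -/
theorem hat_conj_ti (hG : IsMinSimpleOddOrder G) {M K L : Subgroup G} (h : DualPair M K L) :
    Cfsg.IsTISubset {a : G | ∃ m ∈ M, ∃ z ∈ ((↑(K ⊔ (Cfsg.sigmaCore M ⊓ Subgroup.centralizer (K : Set G))) : Set G) \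
      ((K : Set G) ∪ ↑(Cfsg.sigmaCore M ⊓ Subgroup.centralizer (K : Set G)))), a = m * z * m⁻¹} := by
  rintro g hg x ⟨m, hm, z, hz, rfl⟩ ⟨m', hm', z', hz', e⟩
  refine absurd ?_ hg
  have hw : (m'⁻¹ * g * m) * z * (m'⁻¹ * g * m)⁻¹ = z' := by
    rw [show (m'⁻¹ * g * m) * z * (m'⁻¹ * g * m)⁻¹ = m'⁻¹ * (g * (m * z * m⁻¹) * g⁻¹) * m' by group, e]
    group
  have hZ := h.hat_rigid hG hz (hw ▸ hz')
  have hgM : g ∈ M := by
    have h1 := (sup_le h.hK.1 (inf_le_left.trans (sigmaCore_le M))) hZ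
    have h2 := mul_mem (mul_mem hm' h1) (inv_mem hm)
    rwa [show m' * (m'⁻¹ * g * m) * m⁻¹ = g by group] at h2
  rw [Subgroup.mem_set_normalizer_iff]
  intro y
  constructor
  · rintro ⟨n, hn, w, hw, rfl⟩
    exact ⟨g * n, mul_mem hgM hn, w, hw, by group⟩
  · rintro ⟨n, hn, w, hw, e'⟩
    exact ⟨g⁻¹ * n, mul_mem (inv_mem hgM) hn, w, hw, by
      rw [show y = g⁻¹ * (g * y * g⁻¹) * g by group, e']; group⟩

end Cfsg.Agent.OddLocal
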