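import Cfsg.Agent.Lib.OddLocal.KappaZ

/-! The counting argument of BG 14.7. -/

set_option autoImplicit false
set_option linter.unusedSectionVars false
set_option linter.style.haveILetI false

namespace Cfsg.Agent.OddLocal

open scoped commutatorElement Pointwise
open Cfsg
open Basics (IsSylowIn)

universe u

variable {G : Type u} [Group G] [Finite G]

/-- An element of a tilde set in normal form. -/
theorem tilde_elt (hG : IsMinSimpleOddOrder G) {M : Subgroup G} (hM : IsCoatom M) {z : G}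
    (hz : z ∈ Cfsg.tildeOf M ((Cfsg.sigmaCore M : Set G) \ {1})) :
    z ≠ 1 ∧ ∃ (H : Subgroup G) (a r : G), IsCoatom H ∧ Cfsg.sigma H = Cfsg.sigma M ∧ a ∈ Cfsg.sigmaCore H ∧
      a ≠ 1 ∧ r ∈ Cfsg.supportR H a ∧ z = a * r := by
  obtain ⟨a, ⟨ha, ha1⟩, r, hr, y, rfl⟩ := hz
  refine ⟨fun e => ha1 ?_, M.map (MulAut.conj y).toMonoidHom, y * a * y⁻¹, y * r * y⁻¹, isCoatom_map_conj hM y,
    sigma_map M y, ?_, fun e => ha1 (conj_eq_one_iff.mp e), ?_, by group⟩
  · rw [conj_eq_one_iff] at e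
    by_cases hr1 : r = 1
    · rw [hr1, mul_one] at e; exact e
    obtain ⟨N, -, -, -, -, -, -, -, -, hcop⟩ := supportR_elt hG hM ha ha1 hr hr1
    rw [eq_inv_of_mul_eq_one_left e, orderOf_inv, Nat.coprime_self, orderOf_eq_one_iff] at hcop
    exact absurd hcop hr1
  · rw [sigmaCore_map hG hM]; exact ⟨a, ha, rfl⟩
  · rw [supportR_conj hG hM ha ha1 y]; exact ⟨r, hr, rfl⟩

/-- `Ẑ` of `M` misses every tilde set, in the form used for counting. -/
theorem tilde_not_Zhat (hG : IsMinSimpleOddOrder G) {M K H : Subgroup G} (hM : IsCoatom M)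
    (hK : IsPiHallOf (Cfsg.kappa M) K M) (hK1 : K ≠ ⊥) (hH : IsCoatom H) {x r k b : G}
    (hx : x ∈ Cfsg.sigmaCore H) (hx1 : x ≠ 1) (hr : r ∈ Cfsg.supportR H x) (hk : k ∈ K) (hk1 : k ≠ 1)
    (hb : b ∈ Cfsg.sigmaCore M ⊓ Subgroup.centralizer (K : Set G)) (hσ : Cfsg.sigma H = Cfsg.sigma M)
    (h : x * r = k * b) : False := by
  have hxr : Commute x r ∧ (∀ q : ℕ, q.Prime → q ∣ orderOf r → q ∉ Cfsg.sigma M) ∧
      (r = 1 ∨ ¬ Subgroup.centralizer ({x} : Set G) ≤ H) := by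
    by_cases hr1 : r = 1
    · subst hr1
      refine ⟨Commute.one_right x, fun q hq hd => ?_, Or.inl rfl⟩
      rw [orderOf_one] at hd
      exact absurd hd hq.not_dvd_one
    obtain ⟨N, hN, hC, -, -, hrN, -, hcomm, hdis, -⟩ := supportR_elt hG hH hx hx1 hr hr1
    exact ⟨hcomm, fun q hq hd hs => hdis q (hσ ▸ hs) (orderOf_core hrN q hq hd), Or.inr hC⟩
  obtain ⟨hcomm, hrσ, hcase⟩ := hxr
  have hkb : Commute k b := Subgroup.mem_centralizer_iff.mp hb.2 k hk
  have hxσ : ∀ q : ℕ, q.Prime → q ∣ orderOf x → q ∈ Cfsg.sigma M := fun q hq hd => hσ ▸ orderOf_core hx q hq hd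
  have hxb : x = b := part_unique (h.trans hkb.eq) hcomm hkb.symm (coprime_of_sets hxσ hrσ)
    (coprime_of_sets (orderOf_core hb.1) fun q hq hd => (orderOf_kappa hK hk q hq hd).2)
    (coprime_of_sets hxσ fun q hq hd => (orderOf_kappa hK hk q hq hd).2)
    (coprime_of_sets (orderOf_core hb.1) hrσ)
  subst hxb
  have hrk : r = k := mul_left_cancel (h.trans hkb.eq)
  rcases hcase with rfl | hC
  · exact hk1 hrk.symm
  obtain ⟨q, hq, hqd⟩ := Nat.exists_prime_and_dvd fun e => hx1 (orderOf_eq_one_iff.mp e)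
  haveI := Fact.mk hq
  have hqM := hxσ q hq hqd
  obtain ⟨g, hg⟩ := sigma_disjoint hG hM hH hqM (hσ ▸ hqM)
  have hxH : x ∈ M.map (MulAut.conj g).toMonoidHom := hg ▸ sigmaCore_le H hx
  have hCM := kstar_centralizer_le hG hM hK hK1 hb hx1
  rw [hg, eq_of_mem_conj hG hM hb.1 hx1 hxH hCM] at hC
  exact hC hCM

theorem count_arith {z N t i k a m : ℕ} (hz : z = k * a) (hN : N = i * (k * m)) (hm : 2 * a ≤ m)
    (ha : 1 ≤ a) (ht : t = (m - 1) * i) :
    N * (2 * a - 1) ≤ 2 * z * t := by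
  obtain ⟨m, rfl⟩ := Nat.exists_eq_add_of_le (show 1 ≤ m by omega)
  obtain ⟨a, rfl⟩ := Nat.exists_eq_add_of_le ha
  subst hz hN ht
  rw [Nat.add_sub_cancel_left, show 2 * (1 + a) - 1 = 1 + 2 * a by omega]
  have hm' : 2 * a + 1 ≤ m := by omega
  nlinarith [Nat.mul_le_mul_left (i * k) hm']

/-- BG 14.7, counting: a system of neighbours cannot consist only of groups `M = K M_σ`. -/
theorem count_false (hG : IsMinSimpleOddOrder G) {Z : Subgroup G} (S : Finset (Subgroup G)) (h2 : 2 ≤ S.card)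
    (hS : ∀ L ∈ S, IsCoatom L ∧ ∃ KL : Subgroup G, IsPiHallOf (Cfsg.kappa L) KL L ∧ KL ≠ ⊥ ∧
      Z = KL ⊔ (Cfsg.sigmaCore L ⊓ Subgroup.centralizer (KL : Set G)) ∧
      Nat.card L = Nat.card KL * Nat.card (Cfsg.sigmaCore L) ∧
      ¬ Cfsg.sigmaCore L ≤ Subgroup.centralizer (KL : Set G))
    (hpair : ∀ L ∈ S, ∀ L' ∈ S, L ≠ L' → Cfsg.sigma L ≠ Cfsg.sigma L')
    (hcov : ∀ q : ℕ, q.Prime → q ∣ Nat.card Z → ∃ L ∈ S, q ∈ Cfsg.sigma L) : False := by
  classical
  set T : Set G := {t | t ∈ Z ∧ ∀ L ∈ S, t ∉ Cfsg.sigmaCore L} with hT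
  obtain ⟨L₀, hL₀⟩ : ∃ L, L ∈ S := Finset.card_pos.mp (by omega)
  have hT1 : ∀ t ∈ T, t ≠ 1 := fun t ht e => ht.2 L₀ hL₀ (e ▸ one_mem _)
  have hZL : ∀ L ∈ S, Z ≤ L := fun L hL => by
    obtain ⟨-, KL, hKL, -, hZ, -⟩ := hS L hL
    rw [hZ]
    exact sup_le hKL.1 (inf_le_left.trans (sigmaCore_le L))
  -- a decomposition of a `T`-element at a prime
  have hsplit : ∀ t ∈ T, ∀ q : ℕ, q.Prime → q ∣ orderOf t → ∀ L ∈ S, q ∈ Cfsg.sigma L →
      ∃ KL : Subgroup G, IsPiHallOf (Cfsg.kappa L) KL L ∧ KL ≠ ⊥ ∧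
        Z = KL ⊔ (Cfsg.sigmaCore L ⊓ Subgroup.centralizer (KL : Set G)) ∧
        ∃ k ∈ KL, ∃ a ∈ Cfsg.sigmaCore L ⊓ Subgroup.centralizer (KL : Set G),
          t = k * a ∧ Commute k a ∧ k ≠ 1 ∧ a ≠ 1 := by
    intro t ht q hq hqd L hL hqL
    obtain ⟨-, KL, hKL, hKL1, hZ, -⟩ := hS L hL
    obtain ⟨k, hk, a, ha, rfl, hka⟩ := mem_Z (hZ ▸ ht.1)
    refine ⟨KL, hKL, hKL1, hZ, k, hk, a, ha, rfl, hka, fun e => ?_, fun e => ?_⟩
    · exact ht.2 L hL (by rw [e, one_mul]; exact ha.1)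
    · rw [e, mul_one] at hqd
      exact (orderOf_kappa hKL hk q hq hqd).2 hqL
  have hprime : ∀ t ∈ T, ∀ q : ℕ, q.Prime → q ∣ orderOf t → ∃ L ∈ S, q ∈ Cfsg.sigma L := fun t ht q hq hd =>
    hcov q hq (hd.trans (Subgroup.orderOf_dvd_natCard _ ht.1))
  -- rigidity
  have hTI : ∀ g : G, ∀ t ∈ T, g * t * g⁻¹ ∈ T → g ∈ Z := by
    intro g t ht ht'
    obtain ⟨q, hq, hqd⟩ := Nat.exists_prime_and_dvd fun e => hT1 t ht (orderOf_eq_one_iff.mp e)
    obtain ⟨L, hL, hqL⟩ := hprime t ht q hq hqd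
    obtain ⟨KL, hKL, hKL1, hZ, k, hk, a, ha, rfl, hka, hk1, ha1⟩ := hsplit t ht q hq hqd L hL hqL
    obtain ⟨k', hk', a', ha', he, hka'⟩ := mem_Z (hZ ▸ ht'.1)
    have hoa : ∀ s : ℕ, s.Prime → s ∣ orderOf (g * a * g⁻¹) → s ∈ Cfsg.sigma L := fun s hs hd =>
      orderOf_core ha.1 s hs (by rwa [orderOf_conj_elt] at hd)
    have hok : ∀ s : ℕ, s.Prime → s ∣ orderOf (g * k * g⁻¹) → s ∉ Cfsg.sigma L := fun s hs hd =>
      (orderOf_kappa hKL hk s hs (by rwa [orderOf_conj_elt] at hd)).2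
    have hcomm : Commute (g * a * g⁻¹) (g * k * g⁻¹) := by
      have := hka.symm.map (MulAut.conj g).toMonoidHom
      simpa using this
    have e : g * a * g⁻¹ * (g * k * g⁻¹) = a' * k' := by
      rw [hka'.symm.eq, ← he, show g * (k * a) * g⁻¹ = g * k * g⁻¹ * (g * a * g⁻¹) by group, hcomm.eq]
    have e1 : g * a * g⁻¹ = a' := part_unique e hcomm hka'.symm (coprime_of_sets hoa hok)
      (coprime_of_sets (orderOf_core ha'.1) fun s hs hd => (orderOf_kappa hKL hk' s hs hd).2)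
      (coprime_of_sets hoa fun s hs hd => (orderOf_kappa hKL hk' s hs hd).2)
      (coprime_of_sets (orderOf_core ha'.1) hok)
    have e2 : g * k * g⁻¹ = k' := by
      rw [e1] at e
      exact mul_left_cancel e
    rw [hZ]
    exact kappa_pair_rigid hG (hS L hL).1 hKL hKL1 hk hk1 ha ha1 (e2 ▸ hk') (e1 ▸ ha')
  have hTconj : ∀ z ∈ Z, ∀ t ∈ T, z * t * z⁻¹ ∈ T := fun z hz t ht =>
    ⟨mul_mem (mul_mem hz ht.1) (inv_mem hz), fun L hL h => ht.2 L hL
      ((Subgroup.mem_normalizer_iff.mp (le_normalizer_sigmaCore L (hZL L hL hz)) t).mpr h)⟩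
  set C : Set G := {c | ∃ g : G, ∃ t ∈ T, c = g * t * g⁻¹} with hC
  have hCcard : Set.ncard C = Z.index * Set.ncard T := by
    let F : (G ⧸ Z) × T → G := fun v => v.1.out * v.2.1 * v.1.out⁻¹
    have hinj : Function.Injective F := by
      rintro ⟨q₁, t₁, h₁⟩ ⟨q₂, t₂, h₂⟩ e
      simp only [F] at e
      have hmem : q₂.out⁻¹ * q₁.out ∈ Z := hTI _ t₁ h₁ (by
        rw [show q₂.out⁻¹ * q₁.out * t₁ * (q₂.out⁻¹ * q₁.out)⁻¹ = q₂.out⁻¹ * (q₁.out * t₁ * q₁.out⁻¹) * q₂.out by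
          group, e, show q₂.out⁻¹ * (q₂.out * t₂ * q₂.out⁻¹) * q₂.out = t₂ by group]
        exact h₂)
      have hq : q₁ = q₂ := by
        rw [← q₁.out_eq, ← q₂.out_eq]
        exact (QuotientGroup.eq.mpr hmem).symm
      subst hq
      exact Prod.ext rfl (Subtype.ext (mul_left_cancel (mul_right_cancel e)))
    have hrange : Set.range F = C := by
      ext c
      constructor
      · rintro ⟨v, rfl⟩; exact ⟨_, _, v.2.2, rfl⟩
      · rintro ⟨g, t, ht, rfl⟩
        set o := (QuotientGroup.mk g : G ⧸ Z).out with ho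
        have hz : o⁻¹ * g ∈ Z := QuotientGroup.eq.mp (QuotientGroup.out_eq' _)
        refine ⟨(QuotientGroup.mk g, ⟨o⁻¹ * g * t * (o⁻¹ * g)⁻¹, hTconj _ hz t ht⟩), ?_⟩
        simp only [F, ← ho]
        group
    rw [← hrange, Set.ncard_range_of_injective hinj, Nat.card_prod, Nat.card_coe_set_eq]
    rfl
  let Tl : Subgroup G → Set G := fun L => Cfsg.tildeOf L ((Cfsg.sigmaCore L : Set G) \ {1})
  have hdisC : ∀ L ∈ S, ∀ z ∈ Tl L, z ∉ C := by
    rintro L hL z hz ⟨g, t, ht, rfl⟩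
    have hLc := (hS L hL).1
    have hz' : t ∈ Tl L := by
      obtain ⟨a, ha, r, hr, y, e⟩ := hz
      exact ⟨a, ha, r, hr, g⁻¹ * y, by
        rw [show t = g⁻¹ * (g * t * g⁻¹) * g by group, e]; group⟩
    obtain ⟨-, H, x, r, hH, hσ, hx, hx1, hr, rfl⟩ := tilde_elt hG hLc hz'
    obtain ⟨q, hq, hqd⟩ := Nat.exists_prime_and_dvd fun e => hx1 (orderOf_eq_one_iff.mp e)
    have hqL : q ∈ Cfsg.sigma L := hσ ▸ orderOf_core hx q hq hqd
    have hd : q ∣ orderOf (x * r) := by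
      by_cases hr1 : r = 1
      · rw [hr1, mul_one]; exact hqd
      obtain ⟨N, -, -, -, -, -, -, hcomm, -, hcop⟩ := supportR_elt hG hH hx hx1 hr hr1
      rw [orderOf_mul_of_coprime hcomm hcop]
      exact dvd_mul_of_dvd_left hqd _
    obtain ⟨KL, hKL, hKL1, -, k, hk, b, hb, e, -, hk1, -⟩ := hsplit _ ht q hq hd L hL hqL
    exact tilde_not_Zhat hG hLc hKL hKL1 hH hx hx1 hr hk hk1 hb hσ e
  have hdis : ∀ L ∈ S, ∀ L' ∈ S, L ≠ L' → ∀ z ∈ Tl L, z ∉ Tl L' := by
    intro L hL L' hL' hne z hz hz'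
    obtain ⟨-, H, x, r, hH, hσ, hx, hx1, hr, rfl⟩ := tilde_elt hG (hS L hL).1 hz
    obtain ⟨-, H', x', r', hH', hσ', hx', hx'1, hr', e⟩ := tilde_elt hG (hS L' hL').1 hz'
    have hxx := coset_unique hG hH hH' hx hx' hx1 hx'1 hr hr' e
    subst hxx
    obtain ⟨q, hq, hqd⟩ := Nat.exists_prime_and_dvd fun e => hx1 (orderOf_eq_one_iff.mp e)
    exact hpair L hL L' hL' hne (sigma_eq_of_mem hG (hS L' hL').1 (hS L hL).1
      (hσ' ▸ orderOf_core hx' q hq hqd) (hσ ▸ orderOf_core hx q hq hqd))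
  -- sum of the cardinalities
  have htotal : Set.ncard C + ∑ L ∈ S, Set.ncard (Tl L) + 1 ≤ Nat.card G := by
    haveI : Fintype G := Fintype.ofFinite G
    have hb : (S.biUnion fun L => (Tl L).toFinset).card = ∑ L ∈ S, Set.ncard (Tl L) := by
      rw [Finset.card_biUnion fun L hL L' hL' hne => ?_]
      · exact Finset.sum_congr rfl fun L _ => (Set.ncard_eq_toFinset_card' _).symm
      · exact Finset.disjoint_left.mpr fun z h1 h2 =>
          hdis L hL L' hL' hne z (Set.mem_toFinset.mp h1) (Set.mem_toFinset.mp h2)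
    have hd : Disjoint C.toFinset (S.biUnion fun L => (Tl L).toFinset) := Finset.disjoint_left.mpr fun z h1 h2 => by
      obtain ⟨L, hL, hz⟩ := Finset.mem_biUnion.mp h2
      exact hdisC L hL z (Set.mem_toFinset.mp hz) (Set.mem_toFinset.mp h1)
    have h1 : (1 : G) ∉ C.toFinset ∪ S.biUnion fun L => (Tl L).toFinset := fun h => by
      rcases Finset.mem_union.mp h with h | h
      · obtain ⟨g, t, ht, e⟩ := Set.mem_toFinset.mp h
        exact hT1 t ht (conj_eq_one_iff.mp e.symm)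
      · obtain ⟨L, hL, hz⟩ := Finset.mem_biUnion.mp h
        exact (tilde_elt hG (hS L hL).1 (Set.mem_toFinset.mp hz)).1 rfl
    have := Finset.card_le_univ (insert (1 : G) (C.toFinset ∪ S.biUnion fun L => (Tl L).toFinset))
    rw [Finset.card_insert_of_notMem h1, Finset.card_union_of_disjoint hd, hb, ← Set.ncard_eq_toFinset_card',
      ← Nat.card_eq_fintype_card] at this
    exact this
  -- size of `T`
  let a : Subgroup G → ℕ := fun L => Nat.card ↥(Z ⊓ Cfsg.sigmaCore L)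
  have ha1 : ∀ L, 1 ≤ a L := fun L => Nat.card_pos
  have hTcard : Nat.card Z + S.card ≤ Set.ncard T + ∑ L ∈ S, a L + 1 := by
    haveI : Fintype G := Fintype.ofFinite G
    have hsub : ((Z : Set G) \ {1}).toFinset ⊆
        T.toFinset ∪ S.biUnion fun L => (((Z ⊓ Cfsg.sigmaCore L : Subgroup G) : Set G) \ {1}).toFinset := by
      intro z hz
      rw [Set.mem_toFinset] at hz
      by_cases h : ∀ L ∈ S, z ∉ Cfsg.sigmaCore L
      · exact Finset.mem_union_left _ (Set.mem_toFinset.mpr ⟨hz.1, h⟩)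
      · push Not at h
        obtain ⟨L, hL, hzL⟩ := h
        exact Finset.mem_union_right _ (Finset.mem_biUnion.mpr ⟨L, hL, Set.mem_toFinset.mpr ⟨⟨hz.1, hzL⟩, hz.2⟩⟩)
    have h3 := (Finset.card_le_card hsub).trans ((Finset.card_union_le _ _).trans
      (Nat.add_le_add_left Finset.card_biUnion_le _))
    have hd1 : ∀ H : Subgroup G, (((H : Set G) \ {1}).toFinset).card + 1 = Nat.card H := fun H => by
      rw [← Set.ncard_eq_toFinset_card', Set.ncard_sdiff_singleton_add_one H.one_mem]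
      exact (Nat.card_coe_set_eq _).symm
    have h4 : ∑ L ∈ S, a L =
        ∑ L ∈ S, ((((Z ⊓ Cfsg.sigmaCore L : Subgroup G) : Set G) \ {1}).toFinset).card + S.card := by
      rw [← Finset.sum_const_nat (m := 1) (s := S) (f := fun _ => 1) (fun _ _ => rfl) |>.trans (mul_one _),
        ← Finset.sum_add_distrib]
      exact Finset.sum_congr rfl fun L _ => (hd1 _).symm
    have h5 := hd1 Z
    rw [← Set.ncard_eq_toFinset_card' T] at h3
    omega
  -- the estimate for each tilde set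
  have heach : ∀ L ∈ S, Nat.card G * (2 * a L - 1) ≤ 2 * Nat.card Z * Set.ncard (Tl L) := by
    intro L hL
    obtain ⟨hLc, KL, hKL, hKL1, hZ, hLcard, hprop⟩ := hS L hL
    have haL : a L = Nat.card ↥(Cfsg.sigmaCore L ⊓ Subgroup.centralizer (KL : Set G)) := by
      simp only [a]; rw [hZ, Z_inf_core hG hLc hKL]
    refine count_arith (i := L.index) (k := Nat.card KL) (m := Nat.card (Cfsg.sigmaCore L))
      (by rw [hZ, card_Z hKL, haL]) (by rw [← hLcard, mul_comm, Subgroup.card_mul_index]) ?_ (ha1 L)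
      (ncard_tilde hG hLc)
    rw [haL]
    obtain ⟨c, hc⟩ := Subgroup.card_dvd_of_le
      (inf_le_left : Cfsg.sigmaCore L ⊓ Subgroup.centralizer (KL : Set G) ≤ Cfsg.sigmaCore L)
    rw [hc, mul_comm 2]
    refine Nat.mul_le_mul_left _ ?_
    rcases c with _ | _ | c
    · rw [mul_zero] at hc; exact absurd hc Nat.card_pos.ne'
    · exfalso
      rw [zero_add, mul_one] at hc
      exact hprop ((Subgroup.eq_of_le_of_card_ge inf_le_left hc.le).ge.trans inf_le_right)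
    · omega
  have hsum := Finset.sum_le_sum heach
  rw [← Finset.mul_sum, ← Finset.mul_sum] at hsum
  have hsum2 : 2 * ∑ L ∈ S, a L = ∑ L ∈ S, (2 * a L - 1) + S.card := by
    rw [← Finset.sum_const_nat (m := 1) (s := S) (f := fun _ => 1) (fun _ _ => rfl) |>.trans (mul_one _),
      Finset.mul_sum, ← Finset.sum_add_distrib]
    exact Finset.sum_congr rfl fun L _ => by have := ha1 L; omega
  have hZi : Nat.card Z * Z.index = Nat.card G := Subgroup.card_mul_index Z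
  have hzpos : 1 ≤ Nat.card Z := Nat.card_pos
  have hNpos : 1 ≤ Nat.card G := Nat.card_pos
  rw [hCcard] at htotal
  generalize Nat.card G = N at *
  generalize Nat.card Z = z at *
  generalize Set.ncard T = τ at *
  generalize ∑ L ∈ S, Set.ncard (Tl L) = σs at *
  generalize ∑ L ∈ S, a L = α at *
  generalize ∑ L ∈ S, (2 * a L - 1) = β at *
  generalize S.card = n at *
  nlinarith [Nat.mul_le_mul_left (2 * z) htotal, Nat.mul_le_mul_left (2 * N) hTcard,
    Nat.mul_le_mul_left N h2, congrArg (fun x => N * x) hsum2, congrArg (fun x => 2 * τ * x) hZi]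

end Cfsg.Agent.OddLocal
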