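import Cfsg.Agent.Lib.OddLocal.KappaHat

/-! Covering of `G` by the tilde sets and `Ẑ` (BG 14.5, 14.7). -/

set_option autoImplicit false
set_option linter.unusedSectionVars false
set_option linter.style.haveILetI false

namespace Cfsg.Agent.OddLocal

open scoped commutatorElement Pointwise
open Cfsg
open Basics (IsSylowIn)

universe u

variable {G : Type u} [Group G] [Finite G]

/-- Any element splits into commuting `π` and `π'` parts which are powers of it. -/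
theorem exists_split (hG : IsMinSimpleOddOrder G) (g : G) (π : Set ℕ) :
    ∃ x x' : G, g = x * x' ∧ Commute x x' ∧ x ∈ Subgroup.zpowers g ∧ x' ∈ Subgroup.zpowers g ∧
      (∀ q : ℕ, q.Prime → q ∣ orderOf x → q ∈ π) ∧ ∀ q : ℕ, q.Prime → q ∣ orderOf x' → q ∉ π := by
  set H := Subgroup.zpowers g with hH
  have hHtop : H ≠ ⊤ := ne_top_of_isMulCommutative hG IsCyclic.isMulCommutative
  obtain ⟨P, hP, hPπ, hPf⟩ := exists_hall_in hG hHtop π
  obtain ⟨Q, hQ, hQπ, hQf⟩ := exists_hall_in hG hHtop {q | q ∉ π}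
  haveI : IsMulCommutative H := IsCyclic.isMulCommutative
  have hPQ : P ≤ Subgroup.normalizer (Q : Set G) :=
    (hP.trans ((Subgroup.le_centralizer_iff_isMulCommutative.mpr inferInstance).trans (Subgroup.centralizer_le hQ))).trans
      (Subgroup.centralizer_le_normalizer _)
  have hcop : (Nat.card Q).Coprime (Nat.card P) := Nat.coprime_of_dvd fun q hq h1 h2 => hQπ q hq h1 (hPπ q hq h2)
  have hsup : Q ⊔ P = H := by
    refine Subgroup.eq_of_le_of_card_ge (sup_le hQ hP) (le_of_eq ?_)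
    rw [Basics.card_sup_of_coprime hPQ hcop]
    refine Nat.eq_of_factorization_eq Nat.card_pos.ne' (mul_ne_zero Nat.card_pos.ne' Nat.card_pos.ne') fun q => ?_
    rw [Nat.factorization_mul Nat.card_pos.ne' Nat.card_pos.ne', Finsupp.add_apply]
    by_cases hq : q.Prime
    swap
    · simp [Nat.factorization_eq_zero_of_not_prime _ hq]
    by_cases hqπ : q ∈ π
    · rw [hPf q hq hqπ, Nat.factorization_eq_zero_of_not_dvd fun hd => hQπ q hq hd hqπ, zero_add]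
    · rw [hQf q hq hqπ, Nat.factorization_eq_zero_of_not_dvd (n := Nat.card P) fun hd => hqπ (hPπ q hq hd), add_zero]
  obtain ⟨a, ha, b, hb, e⟩ := (Basics.mem_sup_of_le_normalizer hPQ).mp
    (hsup.symm ▸ Subgroup.mem_zpowers g : g ∈ Q ⊔ P)
  have hab : Commute b a := congrArg Subtype.val (mul_comm' (⟨b, hP hb⟩ : H) ⟨a, hQ ha⟩)
  exact ⟨b, a, e.trans hab.eq.symm, hab, hP hb, hQ ha,
    fun q hq hd => hPπ q hq (hd.trans (Subgroup.orderOf_dvd_natCard _ hb)),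
    fun q hq hd => hQπ q hq (hd.trans (Subgroup.orderOf_dvd_natCard _ ha))⟩

theorem sigma_set_ne {M L : Subgroup G} (hG : IsMinSimpleOddOrder G) (hM : IsCoatom M) (hL : IsCoatom L) {q : ℕ}
    (hconj : ∀ g : G, L ≠ M.map (MulAut.conj g).toMonoidHom) (h1 : q ∈ Cfsg.sigma M) : q ∉ Cfsg.sigma L := fun h2 => by
  haveI := Fact.mk h1.1
  obtain ⟨g, hg⟩ := sigma_disjoint hG hM hL h1 h2
  exact hconj g hg

/-- The covered elements. -/
def Covered (g : G) : Prop :=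
  (∃ H : Subgroup G, IsCoatom H ∧ g ∈ Cfsg.tildeOf H ((Cfsg.sigmaCore H : Set G) \ {1})) ∨
    ∃ (M K L : Subgroup G), DualPair M K L ∧
      ∃ y : G, ∃ k ∈ K, ∃ a ∈ Cfsg.sigmaCore M ⊓ Subgroup.centralizer (K : Set G),
        k ≠ 1 ∧ a ≠ 1 ∧ g = y * (k * a) * y⁻¹

theorem covered_tilde {H : Subgroup G} (hH : IsCoatom H) {x r : G} (hx : x ∈ Cfsg.sigmaCore H) (hx1 : x ≠ 1)
    (hr : r ∈ Cfsg.supportR H x) : Covered (x * r) :=
  Or.inl ⟨H, hH, x, ⟨hx, hx1⟩, r, hr, 1, by group⟩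

theorem covered_conj {g : G} (h : Covered g) (m : G) : Covered (m * g * m⁻¹) := by
  rcases h with ⟨H, hH, a, ha, r, hr, y, rfl⟩ | ⟨M, K, L, hd, y, k, hk, a, ha, hk1, ha1, rfl⟩
  · exact Or.inl ⟨H, hH, a, ha, r, hr, m * y, by group⟩
  · exact Or.inr ⟨M, K, L, hd, m * y, k, hk, a, ha, hk1, ha1, by group⟩

/-- The case inside `M`. -/
theorem covered_in (hG : IsMinSimpleOddOrder G) {M : Subgroup G} (hM : IsCoatom M) {x x' : G}
    (hx : x ∈ Cfsg.sigmaCore M) (hx1 : x ≠ 1) (hx' : x' ∈ M) (hxx : Commute x x')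
    (hσ : ∀ q : ℕ, q.Prime → q ∣ orderOf x' → q ∉ Cfsg.sigma M) : Covered (x * x') := by
  by_cases hx'1 : x' = 1
  · rw [hx'1]; exact covered_tilde hM hx hx1 (one_mem _)
  rcases fixed_dichotomy hG hM hx hx1 hx' hxx.symm hx'1 hσ with ⟨hκ, -⟩ | ⟨hτ, hC, hu⟩
  · obtain ⟨K, hK⟩ := exists_kappa_hall hG hM
    obtain ⟨m, hm, hmK⟩ := exists_conj_le_kappa hG hM hK (Subgroup.zpowers_le.mpr hx')
      fun q hq hd => hκ q hq (by rwa [Nat.card_zpowers] at hd)
    have hkK : m * x' * m⁻¹ ∈ K := hmK (Basics.conj_mem_conj_smul (Subgroup.mem_zpowers x'))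
    have hk1 : m * x' * m⁻¹ ≠ 1 := fun e => hx'1 (conj_eq_one_iff.mp e)
    have hK1 : K ≠ ⊥ := fun e => hk1 (Subgroup.mem_bot.mp (e ▸ hkK))
    obtain ⟨L, hL, -, hh, hs, -⟩ := exists_dual hG hM hK hK1
    refine Or.inr ⟨M, K, L, ⟨hM, hL, hK, hK1, hh, hs⟩, m⁻¹, m * x' * m⁻¹, hkK, m * x * m⁻¹, ?_, hk1,
      fun e => hx1 (conj_eq_one_iff.mp e), ?_⟩
    · rw [← kappa_semiprime hG hM hK hkK hk1]
      refine Subgroup.mem_inf.mpr ⟨(Subgroup.mem_normalizer_iff.mp (le_normalizer_sigmaCore M hm) x).mp hx,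
        Subgroup.mem_centralizer_singleton_iff.mpr ?_⟩
      calc m * x * m⁻¹ * (m * x' * m⁻¹) = m * (x * x') * m⁻¹ := by group
        _ = m * (x' * x) * m⁻¹ := by rw [hxx.eq]
        _ = _ := by group
    · rw [hxx.eq]; group
  · obtain ⟨L₀, hL₀, hσL⟩ := tau2_single_sigma hG hM hx' hx'1 hτ
    obtain ⟨c, hc⟩ := exists_conj_le_sigmaCore hG hL₀ (Y := Subgroup.zpowers x')
      (fun e => hx'1 (Subgroup.mem_bot.mp (e ▸ Subgroup.mem_zpowers x')))
      fun q hq hd => hσL q hq (by rwa [Nat.card_zpowers] at hd)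
    set L := L₀.map (MulAut.conj c⁻¹).toMonoidHom with hLdef
    have hL : IsCoatom L := isCoatom_map_conj hL₀ c⁻¹
    have hx'L : x' ∈ Cfsg.sigmaCore L := by
      rw [hLdef, sigmaCore_map hG hL₀]
      exact ⟨c * x' * c⁻¹, hc ⟨x', Subgroup.mem_zpowers x', rfl⟩, by simp [mul_assoc]⟩
    have hLM : L ≠ M := fun e => by
      obtain ⟨q, hq, hqd⟩ := Nat.exists_prime_and_dvd fun e => hx'1 (orderOf_eq_one_iff.mp e)
      exact hσ q hq hqd (orderOf_core (e ▸ hx'L) q hq hqd)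
    have hnL : ¬ Subgroup.centralizer ({x'} : Set G) ≤ L := fun h => hLM (hu L hL h)
    obtain ⟨N, hN, hCN, huN, -, -, hF, -⟩ := exists_neighbor hG hL hx'L hx'1 hnL
    have hNM := hu N hN hCN
    subst hNM
    have hR := supportR_of_neighbor hnL hM hC huN hF
    rw [hxx.eq]
    exact covered_tilde hL hx'L hx'1 (hR ▸ Subgroup.mem_inf.mpr
      ⟨hx, Subgroup.mem_centralizer_singleton_iff.mpr hxx.eq⟩)

/-- BG 14.5 / 14.7: every non-identity element is covered. -/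
theorem covered_all (hG : IsMinSimpleOddOrder G) {g : G} (hg : g ≠ 1) : Covered g := by
  obtain ⟨q, hq, hqd⟩ := Nat.exists_prime_and_dvd fun e => hg (orderOf_eq_one_iff.mp e)
  obtain ⟨M₀, hM₀, hqM₀⟩ := exists_mem_sigma hG hq (hqd.trans (orderOf_dvd_natCard g))
  obtain ⟨x, x', rfl, hxx, hxg, hx'g, hxσ, hx'σ⟩ := exists_split hG g (Cfsg.sigma M₀)
  have hx1 : x ≠ 1 := fun e => by
    rw [e, one_mul] at hqd
    exact hx'σ q hq hqd hqM₀
  obtain ⟨c, hc⟩ := exists_conj_le_sigmaCore hG hM₀ (Y := Subgroup.zpowers x)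
    (fun e => hx1 (Subgroup.mem_bot.mp (e ▸ Subgroup.mem_zpowers x)))
    fun s hs hd => hxσ s hs (by rwa [Nat.card_zpowers] at hd)
  set M := M₀.map (MulAut.conj c⁻¹).toMonoidHom with hMdef
  have hM : IsCoatom M := isCoatom_map_conj hM₀ c⁻¹
  have hσ : Cfsg.sigma M = Cfsg.sigma M₀ := sigma_map M₀ c⁻¹
  have hx : x ∈ Cfsg.sigmaCore M := by
    rw [hMdef, sigmaCore_map hG hM₀]
    exact ⟨c * x * c⁻¹, hc ⟨x, Subgroup.mem_zpowers x, rfl⟩, by simp [mul_assoc]⟩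
  have hx'σM : ∀ s : ℕ, s.Prime → s ∣ orderOf x' → s ∉ Cfsg.sigma M := fun s hs hd => hσ ▸ hx'σ s hs hd
  by_cases hx'M : x' ∈ M
  · exact covered_in hG hM hx hx1 hx'M hxx hx'σM
  have hx'C : x' ∈ Subgroup.centralizer ({x} : Set G) := Subgroup.mem_centralizer_singleton_iff.mpr hxx.eq.symm
  obtain ⟨N, hN, hCN, hu, hconj, -, hF, hcompl, -, -, -⟩ := exists_neighbor hG hM hx hx1 fun h => hx'M (h hx'C)
  obtain ⟨b, e, he, hbe, hbx, hex, hbσ, heσ⟩ := exists_split hG x' (Cfsg.sigma N)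
  by_cases he1 : e = 1
  · rw [he1, mul_one] at he
    refine covered_tilde hM hx hx1 ?_
    rw [supportR_of_neighbor (fun h => hx'M (h hx'C)) hN hCN hu hF]
    refine Subgroup.mem_inf.mpr ⟨?_, hx'C⟩
    have h1 : Subgroup.zpowers x' ≤ Cfsg.sigmaCore N := le_of_sylows fun s hs hd => by
      haveI := Fact.mk hs
      obtain ⟨S, hS⟩ := exists_sylowIn (q := s) (Subgroup.zpowers x')
      refine ⟨S, hS, pGroup_le_sigmaCore hG hN (hbσ s hs ?_) hS.isPGroup
        (hS.1.trans (Subgroup.zpowers_le.mpr (hCN hx'C)))⟩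
      rw [Nat.card_zpowers, he] at hd
      exact hd
    exact h1 (Subgroup.mem_zpowers x')
  have hxe : Commute x e := by
    obtain ⟨i, rfl⟩ := Subgroup.mem_zpowers_iff.mp hex
    exact hxx.zpow_right i
  have hCex : e ∈ Subgroup.centralizer ({x} : Set G) := Subgroup.mem_centralizer_singleton_iff.mpr hxe.eq.symm
  have hxN : x ∈ N := hCN (Subgroup.mem_centralizer_singleton_iff.mpr rfl)
  have hcop : (orderOf x).Coprime (orderOf e) := coprime_of_sets (π := Cfsg.sigma M) (orderOf_core hx)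
    fun s hs hd => hx'σM s hs (hd.trans (orderOf_dvd_of_mem_zpowers hex))
  obtain ⟨m, hm, hmE⟩ := exists_conj_le_compl hG hN hcompl (K := Subgroup.zpowers (x * e))
    (Subgroup.zpowers_le.mpr (mul_mem hxN (hCN hCex))) fun s hs hd => by
      rw [Nat.card_zpowers, orderOf_mul_of_coprime hxe hcop] at hd
      rcases hs.dvd_mul.mp hd with h | h
      · exact sigma_set_ne hG hM hN hconj (orderOf_core hx s hs h)
      · exact heσ s hs h
  have hxm : m * x * m⁻¹ ∈ M ⊓ N := hmE (Basics.conj_mem_conj_smul (mem_zpowers_mul_left hxe hcop))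
  have hem : m * e * m⁻¹ ∈ M ⊓ N := by
    refine hmE (Basics.conj_mem_conj_smul ?_)
    rw [hxe.eq]
    exact mem_zpowers_mul_left hxe.symm hcop.symm
  have hx2 : m * x * m⁻¹ ∈ Cfsg.sigmaCore M := by
    have h1 : Subgroup.zpowers (m * x * m⁻¹) ≤ Cfsg.sigmaCore M := le_of_sylows fun s hs hd => by
      haveI := Fact.mk hs
      obtain ⟨S, hS⟩ := exists_sylowIn (q := s) (Subgroup.zpowers (m * x * m⁻¹))
      refine ⟨S, hS, pGroup_le_sigmaCore hG hM (orderOf_core hx s hs ?_) hS.isPGroup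
        (hS.1.trans (Subgroup.zpowers_le.mpr hxm.1))⟩
      rwa [Nat.card_zpowers, orderOf_conj_elt] at hd
    exact h1 (Subgroup.mem_zpowers _)
  have hconjc : ∀ {u v : G}, Commute u v → Commute (m * u * m⁻¹) (m * v * m⁻¹) := fun h => by
    have := h.map (MulAut.conj m).toMonoidHom
    simpa using this
  have he2 : m * e * m⁻¹ ≠ 1 := fun h => he1 (conj_eq_one_iff.mp h)
  have hx'2 : m * x' * m⁻¹ ∈ M := by
    rcases fixed_dichotomy hG hM hx2 (fun h => hx1 (conj_eq_one_iff.mp h)) hem.1 (hconjc hxe.symm) he2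
      (fun s hs hd => hx'σM s hs (by
        rw [orderOf_conj_elt] at hd
        exact hd.trans (orderOf_dvd_of_mem_zpowers hex))) with ⟨-, h⟩ | ⟨-, h, -⟩
    · exact h (Subgroup.mem_centralizer_singleton_iff.mpr (hconjc hxx.symm).eq)
    · refine h (Subgroup.mem_centralizer_singleton_iff.mpr (hconjc ?_).eq)
      obtain ⟨i, rfl⟩ := Subgroup.mem_zpowers_iff.mp hex
      exact (Commute.refl x').zpow_right i
  have h2 := covered_in hG hM hx2 (fun h => hx1 (conj_eq_one_iff.mp h)) hx'2 (hconjc hxx)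
    (fun s hs hd => hx'σM s hs (by rwa [orderOf_conj_elt] at hd))
  have h3 := covered_conj h2 m⁻¹
  rwa [show m⁻¹ * (m * x * m⁻¹ * (m * x' * m⁻¹)) * m⁻¹⁻¹ = x * x' by group] at h3

namespace DualPair

variable {M K L : Subgroup G}

/-- Two dual pairs meet. -/
theorem sigma_cases (h : DualPair M K L) (hG : IsMinSimpleOddOrder G) {H KH LH : Subgroup G}
    (h' : DualPair H KH LH) :
    (∃ g : G, H = M.map (MulAut.conj g).toMonoidHom) ∨ ∃ g : G, H = L.map (MulAut.conj g).toMonoidHom := by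
  set C₁ := {a : G | ∃ g : G, ∃ z ∈ ((↑(K ⊔ (Cfsg.sigmaCore M ⊓ Subgroup.centralizer (K : Set G))) : Set G) \
      ((K : Set G) ∪ ↑(Cfsg.sigmaCore M ⊓ Subgroup.centralizer (K : Set G)))), a = g * z * g⁻¹} with hC₁
  set C₂ := {a : G | ∃ g : G, ∃ z ∈ ((↑(KH ⊔ (Cfsg.sigmaCore H ⊓ Subgroup.centralizer (KH : Set G))) : Set G) \
      ((KH : Set G) ∪ ↑(Cfsg.sigmaCore H ⊓ Subgroup.centralizer (KH : Set G)))), a = g * z * g⁻¹} with hC₂
  obtain ⟨c, ⟨g₁, z₁, hz₁, e₁⟩, g₂, z₂, hz₂, e₂⟩ : (C₁ ∩ C₂).Nonempty := by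
    by_contra hne
    rw [Set.not_nonempty_iff_eq_empty] at hne
    have h1 := Set.ncard_union_add_ncard_inter C₁ C₂
    rw [hne, Set.ncard_empty, add_zero] at h1
    have h2 := Set.ncard_le_card (C₁ ∪ C₂)
    have h3 := (h.count_hat hG).2
    have h4 := (h'.count_hat hG).2
    rw [← hC₁] at h3
    rw [← hC₂] at h4
    omega
  obtain ⟨k, hk, a, ha, hk1, ha1, rfl, hka⟩ := mem_hat hz₁
  obtain ⟨k', hk', a', ha', hk'1, -, rfl, hka'⟩ := mem_hat hz₂
  have ho : orderOf k * orderOf a = orderOf k' * orderOf a' := by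
    rw [← orderOf_mul_of_coprime hka
        (coprime_of_sets (π := {q | q ∉ Cfsg.sigma M}) (fun q hq hd => (orderOf_kappa h.hK hk q hq hd).2)
          fun q hq hd hn => hn (orderOf_core ha.1 q hq hd)),
      ← orderOf_mul_of_coprime hka'
        (coprime_of_sets (π := {q | q ∉ Cfsg.sigma H}) (fun q hq hd => (orderOf_kappa h'.hK hk' q hq hd).2)
          fun q hq hd hn => hn (orderOf_core ha'.1 q hq hd)),
      ← orderOf_conj_elt g₁ (k * a), ← orderOf_conj_elt g₂ (k' * a'), ← e₁, ← e₂]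
  have hkL : ∀ q : ℕ, q.Prime → q ∣ orderOf k → q ∈ Cfsg.sigma L := fun q hq hd =>
    orderOf_core (h.hstar.le.trans inf_le_left hk) q hq hd
  have hk'L : ∀ q : ℕ, q.Prime → q ∣ orderOf k' → q ∈ Cfsg.sigma LH := fun q hq hd =>
    orderOf_core (h'.hstar.le.trans inf_le_left hk') q hq hd
  obtain ⟨hconj, -, -⟩ := h.facts hG
  obtain ⟨q, hq, hqd⟩ := Nat.exists_prime_and_dvd fun e => ha1 (orderOf_eq_one_iff.mp e)
  haveI := Fact.mk hq
  have hqM := orderOf_core ha.1 q hq hqd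
  rcases hq.dvd_mul.mp (ho ▸ dvd_mul_of_dvd_right hqd _) with hq1 | hq1
  swap
  · exact Or.inl (sigma_disjoint hG h.hM h'.hM hqM (orderOf_core ha'.1 q hq hq1))
  obtain ⟨s, hs, hsd⟩ := Nat.exists_prime_and_dvd fun e => hk1 (orderOf_eq_one_iff.mp e)
  haveI := Fact.mk hs
  rcases hs.dvd_mul.mp (ho ▸ dvd_mul_of_dvd_left hsd _) with hs1 | hs1
  · have e3 := sigma_eq_of_mem hG h.hM h'.hL hqM (hk'L q hq hq1)
    exact absurd (hkL s hs hsd) (sigma_set_ne hG h.hM h.hL hconj (e3 ▸ hk'L s hs hs1))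
  · exact Or.inr (sigma_disjoint hG h.hL h'.hM (hkL s hs hsd) (orderOf_core ha'.1 s hs hs1))

end DualPair

/-- Every maximal subgroup with `κ ≠ ∅` is conjugate to `M` or `L`. -/
theorem DualPair.conj_cases {M K L : Subgroup G} (h : DualPair M K L) (hG : IsMinSimpleOddOrder G) {H : Subgroup G}
    (hH : IsCoatom H) (hk : (Cfsg.kappa H).Nonempty) :
    (∃ g : G, H = M.map (MulAut.conj g).toMonoidHom) ∨ ∃ g : G, H = L.map (MulAut.conj g).toMonoidHom := by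
  obtain ⟨KH, hKH⟩ := exists_kappa_hall hG hH
  obtain ⟨q, hqk⟩ := hk
  have h1 : KH ≠ ⊥ := fun e => by
    refine hKH.2.2 q hqk.1 hqk ?_
    rw [e, Subgroup.relIndex_bot_left]
    exact hqk.2.1
  obtain ⟨LH, hLH, -, hh, hs, -⟩ := exists_dual hG hH hKH h1
  exact h.sigma_cases hG ⟨hH, hLH, hKH, h1, hh, hs⟩

end Cfsg.Agent.OddLocal

namespace Cfsg.Agent.OddLocal

open scoped commutatorElement Pointwise
open Cfsg

universe u

variable {G : Type u} [Group G] [Finite G]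

/-- An element of the shape `k a` in `M` is conjugate into `Ẑ`. -/
theorem DualPair.hat_of_core {M K L : Subgroup G} (h : DualPair M K L) (hG : IsMinSimpleOddOrder G) {k a : G}
    (hk : k ∈ M) (hk1 : k ≠ 1) (ha : a ∈ Cfsg.sigmaCore M) (ha1 : a ≠ 1) (hka : Commute k a)
    (hq : ∀ q : ℕ, q.Prime → q ∣ orderOf k → q ∉ Cfsg.sigma M ∧ PRankLE q 1 M) :
    ∃ y : G, ∃ k' ∈ K, ∃ a' ∈ Cfsg.sigmaCore M ⊓ Subgroup.centralizer (K : Set G),
      k' ≠ 1 ∧ a' ≠ 1 ∧ k * a = y * (k' * a') * y⁻¹ := by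
  rcases fixed_dichotomy hG h.hM ha ha1 hk hka hk1 (fun q hq' hd => (hq q hq' hd).1) with ⟨hκ, -⟩ | ⟨hτ, -⟩
  swap
  · obtain ⟨q, hq', hqd⟩ := Nat.exists_prime_and_dvd fun e => hk1 (orderOf_eq_one_iff.mp e)
    exact absurd (hq q hq' hqd).2 (hτ q hq' hqd).2.2.2
  obtain ⟨m, hm, hmK⟩ := exists_conj_le_kappa hG h.hM h.hK (Subgroup.zpowers_le.mpr hk)
    fun q hq' hd => hκ q hq' (by rwa [Nat.card_zpowers] at hd)
  have hkK : m * k * m⁻¹ ∈ K := hmK (Basics.conj_mem_conj_smul (Subgroup.mem_zpowers k))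
  have hk'1 : m * k * m⁻¹ ≠ 1 := fun e => hk1 (conj_eq_one_iff.mp e)
  refine ⟨m⁻¹, m * k * m⁻¹, hkK, m * a * m⁻¹, ?_, hk'1, fun e => ha1 (conj_eq_one_iff.mp e), by group⟩
  rw [← kappa_semiprime hG h.hM h.hK hkK hk'1]
  refine Subgroup.mem_inf.mpr ⟨(Subgroup.mem_normalizer_iff.mp (le_normalizer_sigmaCore M hm) a).mp ha,
    Subgroup.mem_centralizer_singleton_iff.mpr ?_⟩
  calc m * a * m⁻¹ * (m * k * m⁻¹) = m * (a * k) * m⁻¹ := by group
    _ = m * (k * a) * m⁻¹ := by rw [hka.eq]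
    _ = _ := by group

/-- The `Ẑ` of any dual pair is conjugate to that of `(M, K)`. -/
theorem DualPair.hat_transfer {M K L : Subgroup G} (h : DualPair M K L) (hG : IsMinSimpleOddOrder G)
    {H KH LH : Subgroup G} (h' : DualPair H KH LH) {k a : G} (hk : k ∈ KH)
    (ha : a ∈ Cfsg.sigmaCore H ⊓ Subgroup.centralizer (KH : Set G)) (hk1 : k ≠ 1) (ha1 : a ≠ 1) :
    ∃ y : G, ∃ k' ∈ K, ∃ a' ∈ Cfsg.sigmaCore M ⊓ Subgroup.centralizer (K : Set G),
      k' ≠ 1 ∧ a' ≠ 1 ∧ k * a = y * (k' * a') * y⁻¹ := by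
  have hrk : ∀ q : ℕ, q.Prime → q ∣ orderOf k → q ∉ Cfsg.sigma H ∧ PRankLE q 1 H := fun q hq hd => by
    haveI := Fact.mk hq
    exact ⟨(orderOf_kappa h'.hK hk q hq hd).2, kappa_rank_one (orderOf_kappa h'.hK hk q hq hd).1⟩
  have hka : Commute k a := Subgroup.mem_centralizer_iff.mp ha.2 k hk
  -- pull back along a conjugation
  have pull : ∀ {M₁ K₁ L₁ : Subgroup G}, DualPair M₁ K₁ L₁ → ∀ c : G, H = M₁.map (MulAut.conj c).toMonoidHom →
      ∃ y : G, ∃ k' ∈ K₁, ∃ a' ∈ Cfsg.sigmaCore M₁ ⊓ Subgroup.centralizer (K₁ : Set G),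
        k' ≠ 1 ∧ a' ≠ 1 ∧ k * a = y * (k' * a') * y⁻¹ := by
    intro M₁ K₁ L₁ h₁ c hc
    have hkH : k ∈ H := h'.hK.1 hk
    rw [hc] at hkH
    obtain ⟨k₀, hk₀, rfl⟩ := hkH
    have haH := ha.1
    rw [hc, sigmaCore_map hG h₁.hM] at haH
    obtain ⟨a₀, ha₀, rfl⟩ := haH
    simp only [MulEquiv.coe_toMonoidHom, MulAut.conj_apply] at *
    have hcomm : Commute k₀ a₀ := by
      have := hka.map (MulAut.conj c⁻¹).toMonoidHom
      simpa [mul_assoc] using this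
    obtain ⟨y, k', hk', a', ha', hk'1, ha'1, e⟩ := h₁.hat_of_core hG hk₀
      (fun e => hk1 (by rw [e]; simp)) ha₀ (fun e => ha1 (by rw [e]; simp)) hcomm fun q hq hd => by
        obtain ⟨h1, h2⟩ := hrk q hq (by rwa [orderOf_conj_elt])
        have h3 := pRankLE_conj c⁻¹ h2
        rw [hc, map_conj_map_conj, inv_mul_cancel, map_conj_one] at h3
        exact ⟨fun hs => h1 (hc.symm ▸ sigma_of_conj_inv rfl hs), h3⟩
    exact ⟨c * y, k', hk', a', ha', hk'1, ha'1, by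
      calc c * k₀ * c⁻¹ * (c * a₀ * c⁻¹) = c * (k₀ * a₀) * c⁻¹ := by group
        _ = _ := by rw [e]; group⟩
  rcases h.sigma_cases hG h' with ⟨c, hc⟩ | ⟨c, hc⟩
  · exact pull h c hc
  · obtain ⟨y, k', hk', a', ha', hk'1, ha'1, e⟩ := pull (h.symm hG) c hc
    rw [← h.hstar] at ha'
    exact ⟨y, a', ha', k', hk', ha'1, hk'1, by rw [e, Subgroup.mem_centralizer_iff.mp hk'.2 a' ha']⟩

/-- `Ẑ` misses all tilde sets. -/
theorem DualPair.hat_not_tilde {M K L : Subgroup G} (h : DualPair M K L) (hG : IsMinSimpleOddOrder G) {N : Subgroup G}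
    (hN : IsCoatom N) {k a : G} (hk : k ∈ K) (ha : a ∈ Cfsg.sigmaCore M ⊓ Subgroup.centralizer (K : Set G))
    (hk1 : k ≠ 1) (ha1 : a ≠ 1) : k * a ∉ Cfsg.tildeOf N ((Cfsg.sigmaCore N : Set G) \ {1}) := by
  intro hz
  obtain ⟨-, H, x, r, hH, -, hx, hx1, hr, e⟩ := tilde_elt hG hN hz
  obtain ⟨q, hq, hqd⟩ := Nat.exists_prime_and_dvd fun e => hx1 (orderOf_eq_one_iff.mp e)
  have hka : Commute k a := Subgroup.mem_centralizer_iff.mp ha.2 k hk
  have hcop : (orderOf k).Coprime (orderOf a) :=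
    coprime_of_sets (π := {q | q ∉ Cfsg.sigma M}) (fun s hs hd => (orderOf_kappa h.hK hk s hs hd).2)
      fun s hs hd hn => hn (orderOf_core ha.1 s hs hd)
  have hd : q ∣ orderOf (x * r) := by
    by_cases hr1 : r = 1
    · rw [hr1, mul_one]; exact hqd
    obtain ⟨-, -, -, -, -, -, -, hcomm, -, hc⟩ := supportR_elt hG hH hx hx1 hr hr1
    rw [orderOf_mul_of_coprime hcomm hc]
    exact dvd_mul_of_dvd_left hqd _
  rw [← e, orderOf_mul_of_coprime hka hcop] at hd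
  rcases hq.dvd_mul.mp hd with h1 | h1
  · have hkA : k ∈ Cfsg.sigmaCore L ⊓
        Subgroup.centralizer ((Cfsg.sigmaCore M ⊓ Subgroup.centralizer (K : Set G) : Subgroup G) : Set G) :=
      h.hstar.le hk
    exact tilde_not_Zhat hG h.hL h.hKL (kappa_fixed_ne_bot hG h.hM h.hK h.hK1) hH hx hx1 hr ha ha1 hkA
      (sigma_eq_of_mem hG h.hL hH (orderOf_core hkA.1 q hq h1) (orderOf_core hx q hq hqd))
      (by rw [← e, hka.eq])
  · exact tilde_not_Zhat hG h.hM h.hK h.hK1 hH hx hx1 hr hk hk1 ha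
      (sigma_eq_of_mem hG h.hM hH (orderOf_core ha.1 q hq h1) (orderOf_core hx q hq hqd)) e.symm

end Cfsg.Agent.OddLocal
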