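import Cfsg.Agent.Lib.OddLocal.KappaPrime

/-! The maximal subgroup over the normalizer of a `κ(M)`-line (BG 14.7, local part). -/

set_option autoImplicit false
set_option linter.unusedSectionVars false
set_option linter.style.haveILetI false

namespace Cfsg.Agent.OddLocal

open scoped commutatorElement Pointwise
open Cfsg
open Basics (IsSylowIn)

universe u

variable {G : Type u} [Group G] [Finite G] {p : ℕ} [hp : Fact p.Prime]

/-- A Hall `κ(M)`-subgroup has at most one line of each order. -/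
theorem kappa_line_unique (hG : IsMinSimpleOddOrder G) {M K X X' : Subgroup G} (hM : IsCoatom M)
    (hK : IsPiHallOf (Cfsg.kappa M) K M) (hK1 : K ≠ ⊥) (hXK : X ≤ K) (hX : Nat.card X = p) (hX'K : X' ≤ K)
    (hX' : Nat.card X' = p) : X = X' := by
  have hlines := (exists_kappa_compl hG hM hK hK1).1
  obtain ⟨S, hS⟩ := exists_sylowIn (q := p) K
  have hpk := hK.2.1 p hp.out (hX ▸ Subgroup.card_dvd_of_le hXK)
  have hSc : IsCyclic S := isCyclic_of_pRankLE_one (prime_ne_two hG (hX ▸ Subgroup.card_subgroup_dvd_card X))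
    (kappa_rank_one hpk) (hS.1.trans hK.1) hS.isPGroup
  exact eq_of_le_cyclic hSc
    (le_sylowIn_of_normalized (IsPGroup.of_card (n := 1) (hX.trans (pow_one p).symm)) hXK (hlines p X hXK hX).1 hS)
    (le_sylowIn_of_normalized (IsPGroup.of_card (n := 1) (hX'.trans (pow_one p).symm)) hX'K (hlines p X' hX'K hX').1 hS)
    (hX.trans hX'.symm)

omit hp in
theorem kstar_centralizer_le (hG : IsMinSimpleOddOrder G) {M K : Subgroup G} (hM : IsCoatom M)
    (hK : IsPiHallOf (Cfsg.kappa M) K M) (hK1 : K ≠ ⊥) {a : G}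
    (ha : a ∈ Cfsg.sigmaCore M ⊓ Subgroup.centralizer (K : Set G)) (ha1 : a ≠ 1) :
    Subgroup.centralizer ({a} : Set G) ≤ M := by
  obtain ⟨k, hk, hk1⟩ := (Subgroup.bot_or_exists_ne_one K).resolve_left hK1
  have hd : ∀ q : ℕ, q.Prime → q ∣ orderOf k → q ∈ Cfsg.kappa M := fun q hq h =>
    hK.2.1 q hq (h.trans (Subgroup.orderOf_dvd_natCard _ hk))
  rcases fixed_dichotomy hG hM ha.1 ha1 (hK.1 hk) (Subgroup.mem_centralizer_iff.mp ha.2 k hk) hk1
    (fun q hq h => (hd q hq h).2.2.1) with ⟨-, h⟩ | ⟨h, -⟩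
  · exact h
  obtain ⟨q, hq, hqd⟩ := Nat.exists_prime_and_dvd fun e => hk1 (orderOf_eq_one_iff.mp e)
  exact absurd (hd q hq hqd) (not_kappa_of_tau2 (h q hq hqd))

omit hp in
/-- Conjugation carrying `(k, a)` to another such pair lies in `K K*`. -/
theorem kappa_pair_rigid (hG : IsMinSimpleOddOrder G) {M K : Subgroup G} (hM : IsCoatom M)
    (hK : IsPiHallOf (Cfsg.kappa M) K M) (hK1 : K ≠ ⊥) {k a g : G} (hk : k ∈ K) (hk1 : k ≠ 1)
    (ha : a ∈ Cfsg.sigmaCore M ⊓ Subgroup.centralizer (K : Set G)) (ha1 : a ≠ 1) (hgk : g * k * g⁻¹ ∈ K)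
    (hga : g * a * g⁻¹ ∈ Cfsg.sigmaCore M ⊓ Subgroup.centralizer (K : Set G)) :
    g ∈ K ⊔ (Cfsg.sigmaCore M ⊓ Subgroup.centralizer (K : Set G)) := by
  have hgM : g ∈ M := by
    have h1 : a ∈ M.map (MulAut.conj g⁻¹).toMonoidHom :=
      ⟨g * a * g⁻¹, sigmaCore_le M hga.1, by simp [mul_assoc]⟩
    have h2 := mem_of_map_conj_eq hG hM (eq_of_mem_conj hG hM ha.1 ha1 h1 (kstar_centralizer_le hG hM hK hK1 ha ha1))
    simpa using inv_mem h2
  obtain ⟨r, hr, hrd⟩ := Nat.exists_prime_and_dvd fun e => hk1 (orderOf_eq_one_iff.mp e)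
  haveI := Fact.mk hr
  set x := k ^ (orderOf k / r) with hx
  have hxo : orderOf x = r := orderOf_pow_orderOf_div (orderOf_pos k).ne' hrd
  have hX : Nat.card (Subgroup.zpowers x) = r := by rw [Nat.card_zpowers, hxo]
  have hXK : Subgroup.zpowers x ≤ K := Subgroup.zpowers_le.mpr (pow_mem hk _)
  have hgx : g * x * g⁻¹ ∈ K := by rw [hx, ← conj_pow]; exact pow_mem hgk _
  have he : (Subgroup.zpowers x).map (MulAut.conj g).toMonoidHom = Subgroup.zpowers x := by
    refine kappa_line_unique hG hM hK hK1 ?_ ?_ hXK hX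
    · rw [MonoidHom.map_zpowers]; exact Subgroup.zpowers_le.mpr hgx
    · rw [Subgroup.card_map_of_injective (MulAut.conj g).injective, hX]
  exact (kappa_normalizer_line hG hM hK hK1 hXK hX).1 ▸
    Subgroup.mem_inf.mpr ⟨hgM, Subgroup.mem_normalizer_iff_map_conj_eq.mpr he⟩

/-- The primes on the two sides of the duality. -/
theorem dual_primes (hG : IsMinSimpleOddOrder G) {M K X L : Subgroup G} (hM : IsCoatom M)
    (hK : IsPiHallOf (Cfsg.kappa M) K M) (hXK : X ≤ K) (hX : Nat.card X = p) (hL : IsCoatom L)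
    (hNX : Subgroup.normalizer (X : Set G) ≤ L) :
    p ∈ Cfsg.sigma L ∧ (∀ g : G, L ≠ M.map (MulAut.conj g).toMonoidHom) ∧
      (∀ L' : Subgroup G, IsCoatom L' → Subgroup.normalizer (X : Set G) ≤ L' → L' = L) ∧
      X ≤ Cfsg.sigmaCore L ∧ K ≤ L ∧ (Cfsg.sigmaCore M ⊓ Subgroup.centralizer (K : Set G)) ≤ L ∧
      ∀ q : ℕ, q.Prime → q ∣ Nat.card ↥(Cfsg.sigmaCore M ⊓ Subgroup.centralizer (K : Set G)) → q ∈ Cfsg.kappa L := by
  set A := Cfsg.sigmaCore M ⊓ Subgroup.centralizer (K : Set G) with hA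
  have hK1 : K ≠ ⊥ := fun e => by
    rw [e, le_bot_iff] at hXK
    rw [hXK, Subgroup.card_bot] at hX
    exact hp.out.one_lt.ne hX
  have hpk := hK.2.1 p hp.out (hX ▸ Subgroup.card_dvd_of_le hXK)
  have hps := hpk.2.2.1
  have hp1 := kappa_rank_one hpk
  have hXM : X ≤ M := hXK.trans hK.1
  obtain ⟨-, hconj⟩ := normalizer_sup_facts hG hL hps hp1 hX hNX
  have hAX : A ≤ Cfsg.sigmaCore M ⊓ Subgroup.centralizer (X : Set G) :=
    inf_le_inf_left _ (Subgroup.centralizer_le hXK)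
  have hAne : A ≠ ⊥ := kappa_fixed_ne_bot hG hM hK hK1
  obtain ⟨t, ht, htd⟩ := Nat.exists_prime_and_dvd fun e => hAne (Subgroup.card_eq_one.mp e)
  haveI := Fact.mk ht
  obtain ⟨y₀, hy₀⟩ := exists_prime_orderOf_dvd_card' t htd
  have hσ : ∀ L' : Subgroup G, IsCoatom L' → Subgroup.normalizer (X : Set G) ≤ L' → p ∈ Cfsg.sigma L' :=
    fun L' hL' h => sigma_of_fixed hG hM hL' hps hp1 hXM hX h (Y := Subgroup.zpowers (y₀ : G))
      (by rw [Nat.card_zpowers, Subgroup.orderOf_coe, hy₀]) (Subgroup.zpowers_le.mpr (hAX y₀.2))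
  have hpL := hσ L hL hNX
  have hXp : IsPGroup p X := IsPGroup.of_card (n := 1) (hX.trans (pow_one p).symm)
  have hX1 : X ≠ ⊥ := fun e => by rw [e, Subgroup.card_bot] at hX; exact hp.out.one_lt.ne hX
  have hXL : X ≤ L := Subgroup.le_normalizer.trans hNX
  have hXσ : X ≤ Cfsg.sigmaCore L := pGroup_le_sigmaCore hG hL hpL hXp hXL
  have hCX : Subgroup.centralizer (X : Set G) ≤ L := (Subgroup.centralizer_le_normalizer _).trans hNX
  refine ⟨hpL, hconj, fun L' hL' h => ?_, hXσ,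
    ((exists_kappa_compl hG hM hK hK1).1 p X hXK hX).1.trans hNX, (hAX.trans inf_le_right).trans hCX,
    fun q hq hqd => ?_⟩
  · obtain ⟨g, hg⟩ := sigma_disjoint hG hL hL' hpL (hσ L' hL' h)
    exact conj_eq_of_centralizer_le hG hL hpL hXp hX1 hXL hg (Subgroup.le_normalizer.trans h)
      ((Subgroup.centralizer_le_normalizer _).trans h)
  haveI := Fact.mk hq
  obtain ⟨y, hy⟩ := exists_prime_orderOf_dvd_card' q hqd
  rw [← Subgroup.orderOf_coe] at hy
  have hy1 : (y : G) ≠ 1 := fun e => by rw [e, orderOf_one] at hy; exact hq.one_lt.ne hy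
  have hqM : q ∈ Cfsg.sigma M := piCoreOf_primes _ M hq (hqd.trans (Subgroup.card_dvd_of_le inf_le_left))
  have hqL : q ∉ Cfsg.sigma L := fun h => by
    obtain ⟨g, hg⟩ := sigma_disjoint hG hM hL hqM h
    exact hconj g hg
  have hyL : (y : G) ∈ L := hCX (hAX y.2).2
  obtain ⟨x, hx, hx1, -⟩ := exists_ne_one_of_card hX
  have hhat : (y : G) ∈ Cfsg.sigmaHat L :=
    ⟨hyL, x, hXσ hx, hx1, (Subgroup.mem_centralizer_iff.mp (hAX y.2).2 x hx).symm⟩
  refine mem_kappa_of_fixed hG hq hqL ?_ hyL hy hhat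
  by_contra h1
  have hτ : ∀ s : ℕ, s.Prime → s ∣ orderOf (y : G) → s ∈ Cfsg.tau2 L := fun s hs hd => by
    rw [hy] at hd
    rw [(Nat.prime_dvd_prime_iff_eq hs hq).mp hd]
    exact ⟨hq, hqL, pRankLE_two_of_not_mem_sigma hG hL hqL, h1⟩
  obtain ⟨E, hE, -⟩ := exists_compl_ge hG hL (Subgroup.zpowers_le.mpr hyL) fun s hs hd =>
    (hτ s hs (by rwa [Nat.card_zpowers] at hd)).2.1
  exact hconj 1 (by rw [map_conj_one, (tau2_element_unique hG hL hE hyL hy1 hτ hhat).2 M hM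
    (kstar_centralizer_le hG hM hK hK1 y.2 hy1)])

/-- The dual Hall subgroup and the common `Z = K K*`. -/
theorem dual_hall (hG : IsMinSimpleOddOrder G) {M K X L : Subgroup G} (hM : IsCoatom M)
    (hK : IsPiHallOf (Cfsg.kappa M) K M) (hXK : X ≤ K) (hX : Nat.card X = p) (hL : IsCoatom L)
    (hNX : Subgroup.normalizer (X : Set G) ≤ L) :
    ∃ KL : Subgroup G, IsPiHallOf (Cfsg.kappa L) KL L ∧ KL ≠ ⊥ ∧
      (Cfsg.sigmaCore M ⊓ Subgroup.centralizer (K : Set G)) ≤ KL ∧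
      X ≤ Cfsg.sigmaCore L ⊓ Subgroup.centralizer (KL : Set G) ∧
      KL ⊔ (Cfsg.sigmaCore L ⊓ Subgroup.centralizer (KL : Set G)) =
        K ⊔ (Cfsg.sigmaCore M ⊓ Subgroup.centralizer (K : Set G)) := by
  obtain ⟨-, -, -, hXσ, hKL, hAL, hAk⟩ := dual_primes hG hM hK hXK hX hL hNX
  set A := Cfsg.sigmaCore M ⊓ Subgroup.centralizer (K : Set G) with hA
  have hK1 : K ≠ ⊥ := fun e => by
    rw [e, le_bot_iff] at hXK
    rw [hXK, Subgroup.card_bot] at hX
    exact hp.out.one_lt.ne hX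
  obtain ⟨K₀, hK₀⟩ := exists_kappa_hall hG hL
  obtain ⟨l, hl, hlA⟩ := exists_conj_le_kappa hG hL hK₀ hAL hAk
  set KL := K₀.map (MulAut.conj l⁻¹).toMonoidHom with hKLdef
  have hKLh : IsPiHallOf (Cfsg.kappa L) KL L := by
    have hc : Nat.card KL = Nat.card K₀ := Subgroup.card_map_of_injective (MulAut.conj l⁻¹).injective
    refine isPiHallOf_of_factorization ((Subgroup.map_mono hK₀.1).trans (map_conj_eq_self (inv_mem hl)).le)
      (fun q hq hd => hK₀.2.1 q hq (hc ▸ hd)) fun q hq hqk => ?_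
    rw [hc, hallOf_factorization hK₀ hq hqk]
  have hAKL : A ≤ KL := fun a ha => ⟨l * a * l⁻¹, hlA (Basics.conj_mem_conj_smul ha), by simp [mul_assoc]⟩
  have hAne : A ≠ ⊥ := kappa_fixed_ne_bot hG hM hK hK1
  have hKL1 : KL ≠ ⊥ := fun e => hAne (le_bot_iff.mp (e ▸ hAKL))
  set B := Cfsg.sigmaCore L ⊓ Subgroup.centralizer (KL : Set G) with hB
  obtain ⟨q, hq, hqd⟩ := Nat.exists_prime_and_dvd fun e => hAne (Subgroup.card_eq_one.mp e)
  haveI := Fact.mk hq
  obtain ⟨y, hy⟩ := exists_prime_orderOf_dvd_card' q hqd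
  rw [← Subgroup.orderOf_coe] at hy
  have hy1 : (y : G) ≠ 1 := fun e => by rw [e, orderOf_one] at hy; exact hq.one_lt.ne hy
  set Y := Subgroup.zpowers (y : G) with hYdef
  have hY : Nat.card Y = q := by rw [hYdef, Nat.card_zpowers, hy]
  have hYA : Y ≤ A := Subgroup.zpowers_le.mpr y.2
  have hYKL : Y ≤ KL := hYA.trans hAKL
  have hNY : Subgroup.normalizer (Y : Set G) ≤ M :=
    normalizer_le_of_fixed hG hM (hK.2.1 p hp.out (hX ▸ Subgroup.card_dvd_of_le hXK)).2.2.1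
      (kappa_rank_one (hK.2.1 p hp.out (hX ▸ Subgroup.card_dvd_of_le hXK))) (hXK.trans hK.1) hX hY
      (hYA.trans (inf_le_inf_left _ (Subgroup.centralizer_le hXK)))
  have hXB : X ≤ B := by
    rw [hB, ← kappa_semiprime hG hL hKLh (hAKL y.2) hy1, ← centralizer_eq_of_zpowers]
    exact le_inf hXσ (Subgroup.le_centralizer_iff.mp (hYA.trans (inf_le_right.trans (Subgroup.centralizer_le hXK))))
  obtain ⟨-, -, -, -, hKLM, hBM, hBk⟩ := dual_primes (p := q) hG hL hKLh hYKL hY hM hNY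
  have hZ := (kappa_normalizer_line hG hM hK hK1 hXK hX).1
  have hZL := (kappa_normalizer_line hG hL hKLh hKL1 hYKL hY).1
  obtain ⟨m, hm, hmB⟩ := exists_conj_le_kappa hG hM hK hBM hBk
  have hmX : X.map (MulAut.conj m).toMonoidHom = X :=
    kappa_line_unique hG hM hK hK1 ((Subgroup.map_mono hXB).trans hmB)
      ((Subgroup.card_map_of_injective (MulAut.conj m).injective).trans hX) hXK hX
  have hmN : m ∈ Subgroup.normalizer (X : Set G) := Subgroup.mem_normalizer_iff_map_conj_eq.mpr hmX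
  have hKNX := ((exists_kappa_compl hG hM hK hK1).1 p X hXK hX).1
  have hBN : B ≤ Subgroup.normalizer (X : Set G) := fun b hb => by
    rw [show b = m⁻¹ * (m * b * m⁻¹) * m by group]
    exact mul_mem (mul_mem (inv_mem hmN) (hKNX (hmB (Basics.conj_mem_conj_smul hb)))) hmN
  refine ⟨KL, hKLh, hKL1, hAKL, hXB, le_antisymm (sup_le ?_ ?_) (sup_le ?_ (hAKL.trans le_sup_left))⟩
  · rw [← hZ]
    exact le_inf hKLM ((Subgroup.le_centralizer_iff.mp (hXB.trans inf_le_right)).trans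
      (Subgroup.centralizer_le_normalizer _))
  · rw [← hZ]
    exact le_inf hBM hBN
  · rw [← hZL]
    exact le_inf hKL ((Subgroup.le_centralizer_iff.mp (hYA.trans inf_le_right)).trans
      (Subgroup.centralizer_le_normalizer _))

end Cfsg.Agent.OddLocal
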