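import Cfsg.Agent.Lib.OddLocal.SigmaMixed

/-! Subgroups with `κ(M) ≠ ∅` and further primes outside `σ(M)` (BG 14.2). -/

set_option autoImplicit false
set_option linter.unusedSectionVars false
set_option linter.style.haveILetI false

namespace Cfsg.Agent.OddLocal

open scoped commutatorElement Pointwise
open Cfsg
open Basics (IsSylowIn)

universe u

variable {G : Type u} [Group G] [Finite G] {p : ℕ} [hp : Fact p.Prime]

omit hp in
/-- `C_{M_σ}(K)` has cyclic Sylow subgroups. -/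
theorem kstar_sylow_cyclic (hG : IsMinSimpleOddOrder G) {M K U : Subgroup G} (hM : IsCoatom M)
    (hK : IsPiHallOf (Cfsg.kappa M) K M) (hK1 : K ≠ ⊥) {t : ℕ} [ht : Fact t.Prime] (hU : IsPGroup t U)
    (hUK : U ≤ Cfsg.sigmaCore M ⊓ Subgroup.centralizer (K : Set G)) : IsCyclic U := by
  rcases eq_or_ne U ⊥ with rfl | hU1
  · infer_instance
  have htM : t ∈ Cfsg.sigma M := piCoreOf_primes _ M ht.out ((hU.card_eq_or_dvd.resolve_left
    fun e => hU1 (Subgroup.card_eq_one.mp e)).trans (Subgroup.card_dvd_of_le (hUK.trans inf_le_left)))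
  obtain ⟨r, hr, hrd⟩ := Nat.exists_prime_and_dvd fun e => hK1 (Subgroup.card_eq_one.mp e)
  haveI := Fact.mk hr
  obtain ⟨x, hx⟩ := exists_prime_orderOf_dvd_card' r hrd
  have hrk := hK.2.1 r hr hrd
  exact cyclic_fixed hG hM hrk.2.2.1 (kappa_rank_one hrk) (P := Subgroup.zpowers (x : G))
    ((Subgroup.zpowers_le.mpr x.2).trans hK.1) (by rw [Nat.card_zpowers, Subgroup.orderOf_coe, hx]) htM hU
    (hUK.trans (inf_le_left.trans (sigmaCore_le M)))
    (hUK.trans (inf_le_right.trans (Subgroup.centralizer_le (Subgroup.zpowers_le.mpr x.2))))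

omit hp in
/-- BG 14.2: when some prime of `M` is outside `σ(M) ∪ κ(M)`, `|K|` is prime and `M_σ` is nilpotent. -/
theorem compl_prime (hG : IsMinSimpleOddOrder G) {M K : Subgroup G} (hM : IsCoatom M)
    (hK : IsPiHallOf (Cfsg.kappa M) K M) (hK1 : K ≠ ⊥) {q : ℕ} (hq : q.Prime) (hqd : q ∣ Nat.card M)
    (hqσ : q ∉ Cfsg.sigma M) (hqk : q ∉ Cfsg.kappa M) :
    (Nat.card K).Prime ∧ Group.IsNilpotent (Cfsg.sigmaCore M) ∧
      IsCyclic ↥(Cfsg.sigmaCore M ⊓ Subgroup.centralizer (K : Set G)) := by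
  obtain ⟨-, E, U, hE, hKE, hUE, hUc, hU, hEU, hEeq, hreg⟩ := exists_kappa_compl hG hM hK hK1
  haveI := hUc
  have hUM : U ≤ M := hU.1
  have hqU : q ∣ Nat.card U := by
    refine Nat.dvd_of_factorization_pos ?_
    rw [hallOf_factorization hU hq ⟨hq, hqk, hqσ⟩]
    exact (hq.factorization_pos_of_dvd Nat.card_pos.ne' hqd).ne'
  haveI := Fact.mk hq
  have hUK : (Nat.card U).Coprime (Nat.card K) := Nat.coprime_of_dvd fun t ht h1 h2 =>
    (hU.2.1 t ht h1).2.1 (hK.2.1 t ht h2)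
  have key : Cfsg.sigmaCore M ⊓ Subgroup.centralizer (U : Set G) = ⊥ ∧ Group.IsNilpotent (Cfsg.sigmaCore M) := by
    obtain ⟨z, hz⟩ := exists_prime_orderOf_dvd_card' q hqU
    rw [← Subgroup.orderOf_coe] at hz
    have hZM : Subgroup.zpowers (z : G) ≤ M := (Subgroup.zpowers_le.mpr z.2).trans hUM
    by_cases h1 : PRankLE q 1 M
    · have hbot : Cfsg.sigmaCore M ⊓ Subgroup.centralizer ((Subgroup.zpowers (z : G) : Subgroup G) : Set G) = ⊥ := by
        by_contra hne
        obtain ⟨y, hy, hy1⟩ := (Subgroup.bot_or_exists_ne_one _).resolve_left hne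
        exact hqk (mem_kappa_of_fixed hG hq hqσ h1 (hUM z.2) hz
          ⟨hUM z.2, y, hy.1, hy1, Subgroup.mem_centralizer_iff.mp hy.2 _ (Subgroup.mem_zpowers _)⟩)
      refine ⟨le_bot_iff.mp (hbot ▸ inf_le_inf_left _ (Subgroup.centralizer_le (Subgroup.zpowers_le.mpr z.2))), ?_⟩
      have hXN : Subgroup.zpowers (z : G) ≤ Subgroup.normalizer (Cfsg.sigmaCore M : Set G) :=
        hZM.trans (le_normalizer_sigmaCore M)
      refine Basics.isNilpotent_of_fpf_prime (A := Subgroup.zpowers (z : G)) (p := q)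
        (by rw [Nat.card_zpowers, hz]) ((Cfsg.sigmaCore M).normalizerMonoidHom.comp (Subgroup.inclusion hXN))
        fun x hx => ?_
      have h2 : (x : G) ∈ Cfsg.sigmaCore M ⊓ Subgroup.centralizer ((Subgroup.zpowers (z : G) : Subgroup G) : Set G) := by
        refine ⟨x.2, Subgroup.mem_centralizer_iff.mpr fun a ha => ?_⟩
        exact mul_inv_eq_iff_eq_mul.mp (congrArg Subtype.val (hx ⟨a, ha⟩))
      rw [hbot, Subgroup.mem_bot] at h2
      exact Subtype.ext h2
    · obtain ⟨A, hAE, -, hA2, A₁, hA⟩ :=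
        exists_ea_in_compl hG hM hE ⟨hq, hqσ, pRankLE_two_of_not_mem_sigma hG hM hqσ, h1⟩
      have hAU : A ≤ U := by
        refine Basics.KW.le_of_coprime_sup (Or.inr (hAE.trans hEU)) (d := Nat.card K) ?_ ?_ hUK
        · refine (Subgroup.card_dvd_of_le (sup_le hAE hUE)).trans (dvd_of_eq ?_)
          rw [hEeq, Basics.card_sup_of_coprime (hKE.trans hEU) hUK]
        · rw [hA2]
          exact Nat.Coprime.pow_left 2 (hq.coprime_iff_not_dvd.mpr fun h => hqk (hK.2.1 q hq h))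
      exact ⟨le_bot_iff.mp ((hA.centralizer_eq_bot hG) ▸ inf_le_inf_left _ (Subgroup.centralizer_le hAU)),
        hA.isNilpotent hG⟩
  obtain ⟨hfix, hnil⟩ := key
  have hMsol : Group.IsSolvable (Cfsg.sigmaCore M) :=
    Basics.isSolvable_of_le (sigmaCore_le M) (isSolvable_of_ne_top hG hM.1)
  have hUsol : Group.IsSolvable U := Basics.isSolvable_of_le hUM (isSolvable_of_ne_top hG hM.1)
  have hcop : ∀ {B : Subgroup G}, (∀ t : ℕ, t.Prime → t ∣ Nat.card B → t ∉ Cfsg.sigma M) →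
      (Nat.card B).Coprime (Nat.card (Cfsg.sigmaCore M)) := fun h => Nat.coprime_of_dvd fun t ht h1 h2 =>
    h t ht h1 (piCoreOf_primes _ M ht h2)
  have hform : ∀ R : Subgroup G, R ≤ K → Nat.card (Cfsg.sigmaCore M) =
      Nat.card ↥(Cfsg.sigmaCore M ⊓ Subgroup.centralizer (R : Set G)) ^ Nat.card R := fun R hR =>
    (frobenius_card_fixed _ U R (Cfsg.sigmaCore M) rfl hUsol hMsol ((hR.trans hKE).trans hEU)
      (fun x hx hx1 k hk e => Subgroup.mem_bot.mp (hreg x (hR hx) hx1 ▸ Subgroup.mem_inf.mpr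
        ⟨hk, Subgroup.mem_centralizer_singleton_iff.mpr e.symm⟩))
      (hcop fun t ht hd => (hU.2.1 t ht hd).2.2)
      (hcop fun t ht hd => (hK.2.1 t ht (hd.trans (Subgroup.card_dvd_of_le hR))).2.2.1)
      (hUM.trans (le_normalizer_sigmaCore M)) ((hR.trans hK.1).trans (le_normalizer_sigmaCore M)) hfix).1
  obtain ⟨r, hr, hrd⟩ := Nat.exists_prime_and_dvd fun e => hK1 (Subgroup.card_eq_one.mp e)
  haveI := Fact.mk hr
  obtain ⟨x, hx⟩ := exists_prime_orderOf_dvd_card' r hrd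
  rw [← Subgroup.orderOf_coe] at hx
  have hx1 : (x : G) ≠ 1 := fun e => by rw [e, orderOf_one] at hx; exact hr.one_lt.ne hx
  have h1 := hform K le_rfl
  have h2 := hform (Subgroup.zpowers (x : G)) (Subgroup.zpowers_le.mpr x.2)
  rw [Nat.card_zpowers, hx, centralizer_eq_of_zpowers, kappa_semiprime hG hM hK x.2 hx1] at h2
  have hc := kappa_fixed_ne_bot hG hM hK hK1
  refine ⟨(Nat.pow_right_injective ((Subgroup.one_lt_card_iff_ne_bot _).mpr hc) (h1.symm.trans h2)).symm ▸ hr, hnil, ?_⟩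
  haveI := hnil
  haveI : Group.IsNilpotent ↥(Cfsg.sigmaCore M ⊓ Subgroup.centralizer (K : Set G)) :=
    Group.nilpotent_of_mulEquiv (Subgroup.subgroupOfEquivOfLe
      (inf_le_left : Cfsg.sigmaCore M ⊓ Subgroup.centralizer (K : Set G) ≤ Cfsg.sigmaCore M))
  haveI : IsZGroup ↥(Cfsg.sigmaCore M ⊓ Subgroup.centralizer (K : Set G)) := ⟨fun t ht S => by
    haveI := Fact.mk ht
    exact ((S : Subgroup _).equivMapOfInjective _ (Subgroup.subtype_injective _)).isCyclic.mpr
      (kstar_sylow_cyclic hG hM hK hK1 (S.2.map _) (Subgroup.map_subtype_le _))⟩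
  infer_instance

end Cfsg.Agent.OddLocal
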