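import Cfsg.Agent.Lib.OddLocal.FitFacts
import Cfsg.Agent.Lib.OddLocal.FixPoint
import Cfsg.Agent.Lib.LocalEvenB.FixedOrder
import Cfsg.Agent.Lib.Basics.Frattini
import Cfsg.Agent.Lib.Basics.CoprimeAction
import Cfsg.Agent.Lib.Coprime23.PiSubnormal
import Cfsg.Agent.Lib.Components.PLocal2

/-! A prime action without fixed points on the Fitting subgroup centralizes the quotient by it. -/

set_option autoImplicit false
set_option maxHeartbeats 1000000

namespace Cfsg.Agent.OddLocal

open Cfsg
open scoped commutatorElement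

variable {G : Type*} [Group G] [Finite G]

/-- A `q`-element `[x, s]` centralizes each core `O_p(K)`, `p ≠ q`. -/
theorem commutator_mem_centralizer_coreP {p q r : ℕ} [hp : Fact p.Prime] [hq : Fact q.Prime] [hr : Fact r.Prime]
    (hqp : q ≠ p) (hrp : r ≠ p) (hqr : q ≠ r) (hq2 : q ≠ 2) (hr2 : r ≠ 2) {K S : Subgroup G} [K.Normal]
    (hS : IsPGroup q S) {x : G} (hxr : x ^ r = 1) (hxS : x ∈ Subgroup.normalizer (S : Set G))
    (hfix : coreP p K ⊓ Subgroup.centralizer (Subgroup.zpowers x : Set G) = ⊥) :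
    ∀ s ∈ S, ⁅x, s⁆ ∈ Subgroup.centralizer (coreP p K : Set G) := by
  intro s hs
  set P := coreP p K with hP
  haveI hPn : P.Normal := ConjAct.normal_of_characteristic_of_normal
  set Φ := (frattini ↥P).map P.subtype with hΦ
  haveI hΦn : Φ.Normal := ConjAct.normal_of_characteristic_of_normal
  have hPp := isPGroup_coreP p K
  haveI := hPp.isNilpotent
  let f := QuotientGroup.mk' Φ
  have hV : IsElementaryAbelian p (P.map f) := by
    refine ⟨⟨⟨?_⟩⟩, ?_⟩
    · rintro ⟨_, a, ha, rfl⟩ ⟨_, b, hb, rfl⟩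
      refine Subtype.ext ?_
      change f a * f b = f b * f a
      rw [← commutatorElement_eq_one_iff_mul_comm, ← map_commutatorElement]
      exact (QuotientGroup.eq_one_iff _).mpr ⟨⁅(⟨a, ha⟩ : P), ⟨b, hb⟩⁆, Basics.commutator_le_frattini
        (Subgroup.commutator_mem_commutator (Subgroup.mem_top _) (Subgroup.mem_top _)), rfl⟩
    · rintro _ ⟨a, ha, rfl⟩
      rw [← map_pow]
      exact (QuotientGroup.eq_one_iff _).mpr ⟨(⟨a, ha⟩ : P) ^ p, Basics.pow_mem_frattini hPp _, rfl⟩
  haveI : (P.map f).Normal := hPn.map f (QuotientGroup.mk'_surjective _)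
  have h := commutator_mem_centralizer_of_fpf hqp hrp hqr hq2 hr2 hV (hS.map f)
    (by rw [Subgroup.normalizer_eq_top]; exact le_top) (t := f x) (by rw [Subgroup.normalizer_eq_top]; trivial)
    (Subgroup.le_normalizer_map f ⟨x, hxS, rfl⟩) (by rw [← map_pow, hxr, map_one]) (by
      rintro _ ⟨a, ha, rfl⟩ hcomm
      refine (QuotientGroup.eq_one_iff _).mpr ?_
      obtain ⟨k, hk⟩ := (hPp.to_le (Subgroup.map_subtype_le (frattini ↥P))).exists_card_eq
      have hcop : (Nat.card (Subgroup.zpowers x)).Coprime (Nat.card Φ) := by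
        rw [Nat.card_zpowers, hk]
        exact (((Nat.coprime_primes hr.out hp.out).mpr hrp).pow_right k).coprime_dvd_left (orderOf_dvd_of_pow_eq_one hxr)
      obtain ⟨c, hc, hca⟩ := Basics.exists_centralizer_mem_coset (Subgroup.zpowers x) Φ
        (by rw [Subgroup.normalizer_eq_top]; exact le_top) hcop (Or.inl inferInstance) a
        (by rw [Subgroup.normalizer_eq_top]; trivial) (fun b hb => by
          refine (QuotientGroup.eq_one_iff _).mp ?_
          change f (b * a * b⁻¹ * a⁻¹) = 1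
          obtain ⟨i, rfl⟩ := hb
          rw [map_mul, map_mul, map_mul, map_inv, map_inv, map_zpow,
            ((show Commute (f x) (f a) from hcomm).zpow_left i).eq, mul_inv_cancel_right, mul_inv_cancel])
      have hc1 : c ∈ P ⊓ Subgroup.centralizer (Subgroup.zpowers x : Set G) := by
        refine Subgroup.mem_inf.mpr ⟨?_, hc⟩
        rw [show c = a * (a⁻¹ * c) by group]
        exact mul_mem ha (Subgroup.map_subtype_le _ hca)
      rw [hfix, Subgroup.mem_bot] at hc1
      rw [hc1, mul_one] at hca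
      exact inv_mem_iff.mp hca) (f s) ⟨s, hs, rfl⟩
  have hy : ⁅x, s⁆ ∈ S := by
    rw [commutatorElement_def]
    exact mul_mem ((Subgroup.mem_normalizer_iff.mp hxS s).mp hs) (inv_mem hs)
  obtain ⟨k, hk⟩ := hS ⟨_, hy⟩
  have hcop : (orderOf ⁅x, s⁆).Coprime p := (((Nat.coprime_primes hq.out hp.out).mpr hqp).pow_left k).coprime_dvd_left
    (orderOf_dvd_of_pow_eq_one (congrArg Subtype.val hk))
  refine Subgroup.mem_centralizer_iff.mpr fun a ha => ?_
  refine (LocalEvenB.commute_of_frattini hPp (by rw [Subgroup.normalizer_eq_top]; trivial) hcop (fun y hy => ?_) a ha).eq.symm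
  refine (QuotientGroup.eq_one_iff _).mp ?_
  change f (⁅x, s⁆ * y * ⁅x, s⁆⁻¹ * y⁻¹) = 1
  rw [map_mul, map_mul, map_mul, map_inv, map_inv, map_commutatorElement,
    ← Subgroup.mem_centralizer_iff.mp h (f y) ⟨y, hy, rfl⟩, mul_inv_cancel_right, mul_inv_cancel]

theorem commutator_le_fittingOf_of_fpf [Group.IsSolvable G] (K R : Subgroup G) [hKn : K.Normal]
    (hodd : Odd (Nat.card G)) (hcop : (Nat.card K).Coprime (Nat.card R))
    (hprime : ∀ x ∈ R, x ≠ 1 → K ⊓ Subgroup.centralizer ({x} : Set G) = (K ⊓ Subgroup.centralizer (R : Set G)))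
    (hF : Cfsg.fittingOf K ⊓ Subgroup.centralizer (R : Set G) = ⊥) : ⁅K, R⁆ ≤ Cfsg.fittingOf K := by
  rcases eq_or_ne R ⊥ with rfl | hR
  · rw [Subgroup.commutator_bot_right]; exact bot_le
  set F := Cfsg.fittingOf K with hFdef
  haveI hFn : F.Normal := ConjAct.normal_of_characteristic_of_normal
  set r := (Nat.card R).minFac with hrdef
  have hrp : r.Prime := Nat.minFac_prime (fun h => hR (Subgroup.card_eq_one.mp h))
  haveI := Fact.mk hrp
  obtain ⟨x, hxo⟩ := exists_prime_orderOf_dvd_card' (G := R) r (Nat.minFac_dvd _)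
  rw [← Subgroup.orderOf_coe] at hxo
  have hx1 : (x : G) ≠ 1 := fun h => hrp.one_lt.ne (by rw [← hxo, h, orderOf_one])
  have hxr : (x : G) ^ r = 1 := by rw [← hxo]; exact pow_orderOf_eq_one _
  have hrR : r ∣ Nat.card R := Nat.minFac_dvd _
  have hr2 : r ≠ 2 := fun h => (Nat.not_even_iff_odd.mpr hodd) (even_iff_two_dvd.mpr (h ▸ hrR.trans R.card_subgroup_dvd_card))
  set A := Subgroup.zpowers (x : G) with hA
  have hCA : Subgroup.centralizer (A : Set G) = Subgroup.centralizer ({(x : G)} : Set G) := by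
    rw [hA, Subgroup.zpowers_eq_closure, Subgroup.centralizer_closure]
  have hfix : F ⊓ Subgroup.centralizer (A : Set G) = ⊥ := by
    refine le_bot_iff.mp (hF ▸ fun a ha => ?_)
    have h : a ∈ K ⊓ Subgroup.centralizer ({(x : G)} : Set G) :=
      Subgroup.mem_inf.mpr ⟨fittingOf_le K ha.1, hCA ▸ ha.2⟩
    rw [hprime x x.2 hx1] at h
    exact Subgroup.mem_inf.mpr ⟨ha.1, h.2⟩
  have hAK : (Nat.card A).Coprime (Nat.card K) :=
    hcop.symm.coprime_dvd_left (Subgroup.card_dvd_of_le (Subgroup.zpowers_le.mpr x.2))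
  haveI hKs : Group.IsSolvable K := inferInstance
  let π := QuotientGroup.mk' F
  -- `x` centralizes each core of `K / F(K)`
  have main : ∀ (q : ℕ) [Fact q.Prime] (k : K),
      QuotientGroup.mk' (Cfsg.fittingSubgroup K) k ∈ Cfsg.pCore q (K ⧸ Cfsg.fittingSubgroup K) → ⁅(x : G), (k : G)⁆ ∈ F := by
    intro q hq k hk
    set N' := (Cfsg.pCore q (K ⧸ Cfsg.fittingSubgroup K)).comap (QuotientGroup.mk' (Cfsg.fittingSubgroup K)) with hN'
    haveI : N'.Characteristic := by
      rw [Subgroup.characteristic_iff_le_comap]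
      intro φ v hv
      have hφ : (Cfsg.fittingSubgroup K).map φ.toMonoidHom = Cfsg.fittingSubgroup K :=
        Subgroup.characteristic_iff_map_eq.mp inferInstance φ
      have h2 : (Cfsg.pCore q (K ⧸ Cfsg.fittingSubgroup K)).map (QuotientGroup.congr _ _ φ hφ).toMonoidHom =
          Cfsg.pCore q (K ⧸ Cfsg.fittingSubgroup K) := Subgroup.characteristic_iff_map_eq.mp inferInstance _
      change QuotientGroup.mk' (Cfsg.fittingSubgroup K) (φ v) ∈ Cfsg.pCore q (K ⧸ Cfsg.fittingSubgroup K)
      rw [← h2]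
      exact ⟨_, hv, rfl⟩
    set N := N'.map K.subtype with hN
    haveI hNn : N.Normal := ConjAct.normal_of_characteristic_of_normal
    have hNK : N ≤ K := Subgroup.map_subtype_le _
    have hFN : F ≤ N := Subgroup.map_mono ((QuotientGroup.ker_mk' _).ge.trans (Subgroup.ker_le_comap _ _))
    obtain ⟨S, hS, hAS⟩ := Basics.exists_invariant_isSylowIn A N (by rw [Subgroup.normalizer_eq_top]; exact le_top)
      (hAK.coprime_dvd_right (Subgroup.card_dvd_of_le hNK)) (Or.inl inferInstance) q
    have hSp : IsPGroup q S := IsPGroup.of_card hS.2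
    haveI : Group.IsNilpotent F := isNilpotent_fittingOf K
    -- `N = F S`
    have hNFS : N = F ⊔ S := by
      refine le_antisymm ?_ (sup_le hFN hS.1)
      have hdiv : q ^ (Nat.card N).factorization q ∣ Nat.card ↥(F ⊔ S) := hS.2 ▸ Subgroup.card_dvd_of_le le_sup_right
      intro v hv
      by_contra hvn
      have hqv : ∃ i, v ^ q ^ i ∈ F := by
        obtain ⟨w, hw, rfl⟩ := hv
        obtain ⟨i, hi⟩ := Basics.pCore_isPGroup (G := K ⧸ Cfsg.fittingSubgroup K) q ⟨_, hw⟩
        refine ⟨i, w ^ q ^ i, ?_, rfl⟩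
        exact (QuotientGroup.eq_one_iff _).mp (congrArg Subtype.val hi)
      have hp : IsPGroup q ↥(N.map π) := by
        rintro ⟨_, w, hw, rfl⟩
        obtain ⟨v', hv', rfl⟩ := hw
        obtain ⟨i, hi⟩ := Basics.pCore_isPGroup (G := K ⧸ Cfsg.fittingSubgroup K) q ⟨_, hv'⟩
        refine ⟨i, Subtype.ext ?_⟩
        change π (v' : G) ^ q ^ i = 1
        rw [← map_pow]
        exact (QuotientGroup.eq_one_iff _).mpr ⟨v' ^ q ^ i, (QuotientGroup.eq_one_iff _).mp (congrArg Subtype.val hi), rfl⟩
      obtain ⟨n, hn⟩ := hp.exists_card_eq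
      have hle : (F ⊔ S).map π ≤ N.map π := Subgroup.map_mono (sup_le hFN hS.1)
      have heq : (F ⊔ S).map π = N.map π := by
        refine Subgroup.eq_of_le_of_card_ge hle (Nat.le_of_dvd Nat.card_pos ?_)
        obtain ⟨m, hm⟩ := (hp.to_le hle).exists_card_eq
        have e1 : Nat.card N = Nat.card (N.map π) * Nat.card F := by
          have e := Basics.card_comap_mk' (N := F) (N.map π)
          rw [Subgroup.comap_map_eq_self (by rw [QuotientGroup.ker_mk']; exact hFN)] at e
          rw [e, mul_comm]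
        have e2 : Nat.card ↥(F ⊔ S) = Nat.card ((F ⊔ S).map π) * Nat.card F := by
          have e := Basics.card_comap_mk' (N := F) ((F ⊔ S).map π)
          rw [Subgroup.comap_map_eq_self (by rw [QuotientGroup.ker_mk']; exact le_sup_left)] at e
          rw [e, mul_comm]
        rw [hn, hm]
        refine Nat.pow_dvd_pow q ?_
        have h1 : (Nat.card N).factorization q = n + (Nat.card F).factorization q := by
          rw [e1, hn, Nat.factorization_mul (pow_ne_zero _ hq.out.ne_zero) Nat.card_pos.ne']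
          simp [hq.out.factorization_pow]
        have h2 : (Nat.card ↥(F ⊔ S)).factorization q = m + (Nat.card F).factorization q := by
          rw [e2, hm, Nat.factorization_mul (pow_ne_zero _ hq.out.ne_zero) Nat.card_pos.ne']
          simp [hq.out.factorization_pow]
        have h3 := (hq.out.pow_dvd_iff_le_factorization Nat.card_pos.ne').mp hdiv
        omega
      have hvm : π v ∈ (F ⊔ S).map π := heq ▸ Subgroup.mem_map_of_mem π hv
      rw [← Subgroup.mem_comap, Subgroup.comap_map_eq_self (by rw [QuotientGroup.ker_mk']; exact le_sup_left)] at hvm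
      exact hvn hvm
    set W := ⨆ p : {p : Nat.Primes // (p : ℕ) ≠ q}, coreP ((p : Nat.Primes) : ℕ) K with hW
    haveI hWn : W.Normal := by
      refine Subgroup.normalizer_eq_top_iff.mp (top_le_iff.mp fun g _ => ?_)
      rw [Subgroup.mem_normalizer_iff_map_conj_eq]
      change Subgroup.map (MulAut.conj g).toMonoidHom _ = _
      rw [hW, Subgroup.map_iSup]
      refine iSup_congr fun p => ?_
      have : (coreP ((p : Nat.Primes) : ℕ) K).Normal := ConjAct.normal_of_characteristic_of_normal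
      exact Subgroup.mem_normalizer_iff_map_conj_eq.mp (by rw [Subgroup.normalizer_eq_top]; exact Subgroup.mem_top g)
    set D := N ⊓ Subgroup.centralizer (W : Set G) with hD
    haveI hDn : D.Normal := inferInstance
    have hFW : F ≤ W ⊔ S := by
      rw [hFdef, fittingOf_eq_iSup]
      refine iSup_le fun p => ?_
      by_cases hpq : (p : ℕ) = q
      · refine le_trans ?_ le_sup_right
        haveI : (coreP (p : ℕ) K).Normal := ConjAct.normal_of_characteristic_of_normal
        haveI : Fact (p : ℕ).Prime := ⟨p.2⟩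
        have hle : coreP (p : ℕ) K ≤ N := (coreP_le_fittingOf (p : ℕ) K).trans hFN
        have hp' : IsPGroup q (coreP (p : ℕ) K) := hpq ▸ isPGroup_coreP (p : ℕ) K
        have hsup : IsPGroup q ↥(S ⊔ coreP (p : ℕ) K) := IsPGroup.to_sup_of_normal_right hSp hp'
        obtain ⟨m, hm⟩ := hsup.exists_card_eq
        have h1 : q ^ m ∣ Nat.card N := hm ▸ Subgroup.card_dvd_of_le (sup_le hS.1 hle)
        have h2 := (hq.out.pow_dvd_iff_le_factorization Nat.card_pos.ne').mp h1
        exact le_sup_right.trans (Subgroup.eq_of_le_of_card_ge le_sup_left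
          (by rw [hm, hS.2]; exact Nat.pow_le_pow_right hq.out.pos h2)).ge
      · exact le_trans (le_iSup (fun p : {p : Nat.Primes // (p : ℕ) ≠ q} => coreP ((p : Nat.Primes) : ℕ) K) ⟨p, hpq⟩) le_sup_left
    have hNWS : N ≤ W ⊔ S := hNFS.le.trans (sup_le hFW le_sup_right)
    set T := S ⊓ D with hT
    have hTn : D ≤ Subgroup.normalizer (T : Set G) := by
      intro d hd
      obtain ⟨w, hw, s, hs, rfl⟩ := (Basics.mem_sup_of_le_normalizer
        (by rw [Subgroup.normalizer_eq_top]; exact le_top)).mp (hNWS hd.1)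
      rw [Subgroup.mem_normalizer_iff_map_conj_eq]
      refine Subgroup.eq_of_le_of_card_ge ?_ (Subgroup.card_map_of_injective (MulEquiv.injective _)).ge
      rintro _ ⟨t, ht, rfl⟩
      have h1 : s * t * s⁻¹ ∈ T := Subgroup.mem_inf.mpr ⟨mul_mem (mul_mem hs ht.1) (inv_mem hs), hDn.conj_mem t ht.2 s⟩
      change (w * s) * t * (w * s)⁻¹ ∈ T
      have h2 := Subgroup.mem_centralizer_iff.mp h1.2.2 w hw
      rwa [show (w * s) * t * (w * s)⁻¹ = w * (s * t * s⁻¹) * w⁻¹ by group, h2, mul_inv_cancel_right]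
    have hDK : D ≤ K := inf_le_left.trans hNK
    have hTle : T ≤ coreP q K := by
      haveI : (T.subgroupOf D).Normal := (Subgroup.normal_subgroupOf_iff_le_normalizer inf_le_right).mpr hTn
      have h1 : T.subgroupOf D ≤ Cfsg.pCore q D := Basics.le_pCore ((hSp.to_le inf_le_left).comap_subtype)
      set D' := (Cfsg.pCore q D).map D.subtype with hD'
      haveI : D'.Normal := ConjAct.normal_of_characteristic_of_normal
      have h2 : D'.subgroupOf K ≤ Cfsg.pCore q K :=
        Basics.le_pCore (((Basics.pCore_isPGroup (G := D) q).map _).comap_subtype)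
      intro t ht
      have htD : t ∈ D' := ⟨⟨t, ht.2⟩, h1 ht, rfl⟩
      exact ⟨⟨t, hDK ht.2⟩, h2 htD, rfl⟩
    -- `[x, S] ≤ T`
    have hxS : ∀ s ∈ S, ⁅(x : G), s⁆ ∈ F := by
      intro s hs
      rcases eq_or_ne s 1 with rfl | hs1
      · rw [commutatorElement_one_right]; exact one_mem _
      have hqK : q ∣ Nat.card K := by
        obtain ⟨i, hi⟩ := hSp ⟨s, hs⟩
        obtain ⟨j, -, hj⟩ := (Nat.dvd_prime_pow hq.out).mp (orderOf_dvd_of_pow_eq_one (congrArg Subtype.val hi : s ^ q ^ i = 1))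
        rcases Nat.eq_zero_or_pos j with rfl | hj0
        · exact absurd (orderOf_eq_one_iff.mp (hj.trans (pow_zero q))) hs1
        · exact (hj ▸ dvd_pow_self q hj0.ne' : q ∣ orderOf s).trans (Subgroup.orderOf_dvd_natCard K (hNK (hS.1 hs)))
      have hq2 : q ≠ 2 := fun h => (Nat.not_even_iff_odd.mpr hodd) (even_iff_two_dvd.mpr (h ▸ hqK.trans K.card_subgroup_dvd_card))
      have hqr : q ≠ r := fun h => hrp.one_lt.ne' (Nat.eq_one_of_dvd_coprimes hcop (h ▸ hqK) hrR)
      refine coreP_le_fittingOf q K (hTle (Subgroup.mem_inf.mpr ⟨?_, ?_⟩))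
      · rw [commutatorElement_def]
        exact mul_mem ((Subgroup.mem_normalizer_iff.mp (hAS (Subgroup.mem_zpowers _)) s).mp hs) (inv_mem hs)
      refine Subgroup.mem_inf.mpr ⟨?_, ?_⟩
      · rw [commutatorElement_def]
        exact mul_mem (hNn.conj_mem s (hS.1 hs) _) (inv_mem (hS.1 hs))
      refine Subgroup.zpowers_le.mp ?_
      rw [Subgroup.le_centralizer_iff, hW]
      refine iSup_le fun p => ?_
      haveI : Fact ((p : Nat.Primes) : ℕ).Prime := ⟨p.1.2⟩
      rcases eq_or_ne (coreP ((p : Nat.Primes) : ℕ) K) ⊥ with hb | hb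
      · rw [hb]; exact bot_le
      have hrp' : r ≠ ((p : Nat.Primes) : ℕ) := by
        intro h
        obtain ⟨n, hn⟩ := (isPGroup_coreP ((p : Nat.Primes) : ℕ) K).exists_card_eq
        rcases Nat.eq_zero_or_pos n with rfl | hn0
        · exact hb (Subgroup.card_eq_one.mp (hn.trans (pow_zero _)))
        · exact hrp.one_lt.ne' (Nat.eq_one_of_dvd_coprimes hcop
            (h ▸ (hn ▸ dvd_pow_self _ hn0.ne' : _ ∣ Nat.card (coreP ((p : Nat.Primes) : ℕ) K)).trans
              (Subgroup.card_dvd_of_le (coreP_le _ K))) hrR)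
      rw [← Subgroup.le_centralizer_iff, Subgroup.zpowers_le]
      exact commutator_mem_centralizer_coreP p.2.symm hrp' hqr hq2 hr2 hSp hxr
        (hAS (Subgroup.mem_zpowers _)) (le_bot_iff.mp (hfix ▸ inf_le_inf_right _ (coreP_le_fittingOf _ K))) s hs
    have hkN : (k : G) ∈ N := ⟨k, hk, rfl⟩
    rw [hNFS] at hkN
    obtain ⟨a, ha, s, hs, hks⟩ := (Basics.mem_sup_of_le_normalizer
      (by rw [Subgroup.normalizer_eq_top]; exact le_top)).mp hkN
    refine (QuotientGroup.eq_one_iff _).mp ?_
    change π ⁅(x : G), (k : G)⁆ = 1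
    rw [map_commutatorElement, hks, map_mul, show π a = 1 from (QuotientGroup.eq_one_iff _).mpr ha, one_mul,
      ← map_commutatorElement]
    exact (QuotientGroup.eq_one_iff _).mpr (hxS s hs)
  -- hence `x` centralizes `K / F(K)`
  have hall : ∀ k ∈ K, Commute (π x) (π k) := by
    intro k hk
    set c := ⁅(x : G), k⁆ with hc
    have hcK : c ∈ K := by
      rw [hc, commutatorElement_def]; exact mul_mem (hKn.conj_mem k hk _) (inv_mem hk)
    let g := QuotientGroup.mk' (Cfsg.fittingSubgroup K)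
    have hfixed : ∀ (w : K), g w ∈ Cfsg.fittingSubgroup (K ⧸ Cfsg.fittingSubgroup K) → Commute (π x) (π w) := by
      intro w hw
      have hle : Cfsg.fittingSubgroup (K ⧸ Cfsg.fittingSubgroup K) ≤
          ((Subgroup.centralizer ({π x} : Set (G ⧸ F))).comap (π.comp K.subtype)).map g := by
        rw [Basics.fittingSubgroup_eq_iSup_pCore (G := K ⧸ Cfsg.fittingSubgroup K)]
        refine iSup_le fun p v hv => ?_
        haveI : Fact (p : ℕ).Prime := ⟨p.2⟩
        obtain ⟨u, rfl⟩ := QuotientGroup.mk'_surjective _ v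
        refine ⟨u, Subgroup.mem_comap.mpr (Subgroup.mem_centralizer_singleton_iff.mpr ?_), rfl⟩
        have h1 := (QuotientGroup.eq_one_iff (N := F) _).mpr (main p u hv)
        change π ⁅(x : G), (u : G)⁆ = 1 at h1
        rw [map_commutatorElement] at h1
        exact (commutatorElement_eq_one_iff_mul_comm.mp h1).symm
      obtain ⟨u, hu, hu'⟩ := hle hw
      have h2 : u⁻¹ * w ∈ Cfsg.fittingSubgroup K := QuotientGroup.eq.mp hu'
      have h3 : π w = π u := ((QuotientGroup.eq (s := F)).mpr ⟨_, h2, rfl⟩).symm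
      rw [h3]
      exact (Subgroup.mem_centralizer_singleton_iff.mp hu).symm
    have hgc : g ⟨c, hcK⟩ ∈ Cfsg.fittingSubgroup (K ⧸ Cfsg.fittingSubgroup K) := by
      refine Basics.centralizer_fittingSubgroup_le (Subgroup.mem_centralizer_iff.mpr ?_)
      intro v hv
      obtain ⟨w, rfl⟩ := QuotientGroup.mk'_surjective _ v
      have hkw : g (⟨k, hk⟩⁻¹ * w * ⟨k, hk⟩) ∈ Cfsg.fittingSubgroup (K ⧸ Cfsg.fittingSubgroup K) := by
        rw [map_mul, map_mul, map_inv]
        have := Basics.fittingSubgroup_normal (G := K ⧸ Cfsg.fittingSubgroup K)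
        simpa only [inv_inv] using this.conj_mem _ hv (g ⟨k, hk⟩)⁻¹
      have e1 := hfixed w hv
      have e2 := hfixed _ hkw
      change Commute (π x) (π (k⁻¹ * (w : G) * k)) at e2
      rw [← map_mul]; rw [← map_mul]
      refine (QuotientGroup.eq.mpr ?_).symm
      have e3 : Commute (π c) (π w) := by
        rw [map_mul, map_mul, map_inv] at e2
        rw [hc, map_commutatorElement, commutatorElement_def]
        change π x * π k * (π x)⁻¹ * (π k)⁻¹ * π w = π w * (π x * π k * (π x)⁻¹ * (π k)⁻¹)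
        calc π x * π k * (π x)⁻¹ * (π k)⁻¹ * π w
            = π x * π k * ((π x)⁻¹ * ((π k)⁻¹ * π w * π k)) * (π k)⁻¹ := by group
          _ = π x * π k * (((π k)⁻¹ * π w * π k) * (π x)⁻¹) * (π k)⁻¹ := by rw [e2.inv_left.eq]
          _ = π x * π w * π k * (π x)⁻¹ * (π k)⁻¹ := by group
          _ = π w * π x * π k * (π x)⁻¹ * (π k)⁻¹ := by rw [e1.eq]
          _ = π w * (π x * π k * (π x)⁻¹ * (π k)⁻¹) := by group
      have e4 : π ((c * (w : G))⁻¹ * ((w : G) * c)) = 1 := by
        rw [map_mul, map_inv, map_mul, map_mul, e3.eq, inv_mul_cancel]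
      obtain ⟨z, hz, hz'⟩ := (QuotientGroup.eq_one_iff _).mp e4
      rw [show (⟨c, hcK⟩ * w)⁻¹ * (w * ⟨c, hcK⟩) = z from Subtype.ext hz'.symm]
      exact hz
    have hxc : Commute (π x) (π c) := hfixed ⟨c, hcK⟩ hgc
    have hcomm : π x * π k * (π x)⁻¹ = π c * π k := by
      rw [hc, map_commutatorElement, commutatorElement_def]; group
    have hpow : ∀ i : ℕ, π x ^ i * π k * (π x ^ i)⁻¹ = π c ^ i * π k := by
      intro i
      induction i with
      | zero => simp
      | succ i ih =>
        calc π x ^ (i + 1) * π k * (π x ^ (i + 1))⁻¹ = π x * (π x ^ i * π k * (π x ^ i)⁻¹) * (π x)⁻¹ := by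
              rw [pow_succ']; group
          _ = (π x * π c ^ i) * π k * (π x)⁻¹ := by rw [ih]; group
          _ = π c ^ i * (π x * π k * (π x)⁻¹) := by rw [(hxc.pow_right i).eq]; group
          _ = π c ^ (i + 1) * π k := by rw [hcomm, pow_succ]; group
    have h := hpow r
    rw [← map_pow, hxr, map_one, one_mul, inv_one, mul_one] at h
    have h1 : π c ^ r = 1 := mul_eq_right.mp h.symm
    have h2 : orderOf (π c) ∣ Nat.card K := (orderOf_map_dvd π c).trans (Subgroup.orderOf_dvd_natCard K hcK)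
    have h3 := orderOf_eq_one_iff.mp (Nat.eq_one_of_dvd_coprimes
      (hcop.coprime_dvd_right hrR) h2 (orderOf_dvd_of_pow_eq_one h1))
    rw [h3, one_mul] at hcomm
    exact mul_inv_eq_iff_eq_mul.mp hcomm
  refine Subgroup.commutator_le.mpr fun k hk y hy => ?_
  obtain ⟨c, hc, hck⟩ := Basics.exists_inf_centralizer_mem_coset A K F (fittingOf_le K)
    (by rw [Subgroup.normalizer_eq_top]; exact le_top) (by rw [Subgroup.normalizer_eq_top]; exact le_top) hAK
    (Or.inl inferInstance) k hk (fun a ha => by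
      refine (QuotientGroup.eq_one_iff _).mp ?_
      change π (a * k * a⁻¹ * k⁻¹) = 1
      obtain ⟨i, rfl⟩ := ha
      rw [map_mul, map_mul, map_mul, map_inv, map_inv, map_zpow, ((hall k hk).zpow_left i).eq,
        mul_inv_cancel_right, mul_inv_cancel])
  have hc' : c ∈ K ⊓ Subgroup.centralizer ({(x : G)} : Set G) := Subgroup.mem_inf.mpr ⟨hc.1, hCA ▸ hc.2⟩
  rw [hprime x x.2 hx1] at hc'
  refine (QuotientGroup.eq_one_iff _).mp ?_
  change π ⁅k, y⁆ = 1
  rw [map_commutatorElement, show π k = π c from QuotientGroup.eq.mpr hck, ← map_commutatorElement,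
    commutatorElement_eq_one_iff_mul_comm.mpr (Subgroup.mem_centralizer_iff.mp hc'.2 y hy).symm, map_one]

end Cfsg.Agent.OddLocal
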