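import Cfsg.Agent.Lib.OddLocal.KappaStructure
import Cfsg.Agent.Lib.Basics.KWTools

/-! Standard factorisations `M = K U M_σ`. -/

set_option autoImplicit false
set_option linter.unusedSectionVars false
set_option linter.style.haveILetI false

namespace Cfsg.Agent.OddLocal

open scoped commutatorElement Pointwise
open Cfsg
open Basics (IsSylowIn)

universe u

variable {G : Type u} [Group G] [Finite G]

/-- The commutators of `N ⊔ H` lie in `N` when `H` is abelian and normalizes `N`. -/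
theorem commutator_sup_le {N H : Subgroup G} (hH : H ≤ Subgroup.normalizer (N : Set G)) [IsMulCommutative H] :
    ⁅(N ⊔ H : Subgroup G), N ⊔ H⁆ ≤ N := by
  refine Subgroup.commutator_le.mpr fun a ha b hb => ?_
  obtain ⟨s, hs, u, hu, rfl⟩ := (Basics.mem_sup_of_le_normalizer hH).mp ha
  obtain ⟨t, ht, v, hv, rfl⟩ := (Basics.mem_sup_of_le_normalizer hH).mp hb
  have huv : u * v = v * u := congrArg Subtype.val (mul_comm' (⟨u, hu⟩ : H) ⟨v, hv⟩)
  have e : ⁅s * u, t * v⁆ = s * (u * t * u⁻¹) * (u * v * (v * u)⁻¹) * (v * s⁻¹ * v⁻¹) * t⁻¹ := by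
    rw [commutatorElement_def]; group
  rw [e, huv, mul_inv_cancel, mul_one]
  exact mul_mem (mul_mem (mul_mem hs ((Subgroup.mem_normalizer_iff.mp (hH hu) t).mp ht))
    ((Subgroup.mem_normalizer_iff.mp (hH hv) _).mp (inv_mem hs))) (inv_mem ht)

/-- If the derived subgroup is abelian and the group is generated by it and one element, that element
fixes no other element of the derived subgroup. -/
theorem fixed_eq_one_of_derived_abelian {Q : Type u} [Group Q] [Finite Q] (hA : IsMulCommutative (commutator Q))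
    (k : Q) (htop : commutator Q ⊔ Subgroup.zpowers k = ⊤) {a : Q} (ha : a ∈ commutator Q) (hak : a * k = k * a) :
    a = 1 := by
  set A := commutator Q with hAdef
  have hn : ∀ x : Q, ∀ b ∈ A, x * b * x⁻¹ ∈ A := fun x b hb =>
    (inferInstance : A.Normal).conj_mem b hb x
  have hc : ∀ b ∈ A, ∀ c ∈ A, b * c = c * b := fun b hb c hc =>
    congrArg Subtype.val (mul_comm' (⟨b, hb⟩ : A) ⟨c, hc⟩)
  let f : A →* A :=
    { toFun := fun b => ⟨k * b * k⁻¹ * (b : Q)⁻¹, mul_mem (hn k b b.2) (inv_mem b.2)⟩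
      map_one' := Subtype.ext (by simp)
      map_mul' := fun b c => Subtype.ext (by
        calc k * ((b : Q) * c) * k⁻¹ * ((b : Q) * c)⁻¹
            = (k * b * k⁻¹) * ((k * c * k⁻¹ * (c : Q)⁻¹) * (b : Q)⁻¹) := by group
          _ = (k * b * k⁻¹) * ((b : Q)⁻¹ * (k * c * k⁻¹ * (c : Q)⁻¹)) := by
            rw [hc _ (mul_mem (hn k c c.2) (inv_mem c.2)) _ (inv_mem b.2)]
          _ = (k * b * k⁻¹ * (b : Q)⁻¹) * (k * c * k⁻¹ * (c : Q)⁻¹) := by group) }
  set D := f.range.map A.subtype with hD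
  have hDA : D ≤ A := Subgroup.map_subtype_le _
  have hf : ∀ b (hb : b ∈ A), k * b * k⁻¹ * b⁻¹ ∈ D := fun b hb => ⟨f ⟨b, hb⟩, ⟨⟨b, hb⟩, rfl⟩, rfl⟩
  have hDn : D.Normal := by
    rw [← Subgroup.normalizer_eq_top_iff, eq_top_iff, ← htop]
    refine sup_le (fun x hx => mem_normalizer_of_conj_mem fun d hd => ?_)
      (Subgroup.zpowers_le.mpr (mem_normalizer_of_conj_mem fun d hd => ?_))
    · rw [hc x hx d (hDA hd), mul_inv_cancel_right]; exact hd
    · obtain ⟨-, ⟨b, rfl⟩, rfl⟩ := hd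
      refine ⟨f ⟨k * b * k⁻¹, hn k b b.2⟩, ⟨⟨k * b * k⁻¹, hn k b b.2⟩, rfl⟩, ?_⟩
      show k * (k * (b : Q) * k⁻¹) * k⁻¹ * (k * (b : Q) * k⁻¹)⁻¹ = k * (k * b * k⁻¹ * (b : Q)⁻¹) * k⁻¹
      group
  haveI := hDn
  set π := QuotientGroup.mk' D with hπ
  have hgen : ∀ x : Q, π x * π k = π k * π x ∧ ∀ b ∈ A, π x * π b = π b * π x := by
    intro x
    obtain ⟨b, hb, z, hz, rfl⟩ := (Basics.mem_sup_of_le_normalizer
      (fun y _ => mem_normalizer_of_conj_mem (hn y))).mp (htop ▸ Subgroup.mem_top x)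
    obtain ⟨i, rfl⟩ := hz
    have hbk : ∀ c ∈ A, π c * π k = π k * π c := fun c hc' => by
      have h1 : π (k * c * k⁻¹ * c⁻¹) = 1 := (QuotientGroup.eq_one_iff _).mpr (hf c hc')
      rw [map_mul, map_mul, map_mul, map_inv, map_inv, mul_inv_eq_one, mul_inv_eq_iff_eq_mul] at h1
      exact h1.symm
    refine ⟨?_, fun c hc' => ?_⟩
    · rw [map_mul, map_zpow, mul_assoc, (Commute.refl (π k)).zpow_left i |>.eq, ← mul_assoc, hbk b hb, mul_assoc]
    · rw [map_mul, map_zpow, mul_assoc, ((show Commute (π k) (π c) from (hbk c hc').symm).zpow_left i).eq,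
        ← mul_assoc, ← map_mul, hc b hb c hc', map_mul, mul_assoc]
  have hall : ∀ x y : Q, π x * π y = π y * π x := by
    intro x y
    obtain ⟨b, hb, z, hz, rfl⟩ := (Basics.mem_sup_of_le_normalizer
      (fun y _ => mem_normalizer_of_conj_mem (hn y))).mp (htop ▸ Subgroup.mem_top y)
    obtain ⟨i, rfl⟩ := hz
    rw [map_mul, map_zpow, ← mul_assoc, (hgen x).2 b hb, mul_assoc,
      ((show Commute (π x) (π k) from (hgen x).1).zpow_right i).eq, ← mul_assoc]
  have hAD : A ≤ D := by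
    rw [hAdef, commutator_def, Subgroup.commutator_le]
    refine fun x _ y _ => (QuotientGroup.eq_one_iff _).mp ?_
    show π ⁅x, y⁆ = 1
    rw [map_commutatorElement, commutatorElement_eq_one_iff_mul_comm]
    exact hall x y
  have hsurj : Function.Surjective f := fun b => by
    obtain ⟨c, hc', e⟩ := hAD b.2
    obtain ⟨d, rfl⟩ := hc'
    exact ⟨d, Subtype.ext e⟩
  have hinj := Finite.injective_iff_surjective.mpr hsurj
  have h1 : f ⟨a, ha⟩ = f 1 := Subtype.ext (by
    show k * a * k⁻¹ * a⁻¹ = k * 1 * k⁻¹ * 1⁻¹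
    rw [← hak]; group)
  exact congrArg Subtype.val (hinj h1)

/-- The third part of a standard factorisation is a Hall subgroup for the primes outside `κ ∪ σ`. -/
theorem decomp_hall (hG : IsMinSimpleOddOrder G) {M K U : Subgroup G} (hM : IsCoatom M)
    (h : IsSigmaDecomposition M K U) :
    IsPiHallOf {q | q.Prime ∧ q ∉ Cfsg.kappa M ∧ q ∉ Cfsg.sigma M} U M := by
  obtain ⟨hMσ, -⟩ := sigmaCore_hall hG hM
  have hcop : (Nat.card (Cfsg.sigmaCore M)).Coprime (Nat.card K) := Nat.coprime_of_dvd fun q hq h1 h2 =>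
    (h.hall.2.1 q hq h2).2.2.1 (hMσ.2.1 q hq h1)
  have hKS : Nat.card ↥(K ⊔ Cfsg.sigmaCore M) = Nat.card (Cfsg.sigmaCore M) * Nat.card K := by
    rw [sup_comm]; exact Basics.card_sup_of_coprime (h.hall.1.trans (le_normalizer_sigmaCore M)) hcop
  have hfac : ∀ q : ℕ, (Nat.card M).factorization q = (Nat.card U).factorization q +
      ((Nat.card (Cfsg.sigmaCore M)).factorization q + (Nat.card K).factorization q) := fun q => by
    rw [card_of_isComplIn h.compl, hKS, Nat.factorization_mul Nat.card_pos.ne'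
      (mul_ne_zero Nat.card_pos.ne' Nat.card_pos.ne'), Finsupp.add_apply,
      Nat.factorization_mul Nat.card_pos.ne' Nat.card_pos.ne', Finsupp.add_apply]
  refine isPiHallOf_of_factorization h.compl.1 (fun q hq hd => ⟨hq, fun hk => ?_, fun hs => ?_⟩) fun q hq hqπ => ?_
  · have := hfac q
    have := hallOf_factorization h.hall hq hk
    have := hq.factorization_pos_of_dvd Nat.card_pos.ne' hd
    omega
  · have := hfac q
    have := hallOf_factorization hMσ hq hs
    have := hq.factorization_pos_of_dvd Nat.card_pos.ne' hd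
    omega
  · rw [hfac q, Nat.factorization_eq_zero_of_not_dvd fun hd => hqπ.2.2 (hMσ.2.1 q hq hd),
      Nat.factorization_eq_zero_of_not_dvd fun hd => hqπ.2.1 (h.hall.2.1 q hq hd), add_zero, add_zero]

/-- A decomposition exists, and all of them have the same normal part `U M_σ`. -/
theorem decomp_compare (hG : IsMinSimpleOddOrder G) {M K : Subgroup G} (hM : IsCoatom M)
    (hK : IsPiHallOf (Cfsg.kappa M) K M) (hK1 : K ≠ ⊥) :
    ∃ U₀ : Subgroup G, IsMulCommutative U₀ ∧ (∀ k ∈ K, k ≠ 1 → U₀ ⊓ Subgroup.centralizer ({k} : Set G) = ⊥) ∧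
      K ≤ Subgroup.normalizer (U₀ : Set G) ∧ U₀ ≤ M ∧ IsComplIn U₀ (K ⊔ Cfsg.sigmaCore M) M ∧
      U₀ ⊓ Cfsg.sigmaCore M = ⊥ ∧ M ≤ Subgroup.normalizer ((Cfsg.sigmaCore M ⊔ U₀ : Subgroup G) : Set G) ∧
      (Cfsg.sigmaCore M ⊔ U₀) ⊔ K = M ∧ (Cfsg.sigmaCore M ⊔ U₀) ⊓ K = ⊥ ∧
      ∀ U : Subgroup G, IsSigmaDecomposition M K U → Cfsg.sigmaCore M ⊔ U = Cfsg.sigmaCore M ⊔ U₀ := by
  obtain ⟨-, E, U₀, hE, hKE, hUE, hUc, hU, hEU, hEeq, hreg⟩ := exists_kappa_compl hG hM hK hK1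
  obtain ⟨hMσ, -⟩ := sigmaCore_hall hG hM
  set S := Cfsg.sigmaCore M with hS
  have hUM : U₀ ≤ M := hU.1
  have hKM : K ≤ M := hK.1
  have hSU : (Nat.card S).Coprime (Nat.card U₀) := Nat.coprime_of_dvd fun q hq h1 h2 =>
    (hU.2.1 q hq h2).2.2 (hMσ.2.1 q hq h1)
  have hUK : (Nat.card U₀).Coprime (Nat.card K) := Nat.coprime_of_dvd fun q hq h1 h2 =>
    (hU.2.1 q hq h1).2.1 (hK.2.1 q hq h2)
  have hSK : (Nat.card S).Coprime (Nat.card K) := Nat.coprime_of_dvd fun q hq h1 h2 =>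
    (hK.2.1 q hq h2).2.2.1 (hMσ.2.1 q hq h1)
  set W := S ⊔ U₀ with hW
  have hWc : Nat.card W = Nat.card S * Nat.card U₀ :=
    Basics.card_sup_of_coprime (hUM.trans (le_normalizer_sigmaCore M)) hSU
  have hWM : W ≤ M := sup_le (sigmaCore_le M) hUM
  have hMc : Nat.card M = Nat.card W * Nat.card K := by
    rw [card_of_isComplIn hE, hEeq, Basics.card_sup_of_coprime (hKE.trans hEU) hUK, hWc]; ring
  have hEW : E ≤ Subgroup.normalizer (W : Set G) :=
    fun e he => Subgroup.mem_normalizer_iff_map_conj_eq.mpr (by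
      rw [hW, Subgroup.map_sup, Subgroup.mem_normalizer_iff_map_conj_eq.mp (hEU he),
        Subgroup.mem_normalizer_iff_map_conj_eq.mp (le_normalizer_sigmaCore M (hE.1 he))])
  have hMW : M ≤ Subgroup.normalizer (W : Set G) := fun m hm => by
    obtain ⟨e, he, b, hb, rfl⟩ := hE.2.2.2 m hm
    exact mul_mem (hEW he) (Subgroup.le_normalizer (Subgroup.mem_sup_left hb))
  refine ⟨U₀, hUc, hreg, hKE.trans hEU, hUM, ⟨hUM, sup_le hKM (sigmaCore_le M), ?_, fun m hm => ?_⟩,
    (Subgroup.disjoint_of_coprime_natCard hSU.symm).eq_bot, hMW, ?_, ?_, fun U h => ?_⟩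
  · refine (Subgroup.disjoint_of_coprime_natCard ?_).eq_bot
    rw [show K ⊔ S = S ⊔ K from sup_comm _ _,
      Basics.card_sup_of_coprime (hKM.trans (le_normalizer_sigmaCore M)) hSK]
    exact hSU.symm.mul_right hUK
  · obtain ⟨e, he, b, hb, rfl⟩ := hE.2.2.2 m hm
    obtain ⟨u, hu, k, hk, rfl⟩ := (Basics.mem_sup_of_le_normalizer (hKE.trans hEU)).mp (hEeq ▸ he)
    exact ⟨u, hu, k * b, mul_mem (Subgroup.mem_sup_left hk) (Subgroup.mem_sup_right hb), mul_assoc _ _ _⟩
  · refine le_antisymm (sup_le hWM hKM) fun m hm => ?_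
    obtain ⟨e, he, b, hb, rfl⟩ := hE.2.2.2 m hm
    refine mul_mem ?_ (Subgroup.mem_sup_left (Subgroup.mem_sup_left hb))
    exact (hEeq.le.trans (sup_le (le_sup_right.trans le_sup_left) le_sup_right)) he
  · exact (Subgroup.disjoint_of_coprime_natCard (hWc ▸ hSK.mul_left hUK)).eq_bot
  · obtain ⟨hU1, hU2, hU3⟩ := decomp_hall hG hM h
    have hUW : U ≤ W := by
      refine Basics.KW.le_of_coprime_sup (Or.inr (hU1.trans hMW)) (d := Nat.card K) ?_ ?_ (hWc ▸ hSK.mul_left hUK)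
      · exact hMc ▸ Subgroup.card_dvd_of_le (sup_le hU1 hWM)
      · exact Nat.coprime_of_dvd fun q hq h1 h2 => (hU2 q hq h1).2.1 (hK.2.1 q hq h2)
    have hc : Nat.card U = Nat.card U₀ := by
      refine Nat.eq_of_factorization_eq Nat.card_pos.ne' Nat.card_pos.ne' fun q => ?_
      by_cases hq : q.Prime
      · by_cases hqπ : q ∈ {q : ℕ | q.Prime ∧ q ∉ Cfsg.kappa M ∧ q ∉ Cfsg.sigma M}
        · rw [hallOf_factorization (decomp_hall hG hM h) hq hqπ, hallOf_factorization hU hq hqπ]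
        · rw [Nat.factorization_eq_zero_of_not_dvd fun hd => hqπ (hU2 q hq hd),
            Nat.factorization_eq_zero_of_not_dvd fun hd => hqπ (hU.2.1 q hq hd)]
      · rw [Nat.factorization_eq_zero_of_not_prime _ hq, Nat.factorization_eq_zero_of_not_prime _ hq]
    refine Subgroup.eq_of_le_of_card_ge (sup_le le_sup_left hUW) ?_
    rw [hWc, Basics.card_sup_of_coprime (hU1.trans (le_normalizer_sigmaCore M)) (hc.symm ▸ hSU), hc]

end Cfsg.Agent.OddLocal
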