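import Cfsg.Agent.Lib.OddLocal.KappaSylow
import Cfsg.Agent.Lib.OddLocal.SigmaDecomp
import Cfsg.Agent.Lib.OddLocal.PrimeActionFitting
import Cfsg.Agent.Lib.Basics.ThompsonFpf
import Cfsg.Agent.Lib.OddLocal.KappaPrime

/-! `K*` lies in `M_F` (BG 15.2). -/

set_option autoImplicit false
set_option linter.unusedSectionVars false
set_option linter.style.haveILetI false

namespace Cfsg.Agent.OddLocal

open scoped commutatorElement Pointwise
open Cfsg
open Basics (IsSylowIn)

universe u

/-- A prime action with fixed points of prime order `q` inside the derived subgroup forces a normal Sylow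
`q`-subgroup with nilpotent quotient. -/
theorem normal_sylow_of_prime_fixed {H : Type u} [Group H] [Finite H] [Group.IsSolvable H] (hodd : Odd (Nat.card H))
    (W R : Subgroup H) [W.Normal] (hcop : (Nat.card W).Coprime (Nat.card R))
    (hprime : ∀ x ∈ R, x ≠ 1 → W ⊓ Subgroup.centralizer ({x} : Set H) = W ⊓ Subgroup.centralizer (R : Set H))
    (hR : R ≠ ⊥) {q : ℕ} [hq : Fact q.Prime] (hA : Nat.card ↥(W ⊓ Subgroup.centralizer (R : Set H)) = q)
    (hAW : W ⊓ Subgroup.centralizer (R : Set H) ≤ ⁅W, W⁆) {S : Subgroup H} (hS : IsSylowIn q W S) :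
    S.Normal ∧ (∀ [(coreP q W).Normal], Group.IsNilpotent ↥(W.map (QuotientGroup.mk' (coreP q W)))) ∧
      W ⊓ Subgroup.centralizer (R : Set H) ≤ coreP q W ∧ S = coreP q W := by
  set A := W ⊓ Subgroup.centralizer (R : Set H) with hAdef
  have hA1 : A ≠ ⊥ := fun e => by rw [e, Subgroup.card_bot] at hA; exact hq.out.one_lt.ne hA
  have hRW : R ≤ Subgroup.normalizer (W : Set H) := Subgroup.le_normalizer_of_normal
  have hsol : ∀ B : Subgroup H, Group.IsSolvable B := fun B => inferInstance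
  have hAF : A ≤ Cfsg.fittingOf W := by
    by_contra hnle
    have hF : Cfsg.fittingOf W ⊓ Subgroup.centralizer (R : Set H) = ⊥ := by
      by_contra hne
      obtain ⟨a, ha, ha1⟩ := (Subgroup.bot_or_exists_ne_one _).resolve_left hne
      obtain ⟨haF, haC⟩ := Subgroup.mem_inf.mp ha
      have haA : a ∈ A := Subgroup.mem_inf.mpr ⟨fittingOf_le W haF, haC⟩
      have hc : Nat.card (Subgroup.zpowers a) = q := ((Nat.dvd_prime hq.out).mp (hA ▸
        Subgroup.card_dvd_of_le (Subgroup.zpowers_le.mpr haA))).resolve_left fun e => ha1 (by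
          rw [Nat.card_zpowers] at e; exact orderOf_eq_one_iff.mp e)
      exact hnle ((Subgroup.eq_of_le_of_card_ge (Subgroup.zpowers_le.mpr haA) (hA.trans_le hc.ge)).ge.trans
        (Subgroup.zpowers_le.mpr haF))
    have hle := commutator_le_fittingOf_of_fpf W R hodd hcop hprime hF
    have hW : W = Cfsg.fittingOf W ⊔ A := le_antisymm
      ((Basics.commutator_sup_inf_centralizer R W hRW hcop.symm (Or.inr (hsol W))).ge.trans (sup_le_sup_right hle _))
      (sup_le (fittingOf_le W) inf_le_left)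
    haveI : IsMulCommutative A := by
      haveI := isCyclic_of_prime_card hA
      exact IsCyclic.isMulCommutative
    refine hnle (hAW.trans ?_)
    conv_lhs => rw [hW]
    exact commutator_sup_le (inf_le_left.trans (le_normalizer_fittingOf W))
  set Q := coreP q W with hQdef
  have hAQ : A ≤ Q := fun a ha => mem_coreP_of_mem_fittingOf (hAF ha) ⟨1, by
    rw [pow_one, ← hA]
    exact congrArg Subtype.val (pow_card_eq_one' (x := (⟨a, ha⟩ : A)))⟩
  haveI hQn : Q.Normal := ConjAct.normal_of_characteristic_of_normal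
  have hQW : Q ≤ W := coreP_le q W
  set π := QuotientGroup.mk' Q with hπ
  haveI : (W.map π).Normal := Subgroup.Normal.map inferInstance _ (QuotientGroup.mk'_surjective Q)
  obtain ⟨r, hr, hrd⟩ := Nat.exists_prime_and_dvd fun e => hR (Subgroup.card_eq_one.mp e)
  haveI := Fact.mk hr
  obtain ⟨x₀, hx⟩ := exists_prime_orderOf_dvd_card' r hrd
  rw [← Subgroup.orderOf_coe] at hx
  set x : H := (x₀ : H) with hxdef
  have hxR : x ∈ R := x₀.2
  have hx1 : x ≠ 1 := fun e => by rw [e, orderOf_one] at hx; exact hr.one_lt.ne hx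
  have hxQ : x ∉ Q := fun h => hr.one_lt.ne' (Nat.eq_one_of_dvd_coprimes hcop
    (hx ▸ Subgroup.orderOf_dvd_natCard W (hQW h)) hrd)
  have hpx : orderOf (π x) = r := orderOf_eq_prime (by rw [← map_pow, ← hx, pow_orderOf_eq_one, map_one])
    fun e => hxQ ((QuotientGroup.eq_one_iff x).mp e)
  have hnil : Group.IsNilpotent ↥(W.map π) := by
    refine Basics.isNilpotent_of_conj_fpf (W.map π) hpx fun n hn he => ?_
    have hcop' : (Nat.card (Subgroup.zpowers x)).Coprime (Nat.card Q) := by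
      rw [Nat.card_zpowers, hx]
      exact hr.coprime_iff_not_dvd.mpr fun hd => hr.one_lt.ne' (Nat.eq_one_of_dvd_coprimes hcop
        (hd.trans (Subgroup.card_dvd_of_le hQW)) hrd)
    have hmem : n ∈ W.map π ⊓ Subgroup.centralizer (((Subgroup.zpowers x).map π : Subgroup _) : Set (H ⧸ Q)) := by
      refine Subgroup.mem_inf.mpr ⟨hn, Subgroup.mem_centralizer_iff.mpr ?_⟩
      rintro _ ⟨y, hy, rfl⟩
      obtain ⟨i, rfl⟩ := Subgroup.mem_zpowers_iff.mp hy
      rw [map_zpow]
      exact Commute.zpow_left he i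
    rw [← Basics.map_inf_centralizer (Subgroup.zpowers x) W Q hQW hcop' (Or.inr (hsol Q))] at hmem
    obtain ⟨w, hw, rfl⟩ := hmem
    rw [centralizer_eq_of_zpowers, hprime x hxR hx1] at hw
    exact (QuotientGroup.eq_one_iff w).mpr (hAQ hw)
  obtain ⟨P, hP⟩ := hS.exists_sylow
  set f := π.subgroupMap W with hf
  have hfs : Function.Surjective f := π.subgroupMap_surjective W
  haveI := hnil
  haveI hPn : ((P.mapSurjective hfs : Sylow q ↥(W.map π)) : Subgroup ↥(W.map π)).Normal :=
    Sylow.normal_of_normalizerCondition Group.normalizerCondition_of_isNilpotent _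
  have hker : f.ker ≤ (P : Subgroup W) := by
    intro w hw
    have hwQ : (w : H) ∈ Q := (QuotientGroup.eq_one_iff _).mp (congrArg Subtype.val hw)
    obtain ⟨v, hv, e⟩ := hwQ
    rw [Subtype.ext e] at hv
    exact (Cfsg.Agent.Basics.pCore_isPGroup q).le_sylow_of_normal P hv
  have hPeq : (P : Subgroup W) = ((P.mapSurjective hfs : Sylow q ↥(W.map π)) : Subgroup ↥(W.map π)).comap f := by
    rw [Sylow.coe_mapSurjective, Subgroup.comap_map_eq_self hker]
  haveI : (P : Subgroup W).Normal := hPeq ▸ Subgroup.Normal.comap hPn f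
  have hcore : (P : Subgroup W) = Cfsg.pCore q W :=
    le_antisymm (Basics.le_pCore P.2) ((Cfsg.Agent.Basics.pCore_isPGroup q).le_sylow_of_normal P)
  have hSQ : S = Q := by rw [← hP, hcore, hQdef]; rfl
  exact ⟨hSQ ▸ hQn, hnil, hAQ, hSQ⟩

variable {G : Type u} [Group G] [Finite G]

/-- In type `P₁`, `K*` has prime order `q` and lies in the normal Sylow `q`-subgroup of `M`. -/
theorem exists_normal_sylow (hG : IsMinSimpleOddOrder G) {M K : Subgroup G} (hM : IsCoatom M)
    (hK : IsPiHallOf (Cfsg.kappa M) K M) (hK1 : K ≠ ⊥)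
    (hP : ∀ q : ℕ, q.Prime → q ∣ Nat.card M → q ∉ Cfsg.sigma M → q ∈ Cfsg.kappa M) :
    ∃ q : ℕ, q.Prime ∧ Nat.card ↥(Cfsg.sigmaCore M ⊓ Subgroup.centralizer (K : Set G)) = q ∧
      ∃ Q : Subgroup G, IsSylowIn q M Q ∧ Q ≤ Cfsg.sigmaCore M ∧ M ≤ Subgroup.normalizer (Q : Set G) ∧
        Cfsg.sigmaCore M ⊓ Subgroup.centralizer (K : Set G) ≤ Q := by
  obtain ⟨L, hL, -, hKL, hs, -, -, hor⟩ := exists_dual hG hM hK hK1
  set A := Cfsg.sigmaCore M ⊓ Subgroup.centralizer (K : Set G) with hA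
  have hq : (Nat.card A).Prime := by
    rcases hor with ⟨s, h1, h2, h3, h4⟩ | ⟨s, h1, h2, h3, h4⟩
    · exact absurd (hP s h1 h2 h3) h4
    · exact (compl_prime hG hL hKL (kappa_fixed_ne_bot hG hM hK hK1) h1 h2 h3 h4).1
  haveI := Fact.mk hq
  set q := Nat.card A with hqdef
  obtain ⟨U, hU⟩ := exists_decomp hG hM hK
  obtain ⟨hW, hAW⟩ := S1365.result hG M hM K U hU hK1
  have hU1 : U = ⊥ := Subgroup.card_eq_one.mp (Nat.eq_one_iff_not_exists_prime_dvd.mpr fun p hp hd => by
    obtain ⟨-, hpk, hps⟩ := (decomp_hall hG hM hU).2.1 p hp hd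
    exact hpk (hP p hp (hd.trans (Subgroup.card_dvd_of_le hU.compl.1)) hps))
  rw [hU1, bot_sup_eq] at hW
  rw [hW] at hAW
  set W := Cfsg.sigmaCore M with hWdef
  have hWM : W ≤ M := sigmaCore_le M
  haveI : Group.IsSolvable M := isSolvable_of_ne_top hG hM.1
  haveI : (W.subgroupOf M).Normal :=
    (Subgroup.normal_subgroupOf_iff_le_normalizer hWM).mpr (le_normalizer_sigmaCore M)
  have hset : ∀ (B : Subgroup G) (a : M), a ∈ Subgroup.centralizer ((B.subgroupOf M : Subgroup M) : Set M) →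
      B ≤ M → (a : G) ∈ Subgroup.centralizer (B : Set G) := fun B a ha hB =>
    Subgroup.mem_centralizer_iff.mpr fun b hb =>
      congrArg Subtype.val (Subgroup.mem_centralizer_iff.mp ha ⟨b, hB hb⟩ hb)
  have hfix : W.subgroupOf M ⊓ Subgroup.centralizer ((K.subgroupOf M : Subgroup M) : Set M) = A.subgroupOf M := by
    refine le_antisymm (fun a ha => ⟨ha.1, hset K a ha.2 hK.1⟩) fun a ha => Subgroup.mem_inf.mpr
      ⟨ha.1, Subgroup.mem_centralizer_iff.mpr fun b hb => Subtype.ext (Subgroup.mem_centralizer_iff.mp ha.2 _ hb)⟩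
  have hprime : ∀ x ∈ K.subgroupOf M, x ≠ 1 →
      W.subgroupOf M ⊓ Subgroup.centralizer ({x} : Set M) =
        W.subgroupOf M ⊓ Subgroup.centralizer ((K.subgroupOf M : Subgroup M) : Set M) := by
    intro x hx hx1
    rw [hfix]
    have h := kappa_semiprime hG hM hK (show (x : G) ∈ K from hx) fun e => hx1 (Subtype.ext e)
    ext a
    constructor
    · intro ha
      show (a : G) ∈ A
      rw [hA, ← h]
      exact Subgroup.mem_inf.mpr ⟨ha.1, Subgroup.mem_centralizer_singleton_iff.mpr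
        (congrArg Subtype.val (Subgroup.mem_centralizer_singleton_iff.mp ha.2) :)⟩
    · intro ha
      have ha' : (a : G) ∈ A := ha
      rw [hA, ← h] at ha'
      exact Subgroup.mem_inf.mpr ⟨ha'.1, Subgroup.mem_centralizer_singleton_iff.mpr
        (Subtype.ext (Subgroup.mem_centralizer_singleton_iff.mp ha'.2))⟩
  have hAM : A ≤ M := inf_le_left.trans hWM
  have hAW' : A.subgroupOf M ≤ ⁅W.subgroupOf M, W.subgroupOf M⁆ := by
    rw [← Subgroup.map_le_map_iff_of_injective M.subtype_injective, Subgroup.map_commutator,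
      Subgroup.map_subgroupOf_eq_of_le hAM, Subgroup.map_subgroupOf_eq_of_le hWM]
    exact hAW
  obtain ⟨P, hPs⟩ := exists_sylowIn (q := q) W
  have hqσ : q ∈ Cfsg.sigma M := piCoreOf_primes _ M hq (Subgroup.card_dvd_of_le inf_le_left)
  have hPM : IsSylowIn q M P := ⟨hPs.1.trans hWM, by
    rw [hPs.2, hallOf_factorization (sigmaCore_hall hG hM).1 hq hqσ]⟩
  have hP' : IsSylowIn q (W.subgroupOf M) (P.subgroupOf M) := ⟨fun a ha => hPs.1 ha, by
    rw [Basics.card_subgroupOf hPM.1, Basics.card_subgroupOf hWM, hPs.2]⟩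
  obtain ⟨hn, -, hle, hPQ⟩ := normal_sylow_of_prime_fixed (odd_card_subgroup hG M) (W.subgroupOf M)
    (K.subgroupOf M) (by
      rw [Basics.card_subgroupOf hWM, Basics.card_subgroupOf hK.1]
      exact Nat.coprime_of_dvd fun s hs h1 h2 => (hK.2.1 s hs h2).2.2.1 (piCoreOf_primes _ M hs h1))
    hprime (fun e => hK1 ((Subgroup.map_subgroupOf_eq_of_le hK.1).symm.trans (by rw [e, Subgroup.map_bot])))
    (q := q) (by rw [hfix, Basics.card_subgroupOf hAM]) (hfix ▸ hAW') hP'
  refine ⟨q, hq, rfl, P, hPM, hPs.1, (Subgroup.normal_subgroupOf_iff_le_normalizer hPM.1).mp hn, fun a ha => ?_⟩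
  have h1 : (⟨a, hAM ha⟩ : M) ∈ A.subgroupOf M := ha
  rw [← hfix] at h1
  exact (hPQ ▸ hle h1 : (⟨a, hAM ha⟩ : M) ∈ P.subgroupOf M)

/-- A normal Sylow subgroup lies in `M_F`. -/
theorem sylow_le_fittingHallOf {M Q : Subgroup G} {q : ℕ} [hq : Fact q.Prime] (hQ : IsSylowIn q M Q)
    (hn : M ≤ Subgroup.normalizer (Q : Set G)) : Q ≤ Cfsg.fittingHallOf M := by
  rw [← Subgroup.map_subgroupOf_eq_of_le hQ.1]
  obtain ⟨P, hP⟩ := hQ.exists_sylow
  have e : Q.subgroupOf M = (P : Subgroup M) := by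
    rw [← hP]
    exact Subgroup.comap_map_eq_self_of_injective M.subtype_injective _
  refine Subgroup.map_mono (le_sSup ⟨(Subgroup.normal_subgroupOf_iff_le_normalizer hQ.1).mpr hn, ?_, ?_⟩)
  · exact ((hQ.isPGroup).comap_subtype (K := M)).isNilpotent
  · rw [e]; exact P.card_coprime_index

end Cfsg.Agent.OddLocal
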