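import Cfsg.Agent.Lib.OddLocal.Tau2NonAb
import Cfsg.Agent.Lib.Basics.Hall

/-! Nilpotent `σ(M)'`-subgroups of `M` are abelian (BG 12.8, 12.9). -/

set_option autoImplicit false
set_option linter.unusedSectionVars false
set_option linter.style.haveILetI false

namespace Cfsg.Agent.OddLocal

open scoped commutatorElement Pointwise
open Cfsg
open Basics (IsSylowIn)

universe u

variable {G : Type u} [Group G] [Finite G] {p : ℕ} [hp : Fact p.Prime]

/-- A subgroup containing a Sylow subgroup of `N` for every prime contains `N`. -/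
theorem le_of_sylows {N K : Subgroup G}
    (h : ∀ q : ℕ, q.Prime → q ∣ Nat.card N → ∃ S : Subgroup G, IsSylowIn q N S ∧ S ≤ K) : N ≤ K := by
  have hdvd : Nat.card N ∣ Nat.card (N ⊓ K : Subgroup G) := by
    rw [Nat.dvd_iff_prime_pow_dvd_dvd]
    intro q i hq hqi
    rcases Nat.eq_zero_or_pos i with rfl | hi
    · simp
    haveI := Fact.mk hq
    obtain ⟨S, hS, hSK⟩ := h q hq ((dvd_pow_self q hi.ne').trans hqi)
    refine dvd_trans ?_ (Subgroup.card_dvd_of_le (le_inf hS.1 hSK))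
    rw [hS.2]
    exact pow_dvd_pow q ((hq.pow_dvd_iff_le_factorization Nat.card_pos.ne').mp hqi)
  exact (Subgroup.eq_of_le_of_card_ge inf_le_left (Nat.le_of_dvd Nat.card_pos hdvd)).ge.trans inf_le_right

theorem exists_sylowIn {q : ℕ} [Fact q.Prime] (N : Subgroup G) : ∃ S : Subgroup G, IsSylowIn q N S :=
  ⟨_, Basics.isSylowIn_map (default : Sylow q N)⟩

theorem compl_primes (hG : IsMinSimpleOddOrder G) {M E : Subgroup G} (hM : IsCoatom M)
    (hE : IsComplIn E (Cfsg.sigmaCore M) M) {q : ℕ} (hq : q.Prime) (hd : q ∣ Nat.card E) : q ∉ Cfsg.sigma M :=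
  fun hs => (sigmaCore_hall hG hM).1.2.2 q hq hs (by rwa [relIndex_right_of_isComplIn hE])

theorem compl_sylow {M E : Subgroup G} (hE : IsComplIn E (Cfsg.sigmaCore M) M) {r : ℕ} [hr : Fact r.Prime]
    (hrs : r ∉ Cfsg.sigma M) {R : Subgroup G} (hR : IsSylowIn r E R) : IsSylowIn r M R := by
  refine ⟨hR.1.trans hE.1, ?_⟩
  rw [hR.2, card_of_isComplIn hE, Nat.factorization_mul Nat.card_pos.ne' Nat.card_pos.ne',
    Finsupp.add_apply, Nat.factorization_eq_zero_of_not_dvd (n := Nat.card (Cfsg.sigmaCore M))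
      (not_dvd_sigmaCore hr.out hrs), add_zero]

theorem exists_ea_in_compl (hG : IsMinSimpleOddOrder G) {M E : Subgroup G} (hM : IsCoatom M)
    (hE : IsComplIn E (Cfsg.sigmaCore M) M) {r : ℕ} [hr : Fact r.Prime] (hτ : r ∈ Cfsg.tau2 M) :
    ∃ B : Subgroup G, B ≤ E ∧ IsElementaryAbelian r B ∧ Nat.card B = r ^ 2 ∧ ∃ B₁ : Subgroup G, Exc r M B B₁ := by
  obtain ⟨-, hrs, hr2, hr1⟩ := hτ
  obtain ⟨B₀, hB₀M, hB₀, hB₀c⟩ := exists_ea_of_not_pRankLE_one hr1
  have hB₀2 := ea_card_eq_sq hr2 hB₀ hB₀M hB₀c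
  obtain ⟨R, hR⟩ := exists_sylowIn (q := r) E
  have hRM := compl_sylow hE hrs hR
  obtain ⟨R₀, hR₀, hB₀R⟩ := exists_sylowIn_ge (isPGroup_of_exponent hB₀.2) hB₀M
  obtain ⟨k, hk, ek⟩ := hR₀.exists_conj hRM
  have hBR : MulAut.conj k • B₀ ≤ R := ek ▸ Subgroup.pointwise_smul_le_pointwise_smul_iff.mpr hB₀R
  have hBe : IsElementaryAbelian r (MulAut.conj k • B₀ : Subgroup G) := ea_map hB₀ _
  have hB2 : Nat.card (MulAut.conj k • B₀ : Subgroup G) = r ^ 2 := by rw [Basics.card_conj_smul, hB₀2]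
  exact ⟨_, hBR.trans hR.1, hBe, hB2, exists_exc hG hM hrs ((hBR.trans hR.1).trans hE.1) hBe hB2⟩

theorem sylow_commutative_of_one {T : Sylow p G} (h : IsMulCommutative (T : Subgroup G)) (S : Sylow p G) :
    IsMulCommutative (S : Subgroup G) :=
  ⟨⟨fun a b => (S.equiv T).injective (by rw [map_mul, map_mul]; exact h.is_comm.comm _ _)⟩⟩

namespace Exc

variable {M A A₀ E : Subgroup G}

/-- With abelian Sylow subgroups the Sylow subgroups of `M` are those of `G`. -/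
theorem sylow_eq_of_abelian (h : Exc p M A A₀) {P : Subgroup G} (hP : IsSylowIn p M P) (hAP : A ≤ P)
    (hab : ∀ S : Sylow p G, IsMulCommutative (S : Subgroup G)) {T : Sylow p G} (hPT : P ≤ (T : Subgroup G)) :
    (T : Subgroup G) = P := by
  haveI := hab T
  exact hP.eq_of_le T.2 ((Subgroup.le_centralizer_iff_isMulCommutative.mpr (hab T)).trans
    ((Subgroup.centralizer_le (hAP.trans hPT)).trans h.centralizer_le)) hPT

theorem le_sylow_compl (h : Exc p M A A₀) (hG : IsMinSimpleOddOrder G) (hE : IsComplIn E (Cfsg.sigmaCore M) M)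
    (hAE : A ≤ E) {R : Subgroup G} (hR : IsSylowIn p E R) : A ≤ R :=
  (hR.eq_of_le (R := A ⊔ R) (h.isPGroup.to_sup_of_normal_left' hR.isPGroup
    (hR.1.trans (h.compl_le_normalizer hG hE hAE))) (sup_le hAE hR.1) le_sup_right).le.trans' le_sup_left

/-- The Sylow subgroups of `E` for the primes of `τ₂(M)` centralize `A`. -/
theorem tau2_sylow_le (h : Exc p M A A₀) (hG : IsMinSimpleOddOrder G) (hE : IsComplIn E (Cfsg.sigmaCore M) M)
    (hAE : A ≤ E) {r : ℕ} [hr : Fact r.Prime] (hτ : r ∈ Cfsg.tau2 M) {R : Subgroup G} (hR : IsSylowIn r E R) :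
    R ≤ Subgroup.centralizer (A : Set G) := by
  have hrs : r ∉ Cfsg.sigma M := hτ.2.1
  by_cases hrp : r = p
  · subst hrp
    have hAR := h.le_sylow_compl hG hE hAE hR
    exact Subgroup.le_centralizer_iff.mp (h.le_centralizer_sylow hG (compl_sylow hE hrs hR) hAR)
  obtain ⟨B, hBE, hB, hB2, B₁, h'⟩ := exists_ea_in_compl hG h.max hE hτ
  have hab : ∀ S : Sylow r G, IsMulCommutative (S : Subgroup G) := by
    by_contra hc
    push Not at hc
    obtain ⟨S₀, hS₀⟩ := hc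
    have hna : ∀ S : Sylow r G, ¬ IsMulCommutative (S : Subgroup G) := fun S hS =>
      hS₀ (sylow_commutative_of_one hS S₀)
    have hpM : p ∈ Cfsg.tau2 M := ⟨hp.out, h.notσ, pRankLE_two_of_not_mem_sigma hG h.max h.notσ, fun h1 => by
      have := card_le_of_pRankLE h1 h.le h.ea
      rw [h.card, pow_one] at this
      nlinarith [hp.out.two_le]⟩
    exact hrp (h'.nonAb_tau2 hG hna hE hBE hpM).symm
  have hBR := h'.le_sylow_compl hG hE hBE hR
  have hRM := compl_sylow hE hrs hR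
  obtain ⟨T, hRT⟩ := hR.isPGroup.exists_le_sylow
  have hTR := h'.sylow_eq_of_abelian hRM hBR hab hRT
  have hNT : Subgroup.normalizer ((T : Subgroup G) : Set G) ≤ Subgroup.normalizer (B : Set G) :=
    hTR ▸ h'.normalizer_le hG hRM hBR
  obtain ⟨H, hH, hNB⟩ := exists_maximal_ge (normalizer_ne_top hG h'.ne_bot
    (fun e => h.max.1 (top_le_iff.mp (e ▸ h'.le))))
  have hTH : (T : Subgroup G) ≤ H := (Subgroup.le_normalizer.trans hNT).trans hNB
  have hrσ : r ∈ Cfsg.sigma H := by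
    refine ⟨hr.out, (hB2 ▸ dvd_pow_self r two_ne_zero).trans (Subgroup.card_dvd_of_le ((hTR ▸ hBR).trans hTH)),
      T.subtype hTH, ?_⟩
    rw [Sylow.coe_subtype, Subgroup.subgroupOf_map_subtype, inf_eq_left.mpr hTH]
    exact hNT.trans hNB
  have hRder : R ≤ ⁅H, H⁆ := hTR ▸
    (pGroup_le_sigmaCore hG hH hrσ T.2 hTH).trans (sigmaCore_le_derived hG hH)
  have hAH : A ≤ H := (hAE.trans (h'.compl_le_normalizer hG hE hBE)).trans hNB
  have hpb : p ∉ Cfsg.beta H := fun hb => not_isIdealPrime_of_not_sigma hG h.max h.notσ (fun h1 => by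
    have := card_le_of_pRankLE h1 h.le h.ea
    rw [h.card, pow_one] at this
    nlinarith [hp.out.two_le]) hb.2
  exact le_centralizer_of_commutator_le hG hH hpb h.isPGroup (Subgroup.commutator_mono hAH (hTR ▸ hTH)) hRder
    (fun e => by
      obtain ⟨k, hk⟩ := IsPGroup.iff_card.mp hR.isPGroup
      exact hrp ((Nat.prime_dvd_prime_iff_eq hp.out hr.out).mp (hp.out.dvd_of_dvd_pow (hk ▸ e))).symm)
    (hR.1.trans (h.compl_le_normalizer hG hE hAE)) h.solvable

/-- A `τ₂(M)`-element of `E` centralizes `A`. -/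
theorem tau2_element_mem (h : Exc p M A A₀) (hG : IsMinSimpleOddOrder G) (hE : IsComplIn E (Cfsg.sigmaCore M) M)
    (hAE : A ≤ E) {x : G} (hx : x ∈ E) (hτ : ∀ r : ℕ, r.Prime → r ∣ orderOf x → r ∈ Cfsg.tau2 M) :
    x ∈ Subgroup.centralizer (A : Set G) := by
  refine le_of_sylows (N := Subgroup.zpowers x) (fun r hr hd => ?_) (Subgroup.mem_zpowers x)
  haveI := Fact.mk hr
  rw [Nat.card_zpowers] at hd
  obtain ⟨U, hU⟩ := exists_sylowIn (q := r) (Subgroup.zpowers x)
  refine ⟨U, hU, ?_⟩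
  obtain ⟨R, hR, hUR⟩ := exists_sylowIn_ge hU.isPGroup (hU.1.trans (Subgroup.zpowers_le.mpr hx))
  exact hUR.trans (h.tau2_sylow_le hG hE hAE (hτ r hr hd) hR)

end Exc

/-- BG 12.8(a). -/
theorem pGroup_commutative (hG : IsMinSimpleOddOrder G) {M U : Subgroup G} (hM : IsCoatom M) {s : ℕ}
    [hs : Fact s.Prime] (hU : IsPGroup s U) (hUM : U ≤ M) (hss : s ∉ Cfsg.sigma M) : IsMulCommutative U := by
  rcases hU.card_eq_or_dvd with e | e
  · rw [Subgroup.card_eq_one.mp e]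
    exact ⟨⟨fun a b => Subsingleton.elim _ _⟩⟩
  have hs2 : s ≠ 2 := prime_ne_two hG (e.trans (Subgroup.card_subgroup_dvd_card U))
  by_cases h1 : PRankLE s 1 M
  · haveI := isCyclic_of_pRankLE_one hs2 h1 hUM hU
    exact IsCyclic.isMulCommutative
  obtain ⟨A, hAM, hA, hAc⟩ := exists_ea_of_not_pRankLE_one h1
  have hA2 := ea_card_eq_sq (pRankLE_two_of_not_mem_sigma hG hM hss) hA hAM hAc
  obtain ⟨A₁, h⟩ := exists_exc hG hM hss hAM hA hA2
  obtain ⟨P, hP, hAP⟩ := exists_sylowIn_ge h.isPGroup hAM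
  obtain ⟨P', hP', hUP'⟩ := exists_sylowIn_ge hU hUM
  obtain ⟨k, hk, ek⟩ := hP'.exists_conj hP
  have hle : MulAut.conj k • U ≤ P := ek ▸ Subgroup.pointwise_smul_le_pointwise_smul_iff.mpr hUP'
  have hPc := h.sylow_abelian hG hP hAP
  refine ⟨⟨fun a b => Subtype.ext ((MulAut.conj k).injective ?_)⟩⟩
  have ha : (MulAut.conj k) (a : G) ∈ P := hle ⟨a, a.2, rfl⟩
  have hb : (MulAut.conj k) (b : G) ∈ P := hle ⟨b, b.2, rfl⟩
  rw [Subgroup.coe_mul, Subgroup.coe_mul, map_mul, map_mul]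
  exact congrArg Subtype.val (hPc.is_comm.comm ⟨_, ha⟩ ⟨_, hb⟩)

theorem nilpotent_commutative (hG : IsMinSimpleOddOrder G) {M N : Subgroup G} (hM : IsCoatom M) (hNM : N ≤ M)
    (hN : Group.IsNilpotent N) (hσ : ∀ q : ℕ, q.Prime → q ∣ Nat.card N → q ∉ Cfsg.sigma M) :
    IsMulCommutative N := by
  have hcent : ∀ (q : ℕ) [Fact q.Prime], q ∣ Nat.card N → ∀ S : Subgroup G, IsSylowIn q N S →
      N ≤ Subgroup.centralizer (S : Set G) := by
    intro q hqF hqd S hS
    refine le_of_sylows fun r hr hrd => ?_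
    haveI := Fact.mk hr
    by_cases hrq : r = q
    · subst hrq
      exact ⟨S, hS, Subgroup.le_centralizer_iff_isMulCommutative.mpr
        (pGroup_commutative hG hM hS.isPGroup (hS.1.trans hNM) (hσ r hr hrd))⟩
    · obtain ⟨R, hR⟩ := exists_sylowIn (q := r) N
      exact ⟨R, hR, le_centralizer_of_isNilpotent hN hR.1 hS.1 (coprime_of_pGroups hrq hR.isPGroup hS.isPGroup)⟩
  refine Subgroup.le_centralizer_iff_isMulCommutative.mp (le_of_sylows fun q hq hqd => ?_)
  haveI := Fact.mk hq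
  obtain ⟨S, hS⟩ := exists_sylowIn (q := q) N
  exact ⟨S, hS, Subgroup.le_centralizer_iff.mp (hcent q hqd S hS)⟩

/-- BG 12.8(b). -/
theorem derived_compl_commutative (hG : IsMinSimpleOddOrder G) {M E : Subgroup G} (hM : IsCoatom M)
    (hE : IsComplIn E (Cfsg.sigmaCore M) M) : IsMulCommutative ↥⁅E, E⁆ := by
  haveI : Group.IsSolvable E := Basics.isSolvable_of_le hE.1 (isSolvable_of_ne_top hG hM.1)
  have hle : ⁅E, E⁆ ≤ E := Subgroup.commutator_le_self E
  refine nilpotent_commutative hG hM (hle.trans hE.1) ?_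
    fun q hq hd => compl_primes hG hM hE hq (hd.trans (Subgroup.card_dvd_of_le hle))
  have hrF : ∀ r : ℕ, r.Prime → ∀ X : Subgroup E, X ≤ Cfsg.pCore r E → IsElementaryAbelian r X →
      Nat.card X ≤ r ^ 2 := by
    intro r hr X _ hX
    haveI := Fact.mk hr
    rw [← Subgroup.card_map_of_injective E.subtype_injective (K := X)]
    rcases (isPGroup_of_exponent (p := r) hX.2).card_eq_or_dvd with e | e
    · rw [Subgroup.card_map_of_injective E.subtype_injective, e]
      exact Nat.one_le_pow _ _ hr.pos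
    refine card_le_of_pRankLE (pRankLE_two_of_not_mem_sigma hG hM (compl_primes hG hM hE hr
      (e.trans (Subgroup.card_subgroup_dvd_card X)))) ((Subgroup.map_subtype_le X).trans hE.1) (ea_map hX _)
  have h1 : ⁅E, E⁆ ≤ Cfsg.fittingOf E :=
    E.map_subtype_commutator ▸ Subgroup.map_mono (commutator_le_fittingSubgroup (odd_card_subgroup hG E) hrF)
  haveI := isNilpotent_fittingOf E
  exact Group.nilpotent_of_mulEquiv (Subgroup.subgroupOfEquivOfLe h1)

/-- BG 12.8(c). -/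
theorem normalizer_le_of_noncyclic (hG : IsMinSimpleOddOrder G) {M P : Subgroup G} (hM : IsCoatom M)
    (hps : p ∈ Cfsg.sigma M) (hP : IsPGroup p P) (hPM : P ≤ M) (hnc : ¬ IsCyclic P) :
    Subgroup.normalizer (P : Set G) ≤ M := by
  have hp2 : p ≠ 2 := prime_ne_two hG (hps.2.1.trans (Subgroup.card_subgroup_dvd_card M))
  obtain ⟨X, hX, hXc⟩ := exists_ea_two_of_not_isCyclic hp2 hP hnc
  have hd : p ^ 2 ∣ Nat.card X := by
    obtain ⟨n, hn⟩ := IsPGroup.iff_card.mp (isPGroup_of_exponent (p := p) hX.2)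
    rw [hn] at hXc ⊢
    refine pow_dvd_pow p ?_
    by_contra hlt
    exact absurd hXc (not_lt.mpr ((Nat.pow_le_pow_right hp.out.pos (by omega : n ≤ 1)).trans (pow_one p).le))
  obtain ⟨Y, hY⟩ := Sylow.exists_subgroup_card_pow_prime p hd
  set A := (Y.map X.subtype).map P.subtype with hA
  have hAP : A ≤ P := Subgroup.map_subtype_le _
  have hAe : IsElementaryAbelian p A := by
    refine ea_map ⟨⟨⟨fun a b => Subtype.ext ?_⟩⟩, fun a ha => ?_⟩ _
    · exact (ea_commute hX (Subgroup.map_subtype_le Y a.2) (Subgroup.map_subtype_le Y b.2)).eq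
    · exact hX.2 a (Subgroup.map_subtype_le Y ha)
  have hA2 : Nat.card A = p ^ 2 := by
    rw [hA, Subgroup.card_map_of_injective P.subtype_injective, Subgroup.card_map_of_injective X.subtype_injective, hY]
  have hCA := (two_elementary hG hM (hAP.trans hPM) hAe hA2).1
  have hP1 : P ≠ ⊥ := fun e => hnc (e ▸ (inferInstance : IsCyclic (⊥ : Subgroup G)))
  intro n hn
  obtain ⟨m, hm, c, hc, rfl⟩ := sigma_fusion hG hM hps hP hP1 hPM (g := n)
    ((Subgroup.mem_normalizer_iff_map_conj_eq.mp hn).le.trans hPM)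
  exact mul_mem hm (hCA (Subgroup.centralizer_le hAP hc))

/-- A subgroup of `M` of order prime to `σ(M)` is conjugate into a complement. -/
theorem exists_conj_le_compl (hG : IsMinSimpleOddOrder G) {M E K : Subgroup G} (hM : IsCoatom M)
    (hE : IsComplIn E (Cfsg.sigmaCore M) M) (hKM : K ≤ M)
    (hK : ∀ q : ℕ, q.Prime → q ∣ Nat.card K → q ∉ Cfsg.sigma M) :
    ∃ m ∈ M, MulAut.conj m • K ≤ E := by
  haveI : Group.IsSolvable M := isSolvable_of_ne_top hG hM.1
  have hidx : (E.subgroupOf M).index = Nat.card (Cfsg.sigmaCore M) := relIndex_left_of_isComplIn hE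
  have hH : (Nat.card (E.subgroupOf M)).Coprime (E.subgroupOf M).index := by
    rw [hidx, Basics.card_subgroupOf hE.1]
    exact Nat.coprime_of_dvd fun q hq h1 h2 => compl_primes hG hM hE hq h1 (piCoreOf_primes _ M hq h2)
  have hK' : (Nat.card (K.subgroupOf M)).Coprime (E.subgroupOf M).index := by
    rw [hidx, Basics.card_subgroupOf hKM]
    exact Nat.coprime_of_dvd fun q hq h1 h2 => hK q hq h1 (piCoreOf_primes _ M hq h2)
  obtain ⟨g, hg⟩ := Basics.exists_le_conj_hall hH hK'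
  refine ⟨((g⁻¹ : M) : G), (g⁻¹).2, ?_⟩
  rintro _ ⟨x, hx, rfl⟩
  obtain ⟨e, he, h1⟩ := hg (x := (⟨x, hKM hx⟩ : M)) hx
  have h2 : (g : G) * (e : G) * (g : G)⁻¹ = x := congrArg Subtype.val h1
  change ((g⁻¹ : M) : G) * x * (((g⁻¹ : M) : G))⁻¹ ∈ E
  rw [← h2, Subgroup.coe_inv,
    show (g : G)⁻¹ * ((g : G) * (e : G) * (g : G)⁻¹) * (g : G)⁻¹⁻¹ = (e : G) by group]
  exact he

/-- BG 12.9. -/
theorem tau2_element_unique (hG : IsMinSimpleOddOrder G) {M E : Subgroup G} (hM : IsCoatom M)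
    (hE : IsComplIn E (Cfsg.sigmaCore M) M) {x : G} (hxM : x ∈ M) (hx1 : x ≠ 1)
    (hτ : ∀ r : ℕ, r.Prime → r ∣ orderOf x → r ∈ Cfsg.tau2 M) (hx : x ∈ Cfsg.sigmaHat M) :
    Subgroup.centralizer ({x} : Set G) ≤ M ∧
      ∀ L : Subgroup G, IsCoatom L → Subgroup.centralizer ({x} : Set G) ≤ L → L = M := by
  obtain ⟨-, y, hy, hy1, hxy⟩ := hx
  obtain ⟨r, hr, hrd⟩ := Nat.exists_prime_and_dvd (fun e => hx1 (orderOf_eq_one_iff.mp e))
  haveI := Fact.mk hr
  obtain ⟨m, hm, hmE⟩ := exists_conj_le_compl hG hM hE (Subgroup.zpowers_le.mpr hxM)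
    (fun q hq hd => (hτ q hq (by rwa [Nat.card_zpowers] at hd)).2.1)
  obtain ⟨A, hAE, -, -, A₁, h⟩ := exists_ea_in_compl hG hM hE (hτ r hr hrd)
  set x' := m * x * m⁻¹ with hx'
  have hx'E : x' ∈ E := hmE ⟨x, Subgroup.mem_zpowers x, rfl⟩
  have hxA : x' ∈ Subgroup.centralizer (A : Set G) := h.tau2_element_mem hG hE hAE hx'E fun q hq hd => hτ q hq
    (by rwa [hx', ← MulAut.conj_apply, MulEquiv.orderOf_eq] at hd)
  set K := Subgroup.centralizer ({x} : Set G) with hKdef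
  have hK : K ≠ ⊤ := centralizer_ne_top hG rfl hx1
  set A' := A.map (MulAut.conj m⁻¹).toMonoidHom with hA'
  -- transport the hypothesis to the conjugate
  have hA'M : A' ≤ M := (Subgroup.map_mono h.le).trans (map_conj_eq_self (inv_mem hm)).le
  have hA'2 : Nat.card A' = r ^ 2 := by
    rw [hA', Subgroup.card_map_of_injective (MulAut.conj m⁻¹).injective, h.card]
  obtain ⟨A₂, h₂⟩ := exists_exc hG hM h.notσ hA'M (ea_map h.ea _) hA'2
  refine h₂.unique_of_fixed hG hK ?_ fun e => hy1 ?_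
  · rintro _ ⟨a, ha, rfl⟩
    rw [hKdef, Subgroup.mem_centralizer_singleton_iff]
    have h1 : a * x' = x' * a := Subgroup.mem_centralizer_iff.mp hxA a ha
    change m⁻¹ * a * m⁻¹⁻¹ * x = x * (m⁻¹ * a * m⁻¹⁻¹)
    calc m⁻¹ * a * m⁻¹⁻¹ * x = m⁻¹ * (a * x') * m := by rw [hx']; group
      _ = m⁻¹ * (x' * a) * m := by rw [h1]
      _ = _ := by rw [hx']; group
  · rw [← Subgroup.mem_bot, ← e]
    exact ⟨hy, Subgroup.mem_centralizer_singleton_iff.mpr hxy.symm⟩

end Cfsg.Agent.OddLocal
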