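import Cfsg.Agent.Lib.OddLocal.Tau2Abelian
import Cfsg.Agent.S1412

/-! Nonabelian `p`-subgroups lie in a unique maximal subgroup (BG 12.10). -/

set_option autoImplicit false
set_option linter.unusedSectionVars false
set_option linter.style.haveILetI false

namespace Cfsg.Agent.OddLocal

open scoped commutatorElement Pointwise
open Cfsg
open Basics (IsSylowIn)

universe u

variable {G : Type u} [Group G] [Finite G] {p : ℕ} [hp : Fact p.Prime]

/-- A Sylow subgroup of `G` inside a nilpotent `M_σ` is normal in `M`. -/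
theorem le_normalizer_of_nilpotent (hG : IsMinSimpleOddOrder G) {M : Subgroup G} (hM : IsCoatom M)
    (hps : p ∈ Cfsg.sigma M) (T : Sylow p G) (hTM : (T : Subgroup G) ≤ M)
    (hnil : Group.IsNilpotent (Cfsg.sigmaCore M)) : M ≤ Subgroup.normalizer ((T : Subgroup G) : Set G) := by
  have hle : (T : Subgroup G) ≤ Cfsg.sigmaCore M := pGroup_le_sigmaCore hG hM hps T.2 hTM
  set S := T.subtype hle with hS
  have hmap : (S : Subgroup (Cfsg.sigmaCore M)).map (Cfsg.sigmaCore M).subtype = (T : Subgroup G) := by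
    rw [hS, Sylow.coe_subtype, Subgroup.subgroupOf_map_subtype, inf_eq_left.mpr hle]
  rw [← hmap]
  haveI := hnil
  haveI : (S : Subgroup (Cfsg.sigmaCore M)).Normal :=
    Sylow.normal_of_normalizerCondition Group.normalizerCondition_of_isNilpotent S
  haveI : (S : Subgroup (Cfsg.sigmaCore M)).Characteristic := S.characteristic_of_normal inferInstance
  exact (le_normalizer_sigmaCore M).trans (normalizer_le_normalizer_map_characteristic _)

theorem nilpotent_sigmaCore_of_alpha (hG : IsMinSimpleOddOrder G) {M : Subgroup G} (hM : IsCoatom M)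
    (hα : ∀ r : ℕ, r.Prime → PRankLE r 2 M) : Group.IsNilpotent (Cfsg.sigmaCore M) := by
  have hσF : Cfsg.sigmaCore M ≤ Cfsg.fittingOf M := (sigmaCore_le_derived hG hM).trans
    (M.map_subtype_commutator ▸ Subgroup.map_mono (commutator_le_fitting_of_alpha hG hM hα))
  haveI := isNilpotent_fittingOf M
  exact Group.nilpotent_of_mulEquiv (Subgroup.subgroupOfEquivOfLe hσF)

theorem lineUnique_of_conj {M X : Subgroup G} {g : G} (hg : g ∈ M)
    (h : LineUnique M (X.map (MulAut.conj g).toMonoidHom)) : LineUnique M X := by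
  have key : ∀ {L : Subgroup G}, g ∈ Subgroup.normalizer (L : Set G) → Subgroup.normalizer (X : Set G) ≤ L →
      Subgroup.normalizer ((X.map (MulAut.conj g).toMonoidHom : Subgroup G) : Set G) ≤ L := by
    intro L hL hle
    rw [← Subgroup.map_equiv_normalizer_eq]
    exact (Subgroup.map_mono hle).trans (Subgroup.mem_normalizer_iff_map_conj_eq.mp hL).le
  have h1 : Subgroup.normalizer (X : Set G) ≤ M := by
    intro n hn
    have h2 : g * n * g⁻¹ ∈ Subgroup.normalizer ((X.map (MulAut.conj g).toMonoidHom : Subgroup G) : Set G) :=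
      Subgroup.le_normalizer_map _ ⟨n, hn, rfl⟩
    have h3 := mul_mem (mul_mem (inv_mem hg) (h.1 h2)) hg
    rwa [show g⁻¹ * (g * n * g⁻¹) * g = n by group] at h3
  refine ⟨h1, fun L hL hle => ?_⟩
  have hL' : L.map (MulAut.conj g).toMonoidHom = M :=
    h.2 _ (isCoatom_map_conj hL g) (by rw [← Subgroup.map_equiv_normalizer_eq]; exact Subgroup.map_mono hle)
  calc L = (L.map (MulAut.conj g).toMonoidHom).map (MulAut.conj g⁻¹).toMonoidHom := by
        rw [map_conj_map_conj, inv_mul_cancel, map_conj_one]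
    _ = M := by rw [hL', map_conj_eq_self (inv_mem hg)]

/-- Coprime generation by the centralizers of lines of a quotient by a central line acting trivially. -/
theorem le_of_lines_mod {Q Z K T : Subgroup G} (hQ : Nat.card Q = p ^ 3) (hZ : Nat.card Z = p) (hZQ : Z ≤ Q)
    (hQZ : Q ≤ Subgroup.centralizer (Z : Set G)) (hexp : ∀ x ∈ Q, x ^ p = 1)
    (hKZ : K ≤ Subgroup.centralizer (Z : Set G)) (hQK : Q ≤ Subgroup.normalizer (K : Set G))
    (hpK : ¬ p ∣ Nat.card K) (hZT : Z ≤ T)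
    (h : ∀ x ∈ Q, x ∉ Z → K ⊓ Subgroup.centralizer ({x} : Set G) ≤ T) : K ≤ T := by
  set H := Subgroup.centralizer (Z : Set G) with hH
  haveI : (Z.subgroupOf H).Normal := ⟨fun v hv u => by
    have h1 : (u : G) * v = v * u := (Subgroup.mem_centralizer_iff.mp u.2 v hv).symm
    change (u : G) * v * (u : G)⁻¹ ∈ Z
    rw [h1, mul_inv_cancel_right]
    exact hv⟩
  set π := QuotientGroup.mk' (Z.subgroupOf H) with hπ
  set A := (Q.subgroupOf H).map π with hA
  set Kb := (K.subgroupOf H).map π with hKb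
  have hA2 : Nat.card A = p ^ 2 := by
    have h1 := Basics.card_map_mk'_mul (Z.subgroupOf H) (Q.subgroupOf H)
    rw [(inf_eq_right.mpr (Subgroup.comap_mono (f := H.subtype) hZQ) :
        Q.subgroupOf H ⊓ Z.subgroupOf H = Z.subgroupOf H),
      Basics.card_subgroupOf hQZ,
      Basics.card_subgroupOf (hZQ.trans hQZ), hQ, hZ, pow_succ] at h1
    exact Nat.eq_of_mul_eq_mul_right hp.out.pos h1
  have hAe : IsElementaryAbelian p A := by
    refine ⟨IsPGroup.isMulCommutative_of_card_eq_prime_sq hA2, ?_⟩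
    rintro _ ⟨v, hv, rfl⟩
    rw [← map_pow, show v ^ p = 1 from Subtype.ext (hexp v hv), map_one]
  have hAK : A ≤ Subgroup.normalizer (Kb : Set (H ⧸ Z.subgroupOf H)) := by
    refine (Subgroup.map_mono ?_).trans (Subgroup.le_normalizer_map _)
    exact (Subgroup.comap_mono hQK).trans (Subgroup.subgroupOf_normalizer_eq hKZ).le
  have hpKb : ¬ p ∣ Nat.card Kb := fun e => hpK ((e.trans (Subgroup.card_map_dvd _ _)).trans
    (Basics.card_subgroupOf hKZ).dvd)
  have hmain : Kb ≤ (T.subgroupOf H).map π := by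
    refine le_of_lines hAe hA2 hAK hpKb fun X hXA hX => ?_
    obtain ⟨_, hx, hx1, hgen⟩ := exists_ne_one_of_card hX
    obtain ⟨v, hv, rfl⟩ := hXA hx
    have hvZ : (v : G) ∉ Z := fun e => hx1 ((QuotientGroup.eq_one_iff v).mpr e)
    rintro _ ⟨⟨w, hw, rfl⟩, hwc⟩
    refine ⟨w, h v hv hvZ ⟨hw, Subgroup.mem_centralizer_singleton_iff.mpr ?_⟩, rfl⟩
    have h1 : π v * π w = π w * π v :=
      Subgroup.mem_centralizer_iff.mp hwc _ (hgen ▸ Subgroup.mem_zpowers _)
    have h2 : π ⁅v, w⁆ = 1 := by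
      rw [map_commutatorElement]
      exact commutatorElement_eq_one_iff_mul_comm.mpr h1
    have h3 : ⁅(v : G), (w : G)⁆ ∈ Z ⊓ K := by
      refine ⟨(QuotientGroup.eq_one_iff ⁅v, w⁆).mp h2, ?_⟩
      rw [commutatorElement_def]
      have hw' : (w : G) ∈ K := hw
      change (v : G) * w * (v : G)⁻¹ * (w : G)⁻¹ ∈ K
      exact mul_mem ((Subgroup.mem_normalizer_iff.mp (hQK hv) w).mp hw') (inv_mem hw')
    rw [(Subgroup.disjoint_of_coprime_natCard (K := K) (H := Z)
      (by rw [hZ]; exact hp.out.coprime_iff_not_dvd.mpr hpK)).eq_bot, Subgroup.mem_bot] at h3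
    exact (commutatorElement_eq_one_iff_mul_comm.mp h3).symm
  intro k hk
  obtain ⟨t, ht, e⟩ := hmain ⟨⟨k, hKZ hk⟩, hk, rfl⟩
  have h1 : t⁻¹ * (⟨k, hKZ hk⟩ : H) ∈ Z.subgroupOf H := QuotientGroup.eq.mp e
  have h1' : (t : G)⁻¹ * k ∈ Z := h1
  have ht' : (t : G) ∈ T := ht
  have h2 := mul_mem ht' (hZT h1')
  rwa [mul_inv_cancel_left] at h2

section

variable {M L T₁ : Subgroup G} {z : G}

/-- The lines of `P₁` other than the central one, when the central one is not uniquely in `M`. -/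
theorem lines_unique_of_not (hG : IsMinSimpleOddOrder G) (hM : IsCoatom M) (T : Sylow p G)
    (hTM : (T : Subgroup G) ≤ M) (hnorm : ¬ M ≤ Subgroup.normalizer ((T : Subgroup G) : Set G))
    (hr : PRankLE p 2 (T : Subgroup G)) (hps : p ∈ Cfsg.sigma M)
    (hT₁ : T₁ ≤ (T : Subgroup G)) (hc : Nat.card T₁ = p ^ 3) (hexp : ∀ x ∈ T₁, x ^ p = 1)
    (hz : z ∈ T₁) (hzo : orderOf z = p) (hzc : T₁ ≤ Subgroup.centralizer ({z} : Set G))
    (hZ : ¬ LineUnique M (Subgroup.zpowers z)) :
    ∀ x ∈ T₁, x ∉ Subgroup.zpowers z → LineUnique M (Subgroup.zpowers x) := by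
  intro x hx hxZ
  have hz1 : z ≠ 1 := fun e => by rw [e, orderOf_one] at hzo; exact hp.out.one_lt.ne hzo
  set A := Subgroup.zpowers z ⊔ Subgroup.zpowers x with hA
  have hAT : A ≤ T₁ := sup_le (Subgroup.zpowers_le.mpr hz) (Subgroup.zpowers_le.mpr hx)
  have hAe : IsElementaryAbelian p A := by
    refine ea_sup_zpowers ⟨IsCyclic.isMulCommutative, ?_⟩ ?_ (hexp x hx)
    · rintro _ ⟨i, rfl⟩
      exact hexp _ (zpow_mem hz i)
    · rw [Subgroup.zpowers_eq_closure, Subgroup.centralizer_closure]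
      exact hzc hx
  have hlt : p < Nat.card A := by
    rw [← hzo, ← Nat.card_zpowers]
    exact Basics.card_lt_of_lt (lt_of_le_of_ne le_sup_left fun e =>
      hxZ (e.ge (Subgroup.mem_sup_right (Subgroup.mem_zpowers x))))
  have hA2 : Nat.card A = p ^ 2 := by
    have hle := card_le_of_pRankLE hr (hAT.trans hT₁) hAe
    obtain ⟨k, -, hk⟩ := (Nat.dvd_prime_pow hp.out).mp (hc ▸ Subgroup.card_dvd_of_le hAT)
    rw [hk] at hlt hle ⊢
    have h1 : 1 < k := (Nat.pow_lt_pow_iff_right hp.out.one_lt).mp ((pow_one p).symm ▸ hlt)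
    have h2 : k ≤ 2 := (Nat.pow_le_pow_iff_right hp.out.one_lt).mp hle
    rw [show k = 2 by omega]
  have hAlt : A < T₁ := lt_of_le_of_ne hAT fun e => by
    rw [e, hc] at hA2
    exact absurd (Nat.pow_right_injective hp.out.two_le hA2) (by norm_num)
  obtain ⟨y, hy, hyA⟩ := SetLike.exists_of_lt (lt_inf_normalizer_of_lt (T.2.to_le hT₁) hAlt)
  have hyx : y * x * y⁻¹ ≠ x := by
    intro e
    have hyc : y ∈ Subgroup.centralizer (A : Set G) := by
      rw [hA, Subgroup.zpowers_eq_closure, Subgroup.zpowers_eq_closure, ← Subgroup.closure_union,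
        Subgroup.centralizer_closure, Subgroup.mem_centralizer_iff]
      rintro v (rfl | rfl)
      · exact (Subgroup.mem_centralizer_singleton_iff.mp (hzc hy.1)).symm
      · exact (mul_inv_eq_iff_eq_mul.mp e).symm
    have hE := ea_sup_zpowers hAe hyc (hexp y hy.1)
    have hle := card_le_of_pRankLE hr (sup_le (hAT.trans hT₁) (Subgroup.zpowers_le.mpr (hT₁ hy.1))) hE
    exact hyA ((Subgroup.eq_of_le_of_card_ge le_sup_left (hle.trans hA2.ge)).ge
      (Subgroup.mem_sup_right (Subgroup.mem_zpowers y)))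
  obtain ⟨X, hXA, hX, hu⟩ : ∃ X : Subgroup G, X ≤ A ∧ Nat.card X = p ∧ LineUnique M X := by
    by_contra hcon
    push Not at hcon
    obtain ⟨-, -, hnil⟩ := (two_elementary hG hM ((hAT.trans hT₁).trans hTM) hAe hA2).2 hcon
    exact hnorm (le_normalizer_of_nilpotent hG hM hps T hTM hnil)
  have hXz : X ≠ Subgroup.zpowers z := fun e => hZ (e ▸ hu)
  obtain ⟨i, hi⟩ := exists_conj_line hAe hA2 (z := z) (Subgroup.mem_sup_left (Subgroup.mem_zpowers z)) hz1
    (e := x) (Subgroup.mem_sup_right (Subgroup.mem_zpowers x)) hy.2 (k := 1) (by rw [pow_one]; exact hexp y hy.1)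
    (mul_inv_eq_iff_eq_mul.mpr (Subgroup.mem_centralizer_singleton_iff.mp (hzc hy.1))) hyx hXA hX hXz
  exact lineUnique_of_conj (pow_mem (hTM (hT₁ hy.1)) i) (hi.symm ▸ hu)

/-- The rank two case. -/
theorem nonAb_false (hG : IsMinSimpleOddOrder G) (hM : IsCoatom M) (hL : IsCoatom L) (hne : L ≠ M)
    (T : Sylow p G) (hTM : (T : Subgroup G) ≤ M) (hTL : (T : Subgroup G) ≤ L)
    (hNM : Subgroup.normalizer ((T : Subgroup G) : Set G) ≤ M)
    (hNL : Subgroup.normalizer ((T : Subgroup G) : Set G) ≤ L)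
    (hr : PRankLE p 2 (T : Subgroup G)) (hpsM : p ∈ Cfsg.sigma M) (hpsL : p ∈ Cfsg.sigma L)
    (hT₁ : T₁ ≤ (T : Subgroup G)) (hc : Nat.card T₁ = p ^ 3) (hexp : ∀ x ∈ T₁, x ^ p = 1)
    (hz : z ∈ T₁) (hzo : orderOf z = p) (hzc : T₁ ≤ Subgroup.centralizer ({z} : Set G))
    (hZ : LineUnique M (Subgroup.zpowers z)) : False := by
  have hNT : ∀ {K : Subgroup G}, IsCoatom K → Subgroup.normalizer ((T : Subgroup G) : Set G) ≤ K →
      K ≤ Subgroup.normalizer ((T : Subgroup G) : Set G) → K = M ∧ K = L := fun hK hN hKN =>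
    ⟨(hK.le_iff.mp (hKN.trans hNM)).resolve_left hM.1 |>.symm,
      (hK.le_iff.mp (hKN.trans hNL)).resolve_left hL.1 |>.symm⟩
  have hnM : ¬ M ≤ Subgroup.normalizer ((T : Subgroup G) : Set G) := fun h => hne (hNT hM hNM h).2.symm
  have hnL : ¬ L ≤ Subgroup.normalizer ((T : Subgroup G) : Set G) := fun h => hne (hNT hL hNL h).1
  have hlu := lines_unique_of_not hG hL T hTL hnL hr hpsL hT₁ hc hexp hz hzo hzc
    fun h => hne (hZ.2 L hL h.1)
  set Z := Subgroup.zpowers z with hZdef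
  have hZc : Nat.card Z = p := by rw [Nat.card_zpowers, hzo]
  have hZ₁ : Z ≤ T₁ := Subgroup.zpowers_le.mpr hz
  -- a prime of rank three
  obtain ⟨r, hr', h3⟩ : ∃ r : ℕ, r.Prime ∧ ¬ PRankLE r 2 M := by
    by_contra hcon
    push Not at hcon
    exact hnM (le_normalizer_of_nilpotent hG hM hpsM T hTM (nilpotent_sigmaCore_of_alpha hG hM hcon))
  haveI := Fact.mk hr'
  obtain ⟨B, hBM, hB, hB3⟩ := exists_ea_three h3
  have hrσ := alpha_subset_sigma hG hM ⟨hr', h3⟩
  have hrp : r ≠ p := by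
    intro e
    subst e
    obtain ⟨g, hg⟩ := hB.2 |> fun h => (isPGroup_of_exponent h).exists_le_sylow
    obtain ⟨k, hk⟩ := MulAction.exists_smul_eq G g T
    have h1 : MulAut.conj k • B ≤ (T : Subgroup G) := by
      rw [← hk, Sylow.coe_subgroup_smul]
      exact Subgroup.pointwise_smul_le_pointwise_smul_iff.mpr hg
    have h2 := card_le_of_pRankLE hr h1 (ea_map hB _)
    rw [Basics.card_conj_smul] at h2
    omega
  have hp₁ : IsPGroup p T₁ := T.2.to_le hT₁
  haveI := hp₁.isNilpotent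
  have hsol : Group.IsSolvable T₁ := inferInstance
  have hpα : ¬ p ∣ Nat.card (Cfsg.alphaCore M) := by
    intro e
    obtain ⟨X, hXM, hX, hX3⟩ := exists_ea_three (piCoreOf_primes _ M hp.out e).2
    obtain ⟨S, hS⟩ := (isPGroup_of_exponent (p := p) hX.2).exists_le_sylow
    obtain ⟨k, hk⟩ := MulAction.exists_smul_eq G S T
    have h1 : MulAut.conj k • X ≤ (T : Subgroup G) := by
      rw [← hk, Sylow.coe_subgroup_smul]
      exact Subgroup.pointwise_smul_le_pointwise_smul_iff.mpr hS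
    have h2 := card_le_of_pRankLE hr h1 (ea_map hX _)
    rw [Basics.card_conj_smul] at h2
    omega
  obtain ⟨R, hR, hTR⟩ := Basics.exists_invariant_isSylowIn T₁ (Cfsg.alphaCore M)
    ((hT₁.trans hTM).trans (le_normalizer_alphaCore M)) (coprime_of_pGroup hp₁ hpα) (Or.inl hsol) r
  have hRM : R ≤ M := hR.1.trans (alphaCore_le M)
  have hpR : ¬ p ∣ Nat.card R := fun e => hpα (e.trans (Subgroup.card_dvd_of_le hR.1))
  have hBα : B ≤ Cfsg.alphaCore M := le_of_pGroup_hall (alphaCore_hall hG hM).1 (le_normalizer_alphaCore M) hBM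
    (isPGroup_of_exponent hB.2) ⟨hr', h3⟩
  obtain ⟨R₀, hR₀, hBR₀⟩ := exists_sylowIn_ge (isPGroup_of_exponent hB.2) hBα
  obtain ⟨k, hk, e⟩ := hR₀.exists_conj hR
  have hBR : MulAut.conj k • B ≤ R := e ▸ Subgroup.pointwise_smul_le_pointwise_smul_iff.mpr hBR₀
  have hB3' : r ^ 2 < Nat.card (MulAut.conj k • B : Subgroup G) := by rwa [Basics.card_conj_smul]
  -- one of the other lines
  obtain ⟨x₀, hx₀, hx₀Z⟩ := SetLike.exists_of_lt (lt_of_le_of_ne hZ₁ fun e => by
    rw [← e, hZc] at hc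
    exact absurd (Nat.pow_right_injective hp.out.two_le ((pow_one p).trans hc)) (by norm_num))
  have hx₀1 : x₀ ≠ 1 := fun e => hx₀Z (e ▸ one_mem _)
  -- `r ∉ σ(L)`
  have hrL : r ∉ Cfsg.sigma L := by
    intro hrL
    have h3L : ¬ PRankLE r 2 L := by
      obtain ⟨g, hg⟩ := exists_conj_ge hG hL hrL (isPGroup_of_exponent hB.2)
      intro h'
      have h1 : B.map (MulAut.conj g⁻¹).toMonoidHom ≤ L := by
        refine (Subgroup.map_mono hg).trans ?_
        rw [map_conj_map_conj, inv_mul_cancel, map_conj_one]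
      have h2 := card_le_of_pRankLE h' h1 (ea_map hB _)
      rw [Subgroup.card_map_of_injective (MulAut.conj g⁻¹).injective] at h2
      omega
    obtain ⟨g, hg⟩ := exists_conj_of_rank_three hG hM hL hrσ hrL h3L
    refine hne (conj_eq_of_centralizer_le hG hM hpsM (hp₁.to_le (Subgroup.zpowers_le.mpr hx₀))
      (fun e' => hx₀1 (Subgroup.zpowers_eq_bot.mp e')) (Subgroup.zpowers_le.mpr (hTM (hT₁ hx₀))) hg
      (Subgroup.zpowers_le.mpr (hTL (hT₁ hx₀)))
      ((Subgroup.centralizer_le_normalizer _).trans (hlu x₀ hx₀ hx₀Z).1))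
  have hcentL : ∀ x ∈ T₁, x ∉ Z → R ⊓ Subgroup.centralizer ({x} : Set G) ≤ L := fun x hx hxZ => by
    refine inf_le_right.trans ?_
    rw [← Subgroup.centralizer_closure, ← Subgroup.zpowers_eq_closure]
    exact (Subgroup.centralizer_le_normalizer _).trans (hlu x hx hxZ).1
  -- `Z` centralizes `R`
  have hRZ : R ≤ Subgroup.centralizer (Z : Set G) := by
    set A := Z ⊔ Subgroup.zpowers x₀ with hA
    have hAT : A ≤ T₁ := sup_le hZ₁ (Subgroup.zpowers_le.mpr hx₀)
    have hAe : IsElementaryAbelian p A := by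
      refine ea_sup_zpowers ⟨IsCyclic.isMulCommutative, ?_⟩ ?_ (hexp x₀ hx₀)
      · rintro _ ⟨i, rfl⟩
        exact hexp _ (zpow_mem hz i)
      · rw [hZdef, Subgroup.zpowers_eq_closure, Subgroup.centralizer_closure]
        exact hzc hx₀
    have hA2 : Nat.card A = p ^ 2 := by
      refine le_antisymm (card_le_of_pRankLE hr (hAT.trans hT₁) hAe) ?_
      obtain ⟨j, -, hj⟩ := (Nat.dvd_prime_pow hp.out).mp (hc ▸ Subgroup.card_dvd_of_le hAT)
      have hlt : Nat.card Z < Nat.card A := Basics.card_lt_of_lt (lt_of_le_of_ne le_sup_left fun e' =>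
        hx₀Z (e'.ge (Subgroup.mem_sup_right (Subgroup.mem_zpowers x₀))))
      rw [hZc, hj, ← pow_one p, ← pow_mul, one_mul] at hlt
      rw [hj]
      exact Nat.pow_le_pow_right hp.out.pos ((Nat.pow_lt_pow_iff_right hp.out.one_lt).mp hlt)
    refine le_of_lines hAe hA2 (hAT.trans hTR) hpR fun X hXA hX => ?_
    obtain ⟨x, hx, hx1, rfl⟩ := exists_ne_one_of_card hX
    by_cases hxZ : x ∈ Z
    · have hXZ : Subgroup.zpowers x = Z :=
        Subgroup.eq_of_le_of_card_ge (Subgroup.zpowers_le.mpr hxZ) (hZc.trans hX.symm).le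
      exact hXZ ▸ inf_le_right
    set U := R ⊓ Subgroup.centralizer (Subgroup.zpowers x : Set G) with hU
    have hUL : U ≤ L := by
      refine le_trans ?_ (hcentL x (hAT (hXA hx)) hxZ)
      rw [hU, Subgroup.zpowers_eq_closure, Subgroup.centralizer_closure]
    have hAX : A ≤ Subgroup.centralizer (Subgroup.zpowers x : Set G) :=
      (Subgroup.le_centralizer_iff_isMulCommutative.mpr hAe.1).trans (Subgroup.centralizer_le hXA)
    have hAU : A ≤ Subgroup.normalizer (U : Set G) :=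
      (le_inf (hAT.trans hTR) (hAX.trans Subgroup.le_normalizer)).trans le_normalizer_inf'
    have hUp : IsPGroup r U := hR.isPGroup.to_le inf_le_left
    have hAp : IsPGroup p A := hp₁.to_le hAT
    haveI := hAp.isNilpotent
    have hsolA : Group.IsSolvable A := inferInstance
    have hcopU : (Nat.card A).Coprime (Nat.card U) :=
      (coprime_of_pGroup hAp hpR).coprime_dvd_right (Subgroup.card_dvd_of_le inf_le_left)
    have hAL : A ≤ L := (hAT.trans hT₁).trans hTL
    have hb : ⁅U, A⁆ = ⊥ := by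
      refine le_bot_iff.mp ?_
      rw [← inf_sigmaCore_eq_bot hrL hUp]
      refine le_inf (Subgroup.le_normalizer_iff_commutator_le_left.mp hAU) ?_
      exact (Subgroup.commutator_mono le_rfl (pGroup_le_sigmaCore hG hL hpsL hAp hAL)).trans
        (Subgroup.le_normalizer_iff_commutator_le_right.mp (hUL.trans (le_normalizer_sigmaCore L)))
    exact (Subgroup.commutator_eq_bot_iff_le_centralizer.mp hb).trans (Subgroup.centralizer_le (SetLike.coe_subset_coe.mpr le_sup_left))
  have hRL : R ≤ L := le_of_lines_mod hc hZc hZ₁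
    (by rw [hZdef, Subgroup.zpowers_eq_closure, Subgroup.centralizer_closure]; exact hzc)
    hexp hRZ hTR hpR (hZ₁.trans (hT₁.trans hTL)) hcentL
  exact hne (eq_of_rank_three hG hM hL (ea_map hB _) hB3' (hBR.trans hRM) (hBR.trans hRL))

end

/-- BG 12.10. -/
theorem nonAb_inUniqueMaximal (hG : IsMinSimpleOddOrder G) {P : Subgroup G} (hP : IsPGroup p P)
    (hna : ¬ IsMulCommutative P) : Cfsg.InUniqueMaximal P := by
  obtain ⟨M, hM, hPM⟩ := exists_maximal_ge (pGroup_ne_top hG hP)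
  refine ⟨M, ⟨hM, hPM⟩, fun L ⟨hL, hPL⟩ => ?_⟩
  by_contra hne
  have hσ : ∀ {K U : Subgroup G}, IsCoatom K → IsPGroup p U → P ≤ U → U ≤ K →
      p ∈ Cfsg.sigma K ∧ Subgroup.normalizer (U : Set G) ≤ K := by
    intro K U hK hU hPU hUK
    have hUna : ¬ IsMulCommutative U := fun h => hna (Subgroup.le_centralizer_iff_isMulCommutative.mp
      (hPU.trans ((Subgroup.le_centralizer_iff_isMulCommutative.mpr h).trans (Subgroup.centralizer_le hPU))))
    have hs : p ∈ Cfsg.sigma K := by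
      by_contra hs
      exact hUna (pGroup_commutative hG hK hU hUK hs)
    exact ⟨hs, normalizer_le_of_noncyclic hG hK hs hU hUK fun _ => hUna IsCyclic.isMulCommutative⟩
  obtain ⟨U, hPU, ⟨hU, hUM, hUL⟩, hmax⟩ := Finite.exists_le_maximal
    (p := fun V : Subgroup G => IsPGroup p V ∧ V ≤ M ∧ V ≤ L) ⟨hP, hPM, hPL⟩
  obtain ⟨hpsM, hNM⟩ := hσ hM hU hPU hUM
  obtain ⟨hpsL, hNL⟩ := hσ hL hU hPU hUL
  obtain ⟨T, hUT⟩ := hU.exists_le_sylow
  obtain rfl : U = (T : Subgroup G) := by
    by_contra hne'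
    have hlt := lt_inf_normalizer_of_lt T.2 (lt_of_le_of_ne hUT hne')
    exact hlt.not_ge (hmax ⟨T.2.to_le inf_le_left, inf_le_right.trans hNM, inf_le_right.trans hNL⟩ hlt.le)
  have hTna : ¬ IsMulCommutative (T : Subgroup G) := fun h => hna (Subgroup.le_centralizer_iff_isMulCommutative.mp
    (hPU.trans ((Subgroup.le_centralizer_iff_isMulCommutative.mpr h).trans (Subgroup.centralizer_le hPU))))
  by_cases hr : PRankLE p 2 (T : Subgroup G)
  swap
  · obtain ⟨X, hXT, hX, hX3⟩ := exists_ea_three hr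
    exact hne (eq_of_rank_three hG hM hL hX hX3 (hXT.trans hUM) (hXT.trans hUL))
  rcases S1412.result hG p T hr with hab | ⟨T₁, T₂, hsup, hcomm, -, hc, hexp, -, hω⟩
  · exact hTna hab
  have hT₁ : T₁ ≤ (T : Subgroup G) := hsup ▸ le_sup_left
  have hexp' : ∀ x ∈ T₁, x ^ p = 1 := fun x hx =>
    congrArg Subtype.val (hexp ▸ Monoid.pow_exponent_eq_one (⟨x, hx⟩ : T₁))
  have hT₁1 : T₁ ≠ ⊥ := fun e => by
    rw [e, Subgroup.card_bot] at hc
    exact (Nat.one_lt_pow (by norm_num) hp.out.one_lt).ne hc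
  obtain ⟨z, hz, hzo, hzc⟩ := exists_central_mem (T.2.to_le hT₁) le_rfl Subgroup.le_normalizer hT₁1
  by_cases h1 : LineUnique M (Subgroup.zpowers z)
  · exact nonAb_false hG hM hL hne T hUM hUL hNM hNL hr hpsM hpsL hT₁ hc hexp' hz hzo hzc h1
  by_cases h2 : LineUnique L (Subgroup.zpowers z)
  · exact nonAb_false hG hL hM (Ne.symm hne) T hUL hUM hNL hNM hr hpsL hpsM hT₁ hc hexp' hz hzo hzc h2
  have hnM : ¬ M ≤ Subgroup.normalizer ((T : Subgroup G) : Set G) := fun h =>
    hne ((hM.le_iff.mp (h.trans hNL)).resolve_left hL.1)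
  have hnL : ¬ L ≤ Subgroup.normalizer ((T : Subgroup G) : Set G) := fun h =>
    hne ((hL.le_iff.mp (h.trans hNM)).resolve_left hM.1).symm
  obtain ⟨x, hx, hxZ⟩ := SetLike.exists_of_lt (lt_of_le_of_ne (Subgroup.zpowers_le.mpr hz) fun e => by
    rw [← e, Nat.card_zpowers, hzo] at hc
    exact absurd (Nat.pow_right_injective hp.out.two_le ((pow_one p).trans hc)) (by norm_num))
  exact hne ((lines_unique_of_not hG hM T hUM hnM hr hpsM hT₁ hc hexp' hz hzo hzc h1 x hx hxZ).2 L hL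
    (lines_unique_of_not hG hL T hUL hnL hr hpsL hT₁ hc hexp' hz hzo hzc h2 x hx hxZ).1)

end Cfsg.Agent.OddLocal
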