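import Cfsg.Agent.Lib.OddLocal.SigmaElement
import Cfsg.Agent.S1424

/-! Conjugacy of `σ(M)`-subgroups into `M_σ` (BG 12.15, 12.16). -/

set_option autoImplicit false
set_option linter.unusedSectionVars false
set_option linter.style.haveILetI false

namespace Cfsg.Agent.OddLocal

open scoped commutatorElement Pointwise
open Cfsg
open Basics (IsSylowIn)

universe u

variable {G : Type u} [Group G] [Finite G] {p : ℕ} [hp : Fact p.Prime]

/-- A complement to `M_σ` exists. -/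
theorem exists_compl (hG : IsMinSimpleOddOrder G) {M : Subgroup G} (hM : IsCoatom M) :
    ∃ E : Subgroup G, IsComplIn E (Cfsg.sigmaCore M) M := by
  set N := Cfsg.piCore (Cfsg.sigma M) ↥M with hN
  have hH := (sigmaCore_hall hG hM).1
  have hidx : (Cfsg.sigmaCore M).relIndex M = N.index := by
    rw [Subgroup.relIndex, Subgroup.subgroupOf, Cfsg.sigmaCore,
      Subgroup.comap_map_eq_self_of_injective M.subtype_injective]
  have hc : Nat.card (Cfsg.sigmaCore M) = Nat.card N := Subgroup.card_map_of_injective M.subtype_injective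
  have hcop : (Nat.card N).Coprime N.index := Nat.coprime_of_dvd fun q hq h1 h2 =>
    hH.2.2 q hq (hH.2.1 q hq (hc ▸ h1)) (hidx ▸ h2)
  haveI : N.Normal := by infer_instance
  obtain ⟨E, hE⟩ := Subgroup.exists_left_complement'_of_coprime hcop
  refine ⟨E.map M.subtype, Subgroup.map_subtype_le _, sigmaCore_le M, ?_, fun m hm => ?_⟩
  · rw [Cfsg.sigmaCore, ← Subgroup.map_inf _ _ _ M.subtype_injective, hE.disjoint.eq_bot, Subgroup.map_bot]
  · obtain ⟨⟨⟨e, he⟩, ⟨n, hn⟩⟩, h, -⟩ := hE.existsUnique ⟨m, hm⟩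
    exact ⟨e, ⟨e, he, rfl⟩, n, ⟨n, hn, rfl⟩, congrArg Subtype.val h.symm⟩

/-- For `p, r ∈ σ(M)` outside `β(M)` a `p`-subgroup of `M` centralizes a Sylow `r`-subgroup. -/
theorem exists_centralized_sylow (hG : IsMinSimpleOddOrder G) {M S : Subgroup G} (hM : IsCoatom M)
    (hps : p ∈ Cfsg.sigma M) (hpb : p ∉ Cfsg.beta M) {r : ℕ} [hr : Fact r.Prime] (hrs : r ∈ Cfsg.sigma M)
    (hrb : r ∉ Cfsg.beta M) (hrp : r ≠ p) (hS : IsPGroup p S) (hSM : S ≤ M) :
    ∃ R : Subgroup G, IsSylowIn r M R ∧ R ≤ Subgroup.centralizer (S : Set G) := by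
  set W := Cfsg.sigmaCore M with hW
  obtain ⟨-, hN⟩ := facts_of_not_beta hG hM hps.2.1 hpb
  have hSW : S ≤ W := pGroup_le_sigmaCore hG hM hps hS hSM
  obtain ⟨hNW, hWN, hcop, hpow⟩ := hN.mono (sigmaCore_le_derived hG hM)
  set N := (Cfsg.pPrimeCore p ↥(commutator ↥M)).map ((M.subtype).comp (commutator ↥M).subtype) ⊓ W with hNdef
  obtain ⟨R₀, hR₀⟩ := exists_sylowIn (q := r) M
  have hR₀N : R₀ ≤ N := by
    intro x hx
    have hxW := pGroup_le_sigmaCore hG hM hrs hR₀.isPGroup hR₀.1 hx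
    obtain ⟨n, hn⟩ := hpow x hxW
    have hc : (orderOf x).Coprime (p ^ n) := by
      obtain ⟨j, hj⟩ := hR₀.isPGroup ⟨x, hx⟩
      exact (((Nat.coprime_primes hr.out hp.out).mpr hrp).pow j n).coprime_dvd_left
        (orderOf_dvd_of_pow_eq_one (congrArg Subtype.val hj))
    obtain ⟨m, hm⟩ := exists_pow_eq_self_of_coprime hc.symm
    rw [← hm]
    exact pow_mem hn m
  have hR₀N' : IsSylowIn r N R₀ := by
    refine ⟨hR₀N, le_antisymm ?_ ?_⟩
    · obtain ⟨j, hj⟩ := IsPGroup.iff_card.mp hR₀.isPGroup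
      rw [hj]
      exact Nat.pow_le_pow_right hr.out.pos ((hr.out.pow_dvd_iff_le_factorization Nat.card_pos.ne').mp
        (hj ▸ Subgroup.card_dvd_of_le hR₀N))
    · rw [hR₀.2]
      exact Nat.pow_le_pow_right hr.out.pos ((Nat.factorization_le_iff_dvd Nat.card_pos.ne' Nat.card_pos.ne').mpr
        (Subgroup.card_dvd_of_le (hNW.trans (sigmaCore_le M))) r)
  have hcopS : (Nat.card S).Coprime (Nat.card N) := coprime_of_pGroup hS (hp.out.coprime_iff_not_dvd.mp hcop.symm)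
  haveI := hS.isNilpotent
  have hsolS : Group.IsSolvable S := inferInstance
  obtain ⟨R, hR, hSR⟩ := Basics.exists_invariant_isSylowIn S N (hSW.trans hWN) hcopS (Or.inl hsolS) r
  obtain ⟨k, hk, e⟩ := hR₀N'.exists_conj hR
  have hRM : IsSylowIn r M R := e ▸ hR₀.conj_smul (Subgroup.le_normalizer (sigmaCore_le M (hNW hk)))
  refine ⟨R, hRM, Subgroup.le_centralizer_iff.mp ?_⟩
  haveI := hRM.isPGroup.isNilpotent
  refine le_centralizer_of_commutator_le hG hM hrb hRM.isPGroup (Subgroup.commutator_mono hRM.1 hSM)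
    (hSW.trans (sigmaCore_le_derived hG hM)) ?_ hSR inferInstance
  intro hd
  obtain ⟨j, hj⟩ := IsPGroup.iff_card.mp hS
  exact hrp ((Nat.prime_dvd_prime_iff_eq hr.out hp.out).mp (hr.out.dvd_of_dvd_pow (hj ▸ hd)))

/-- For `r ∉ σ(L)` some Sylow `r`-subgroup of `L` lies in `M`. -/
theorem exists_sylow_le_off (hG : IsMinSimpleOddOrder G) {M L X S : Subgroup G} (hM : IsCoatom M) (hL : IsCoatom L)
    (hps : p ∈ Cfsg.sigma M) (hS : IsSylowIn p L S) (hX1 : X ≠ ⊥) (hXS : X ≤ S)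
    (hNX : Subgroup.normalizer (X : Set G) ≤ L) (hNS : Subgroup.normalizer (S : Set G) ≤ M)
    {r : ℕ} [hrF : Fact r.Prime] (hrL : r ∉ Cfsg.sigma L) : ∃ R : Subgroup G, IsSylowIn r L R ∧ R ≤ M := by
  have hSM : S ≤ M := Subgroup.le_normalizer.trans hNS
  have hS1 : S ≠ ⊥ := fun e => hX1 (le_bot_iff.mp (e ▸ hXS))
  have hpS : p ∣ Nat.card L := (hS.isPGroup.card_eq_or_dvd.resolve_left
    fun e => hS1 (Subgroup.card_eq_one.mp e)).trans (Subgroup.card_dvd_of_le hS.1)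
  by_cases hpL : p ∈ Cfsg.sigma L
  · obtain ⟨R₀, hR₀⟩ := exists_sylowIn (q := r) L
    haveI := hR₀.isPGroup.isNilpotent
    have hsol : Group.IsSolvable R₀ := inferInstance
    have hR₀n : R₀ ≤ Subgroup.normalizer (Cfsg.sigmaCore L : Set G) := hR₀.1.trans (le_normalizer_sigmaCore L)
    obtain ⟨S', hS', hRS'⟩ := Basics.exists_invariant_isSylowIn R₀ (Cfsg.sigmaCore L) hR₀n
      (coprime_of_pGroup hR₀.isPGroup (not_dvd_sigmaCore hrF.out hrL)) (Or.inl hsol) p
    have hSσ : S ≤ Cfsg.sigmaCore L := pGroup_le_sigmaCore hG hL hpL hS.isPGroup hS.1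
    have hS'' : IsSylowIn p (Cfsg.sigmaCore L) S := by
      refine ⟨hSσ, le_antisymm ?_ ?_⟩
      · obtain ⟨j, hj⟩ := IsPGroup.iff_card.mp hS.isPGroup
        rw [hj]
        exact Nat.pow_le_pow_right hp.out.pos ((hp.out.pow_dvd_iff_le_factorization Nat.card_pos.ne').mp
          (hj ▸ Subgroup.card_dvd_of_le hSσ))
      · rw [hS.2]
        exact Nat.pow_le_pow_right hp.out.pos ((Nat.factorization_le_iff_dvd Nat.card_pos.ne' Nat.card_pos.ne').mpr
          (Subgroup.card_dvd_of_le (sigmaCore_le L)) p)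
    obtain ⟨k, hk, e⟩ := hS'.exists_conj hS''
    refine ⟨MulAut.conj k • R₀, hR₀.conj_smul (Subgroup.le_normalizer (sigmaCore_le L hk)), le_trans ?_ hNS⟩
    rw [← e, Basics.normalizer_conj_smul]
    exact Subgroup.pointwise_smul_le_pointwise_smul_iff.mpr hRS'
  -- `p ∈ τ₂(L)`
  have hp2 : p ≠ 2 := prime_ne_two hG (hpS.trans (Subgroup.card_subgroup_dvd_card L))
  have h1 : ¬ PRankLE p 1 L := by
    intro h1
    have hc := isCyclic_of_pRankLE_one hp2 h1 hS.1 hS.isPGroup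
    have hNSX : Subgroup.normalizer (S : Set G) ≤ Subgroup.normalizer (X : Set G) := fun n hn =>
      Subgroup.mem_normalizer_iff_map_conj_eq.mpr (eq_of_le_cyclic hc
        ((Subgroup.map_mono hXS).trans (Subgroup.mem_normalizer_iff_map_conj_eq.mp hn).le) hXS
        (Subgroup.card_map_of_injective (MulAut.conj n).injective))
    obtain ⟨S₀, hS₀⟩ := hS.exists_sylow
    exact hpL ⟨hp.out, hpS, S₀, by rw [hS₀]; exact hNSX.trans hNX⟩
  obtain ⟨A₀, hA₀L, hA₀, hA₀c⟩ := exists_ea_of_not_pRankLE_one h1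
  have hA₀2 := ea_card_eq_sq (pRankLE_two_of_not_mem_sigma hG hL hpL) hA₀ hA₀L hA₀c
  obtain ⟨S₁, hS₁, hA₀S⟩ := exists_sylowIn_ge (isPGroup_of_exponent hA₀.2) hA₀L
  obtain ⟨k, hk, ek⟩ := hS₁.exists_conj hS
  set A := MulAut.conj k • A₀ with hA
  have hAS : A ≤ S := ek ▸ Subgroup.pointwise_smul_le_pointwise_smul_iff.mpr hA₀S
  have hAe : IsElementaryAbelian p A := ea_map hA₀ _
  have hA2 : Nat.card A = p ^ 2 := by rw [hA, Basics.card_conj_smul, hA₀2]
  have hAL : A ≤ L := hAS.trans hS.1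
  have hAM : A ≤ M := hAS.trans hSM
  obtain ⟨A₁, h⟩ := exists_exc hG hL hpL hAL hAe hA2
  have hnc : ¬ IsCyclic A := fun hc => by
    obtain ⟨g, hg⟩ := hc.exists_generator
    have h1' : Nat.card A = orderOf g := (orderOf_eq_card_of_forall_mem_zpowers hg).symm
    have h2 : orderOf g ∣ p := orderOf_dvd_of_pow_eq_one (Subtype.ext (hAe.2 g g.2))
    have := Nat.le_of_dvd hp.out.pos h2
    have := hp.out.two_le
    nlinarith
  have hNA : Subgroup.normalizer (A : Set G) ≤ M :=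
    normalizer_le_of_noncyclic hG hM hps (isPGroup_of_exponent hAe.2) hAM hnc
  obtain ⟨E, hE⟩ := exists_compl hG hL
  obtain ⟨m, hm, hAE⟩ := exists_conj_le_compl hG hL hE hAL fun q hq hd => by
    rw [hA2] at hd
    exact (Nat.prime_dvd_prime_iff_eq hq hp.out).mp (hq.dvd_of_dvd_pow hd) ▸ hpL
  obtain ⟨A₂, h'⟩ := exists_exc hG hL hpL (hAE.trans hE.1) (ea_map hAe _)
    (by rw [Basics.card_conj_smul, hA2])
  obtain ⟨R, hR⟩ := exists_sylowIn (q := r) E
  refine ⟨MulAut.conj m⁻¹ • R, (compl_sylow hE hrL hR).conj_smul (Subgroup.le_normalizer (inv_mem hm)),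
    le_trans ?_ hNA⟩
  have hn : R ≤ Subgroup.normalizer ((MulAut.conj m • A : Subgroup G) : Set G) :=
    hR.1.trans (h'.compl_le_normalizer hG hE hAE)
  have e : A = MulAut.conj m⁻¹ • (MulAut.conj m • A) := by
    rw [← mul_smul, ← map_mul, inv_mul_cancel, map_one, one_smul]
  rw [e, Basics.normalizer_conj_smul]
  exact Subgroup.pointwise_smul_le_pointwise_smul_iff.mpr hn

/-- BG 12.15: the index of `M ∩ M*` in `M*` is prime to `σ(M)`. -/
theorem sigma_index (hG : IsMinSimpleOddOrder G) {M L X S : Subgroup G} (hM : IsCoatom M) (hL : IsCoatom L)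
    (hne : L ≠ M) (hconj : ∀ g : G, L ≠ M.map (MulAut.conj g).toMonoidHom) (hps : p ∈ Cfsg.sigma M)
    (hS : IsSylowIn p L S) (hX1 : X ≠ ⊥) (hXS : X ≤ S) (hNX : Subgroup.normalizer (X : Set G) ≤ L)
    (hNS : Subgroup.normalizer (S : Set G) ≤ M) :
    ∀ r : ℕ, r.Prime → r ∈ Cfsg.sigma M → ¬ r ∣ (M ⊓ L).relIndex L := by
  have hSM : S ≤ M := Subgroup.le_normalizer.trans hNS
  have hS1 : S ≠ ⊥ := fun e => hX1 (le_bot_iff.mp (e ▸ hXS))
  have hnoconj : ∀ r : ℕ, [Fact r.Prime] → r ∈ Cfsg.sigma M → r ∈ Cfsg.sigma L → PRankLE r 2 M ∧ PRankLE r 2 L := by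
    intro r _ hrM hrL
    refine ⟨?_, ?_⟩
    · by_contra h3
      obtain ⟨g, hg⟩ := exists_conj_of_rank_three hG hL hM hrL hrM h3
      refine hconj g⁻¹ ?_
      rw [hg, map_conj_map_conj, inv_mul_cancel, map_conj_one]
    · by_contra h3
      obtain ⟨g, hg⟩ := exists_conj_of_rank_three hG hM hL hrM hrL h3
      exact hconj g hg
  suffices key : ∀ (r : ℕ) [Fact r.Prime], r ∈ Cfsg.sigma M → r ∣ Nat.card L →
      ∃ R : Subgroup G, IsSylowIn r L R ∧ R ≤ M by
    intro r hr hrs hd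
    haveI := Fact.mk hr
    obtain ⟨R, hR, hRM⟩ := key r hrs (hd.trans ((Subgroup.relIndex_dvd_card _ _)))
    obtain ⟨R₀, hR₀⟩ := hR.exists_sylow
    refine R₀.not_dvd_index ?_
    have h1 : R.relIndex (M ⊓ L) * (M ⊓ L).relIndex L = R.relIndex L :=
      Subgroup.relIndex_mul_relIndex _ _ _ (le_inf hRM hR.1) inf_le_right
    have h2 := hd.trans (Dvd.intro_left _ h1)
    rwa [← hR₀, Subgroup.relIndex, Subgroup.subgroupOf,
      Subgroup.comap_map_eq_self_of_injective L.subtype_injective] at h2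
  intro r hrF hrs hrd
  by_cases hrp : r = p
  · subst hrp
    exact ⟨S, hS, hSM⟩
  have hpS : p ∣ Nat.card L := (hS.isPGroup.card_eq_or_dvd.resolve_left
    fun e => hS1 (Subgroup.card_eq_one.mp e)).trans (Subgroup.card_dvd_of_le hS.1)
  by_cases hpL : p ∈ Cfsg.sigma L
  · obtain ⟨hp3M, hp3L⟩ := hnoconj p hps hpL
    by_cases hrL : r ∈ Cfsg.sigma L
    · obtain ⟨-, hr3L⟩ := hnoconj r hrs hrL
      obtain ⟨R, hR, hRc⟩ := exists_centralized_sylow hG hL hpL (fun h => h.1.2 hp3L) hrL (fun h => h.1.2 hr3L)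
        hrp hS.isPGroup hS.1
      exact ⟨R, hR, (hRc.trans (Subgroup.centralizer_le_normalizer _)).trans hNS⟩
    exact exists_sylow_le_off hG hM hL hps hS hX1 hXS hNX hNS hrL
  -- `p ∈ τ₂(L)`
  have hp2 : p ≠ 2 := prime_ne_two hG (hpS.trans (Subgroup.card_subgroup_dvd_card L))
  have h1 : ¬ PRankLE p 1 L := by
    intro h1
    have hc := isCyclic_of_pRankLE_one hp2 h1 hS.1 hS.isPGroup
    have hNSX : Subgroup.normalizer (S : Set G) ≤ Subgroup.normalizer (X : Set G) := fun n hn =>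
      Subgroup.mem_normalizer_iff_map_conj_eq.mpr (eq_of_le_cyclic hc
        ((Subgroup.map_mono hXS).trans (Subgroup.mem_normalizer_iff_map_conj_eq.mp hn).le) hXS
        (Subgroup.card_map_of_injective (MulAut.conj n).injective))
    obtain ⟨S₀, hS₀⟩ := hS.exists_sylow
    exact hpL ⟨hp.out, hpS, S₀, by rw [hS₀]; exact hNSX.trans hNX⟩
  obtain ⟨A₀, hA₀L, hA₀, hA₀c⟩ := exists_ea_of_not_pRankLE_one h1
  have hA₀2 := ea_card_eq_sq (pRankLE_two_of_not_mem_sigma hG hL hpL) hA₀ hA₀L hA₀c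
  obtain ⟨S₁, hS₁, hA₀S⟩ := exists_sylowIn_ge (isPGroup_of_exponent hA₀.2) hA₀L
  obtain ⟨k, hk, ek⟩ := hS₁.exists_conj hS
  set A := MulAut.conj k • A₀ with hA
  have hAS : A ≤ S := ek ▸ Subgroup.pointwise_smul_le_pointwise_smul_iff.mpr hA₀S
  have hAe : IsElementaryAbelian p A := ea_map hA₀ _
  have hA2 : Nat.card A = p ^ 2 := by rw [hA, Basics.card_conj_smul, hA₀2]
  have hAL : A ≤ L := hAS.trans hS.1
  have hAM : A ≤ M := hAS.trans hSM
  obtain ⟨A₁, h⟩ := exists_exc hG hL hpL hAL hAe hA2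
  have hnc : ¬ IsCyclic A := fun hc => by
    obtain ⟨g, hg⟩ := hc.exists_generator
    have h1' : Nat.card A = orderOf g := (orderOf_eq_card_of_forall_mem_zpowers hg).symm
    have h2 : orderOf g ∣ p := orderOf_dvd_of_pow_eq_one (Subtype.ext (hAe.2 g g.2))
    have := Nat.le_of_dvd hp.out.pos h2
    have := hp.out.two_le
    nlinarith
  have hNA : Subgroup.normalizer (A : Set G) ≤ M :=
    normalizer_le_of_noncyclic hG hM hps (isPGroup_of_exponent hAe.2) hAM hnc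
  by_cases hrL : r ∈ Cfsg.sigma L
  · exfalso
    obtain ⟨hr3M, -⟩ := hnoconj r hrs hrL
    have hpb : p ∉ Cfsg.beta M := fun hb => by
      obtain ⟨T, hAT⟩ := (isPGroup_of_exponent hAe.2).exists_le_sylow
      obtain ⟨B, -, hB, hlt⟩ := hb.2.2.2 T A hAT hAe hA2
      have hBL : B ≤ L := ((Subgroup.le_centralizer_iff_isMulCommutative.mpr hB.1).trans
        (Subgroup.centralizer_le hlt.le)).trans h.centralizer_le
      have h3 := card_le_of_pRankLE (pRankLE_two_of_not_mem_sigma hG hL hpL) hBL hB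
      have h4 := Basics.card_lt_of_lt hlt
      omega
    obtain ⟨R, hR, hRc⟩ := exists_centralized_sylow hG hM hps hpb hrs (fun hb => hb.1.2 hr3M) hrp
      (isPGroup_of_exponent hAe.2) hAM
    have hRL : R ≤ L := hRc.trans h.centralizer_le
    have hR0 : R = ⊥ := le_bot_iff.mp (le_trans
      (le_inf (pGroup_le_sigmaCore hG hL hrL hR.isPGroup hRL) hR.1) (h.inf_maximal hG hM hne.symm hAM).le)
    have h5 := hR.2
    rw [hR0, Subgroup.card_bot] at h5
    exact (Nat.one_lt_pow (hrF.out.factorization_pos_of_dvd Nat.card_pos.ne' hrs.2.1).ne' hrF.out.one_lt).ne h5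
  exact exists_sylow_le_off hG hM hL hps hS hX1 hXS hNX hNS hrL

/-- BG 12.16. -/
theorem exists_conj_le_sigmaCore (hG : IsMinSimpleOddOrder G) {M Y : Subgroup G} (hM : IsCoatom M) (hY1 : Y ≠ ⊥)
    (hY : ∀ q : ℕ, q.Prime → q ∣ Nat.card Y → q ∈ Cfsg.sigma M) :
    ∃ g : G, Y.map (MulAut.conj g).toMonoidHom ≤ Cfsg.sigmaCore M := by
  have hYtop : Y ≠ ⊤ := fun e => by
    have htop : Cfsg.sigmaCore M = ⊤ := by
      refine Subgroup.index_eq_one.mp (Nat.eq_one_iff_not_exists_prime_dvd.mpr fun q hq hd => ?_)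
      refine (sigmaCore_hall hG hM).2.2 q hq (hY q hq ?_) hd
      rw [e, Subgroup.card_top]
      exact hd.trans (Subgroup.index_dvd_card _)
    exact hM.1 (top_le_iff.mp (htop ▸ sigmaCore_le M))
  haveI : Nontrivial Y := (Subgroup.nontrivial_iff_ne_bot Y).mpr hY1
  have hsolY : Group.IsSolvable Y := isSolvable_of_ne_top hG hYtop
  obtain ⟨q, X₀, hq, hX₀n, -, hX₀1, -, hX₀e⟩ := Basics.exists_elementary_normal (G := Y) (N := ⊤) top_ne_bot
    (Group.isSolvable_of_surjective (f := (Subgroup.topEquiv (G := Y)).symm.toMonoidHom)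
      (Subgroup.topEquiv (G := Y)).symm.surjective)
  haveI := Fact.mk hq
  set X := X₀.map Y.subtype with hX
  have hXY : X ≤ Y := Subgroup.map_subtype_le _
  have hXp : IsPGroup q X := (isPGroup_of_exponent hX₀e).map _
  have hX1 : X ≠ ⊥ := fun e => hX₀1 ((Subgroup.map_eq_bot_iff_of_injective _ Y.subtype_injective).mp e)
  have hYX : Y ≤ Subgroup.normalizer (X : Set G) := by
    haveI := hX₀n
    exact le_normalizer_map_subtype X₀
  have hqσ : q ∈ Cfsg.sigma M := hY q hq ((hXp.card_eq_or_dvd.resolve_left fun e => hX1 (Subgroup.card_eq_one.mp e)).trans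
    (Subgroup.card_dvd_of_le hXY))
  obtain ⟨g, hg⟩ := exists_conj_ge hG hM hqσ hXp
  set Y' := Y.map (MulAut.conj g⁻¹).toMonoidHom with hY'
  set X' := X.map (MulAut.conj g⁻¹).toMonoidHom with hX'
  have hX'M : X' ≤ M := by
    refine (Subgroup.map_mono hg).trans ?_
    rw [map_conj_map_conj, inv_mul_cancel, map_conj_one]
  have hY'p : ∀ r : ℕ, r.Prime → r ∣ Nat.card Y' → r ∈ Cfsg.sigma M := fun r hr hd =>
    hY r hr (by rwa [hY', Subgroup.card_map_of_injective (MulAut.conj g⁻¹).injective] at hd)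
  have hX'p : IsPGroup q X' := hXp.map _
  have hX'1 : X' ≠ ⊥ := fun e => hX1 ((Subgroup.map_eq_bot_iff_of_injective _ (MulAut.conj g⁻¹).injective).mp e)
  have hY'X : Y' ≤ Subgroup.normalizer (X' : Set G) := (Subgroup.map_mono hYX).trans (Subgroup.le_normalizer_map _)
  suffices ∃ m : G, Y'.map (MulAut.conj m).toMonoidHom ≤ M by
    obtain ⟨m, hm⟩ := this
    refine ⟨m * g⁻¹, ?_⟩
    rw [← map_conj_map_conj, ← hY']
    refine le_of_sylows fun r hr hd => ?_
    haveI := Fact.mk hr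
    obtain ⟨U, hU⟩ := exists_sylowIn (q := r) (Y'.map (MulAut.conj m).toMonoidHom)
    exact ⟨U, hU, pGroup_le_sigmaCore hG hM
      (hY'p r hr (by rwa [Subgroup.card_map_of_injective (MulAut.conj m).injective] at hd)) hU.isPGroup (hU.1.trans hm)⟩
  obtain ⟨L, hL, hNL⟩ := exists_maximal_ge (normalizer_ne_top hG hX'1 (pGroup_ne_top hG hX'p))
  by_cases hne : L = M
  · exact ⟨1, by rw [map_conj_one]; exact (hY'X.trans hNL).trans hne.le⟩
  have hconj : ∀ k : G, L ≠ M.map (MulAut.conj k).toMonoidHom := fun k hk => hne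
    (conj_eq_of_centralizer_le hG hM hqσ hX'p hX'1 hX'M hk (Subgroup.le_normalizer.trans hNL)
      ((Subgroup.centralizer_le_normalizer _).trans hNL))
  obtain ⟨S, hS, hX'S⟩ := exists_sylowIn_ge hX'p (le_inf hX'M (Subgroup.le_normalizer.trans hNL) : X' ≤ M ⊓ L)
  obtain ⟨S₀, hS₀⟩ := hS.exists_sylow
  obtain ⟨-, hNS, hSd⟩ := S1424.result hG M hM q hqσ X' hX'p hX'1 hX'M L hL hne hNL S₀ (hS₀.symm ▸ hX'S)
  rw [hS₀] at hNS hSd
  have hSL : IsSylowIn q L S := by
    refine ⟨hS.1.trans inf_le_right, ?_⟩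
    have h1 : S.relIndex L * Nat.card S = Nat.card L := by
      rw [← Subgroup.relIndex_bot_left, mul_comm, Subgroup.relIndex_mul_relIndex _ _ _ bot_le (hS.1.trans inf_le_right),
        Subgroup.relIndex_bot_left]
    obtain ⟨j, hj⟩ := IsPGroup.iff_card.mp hS.isPGroup
    rw [← h1, Nat.factorization_mul (show S.relIndex L ≠ 0 from Subgroup.index_ne_zero_of_finite) Nat.card_pos.ne', Finsupp.add_apply,
      Nat.factorization_eq_zero_of_not_dvd hSd, zero_add, hj, hq.factorization_pow, Finsupp.single_eq_same]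
  have hidx := sigma_index hG hM hL hne hconj hqσ hSL hX'1 hX'S hNL hNS
  haveI : Group.IsSolvable L := isSolvable_of_ne_top hG hL.1
  haveI : Group.IsSolvable ↥(M ⊓ L) := Basics.isSolvable_of_le inf_le_right (isSolvable_of_ne_top hG hL.1)
  obtain ⟨H₀, -, hH₀⟩ := Basics.exists_hall_pi (G := ↥(M ⊓ L)) (Cfsg.sigma M)
  set H := H₀.map (M ⊓ L).subtype with hH
  have hHD : H ≤ M ⊓ L := Subgroup.map_subtype_le _
  have hHc : Nat.card H = Nat.card H₀ := Subgroup.card_map_of_injective (M ⊓ L).subtype_injective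
  have hHi : ∀ r : ℕ, r.Prime → r ∣ H.relIndex L → r ∉ Cfsg.sigma M := by
    intro r hr hd hrs
    rw [← Subgroup.relIndex_mul_relIndex _ _ _ hHD inf_le_right] at hd
    rcases (Nat.Prime.dvd_mul hr).mp hd with h1 | h1
    · rw [hH, Subgroup.relIndex, Subgroup.subgroupOf,
        Subgroup.comap_map_eq_self_of_injective (M ⊓ L).subtype_injective] at h1
      exact (hH₀ r hr (h1.trans (Subgroup.index_dvd_card _))).2.mp h1 hrs
    · exact hidx r hr hrs h1
  have hHp : ∀ r : ℕ, r.Prime → r ∣ Nat.card H → r ∈ Cfsg.sigma M := fun r hr hd =>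
    (hH₀ r hr ((hHc ▸ hd).trans (Subgroup.card_subgroup_dvd_card _))).1.mp (hHc ▸ hd)
  have hHL : H ≤ L := hHD.trans inf_le_right
  have hY'L : Y' ≤ L := hY'X.trans hNL
  obtain ⟨c, hc⟩ := Basics.exists_le_conj_hall (G := L) (H := H.subgroupOf L) (K := Y'.subgroupOf L)
    (Nat.coprime_of_dvd fun r hr h1 h2 => hHi r hr h2 (hHp r hr (by rwa [Basics.card_subgroupOf hHL] at h1)))
    (Nat.coprime_of_dvd fun r hr h1 h2 => hHi r hr h2 (hY'p r hr (by rwa [Basics.card_subgroupOf hY'L] at h1)))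
  refine ⟨((c⁻¹ : L) : G), ?_⟩
  rintro _ ⟨y, hy, rfl⟩
  obtain ⟨h0, hh0, e⟩ := hc (x := (⟨y, hY'L hy⟩ : L)) hy
  have e' : (c : G) * (h0 : G) * (c : G)⁻¹ = y := congrArg Subtype.val e
  change ((c⁻¹ : L) : G) * y * (((c⁻¹ : L) : G))⁻¹ ∈ M
  rw [← e', Subgroup.coe_inv, show (c : G)⁻¹ * ((c : G) * (h0 : G) * (c : G)⁻¹) * (c : G)⁻¹⁻¹ = (h0 : G) by group]
  exact (hHD hh0).1

end Cfsg.Agent.OddLocal
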