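import Cfsg.Agent.Lib.OddLocal.ComplStructure
import Cfsg.Agent.Lib.OddLocal.Pencil
import Cfsg.Agent.S1411
import Cfsg.Agent.Lib.OddLocal.SigmaConj

/-! The abelian normal subgroup of `E` holding the `τ₂(M)`-elements with fixed points on `M_σ` (BG 12.12(a)). -/

set_option autoImplicit false
set_option linter.unusedSectionVars false
set_option linter.style.haveILetI false

namespace Cfsg.Agent.OddLocal

open scoped commutatorElement Pointwise
open Cfsg
open Basics (IsSylowIn)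

universe u

variable {G : Type u} [Group G] [Finite G] {p : ℕ} [hp : Fact p.Prime]

theorem derived_le_centralizer_of_cyclic {Q : Subgroup G} (hQ : IsCyclic Q) :
    ⁅Subgroup.normalizer (Q : Set G), Subgroup.normalizer (Q : Set G)⁆ ≤ Subgroup.centralizer (Q : Set G) :=
  Subgroup.commutator_le.mpr fun _ hx _ hy => Subgroup.mem_centralizer_iff.mpr fun _ hc =>
    (commute_of_normalizes_cyclic hQ hx hy hc).eq.symm

/-- A normal `q`-subgroup lies in each Sylow `q`-subgroup. -/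
theorem le_sylowIn_of_normalized {q : ℕ} [Fact q.Prime] {E Q R : Subgroup G} (hQ : IsPGroup q Q) (hQE : Q ≤ E)
    (hEQ : E ≤ Subgroup.normalizer (Q : Set G)) (hR : IsSylowIn q E R) : Q ≤ R := by
  have h1 : IsPGroup q (Q ⊔ R : Subgroup G) := IsPGroup.to_sup_of_normal_left' hQ hR.isPGroup (hR.1.trans hEQ)
  exact le_sup_left.trans (hR.eq_of_le h1 (sup_le hQE hR.1) le_sup_right).le

/-- An abelian normal subgroup has normal Sylow subgroups. -/
theorem le_normalizer_sylowIn {q : ℕ} [Fact q.Prime] {E D Q : Subgroup G} (hD : IsMulCommutative D)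
    (hED : E ≤ Subgroup.normalizer (D : Set G)) (hQ : IsSylowIn q D Q) : E ≤ Subgroup.normalizer (Q : Set G) := by
  intro e he
  rw [← Basics.conj_smul_eq_self_iff]
  obtain ⟨k, hk, ek⟩ := hQ.exists_conj (hQ.conj_smul (hED he))
  rw [← ek, Basics.conj_smul_eq_self_iff]
  exact Subgroup.centralizer_le_normalizer _ (Subgroup.centralizer_le hQ.1
    ((Subgroup.le_centralizer_iff_isMulCommutative.mpr hD) hk))

/-- For `r ∈ τ₂(M)` with abelian Sylow subgroups in `G` the Sylow `r`-subgroup of `E` is normal in `E`. -/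
theorem tau2_sylow_normal (hG : IsMinSimpleOddOrder G) {M E : Subgroup G} (hM : IsCoatom M)
    (hE : IsComplIn E (Cfsg.sigmaCore M) M) {r : ℕ} [hr : Fact r.Prime] (hτ : r ∈ Cfsg.tau2 M)
    (hab : ∀ S : Sylow r G, IsMulCommutative (S : Subgroup G)) {R : Subgroup G} (hR : IsSylowIn r E R) :
    E ≤ Subgroup.normalizer (R : Set G) := by
  obtain ⟨B, hBE, hB, hB2, B₁, h⟩ := exists_ea_in_compl hG hM hE hτ
  have hrs : r ∉ Cfsg.sigma M := hτ.2.1
  have hBR := h.le_sylow_compl hG hE hBE hR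
  have hRM := compl_sylow hE hrs hR
  obtain ⟨T, hRT⟩ := hR.isPGroup.exists_le_sylow
  have hTR := h.sylow_eq_of_abelian hRM hBR hab hRT
  have hNRB : Subgroup.normalizer (R : Set G) ≤ Subgroup.normalizer (B : Set G) := h.normalizer_le hG hRM hBR
  obtain ⟨H, hH, hNB⟩ := exists_maximal_ge (normalizer_ne_top hG h.ne_bot
    (fun e => h.max.1 (top_le_iff.mp (e ▸ h.le))))
  have hEB := h.compl_le_normalizer hG hE hBE
  have hEH : E ≤ H := hEB.trans hNB
  have hRH : R ≤ H := hR.1.trans hEH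
  have hRder : R ≤ ⁅H, H⁆ := by
    have hTH : (T : Subgroup G) ≤ H := hTR ▸ hRH
    have hrσ : r ∈ Cfsg.sigma H := by
      refine ⟨hr.out, (hB2 ▸ dvd_pow_self r two_ne_zero).trans (Subgroup.card_dvd_of_le ((hBR).trans hRH)),
        T.subtype hTH, ?_⟩
      rw [Sylow.coe_subtype, Subgroup.subgroupOf_map_subtype, inf_eq_left.mpr hTH, hTR]
      exact hNRB.trans hNB
    exact (pGroup_le_sigmaCore hG hH hrσ hR.isPGroup hRH).trans (sigmaCore_le_derived hG hH)
  set D := ⁅E, E⁆ with hD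
  have hDE : D ≤ E := Subgroup.commutator_le_self E
  have hDc := derived_compl_commutative hG hM hE
  have hED : E ≤ Subgroup.normalizer (D : Set G) := by
    intro e he
    rw [← Basics.conj_smul_eq_self_iff, hD]
    change (⁅E, E⁆).map (MulAut.conj e).toMonoidHom = ⁅E, E⁆
    rw [Subgroup.map_commutator, map_conj_eq_self he]
  -- `R` centralizes the Sylow `q`-subgroups of `E'` for `q ≠ r`
  have key : ∀ q : ℕ, q.Prime → q ∣ Nat.card D → ∃ Q : Subgroup G, IsSylowIn q D Q ∧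
      Q ≤ Subgroup.normalizer (R : Set G) := by
    intro q hq hqD
    haveI := Fact.mk hq
    obtain ⟨Q, hQ⟩ := exists_sylowIn (q := q) D
    refine ⟨Q, hQ, ?_⟩
    have hEQ := le_normalizer_sylowIn hDc hED hQ
    have hQE : Q ≤ E := hQ.1.trans hDE
    rcases eq_or_ne q r with rfl | hqr
    · exact (le_sylowIn_of_normalized hQ.isPGroup hQE hEQ hR).trans Subgroup.le_normalizer
    refine le_trans ?_ (Subgroup.centralizer_le_normalizer _)
    rw [Subgroup.le_centralizer_iff]
    have hqs : q ∉ Cfsg.sigma M := compl_primes hG hM hE hq (hqD.trans (Subgroup.card_dvd_of_le hDE))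
    have hrQ : ¬ q ∣ Nat.card R := fun e => by
      obtain ⟨k, hk⟩ := IsPGroup.iff_card.mp hR.isPGroup
      exact hqr ((Nat.prime_dvd_prime_iff_eq hq hr.out).mp (hq.dvd_of_dvd_pow (hk ▸ e)))
    by_cases h1 : PRankLE q 1 M
    · -- `q` of rank one: the Sylow subgroup is cyclic and normal in `N(B)`
      have hq2 : q ≠ 2 := prime_ne_two hG (hqD.trans (Subgroup.card_subgroup_dvd_card D))
      obtain ⟨Q₀, hQ₀⟩ := exists_sylowIn (q := q) E
      have hQ₀D := sylow_le_derived_of_rank_one hG hE.1 h1 hqD hQ₀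
      have hQeq : Q₀ = Q := by
        obtain ⟨S, hS, hQ₀S⟩ := exists_sylowIn_ge hQ₀.isPGroup hQ₀D
        obtain ⟨k, hk, ek⟩ := hS.exists_conj hQ
        have hle : Q ≤ Q₀ := le_sylowIn_of_normalized hQ.isPGroup hQE hEQ hQ₀
        exact hQ.eq_of_le hQ₀.isPGroup hQ₀D hle
      subst hQeq
      haveI hQc : IsCyclic Q₀ := isCyclic_of_pRankLE_one hq2 h1 (hQE.trans hE.1) hQ₀.isPGroup
      have hcop : Q₀ ⊓ B = ⊥ := by
        rw [← Subgroup.card_eq_one]
        obtain ⟨k, hk⟩ := IsPGroup.iff_card.mp hQ₀.isPGroup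
        refine Nat.eq_one_of_dvd_coprimes (a := q ^ k) (b := r ^ 2)
          (Nat.Coprime.pow _ _ ((Nat.coprime_primes hq hr.out).mpr hqr)) ?_ ?_
        · exact hk ▸ Subgroup.card_dvd_of_le inf_le_left
        · exact hB2 ▸ Subgroup.card_dvd_of_le inf_le_right
      have hQB : Q₀ ≤ Subgroup.centralizer (B : Set G) := by
        rw [← Subgroup.commutator_eq_bot_iff_le_centralizer, eq_bot_iff, ← hcop]
        refine le_inf (Subgroup.commutator_le.mpr fun a ha b hb => ?_)
          (Subgroup.commutator_le.mpr fun a ha b hb => ?_)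
        · rw [commutatorElement_def, mul_assoc a b, mul_assoc a]
          exact mul_mem ha ((Subgroup.mem_normalizer_iff.mp (hEQ (hBE hb)) a⁻¹).mp (inv_mem ha))
        · rw [commutatorElement_def]
          exact mul_mem ((Subgroup.mem_normalizer_iff.mp (hEB (hQE ha)) b).mp hb) (inv_mem hb)
      have hNQ : Subgroup.normalizer (B : Set G) ≤ Subgroup.normalizer (Q₀ : Set G) := by
        intro g hg
        rw [← Basics.conj_smul_eq_self_iff]
        have hgQE : MulAut.conj g • Q₀ ≤ E := by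
          refine le_trans ?_ (h.inf_normalizer_eq hG hE hBE).le
          rintro _ ⟨a, ha, rfl⟩
          have hmem : g * a * g⁻¹ ∈ Subgroup.centralizer (B : Set G) := by
            rw [Subgroup.mem_centralizer_iff]
            intro b hb
            have hb' : g⁻¹ * b * g ∈ B := (Subgroup.mem_normalizer_iff''.mp hg b).mp hb
            have := Subgroup.mem_centralizer_iff.mp (hQB ha) _ hb'
            calc b * (g * a * g⁻¹) = g * ((g⁻¹ * b * g) * a) * g⁻¹ := by group
              _ = g * (a * (g⁻¹ * b * g)) * g⁻¹ := by rw [this]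
              _ = g * a * g⁻¹ * b := by group
          exact ⟨h.centralizer_le hmem, Subgroup.centralizer_le_normalizer _ hmem⟩
        have hp' : IsPGroup q (MulAut.conj g • Q₀ : Subgroup G) := hQ₀.isPGroup.map _
        have h2 : MulAut.conj g • Q₀ ≤ Q₀ :=
          le_sup_right.trans (hQ₀.eq_of_le (IsPGroup.to_sup_of_normal_left' hQ₀.isPGroup hp' (hgQE.trans hEQ))
            (sup_le hQE hgQE) le_sup_left).le
        exact Subgroup.eq_of_le_of_card_ge h2 (Basics.card_conj_smul g Q₀).ge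
      obtain ⟨V, hV, -⟩ := exists_complement_normalizer T
      have hT' := (S1411.result hG r T V hV).2
      rw [hTR] at hT'
      exact hT'.trans ((Subgroup.commutator_mono (hNRB.trans hNQ) (hNRB.trans hNQ)).trans
        (derived_le_centralizer_of_cyclic hQc))
    · -- `q ∈ τ₂(M)`
      have hqb : q ∉ Cfsg.beta H := fun hb => not_isIdealPrime_of_not_sigma hG hM hqs h1 hb.2
      exact le_centralizer_of_commutator_le hG hH hqb hQ.isPGroup
        (Subgroup.commutator_mono (hQE.trans hEH) hRH) hRder hrQ (hR.1.trans hEQ)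
        (Basics.isSolvable_of_le (hQE.trans hE.1) (isSolvable_of_ne_top hG hM.1))
  have hDR : D ≤ Subgroup.normalizer (R : Set G) :=
    le_of_sylows fun q hq hd => key q hq hd
  intro e he
  rw [← Basics.conj_smul_eq_self_iff]
  have heR : MulAut.conj e • R ≤ Subgroup.normalizer (R : Set G) := by
    rintro _ ⟨a, ha, rfl⟩
    have h1 : ⁅e, a⁆ ∈ Subgroup.normalizer (R : Set G) :=
      hDR (Subgroup.commutator_mem_commutator he (hR.1 ha))
    have h2 := mul_mem h1 (Subgroup.le_normalizer ha)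
    rw [commutatorElement_def, inv_mul_cancel_right] at h2
    exact h2
  have hp' : IsPGroup r (MulAut.conj e • R : Subgroup G) := hR.isPGroup.map _
  have hle : MulAut.conj e • R ≤ E := (hR.conj_smul (Subgroup.le_normalizer he)).1
  have h2 : MulAut.conj e • R ≤ R :=
    le_sup_right.trans (hR.eq_of_le (IsPGroup.to_sup_of_normal_left' hR.isPGroup hp' heR)
      (sup_le hR.1 hle) le_sup_left).le
  exact Subgroup.eq_of_le_of_card_ge h2 (Basics.card_conj_smul e R).ge

/-- `τ₂(M)`-elements of `E` with fixed points on `M_σ` when the Sylow `p`-subgroups of `G` are nonabelian. -/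
theorem Exc.nonAb_fixed_mem {M A A₀ E : Subgroup G} (h : Exc p M A A₀) (hG : IsMinSimpleOddOrder G)
    (hna : ∀ S : Sylow p G, ¬ IsMulCommutative (S : Subgroup G))
    (hE : IsComplIn E (Cfsg.sigmaCore M) M) (hAE : A ≤ E) {x : G} (hxE : x ∈ E) (hx1 : x ≠ 1)
    (hτ : ∀ r : ℕ, r.Prime → r ∣ orderOf x → r ∈ Cfsg.tau2 M) (hx : x ∈ Cfsg.sigmaHat M) : x ∈ A₀ := by
  obtain ⟨-, y, hy, hy1, hxy⟩ := hx
  have hcom : x ∈ Subgroup.centralizer (A : Set G) := h.tau2_element_mem hG hE hAE hxE hτ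
  have hxp : ∀ r : ℕ, r.Prime → r ∣ orderOf x → r = p := fun r hr hd =>
    h.nonAb_tau2 hG hna hE hAE (hτ r hr hd)
  obtain ⟨k, hk⟩ : ∃ k, orderOf x = p ^ k := ⟨_, Nat.eq_prime_pow_of_unique_prime_dvd (orderOf_pos x).ne'
    fun {d} hd hdx => hxp d hd hdx⟩
  obtain ⟨j, rfl⟩ : ∃ j, k = j + 1 := ⟨k - 1, by
    rcases Nat.eq_zero_or_pos k with rfl | h0
    · exact absurd (orderOf_eq_one_iff.mp (by rw [hk, pow_zero])) hx1
    · omega⟩
  have hline : ∀ z : G, z ∈ E → orderOf z = p → z * y = y * z → Subgroup.zpowers z = A₀ := by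
    intro z hzE hzo hzy
    have hc : Nat.card (Subgroup.zpowers z) = p := by rw [Nat.card_zpowers, hzo]
    by_contra hne
    have h0 := (h.nonAb_line hG hna (h.le_of_card_prime hG hE hAE (Subgroup.zpowers_le.mpr hzE) hc) hc hne).1
    refine hy1 ((Subgroup.mem_bot).mp (h0 ▸ ?_))
    refine ⟨hy, ?_⟩
    rw [Subgroup.zpowers_eq_closure, Subgroup.centralizer_closure]
    exact Subgroup.mem_centralizer_singleton_iff.mpr hzy.symm
  have hpow : ∀ i, i ≤ j + 1 → orderOf (x ^ p ^ i) = p ^ (j + 1 - i) := fun i hi => by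
    rw [orderOf_pow_of_dvd (pow_ne_zero _ hp.out.ne_zero) (by rw [hk]; exact pow_dvd_pow p hi), hk,
      Nat.pow_div hi hp.out.pos]
  have htop : Subgroup.zpowers (x ^ p ^ j) = A₀ := hline _ (pow_mem hxE _)
    (by rw [hpow j (Nat.le_succ j), Nat.add_sub_cancel_left, pow_one]) ((Commute.pow_left hxy _).eq)
  rcases Nat.eq_zero_or_pos j with rfl | hj
  · rw [pow_zero, pow_one] at htop
    exact htop ▸ Subgroup.mem_zpowers x
  exfalso
  set w := x ^ p ^ (j - 1) with hw
  have hwp : w ^ p = x ^ p ^ j := by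
    rw [hw, ← pow_mul, ← pow_succ, Nat.sub_add_cancel hj]
  have hwA : w ∈ Subgroup.centralizer (A : Set G) := pow_mem hcom _
  -- a Sylow subgroup containing `A` and `w`
  have hwG : IsPGroup p (Subgroup.zpowers w) := IsPGroup.of_card (n := j + 1 - (j - 1))
    (by rw [Nat.card_zpowers, hpow _ (by omega)])
  have hAw : IsPGroup p (A ⊔ Subgroup.zpowers w : Subgroup G) :=
    IsPGroup.to_sup_of_normal_left' h.isPGroup hwG
      (Subgroup.zpowers_le.mpr (Subgroup.centralizer_le_normalizer _ hwA))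
  obtain ⟨T, hT⟩ := hAw.exists_le_sylow
  obtain ⟨a, haA, ha1, ha⟩ := exists_ne_one_of_card h.line_card
  have hAT : A ≤ (T : Subgroup G) := le_sup_left.trans hT
  have hnc : ¬ (T : Subgroup G) ≤ Subgroup.centralizer ({a} : Set G) := fun hle => hna T <| by
    have hTM : (T : Subgroup G) ≤ M := by
      refine hle.trans (le_trans (fun g hg => ?_) h.line_norm)
      rw [← Subgroup.centralizer_closure, ← Subgroup.zpowers_eq_closure, ha] at hg
      exact Subgroup.centralizer_le_normalizer _ hg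
    obtain ⟨P, hP, hTP⟩ := exists_sylowIn_ge T.2 hTM
    have := h.sylow_abelian hG hP (hAT.trans hTP)
    exact ⟨⟨fun u v => Subtype.ext
      (by simpa using congrArg Subtype.val (this.is_comm.comm ⟨u, hTP u.2⟩ ⟨v, hTP v.2⟩))⟩⟩
  have hmax : ∀ z ∈ Subgroup.centralizer (A : Set G), z ^ p = 1 → z ∈ A := by
    intro z hz hzp
    have hzG : IsPGroup p (Subgroup.zpowers z) := by
      refine isPGroup_of_exponent (fun g hg => ?_)
      obtain ⟨i, rfl⟩ := hg
      rw [← zpow_natCast, ← zpow_mul, mul_comm, zpow_mul, zpow_natCast, hzp, one_zpow]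
    have hAz : IsPGroup p (A ⊔ Subgroup.zpowers z : Subgroup G) :=
      IsPGroup.to_sup_of_normal_left' h.isPGroup hzG
        (Subgroup.zpowers_le.mpr (Subgroup.centralizer_le_normalizer _ hz))
    obtain ⟨P, hP, hle⟩ := exists_sylowIn_ge hAz
      (sup_le h.le (Subgroup.zpowers_le.mpr (h.centralizer_le hz)))
    exact h.omega_sylow hG hP (le_sup_left.trans hle) (hle (Subgroup.mem_sup_right (Subgroup.mem_zpowers z))) hzp
  have h1 := pow_eq_one_of_root hG T (hna T) hAT h.ea h.card hmax (h.line_le haA) hnc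
    (hT (Subgroup.mem_sup_right (Subgroup.mem_zpowers w)))
    (Subgroup.mem_centralizer_iff.mp hwA a (h.line_le haA)).symm (by rw [hwp, ha, ← htop]; exact Subgroup.mem_zpowers _)
  have h2 := hpow j (Nat.le_succ j)
  rw [← hwp, h1, orderOf_one, Nat.add_sub_cancel_left, pow_one] at h2
  exact hp.out.one_lt.ne h2

omit hp in
/-- BG 12.12(a), for `τ₂(M)`-elements. -/
theorem exists_tau2_core (hG : IsMinSimpleOddOrder G) {M E : Subgroup G} (hM : IsCoatom M)
    (hE : IsComplIn E (Cfsg.sigmaCore M) M) :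
    ∃ A₀ : Subgroup G, A₀ ≤ E ∧ E ≤ Subgroup.normalizer (A₀ : Set G) ∧ IsMulCommutative A₀ ∧
      ∀ x ∈ E, x ≠ 1 → (∀ r : ℕ, r.Prime → r ∣ orderOf x → r ∈ Cfsg.tau2 M) → x ∈ Cfsg.sigmaHat M → x ∈ A₀ := by
  classical
  by_cases hna : ∃ q ∈ Cfsg.tau2 M, ∃ S : Sylow q G, ¬ IsMulCommutative (S : Subgroup G)
  · obtain ⟨q, hq, S₀, hS₀⟩ := hna
    haveI := Fact.mk hq.1
    have hna : ∀ S : Sylow q G, ¬ IsMulCommutative (S : Subgroup G) := fun S hS =>
      hS₀ (sylow_commutative_of_one hS S₀)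
    obtain ⟨A, hAE, -, -, A₁, h⟩ := exists_ea_in_compl hG hM hE hq
    refine ⟨A₁, h.line_le.trans hAE, ?_, ?_, fun x hx hx1 hτ hxh => h.nonAb_fixed_mem hG hna hE hAE hx hx1 hτ hxh⟩
    · obtain ⟨T, P, Z, n, hdata⟩ := h.nonAb_data hG hna
      rw [← hdata.2.2.2.2.2.2.2.2.2.2.2.2.2]
      exact (le_inf (h.compl_le_normalizer hG hE hAE) (le_normalizer_centralizer
        (hE.1.trans (le_normalizer_sigmaCore M)))).trans le_normalizer_inf'
    · exact ⟨⟨fun a b => Subtype.ext (ea_commute h.ea (h.line_le a.2) (h.line_le b.2)).eq⟩⟩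
  · push Not at hna
    set s : Set G := {g | g ∈ E ∧ ∃ r, r ∈ Cfsg.tau2 M ∧ ∃ n : ℕ, g ^ r ^ n = 1} with hs
    have hsE : Subgroup.closure s ≤ E := (Subgroup.closure_le _).mpr fun g hg => hg.1
    have hmem : ∀ r : ℕ, r ∈ Cfsg.tau2 M → ∀ g ∈ E, ∀ n : ℕ, g ^ r ^ n = 1 →
        ∀ R : Subgroup G, IsSylowIn r E R → g ∈ R := by
      intro r hr g hg n hgn R hR
      haveI := Fact.mk hr.1
      have hN := tau2_sylow_normal hG hM hE hr (hna r hr) hR
      obtain ⟨i, hi, ho⟩ := (Nat.dvd_prime_pow hr.1).mp (orderOf_dvd_of_pow_eq_one hgn)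
      have hgG : IsPGroup r (Subgroup.zpowers g) := IsPGroup.of_card (n := i) (by rw [Nat.card_zpowers, ho])
      exact (hR.eq_of_le (IsPGroup.to_sup_of_normal_left' hR.isPGroup hgG
        (Subgroup.zpowers_le.mpr (hN hg))) (sup_le hR.1 (Subgroup.zpowers_le.mpr hg)) le_sup_left).le
          (Subgroup.mem_sup_right (Subgroup.mem_zpowers g))
    have hcomm : ∀ a ∈ s, ∀ b ∈ s, a * b = b * a := by
      rintro a ⟨ha, r, hr, n, han⟩ b ⟨hb, t, ht, m, hbm⟩
      haveI := Fact.mk hr.1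
      haveI := Fact.mk ht.1
      obtain ⟨R, hR⟩ := exists_sylowIn (q := r) E
      have haR := hmem r hr a ha n han R hR
      by_cases hrt : r = t
      · subst hrt
        have hRc := pGroup_commutative hG hM hR.isPGroup (hR.1.trans hE.1) hr.2.1
        exact congrArg Subtype.val (hRc.is_comm.comm ⟨a, haR⟩ ⟨b, hmem r hr b hb m hbm R hR⟩)
      obtain ⟨U, hU⟩ := exists_sylowIn (q := t) E
      have hbU := hmem t ht b hb m hbm U hU
      have hRU : R ⊓ U = ⊥ := by
        rw [← Subgroup.card_eq_one]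
        refine Nat.eq_one_of_dvd_coprimes (Nat.Coprime.pow (Nat.card E |>.factorization r)
          (Nat.card E |>.factorization t) ((Nat.coprime_primes hr.1 ht.1).mpr hrt)) ?_ ?_
        · rw [← hR.2]; exact Subgroup.card_dvd_of_le inf_le_left
        · rw [← hU.2]; exact Subgroup.card_dvd_of_le inf_le_right
      have h1 : ⁅a, b⁆ ∈ R ⊓ U := by
        refine ⟨?_, ?_⟩
        · rw [commutatorElement_def, mul_assoc a b, mul_assoc a]
          exact mul_mem haR ((Subgroup.mem_normalizer_iff.mp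
            (tau2_sylow_normal hG hM hE hr (hna r hr) hR hb) a⁻¹).mp (inv_mem haR))
        · rw [commutatorElement_def]
          exact U.mul_mem ((Subgroup.mem_normalizer_iff.mp
            (tau2_sylow_normal hG hM hE ht (hna t ht) hU ha) b).mp hbU) (U.inv_mem hbU)
      rw [hRU, Subgroup.mem_bot] at h1
      exact (commutatorElement_eq_one_iff_mul_comm.mp h1)
    refine ⟨Subgroup.closure s, hsE, ?_, Subgroup.isMulCommutative_closure hcomm, fun x hx _ hτ _ => ?_⟩
    · intro e he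
      rw [← Basics.conj_smul_eq_self_iff]
      change (Subgroup.closure s).map (MulAut.conj e).toMonoidHom = _
      rw [MonoidHom.map_closure]
      congr 1
      ext g
      constructor
      · rintro ⟨a, ⟨ha, r, hr, n, han⟩, rfl⟩
        refine ⟨mul_mem (mul_mem he ha) (inv_mem he), r, hr, n, ?_⟩
        rw [← map_pow, han, map_one]
      · rintro ⟨hg, r, hr, n, hgn⟩
        refine ⟨e⁻¹ * g * e, ⟨mul_mem (mul_mem (inv_mem he) hg) he, r, hr, n, ?_⟩, by simp [mul_assoc]⟩
        rw [show e⁻¹ * g * e = MulAut.conj e⁻¹ g by simp, ← map_pow, hgn, map_one]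
    · refine le_of_sylows (N := Subgroup.zpowers x) (fun r hr hd => ?_) (Subgroup.mem_zpowers x)
      haveI := Fact.mk hr
      rw [Nat.card_zpowers] at hd
      obtain ⟨U, hU⟩ := exists_sylowIn (q := r) (Subgroup.zpowers x)
      refine ⟨U, hU, fun u hu => Subgroup.subset_closure
        ⟨(Subgroup.zpowers_le.mpr hx) (hU.1 hu), r, hτ r hr hd, ?_⟩⟩
      obtain ⟨n, hn⟩ := hU.isPGroup ⟨u, hu⟩
      exact ⟨n, congrArg Subtype.val hn⟩

omit hp in
/-- A rank one prime with a fixed point belongs to `κ(M)`. -/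
theorem mem_kappa_of_fixed (hG : IsMinSimpleOddOrder G) {M : Subgroup G} {r : ℕ} (hr : r.Prime)
    (hrs : r ∉ Cfsg.sigma M) (h1 : PRankLE r 1 M) {x : G} (hxM : x ∈ M) (hxo : orderOf x = r)
    (hx : x ∈ Cfsg.sigmaHat M) : r ∈ Cfsg.kappa M := by
  haveI := Fact.mk hr
  obtain ⟨-, y, hy, hy1, hxy⟩ := hx
  have hd : r ∣ Nat.card M := hxo ▸ Subgroup.orderOf_dvd_natCard M hxM
  refine ⟨hr, hd, hrs, fun P => ?_⟩
  have hc : IsCyclic (P : Subgroup M) := by
    haveI := isCyclic_of_pRankLE_one (prime_ne_two hG (hd.trans (Subgroup.card_subgroup_dvd_card M))) h1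
      (Subgroup.map_subtype_le (P : Subgroup M)) (P.2.map M.subtype)
    exact (Subgroup.equivMapOfInjective (P : Subgroup M) M.subtype M.subtype_injective).isCyclic.mpr inferInstance
  refine ⟨hc, ?_⟩
  have hxG : IsPGroup r (Subgroup.zpowers x) := IsPGroup.of_card (n := 1) (by rw [Nat.card_zpowers, hxo, pow_one])
  obtain ⟨S, hS, hxS⟩ := exists_sylowIn_ge hxG (Subgroup.zpowers_le.mpr hxM)
  obtain ⟨k, hk, ek⟩ := hS.exists_conj (Basics.isSylowIn_map P)
  have hmem : k * x * k⁻¹ ∈ (P : Subgroup M).map M.subtype := ek ▸ ⟨x, hxS (Subgroup.mem_zpowers x), rfl⟩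
  obtain ⟨z, hz, hzv⟩ := hmem
  refine ⟨z, hz, fun e => ?_, k * y * k⁻¹, ?_, by simpa using hy1, ?_⟩
  · rw [e, map_one] at hzv
    exact hr.one_lt.ne' (hxo ▸ orderOf_eq_one_iff.mpr (conj_eq_one_iff.mp hzv.symm))
  · exact (Subgroup.mem_normalizer_iff.mp (le_normalizer_sigmaCore M hk) y).mp hy
  · rw [show (z : G) = k * x * k⁻¹ from hzv]
    calc k * x * k⁻¹ * (k * y * k⁻¹) = k * (x * y) * k⁻¹ := by group
      _ = k * (y * x) * k⁻¹ := by rw [hxy]
      _ = _ := by group

omit hp in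
/-- An element of a `(κ ∪ σ)'`-subgroup with fixed points on `M_σ` is a `τ₂(M)`-element. -/
theorem tau2_of_fixed (hG : IsMinSimpleOddOrder G) {M : Subgroup G} (hM : IsCoatom M) {x : G}
    (hx : x ∈ Cfsg.sigmaHat M)
    (hk : ∀ r : ℕ, r.Prime → r ∣ orderOf x → r ∉ Cfsg.sigma M ∧ r ∉ Cfsg.kappa M) :
    ∀ r : ℕ, r.Prime → r ∣ orderOf x → r ∈ Cfsg.tau2 M := by
  intro r hr hd
  haveI := Fact.mk hr
  obtain ⟨hrs, hrk⟩ := hk r hr hd
  refine ⟨hr, hrs, pRankLE_two_of_not_mem_sigma hG hM hrs, fun h1 => hrk ?_⟩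
  obtain ⟨hxM, y, hy, hy1, hxy⟩ := hx
  refine mem_kappa_of_fixed hG hr hrs h1 (pow_mem hxM (orderOf x / r))
    (orderOf_pow_orderOf_div (orderOf_pos x).ne' hd) ⟨pow_mem hxM _, y, hy, hy1, (Commute.pow_left hxy _).eq⟩

omit hp in
theorem exists_compl_ge (hG : IsMinSimpleOddOrder G) {M K : Subgroup G} (hM : IsCoatom M) (hKM : K ≤ M)
    (hK : ∀ q : ℕ, q.Prime → q ∣ Nat.card K → q ∉ Cfsg.sigma M) :
    ∃ E : Subgroup G, IsComplIn E (Cfsg.sigmaCore M) M ∧ K ≤ E := by
  obtain ⟨E, hE⟩ := exists_compl hG hM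
  obtain ⟨m, hm, hmK⟩ := exists_conj_le_compl hG hM hE hKM hK
  refine ⟨E.map (MulAut.conj m⁻¹).toMonoidHom, ⟨?_, hE.2.1, ?_, fun g hg => ?_⟩, fun k hk => ?_⟩
  · exact (Subgroup.map_mono hE.1).trans (map_conj_eq_self (inv_mem hm)).le
  · rw [eq_bot_iff]
    rintro _ ⟨⟨e, he, rfl⟩, h2⟩
    have : e ∈ E ⊓ Cfsg.sigmaCore M := ⟨he, by
      have h3 := (Subgroup.mem_normalizer_iff.mp (le_normalizer_sigmaCore M hm) _).mp h2
      simpa [mul_assoc] using h3⟩
    rw [hE.2.2.1, Subgroup.mem_bot] at this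
    simp [this]
  · obtain ⟨a, ha, b, hb, e⟩ := hE.2.2.2 (m * g * m⁻¹) (mul_mem (mul_mem hm hg) (inv_mem hm))
    refine ⟨m⁻¹ * a * m, ⟨a, ha, by simp⟩, m⁻¹ * b * m, ?_, ?_⟩
    · have := (Subgroup.mem_normalizer_iff''.mp (le_normalizer_sigmaCore M hm) b).mp hb
      exact this
    · calc g = m⁻¹ * (m * g * m⁻¹) * m := by group
        _ = m⁻¹ * (a * b) * m := by rw [e]
        _ = _ := by group
  · exact ⟨m * k * m⁻¹, hmK ⟨k, hk, rfl⟩, by simp [mul_assoc]⟩

end Cfsg.Agent.OddLocal
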