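import Cfsg.Agent.Lib.OddLocal.KappaA0
import Cfsg.Agent.Lib.OddLocal.KappaPrime
import Cfsg.Agent.Lib.OddLocal.DerivedFitting
import Cfsg.Agent.Lib.OddLocal.FitFacts
import Cfsg.Agent.S1429

/-! The Fitting subgroup of a maximal subgroup of type `P₂`. -/

set_option autoImplicit false
set_option linter.unusedSectionVars false
set_option linter.style.haveILetI false

namespace Cfsg.Agent.OddLocal

open scoped commutatorElement Pointwise
open Cfsg
open Basics (IsSylowIn)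

universe u

variable {G : Type u} [Group G] [Finite G]

/-- A nilpotent `M_σ` lies in `F(M)`. -/
theorem sigmaCore_le_fittingOf {M : Subgroup G} (h : Group.IsNilpotent (Cfsg.sigmaCore M)) :
    Cfsg.sigmaCore M ≤ Cfsg.fittingOf M := by
  haveI : (Cfsg.piCore (Cfsg.sigma M) M).Normal :=
    (Subgroup.normal_subgroupOf_iff_le_normalizer (sigmaCore_le M)).mpr (le_normalizer_sigmaCore M) |> fun h' => by
      rwa [show (Cfsg.sigmaCore M).subgroupOf M = Cfsg.piCore (Cfsg.sigma M) M from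
        Subgroup.comap_map_eq_self_of_injective M.subtype_injective _] at h'
  refine Subgroup.map_mono (Basics.le_fittingSubgroup ?_)
  haveI : Group.IsNilpotent ↥((Cfsg.piCore (Cfsg.sigma M) M).map M.subtype) := h
  exact Group.nilpotent_of_mulEquiv ((Cfsg.piCore (Cfsg.sigma M) M).equivMapOfInjective M.subtype
    M.subtype_injective).symm

/-- In type `P₂`, there is a nontrivial `U ≤ M`, fixed point free under `K`, with `C_{M_σ}(U) = 1`. -/
theorem exists_free_compl (hG : IsMinSimpleOddOrder G) {M K : Subgroup G} (hM : IsCoatom M)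
    (hK : IsPiHallOf (Cfsg.kappa M) K M) (hK1 : K ≠ ⊥) {p : ℕ} (hp : p.Prime) (hpd : p ∣ Nat.card M)
    (hpσ : p ∉ Cfsg.sigma M) (hpk : p ∉ Cfsg.kappa M) :
    ∃ U : Subgroup G, U ≤ M ∧ U ≠ ⊥ ∧ K ≤ Subgroup.normalizer (U : Set G) ∧
      (∀ q : ℕ, q.Prime → q ∣ Nat.card U → q ∉ Cfsg.sigma M ∧ q ∉ Cfsg.kappa M) ∧
      (∀ k ∈ K, k ≠ 1 → U ⊓ Subgroup.centralizer ({k} : Set G) = ⊥) ∧
      Cfsg.sigmaCore M ⊓ Subgroup.centralizer (U : Set G) = ⊥ := by
  haveI := Fact.mk hp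
  obtain ⟨-, E, U, -, hKE, hUE, -, hU, hEU, -, hreg⟩ := exists_kappa_compl hG hM hK hK1
  obtain ⟨R, hR⟩ := exists_sylowIn (q := p) U
  obtain ⟨S, hS⟩ := (hR.isPGroup.comap_subtype (K := M)).exists_le_sylow
  have hf : (Nat.card U).factorization p = (Nat.card M).factorization p := hallOf_factorization hU hp ⟨hp, hpk, hpσ⟩
  have hRS : R = (S : Subgroup M).map M.subtype := by
    refine Subgroup.eq_of_le_of_card_ge (fun a ha => ⟨⟨a, hU.1 (hR.1 ha)⟩, hS ha, rfl⟩) ?_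
    rw [(Basics.isSylowIn_map S).2, hR.2, hf]
  have hne : ¬ (∀ q : ℕ, q.Prime → q ∣ Nat.card M → q ∉ Cfsg.sigma M → q ∈ Cfsg.kappa M) :=
    fun h => hpk (h p hp hpd hpσ)
  obtain ⟨-, hbot, -⟩ := S1429.result hG M hM hne p hpd (fun h => h.elim hpσ hpk) S
  refine ⟨U, hU.1, fun e => ?_, (hKE.trans hEU), fun q hq hd => ⟨(hU.2.1 q hq hd).2.2, (hU.2.1 q hq hd).2.1⟩,
    hreg, le_bot_iff.mp (hbot ▸ inf_le_inf_left _ (Subgroup.centralizer_le ((Subgroup.closure_le U).mpr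
      fun a ha => hR.1 (hRS ▸ ha.1))))⟩
  rw [e, Subgroup.card_bot, Nat.factorization_one, Finsupp.zero_apply] at hf
  exact (hp.factorization_pos_of_dvd Nat.card_pos.ne' hpd).ne hf

/-- A rank-two normal `q`-subgroup is centralized by `U`, when `K` acts fixed point freely on `U`. -/
theorem free_centralizes (hG : IsMinSimpleOddOrder G) {M K U V : Subgroup G} (hM : IsCoatom M) (hUM : U ≤ M)
    (hKM : K ≤ M) (hKU : K ≤ Subgroup.normalizer (U : Set G)) {k : G} (hk : k ∈ K)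
    (hfix : U ⊓ Subgroup.centralizer ({k} : Set G) = ⊥) {q : ℕ} [hq : Fact q.Prime] (hqU : ¬ q ∣ Nat.card U)
    (hq2 : q ≠ 2) (hVM : V ≤ M) (hVn : M ≤ Subgroup.normalizer (V : Set G)) (hV : IsPGroup q V)
    (hV2 : Nat.card V ≤ q ^ 2) : U ≤ Subgroup.centralizer (V : Set G) := by
  have hkn := hKU hk
  let f : U → U := fun u => ⟨u * k * (u : G)⁻¹ * k⁻¹, by
    rw [show (u : G) * k * (u : G)⁻¹ * k⁻¹ = (u : G) * (k * (u : G)⁻¹ * k⁻¹) by group]
    exact mul_mem u.2 ((Subgroup.mem_normalizer_iff.mp hkn _).mp (inv_mem u.2))⟩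
  have hinj : Function.Injective f := by
    intro a b e
    have e' : (a : G) * k * (a : G)⁻¹ * k⁻¹ = b * k * (b : G)⁻¹ * k⁻¹ := congrArg Subtype.val e
    have hmem : (b : G)⁻¹ * a ∈ U ⊓ Subgroup.centralizer ({k} : Set G) := by
      refine Subgroup.mem_inf.mpr ⟨mul_mem (inv_mem b.2) a.2, Subgroup.mem_centralizer_singleton_iff.mpr ?_⟩
      have e'' : (a : G) * k * (a : G)⁻¹ = b * k * (b : G)⁻¹ := mul_right_cancel e'
      calc (b : G)⁻¹ * a * k = (b : G)⁻¹ * (a * k * (a : G)⁻¹) * a := by group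
        _ = (b : G)⁻¹ * (b * k * (b : G)⁻¹) * a := by rw [e'']
        _ = k * ((b : G)⁻¹ * a) := by group
    rw [hfix, Subgroup.mem_bot, inv_mul_eq_one] at hmem
    exact Subtype.ext hmem.symm
  intro u hu
  obtain ⟨⟨w, hw⟩, e⟩ := (Finite.injective_iff_surjective.mp hinj) ⟨u, hu⟩
  have eu : ⁅w, k⁆ = u := congrArg Subtype.val e
  haveI : Group.IsSolvable M := isSolvable_of_ne_top hG hM.1
  haveI : (V.subgroupOf M).Normal := (Subgroup.normal_subgroupOf_iff_le_normalizer hVM).mpr hVn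
  have hc : (⟨u, hUM hu⟩ : M) ∈ commutator M := by
    rw [show (⟨u, hUM hu⟩ : M) = ⁅(⟨w, hUM hw⟩ : M), ⟨k, hKM hk⟩⁆ from Subtype.ext eu.symm]
    exact Subgroup.commutator_mem_commutator (Subgroup.mem_top _) (Subgroup.mem_top _)
  have hcop : (orderOf (⟨u, hUM hu⟩ : M)).Coprime q := by
    rw [Subgroup.orderOf_mk]
    exact Nat.Coprime.coprime_dvd_left (Subgroup.orderOf_dvd_natCard _ hu) (hq.out.coprime_iff_not_dvd.mpr hqU).symm
  have h := derived_pPower_centralizes (T := V.subgroupOf M) (odd_card_subgroup hG M) hq2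
    (hV.comap_subtype (K := M)) (fun X _ => ((Subgroup.card_le_card_group X).trans
      (Basics.card_subgroupOf hVM).le).trans hV2) hc hcop
  exact Subgroup.mem_centralizer_iff.mpr fun v hv =>
    congrArg Subtype.val (Subgroup.mem_centralizer_iff.mp h ⟨v, hVM hv⟩ hv)

/-- BG 15.7: in type `P₂`, the centralizers of the elements of prime order of `F(M)` lie in `M`. -/
theorem fitting_centralizer_le (hG : IsMinSimpleOddOrder G) {M K : Subgroup G} (hM : IsCoatom M)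
    (hK : IsPiHallOf (Cfsg.kappa M) K M) (hK1 : K ≠ ⊥) {p : ℕ} (hp : p.Prime) (hpd : p ∣ Nat.card M)
    (hpσ : p ∉ Cfsg.sigma M) (hpk : p ∉ Cfsg.kappa M) {t : G} {q : ℕ} (hq : q.Prime)
    (ht : t ∈ Cfsg.fittingOf M) (hto : orderOf t = q) :
    Subgroup.centralizer ({t} : Set G) ≤ M ∧
      (q ∉ Cfsg.sigma M → ∀ L : Subgroup G, IsCoatom L → Subgroup.centralizer ({t} : Set G) ≤ L → L = M) := by
  haveI := Fact.mk hq
  obtain ⟨U, hUM, hU1, hKU, hUπ, hreg, hfix⟩ := exists_free_compl hG hM hK hK1 hp hpd hpσ hpk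
  obtain ⟨-, hnil, -⟩ := compl_prime hG hM hK hK1 hp hpd hpσ hpk
  have htM : t ∈ M := fittingOf_le M ht
  have ht1 : t ≠ 1 := fun e => by rw [e, orderOf_one] at hto; exact hq.one_lt.ne hto
  have htO : t ∈ coreP q M := mem_coreP_of_mem_fittingOf ht ⟨1, by rw [pow_one, ← hto, pow_orderOf_eq_one]⟩
  obtain ⟨k₀, hk₀, hk₀1⟩ := (Subgroup.bot_or_exists_ne_one K).resolve_left hK1
  by_cases hqσ : q ∈ Cfsg.sigma M
  · refine ⟨?_, fun h => absurd hqσ h⟩
    by_contra hnle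
    have htS : t ∈ Cfsg.sigmaCore M := sigma_le_core hG hM (Subgroup.zpowers_le.mpr htM)
      (fun r hr hd => by
        rw [Nat.card_zpowers, hto] at hd
        rwa [(Nat.prime_dvd_prime_iff_eq hr hq).mp hd]) (Subgroup.mem_zpowers t)
    obtain ⟨N, hN, hCN, -, -, -, -, -, hτ, -⟩ := exists_neighbor hG hM htS ht1 hnle
    obtain ⟨-, -, hN2, -⟩ := hτ q hq hto.symm.dvd
    have hO1 : coreP q M ≠ ⊥ := fun e => ht1 (Subgroup.mem_bot.mp (e ▸ htO))
    obtain ⟨V, hV1, hVe, hVm, hVn⟩ := exists_omega_center (isPGroup_coreP q M) hO1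
    have hVO : V ≤ coreP q M := fun v hv => ((hVm v).mp hv).1.1
    have hVM : V ≤ M := hVO.trans (coreP_le q M)
    have hVC : V ≤ Subgroup.centralizer ({t} : Set G) := fun v hv => Subgroup.mem_centralizer_singleton_iff.mpr
      (Subgroup.mem_centralizer_iff.mp ((hVm v).mp hv).1.2 t htO).symm
    have hV2 : Nat.card V ≤ q ^ 2 := card_le_of_pRankLE hN2 (hVC.trans hCN) hVe
    have hVp : IsPGroup q V := isPGroup_of_exponent hVe.2
    have hUV : U ≤ Subgroup.centralizer (V : Set G) := free_centralizes hG hM hUM hK.1 hKU hk₀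
      (hreg k₀ hk₀ hk₀1) (fun hd => (hUπ q hq hd).1 hqσ)
      (prime_ne_two hG (hto ▸ orderOf_dvd_natCard t)) hVM ((le_normalizer_coreP q M).trans hVn) hVp hV2
    refine hV1 (le_bot_iff.mp (hfix ▸ le_inf ?_ (Subgroup.le_centralizer_iff.mp hUV)))
    refine sigma_le_core hG hM hVM fun r hr hd => ?_
    obtain ⟨i, hi⟩ := IsPGroup.iff_card.mp hVp
    rw [hi] at hd
    rwa [(Nat.prime_dvd_prime_iff_eq hr hq).mp (hr.dvd_of_dvd_pow hd)]
  have hqk : q ∉ Cfsg.kappa M := by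
    intro hqk
    obtain ⟨m, hm, hmK⟩ := exists_conj_le_kappa hG hM hK (Subgroup.zpowers_le.mpr htM) fun r hr hd => by
      rw [Nat.card_zpowers, hto] at hd
      rwa [(Nat.prime_dvd_prime_iff_eq hr hq).mp hd]
    have hkK : m * t * m⁻¹ ∈ K := hmK (Basics.conj_mem_conj_smul (Subgroup.mem_zpowers t))
    have hk1 : m * t * m⁻¹ ≠ 1 := fun e => ht1 (conj_eq_one_iff.mp e)
    have hkO : m * t * m⁻¹ ∈ coreP q M :=
      (Subgroup.mem_normalizer_iff.mp (le_normalizer_coreP q M hm) t).mp htO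
    have hUO : Disjoint U (coreP q M) := Subgroup.disjoint_of_coprime_natCard <| Nat.coprime_of_dvd fun r hr h1 h2 => by
      obtain ⟨i, hi⟩ := IsPGroup.iff_card.mp (isPGroup_coreP q M)
      rw [hi] at h2
      exact (hUπ r hr h1).2 ((Nat.prime_dvd_prime_iff_eq hr hq).mp (hr.dvd_of_dvd_pow h2) ▸ hqk)
    refine hU1 (le_bot_iff.mp fun u hu => ?_)
    rw [← hreg _ hkK hk1]
    refine ⟨hu, Subgroup.mem_centralizer_singleton_iff.mpr ?_⟩
    set k := m * t * m⁻¹ with hk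
    have h1 : u * k * u⁻¹ * k⁻¹ ∈ coreP q M :=
      mul_mem ((Subgroup.mem_normalizer_iff.mp (le_normalizer_coreP q M (hUM hu)) k).mp hkO) (inv_mem hkO)
    have h2 : u * k * u⁻¹ * k⁻¹ ∈ U := by
      rw [show u * k * u⁻¹ * k⁻¹ = u * (k * u⁻¹ * k⁻¹) by group]
      exact mul_mem hu ((Subgroup.mem_normalizer_iff.mp (hKU hkK) _).mp (inv_mem hu))
    exact mul_inv_eq_iff_eq_mul.mp (mul_inv_eq_one.mp (Subgroup.disjoint_def.mp hUO h2 h1))
  obtain ⟨y, hy, hy1⟩ := (Subgroup.bot_or_exists_ne_one _).resolve_left (sigmaCore_ne_bot hG hM)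
  have hMF : Cfsg.sigmaCore M ≤ Cfsg.fittingOf M := sigmaCore_le_fittingOf hnil
  have hcop : (orderOf t).Coprime (orderOf y) := by
    rw [hto]
    exact hq.coprime_iff_not_dvd.mpr fun hd => hqσ (orderOf_core hy q hq hd)
  have hty : Commute t y := Basics.commute_of_coprime_le (isNilpotent_fittingOf M) ht (hMF hy) hcop
  rcases fixed_dichotomy hG hM hy hy1 htM hty ht1 (fun r hr hd => by
      rw [hto] at hd; rwa [(Nat.prime_dvd_prime_iff_eq hr hq).mp hd]) with ⟨h, -⟩ | ⟨-, h1, h2⟩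
  · exact absurd (h q hq hto.symm.dvd) hqk
  · exact ⟨h1, fun _ => h2⟩

/-- BG 15.7: in type `P₂`, `F(M)` is a TI-subset. -/
theorem fitting_ti (hG : IsMinSimpleOddOrder G) {M K : Subgroup G} (hM : IsCoatom M)
    (hK : IsPiHallOf (Cfsg.kappa M) K M) (hK1 : K ≠ ⊥) {p : ℕ} (hp : p.Prime) (hpd : p ∣ Nat.card M)
    (hpσ : p ∉ Cfsg.sigma M) (hpk : p ∉ Cfsg.kappa M) : Cfsg.IsTISubset (Cfsg.fittingOf M : Set G) := by
  intro g hg x hx hgx
  by_contra hx1
  obtain ⟨q, hq, hqd⟩ := Nat.exists_prime_and_dvd fun e => hx1 (orderOf_eq_one_iff.mp e)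
  haveI := Fact.mk hq
  set t := x ^ (orderOf x / q) with htdef
  have hto : orderOf t = q := orderOf_pow_orderOf_div (orderOf_pos x).ne' hqd
  have ht : t ∈ Cfsg.fittingOf M := pow_mem hx _
  have ht' : g * t * g⁻¹ ∈ Cfsg.fittingOf M := by rw [htdef, ← conj_pow]; exact pow_mem hgx _
  obtain ⟨hC, hu⟩ := fitting_centralizer_le hG hM hK hK1 hp hpd hpσ hpk hq ht hto
  have hgM : g ∈ M := by
    by_cases hqσ : q ∈ Cfsg.sigma M
    · have hX : Nat.card (Subgroup.zpowers t) = q := by rw [Nat.card_zpowers, hto]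
      obtain ⟨m, hm, c, hc, e⟩ := sigma_fusion hG hM hqσ (IsPGroup.of_card (n := 1) (hX.trans (pow_one q).symm))
        (fun e => by rw [e, Subgroup.card_bot] at hX; exact hq.one_lt.ne hX)
        (Subgroup.zpowers_le.mpr (fittingOf_le M ht)) (g := g) (by
          rw [MonoidHom.map_zpowers]
          exact Subgroup.zpowers_le.mpr (fittingOf_le M ht'))
      rw [e]
      exact mul_mem hm (hC (by rwa [← centralizer_eq_of_zpowers]))
    · obtain ⟨-, hu'⟩ := fitting_centralizer_le hG hM hK hK1 hp hpd hpσ hpk hq ht'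
        (by rw [orderOf_conj_elt, hto])
      refine mem_of_map_conj_eq hG hM (hu' hqσ _ (isCoatom_map_conj hM g) fun a ha => ?_)
      rw [mem_map_conj_iff]
      refine hC (Subgroup.mem_centralizer_singleton_iff.mpr ?_)
      have h := Subgroup.mem_centralizer_singleton_iff.mp ha
      calc g⁻¹ * a * g * t = g⁻¹ * (a * (g * t * g⁻¹)) * g := by group
        _ = g⁻¹ * (g * t * g⁻¹ * a) * g := by rw [h]
        _ = _ := by group
  exact hg (Subgroup.mem_set_normalizer_iff.mpr fun y =>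
    Subgroup.mem_normalizer_iff.mp (le_normalizer_fittingOf M hgM) y)

end Cfsg.Agent.OddLocal
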