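import Cfsg.Agent.Lib.OddLocal.KappaPair

/-! The set `Ẑ = Z - (K ∪ K*)`. -/

set_option autoImplicit false
set_option linter.unusedSectionVars false
set_option linter.style.haveILetI false

namespace Cfsg.Agent.OddLocal

open scoped commutatorElement Pointwise
open Cfsg
open Basics (IsSylowIn)

universe u

variable {G : Type u} [Group G] [Finite G]

/-- Conjugates of a subset rigid with respect to `Z` and invariant under it. -/
theorem ncard_conj_set {Z : Subgroup G} {T : Set G} (hTI : ∀ g : G, ∀ t ∈ T, g * t * g⁻¹ ∈ T → g ∈ Z)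
    (hinv : ∀ z ∈ Z, ∀ t ∈ T, z * t * z⁻¹ ∈ T) :
    Set.ncard {c : G | ∃ g : G, ∃ t ∈ T, c = g * t * g⁻¹} = Z.index * Set.ncard T := by
  let F : (G ⧸ Z) × T → G := fun v => v.1.out * v.2.1 * v.1.out⁻¹
  have hinj : Function.Injective F := by
    rintro ⟨q₁, t₁, h₁⟩ ⟨q₂, t₂, h₂⟩ e
    simp only [F] at e
    have hmem : q₂.out⁻¹ * q₁.out ∈ Z := hTI _ t₁ h₁ (by
      rw [show q₂.out⁻¹ * q₁.out * t₁ * (q₂.out⁻¹ * q₁.out)⁻¹ = q₂.out⁻¹ * (q₁.out * t₁ * q₁.out⁻¹) * q₂.out by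
        group, e, show q₂.out⁻¹ * (q₂.out * t₂ * q₂.out⁻¹) * q₂.out = t₂ by group]
      exact h₂)
    have hq : q₁ = q₂ := by
      rw [← q₁.out_eq, ← q₂.out_eq]
      exact (QuotientGroup.eq.mpr hmem).symm
    subst hq
    exact Prod.ext rfl (Subtype.ext (mul_left_cancel (mul_right_cancel e)))
  have hrange : Set.range F = {c : G | ∃ g : G, ∃ t ∈ T, c = g * t * g⁻¹} := by
    ext c
    constructor
    · rintro ⟨v, rfl⟩; exact ⟨_, _, v.2.2, rfl⟩
    · rintro ⟨g, t, ht, rfl⟩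
      set o := (QuotientGroup.mk g : G ⧸ Z).out with ho
      have hz : o⁻¹ * g ∈ Z := QuotientGroup.eq.mp (QuotientGroup.out_eq' _)
      refine ⟨(QuotientGroup.mk g, ⟨o⁻¹ * g * t * (o⁻¹ * g)⁻¹, hinv _ hz t ht⟩), ?_⟩
      simp only [F, ← ho]
      group
  rw [← hrange, Set.ncard_range_of_injective hinj, Nat.card_prod, Nat.card_coe_set_eq]
  rfl

namespace DualPair

variable {M K L : Subgroup G}

theorem mem_hat {z : G} :
    z ∈ ((↑(K ⊔ (Cfsg.sigmaCore M ⊓ Subgroup.centralizer (K : Set G))) : Set G) \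
      ((K : Set G) ∪ ↑(Cfsg.sigmaCore M ⊓ Subgroup.centralizer (K : Set G)))) →
      ∃ k ∈ K, ∃ a ∈ Cfsg.sigmaCore M ⊓ Subgroup.centralizer (K : Set G), k ≠ 1 ∧ a ≠ 1 ∧ z = k * a ∧ Commute k a := by
  rintro ⟨hz, hn⟩
  obtain ⟨k, hk, a, ha, rfl, hka⟩ := mem_Z hz
  refine ⟨k, hk, a, ha, fun e => hn (Or.inr ?_), fun e => hn (Or.inl ?_), rfl, hka⟩
  · rw [e, one_mul]; exact ha
  · rw [e, mul_one]; exact hk

theorem hat_mem (h : DualPair M K L) {k a : G} (hk : k ∈ K)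
    (ha : a ∈ Cfsg.sigmaCore M ⊓ Subgroup.centralizer (K : Set G)) (hk1 : k ≠ 1) (ha1 : a ≠ 1) :
    k * a ∈ ((↑(K ⊔ (Cfsg.sigmaCore M ⊓ Subgroup.centralizer (K : Set G))) : Set G) \
      ((K : Set G) ∪ ↑(Cfsg.sigmaCore M ⊓ Subgroup.centralizer (K : Set G)))) := by
  have hbot : ∀ b ∈ K, b ∈ Cfsg.sigmaCore M → b = 1 := fun b hb hb' =>
    orderOf_eq_one_iff.mp (Nat.eq_one_iff_not_exists_prime_dvd.mpr fun q hq hd =>
      (orderOf_kappa h.hK hb q hq hd).2 (orderOf_core hb' q hq hd))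
  refine ⟨mul_mem (Subgroup.mem_sup_left hk) (Subgroup.mem_sup_right ha), ?_⟩
  rintro (hm | hm)
  · exact ha1 (hbot a ((K.mul_mem_cancel_left hk).mp hm) ha.1)
  · exact hk1 (hbot k hk ((Cfsg.sigmaCore M).mul_mem_cancel_right ha.1 |>.mp hm.1))

theorem hat_rigid (h : DualPair M K L) (hG : IsMinSimpleOddOrder G) {z g : G}
    (hz : z ∈ ((↑(K ⊔ (Cfsg.sigmaCore M ⊓ Subgroup.centralizer (K : Set G))) : Set G) \
      ((K : Set G) ∪ ↑(Cfsg.sigmaCore M ⊓ Subgroup.centralizer (K : Set G)))))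
    (hz' : g * z * g⁻¹ ∈ ((↑(K ⊔ (Cfsg.sigmaCore M ⊓ Subgroup.centralizer (K : Set G))) : Set G) \
      ((K : Set G) ∪ ↑(Cfsg.sigmaCore M ⊓ Subgroup.centralizer (K : Set G))))) :
    g ∈ K ⊔ (Cfsg.sigmaCore M ⊓ Subgroup.centralizer (K : Set G)) := by
  obtain ⟨k, hk, a, ha, hk1, ha1, rfl, hka⟩ := mem_hat hz
  obtain ⟨k', hk', a', ha', -, -, he, hka'⟩ := mem_hat hz'
  have hoa : ∀ s : ℕ, s.Prime → s ∣ orderOf (g * a * g⁻¹) → s ∈ Cfsg.sigma M := fun s hs hd =>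
    orderOf_core ha.1 s hs (by rwa [orderOf_conj_elt] at hd)
  have hok : ∀ s : ℕ, s.Prime → s ∣ orderOf (g * k * g⁻¹) → s ∉ Cfsg.sigma M := fun s hs hd =>
    (orderOf_kappa h.hK hk s hs (by rwa [orderOf_conj_elt] at hd)).2
  have hcomm : Commute (g * a * g⁻¹) (g * k * g⁻¹) := by
    have := hka.symm.map (MulAut.conj g).toMonoidHom
    simpa using this
  have e : g * a * g⁻¹ * (g * k * g⁻¹) = a' * k' := by
    rw [hka'.symm.eq, ← he, show g * (k * a) * g⁻¹ = g * k * g⁻¹ * (g * a * g⁻¹) by group, hcomm.eq]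
  have e1 : g * a * g⁻¹ = a' := part_unique e hcomm hka'.symm (coprime_of_sets hoa hok)
    (coprime_of_sets (orderOf_core ha'.1) fun s hs hd => (orderOf_kappa h.hK hk' s hs hd).2)
    (coprime_of_sets hoa fun s hs hd => (orderOf_kappa h.hK hk' s hs hd).2)
    (coprime_of_sets (orderOf_core ha'.1) hok)
  have e2 : g * k * g⁻¹ = k' := by
    rw [e1] at e
    exact mul_left_cancel e
  exact kappa_pair_rigid hG h.hM h.hK h.hK1 hk hk1 ha ha1 (e2 ▸ hk') (e1 ▸ ha')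

theorem hat_conj (h : DualPair M K L) (hG : IsMinSimpleOddOrder G) {g z : G}
    (hg : g ∈ K ⊔ (Cfsg.sigmaCore M ⊓ Subgroup.centralizer (K : Set G)))
    (hz : z ∈ K ⊔ (Cfsg.sigmaCore M ⊓ Subgroup.centralizer (K : Set G))) : g * z * g⁻¹ = z := by
  rw [h.comm hG hg hz, mul_inv_cancel_right]

theorem card_hat (h : DualPair M K L) :
    Set.ncard ((↑(K ⊔ (Cfsg.sigmaCore M ⊓ Subgroup.centralizer (K : Set G))) : Set G) \
        ((K : Set G) ∪ ↑(Cfsg.sigmaCore M ⊓ Subgroup.centralizer (K : Set G)))) +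
        Nat.card K + Nat.card ↥(Cfsg.sigmaCore M ⊓ Subgroup.centralizer (K : Set G)) =
      Nat.card K * Nat.card ↥(Cfsg.sigmaCore M ⊓ Subgroup.centralizer (K : Set G)) + 1 := by
  set A := Cfsg.sigmaCore M ⊓ Subgroup.centralizer (K : Set G) with hA
  have hinter : (K : Set G) ∩ (A : Set G) = {1} := by
    rw [← Subgroup.coe_inf, (Subgroup.disjoint_of_coprime_natCard (kappa_coprime_kstar h.hK)).eq_bot,
      Subgroup.coe_bot]
  have hu := Set.ncard_union_add_ncard_inter (K : Set G) (A : Set G)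
  rw [hinter, Set.ncard_singleton, ← Nat.card_coe_set_eq (K : Set G), ← Nat.card_coe_set_eq (A : Set G)] at hu
  have hd := Set.ncard_sdiff_add_ncard_of_subset (s := (K : Set G) ∪ (A : Set G)) (t := (↑(K ⊔ A) : Set G))
    (Set.union_subset (SetLike.coe_subset_coe.mpr le_sup_left) (SetLike.coe_subset_coe.mpr le_sup_right))
  rw [← Nat.card_coe_set_eq (↑(K ⊔ A) : Set G)] at hd
  have hc : Nat.card ↥(K ⊔ A) = Nat.card K * Nat.card A := card_Z h.hK
  simp only [SetLike.coe_sort_coe] at hu hd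
  omega

/-- The conjugates of `Ẑ`: number and majority. -/
theorem count_hat (h : DualPair M K L) (hG : IsMinSimpleOddOrder G) :
    Nat.card K * Nat.card ↥(Cfsg.sigmaCore M ⊓ Subgroup.centralizer (K : Set G)) *
        Set.ncard {a : G | ∃ g : G, ∃ z ∈ ((↑(K ⊔ (Cfsg.sigmaCore M ⊓ Subgroup.centralizer (K : Set G))) : Set G) \
          ((K : Set G) ∪ ↑(Cfsg.sigmaCore M ⊓ Subgroup.centralizer (K : Set G)))), a = g * z * g⁻¹} =
      (Nat.card K * Nat.card ↥(Cfsg.sigmaCore M ⊓ Subgroup.centralizer (K : Set G)) - Nat.card K -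
        Nat.card ↥(Cfsg.sigmaCore M ⊓ Subgroup.centralizer (K : Set G)) + 1) * Nat.card G ∧
      Nat.card G < 2 * Set.ncard {a : G | ∃ g : G,
        ∃ z ∈ ((↑(K ⊔ (Cfsg.sigmaCore M ⊓ Subgroup.centralizer (K : Set G))) : Set G) \
          ((K : Set G) ∪ ↑(Cfsg.sigmaCore M ⊓ Subgroup.centralizer (K : Set G)))), a = g * z * g⁻¹} := by
  rw [ncard_conj_set (fun g t ht ht' => h.hat_rigid hG ht ht') fun z hz t ht => by
    rwa [h.hat_conj hG hz ht.1]]
  have hodd : ∀ H : Subgroup G, H ≠ ⊥ → 3 ≤ Nat.card H := fun H hH => by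
    obtain ⟨j, hj⟩ := odd_card_subgroup hG H
    have := (Subgroup.one_lt_card_iff_ne_bot H).mpr hH
    omega
  obtain ⟨jk, hjk⟩ := odd_card_subgroup hG K
  obtain ⟨ja, hja⟩ := odd_card_subgroup hG (Cfsg.sigmaCore M ⊓ Subgroup.centralizer (K : Set G))
  have hk := hodd K h.hK1
  have ha := hodd _ (kappa_fixed_ne_bot hG h.hM h.hK h.hK1)
  have hne : Nat.card K ≠ Nat.card ↥(Cfsg.sigmaCore M ⊓ Subgroup.centralizer (K : Set G)) := fun e => by
    have := kappa_coprime_kstar h.hK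
    rw [e, Nat.coprime_self] at this
    omega
  have hc := h.card_hat
  have hi := Subgroup.card_mul_index (K ⊔ (Cfsg.sigmaCore M ⊓ Subgroup.centralizer (K : Set G)))
  rw [card_Z h.hK] at hi
  have hN : 0 < (K ⊔ (Cfsg.sigmaCore M ⊓ Subgroup.centralizer (K : Set G))).index :=
    Nat.pos_of_ne_zero Subgroup.index_ne_zero_of_finite
  generalize Set.ncard _ = τ at *
  generalize Nat.card K = k at *
  generalize Nat.card ↥(Cfsg.sigmaCore M ⊓ Subgroup.centralizer (K : Set G)) = a at *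
  generalize (K ⊔ (Cfsg.sigmaCore M ⊓ Subgroup.centralizer (K : Set G))).index = i at *
  rw [← hi]
  refine ⟨?_, ?_⟩
  · have hka : k + a ≤ k * a := by nlinarith
    have e : k * a - k - a + 1 = τ := by omega
    rw [e]; ring
  · have key : k * a < 2 * τ := by
      rcases Nat.lt_or_ge k 4 with h4 | h4
      · obtain rfl : k = 3 := by omega
        omega
      · rcases Nat.lt_or_ge a 4 with h4' | h4'
        · obtain rfl : a = 3 := by omega
          omega
        · nlinarith [Nat.mul_le_mul h4 h4', Nat.mul_le_mul_left k h4', Nat.mul_le_mul_right a h4]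
    calc k * a * i < 2 * τ * i := Nat.mul_lt_mul_of_pos_right key hN
      _ = 2 * (i * τ) := by ring

end DualPair

end Cfsg.Agent.OddLocal
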