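import Cfsg.Agent.Lib.OddLocal.KappaCount

/-! BG 14.7. -/

set_option autoImplicit false
set_option linter.unusedSectionVars false
set_option linter.style.haveILetI false

namespace Cfsg.Agent.OddLocal

open scoped commutatorElement Pointwise
open Cfsg
open Basics (IsSylowIn)

universe u

variable {G : Type u} [Group G] [Finite G]

/-- In type `P₁`, `|M| = |K| |M_σ|`. -/
theorem card_of_P1 (hG : IsMinSimpleOddOrder G) {M K : Subgroup G} (hM : IsCoatom M)
    (hK : IsPiHallOf (Cfsg.kappa M) K M)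
    (h : ∀ q : ℕ, q.Prime → q ∣ Nat.card M → q ∉ Cfsg.sigma M → q ∈ Cfsg.kappa M) :
    Nat.card M = Nat.card K * Nat.card (Cfsg.sigmaCore M) := by
  obtain ⟨hMσ, -⟩ := sigmaCore_hall hG hM
  refine Nat.eq_of_factorization_eq Nat.card_pos.ne' (mul_ne_zero Nat.card_pos.ne' Nat.card_pos.ne') fun q => ?_
  rw [Nat.factorization_mul Nat.card_pos.ne' Nat.card_pos.ne', Finsupp.add_apply]
  by_cases hq : q.Prime
  swap
  · simp [Nat.factorization_eq_zero_of_not_prime _ hq]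
  by_cases hs : q ∈ Cfsg.sigma M
  · rw [hallOf_factorization hMσ hq hs,
      Nat.factorization_eq_zero_of_not_dvd fun hd => (hK.2.1 q hq hd).2.2.1 hs, zero_add]
  rw [Nat.factorization_eq_zero_of_not_dvd (n := Nat.card (Cfsg.sigmaCore M)) fun hd => hs (hMσ.2.1 q hq hd),
    add_zero]
  by_cases hd : q ∣ Nat.card M
  · rw [hallOf_factorization hK hq (h q hq hd hs)]
  · rw [Nat.factorization_eq_zero_of_not_dvd hd,
      Nat.factorization_eq_zero_of_not_dvd fun h' => hd (h'.trans (Subgroup.card_dvd_of_le hK.1))]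

/-- BG 14.7: the dual subgroup. -/
theorem exists_dual (hG : IsMinSimpleOddOrder G) {M K : Subgroup G} (hM : IsCoatom M)
    (hK : IsPiHallOf (Cfsg.kappa M) K M) (hK1 : K ≠ ⊥) :
    ∃ L : Subgroup G, IsCoatom L ∧ (∀ g : G, L ≠ M.map (MulAut.conj g).toMonoidHom) ∧
      IsPiHallOf (Cfsg.kappa L) (Cfsg.sigmaCore M ⊓ Subgroup.centralizer (K : Set G)) L ∧
      K = Cfsg.sigmaCore L ⊓
        Subgroup.centralizer ((Cfsg.sigmaCore M ⊓ Subgroup.centralizer (K : Set G) : Subgroup G) : Set G) ∧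
      (∀ X : Subgroup G, X ≤ K → (Nat.card X).Prime →
        Subgroup.normalizer (X : Set G) ≤ L ∧
          ∀ L' : Subgroup G, IsCoatom L' → Subgroup.normalizer (X : Set G) ≤ L' → L' = L) ∧
      IsCyclic ↥(K ⊔ (Cfsg.sigmaCore M ⊓ Subgroup.centralizer (K : Set G))) ∧
      ((∃ q : ℕ, q.Prime ∧ q ∣ Nat.card M ∧ q ∉ Cfsg.sigma M ∧ q ∉ Cfsg.kappa M) ∨
        ∃ q : ℕ, q.Prime ∧ q ∣ Nat.card L ∧ q ∉ Cfsg.sigma L ∧ q ∉ Cfsg.kappa L) := by
  classical
  set A := Cfsg.sigmaCore M ⊓ Subgroup.centralizer (K : Set G) with hA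
  have hAne : A ≠ ⊥ := kappa_fixed_ne_bot hG hM hK hK1
  obtain ⟨r, hr, hrd⟩ := Nat.exists_prime_and_dvd fun e => hK1 (Subgroup.card_eq_one.mp e)
  haveI := Fact.mk hr
  obtain ⟨x, hx⟩ := exists_prime_orderOf_dvd_card' r hrd
  set X := Subgroup.zpowers (x : G) with hXdef
  have hX : Nat.card X = r := by rw [hXdef, Nat.card_zpowers, Subgroup.orderOf_coe, hx]
  have hXK : X ≤ K := Subgroup.zpowers_le.mpr x.2
  have hXM : X ≤ M := hXK.trans hK.1
  have hX1 : X ≠ ⊥ := fun e => by rw [e, Subgroup.card_bot] at hX; exact hr.one_lt.ne hX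
  obtain ⟨L, hL, hNX⟩ := exists_maximal_ge (normalizer_ne_top hG hX1 fun e => hM.1 (top_le_iff.mp (e ▸ hXM)))
  obtain ⟨hrL, hconj, hLu, hXσ, hKL', hAL, -⟩ := dual_primes hG hM hK hXK hX hL hNX
  obtain ⟨KL, hKLh, hKL1, hAKL, -, hZ⟩ := dual_hall hG hM hK hXK hX hL hNX
  -- every neighbour with `σ`-prime `r` is `L`
  have hsame : ∀ L' : Subgroup G, IsCoatom L' → K ≤ L' → r ∈ Cfsg.sigma L' → L' = L := fun L' hL' hKL'' hr' => by
    obtain ⟨g, hg⟩ := sigma_disjoint hG hL' hL hr' hrL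
    exact (conj_eq_of_centralizer_le hG hL' hr' (IsPGroup.of_card (n := 1) (hX.trans (pow_one r).symm)) hX1
      (hXK.trans hKL'') hg (Subgroup.le_normalizer.trans hNX) ((Subgroup.centralizer_le_normalizer _).trans hNX)).symm
  set S : Finset (Subgroup G) := insert M (Set.toFinite {L' : Subgroup G | IsCoatom L' ∧
    ∃ X' : Subgroup G, X' ≤ K ∧ (Nat.card X').Prime ∧ Subgroup.normalizer (X' : Set G) ≤ L'}).toFinset with hS
  have hmem : ∀ L' ∈ S, L' = M ∨ (IsCoatom L' ∧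
      ∃ X' : Subgroup G, X' ≤ K ∧ (Nat.card X').Prime ∧ Subgroup.normalizer (X' : Set G) ≤ L') := fun L' h => by
    rwa [hS, Finset.mem_insert, Set.Finite.mem_toFinset, Set.mem_ofPred_eq] at h
  have hLS : L ∈ S := by
    rw [hS, Finset.mem_insert, Set.Finite.mem_toFinset]
    exact Or.inr ⟨hL, X, hXK, hX ▸ hr, hNX⟩
  have hMS : M ∈ S := Finset.mem_insert_self _ _
  have hneLM : L ≠ M := fun e => hconj 1 (by rw [map_conj_one, e])
  have hcM := card_Z hK
  -- some member has a prime outside `σ ∪ κ`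
  have hnP1 : ∃ L' ∈ S, ∃ q : ℕ, q.Prime ∧ q ∣ Nat.card L' ∧ q ∉ Cfsg.sigma L' ∧ q ∉ Cfsg.kappa L' := by
    by_contra hc
    push Not at hc
    refine count_false hG (Z := K ⊔ A) S ?_ (fun L' hL' => ?_) (fun L₁ h₁ L₂ h₂ hne heq => ?_) fun q hq hd => ?_
    · exact le_trans (le_of_eq (Finset.card_pair hneLM).symm)
        (Finset.card_le_card (Finset.insert_subset hLS (Finset.singleton_subset_iff.mpr hMS)))
    · have hP := hc L' hL'
      rcases hmem L' hL' with rfl | ⟨hL'c, X', hX'K, hX'p, hNX'⟩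
      · refine ⟨hM, K, hK, hK1, rfl, card_of_P1 hG hM hK hP, fun h => ?_⟩
        have hle : L' ≤ K ⊔ A := by
          refine (Subgroup.eq_of_le_of_card_ge (sup_le hK.1 (inf_le_left.trans (sigmaCore_le L'))) ?_).ge
          rw [hcM, card_of_P1 hG hM hK hP]
          exact Nat.mul_le_mul_left _ (Nat.le_of_dvd Nat.card_pos (Subgroup.card_dvd_of_le (le_inf le_rfl h)))
        exact hneLM ((hM.le_iff_eq hL.1).mp (hle.trans (sup_le hKL' hAL)))
      · haveI := Fact.mk hX'p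
        obtain ⟨-, hconj', -, -, hKL'', hAL', -⟩ := dual_primes (p := Nat.card X') hG hM hK hX'K rfl hL'c hNX'
        obtain ⟨KL', hK', hK'1, -, -, hZ'⟩ := dual_hall (p := Nat.card X') hG hM hK hX'K rfl hL'c hNX'
        refine ⟨hL'c, KL', hK', hK'1, hZ'.symm, card_of_P1 hG hL'c hK' hP, fun h => ?_⟩
        have hle : L' ≤ K ⊔ A := by
          rw [← hZ']
          refine (Subgroup.eq_of_le_of_card_ge (sup_le hK'.1 (inf_le_left.trans (sigmaCore_le L'))) ?_).ge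
          rw [card_Z hK', card_of_P1 hG hL'c hK' hP]
          exact Nat.mul_le_mul_left _ (Nat.le_of_dvd Nat.card_pos (Subgroup.card_dvd_of_le (le_inf le_rfl h)))
        exact hconj' 1 (by
          rw [map_conj_one]
          exact ((hL'c.le_iff_eq hM.1).mp (hle.trans (sup_le hK.1 (inf_le_left.trans (sigmaCore_le M))))).symm)
    · -- distinct members have different `σ`
      have hMne : ∀ L' ∈ S, L' ≠ M → Cfsg.sigma L' ≠ Cfsg.sigma M := by
        intro L' hL' hne' heq'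
        rcases hmem L' hL' with rfl | ⟨hL'c, X', hX'K, hX'p, hNX'⟩
        · exact hne' rfl
        haveI := Fact.mk hX'p
        obtain ⟨hσ', -, -⟩ := dual_primes (p := Nat.card X') hG hM hK hX'K rfl hL'c hNX'
        exact (hK.2.1 _ hX'p (Subgroup.card_dvd_of_le hX'K)).2.2.1 (heq' ▸ hσ')
      rcases hmem L₁ h₁ with rfl | ⟨hL₁, X₁, hX₁K, hX₁p, hNX₁⟩
      · exact hMne L₂ h₂ (Ne.symm hne) heq.symm
      rcases hmem L₂ h₂ with rfl | ⟨hL₂, X₂, hX₂K, hX₂p, hNX₂⟩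
      · exact hMne L₁ h₁ hne heq
      haveI := Fact.mk hX₁p
      haveI := Fact.mk hX₂p
      obtain ⟨hσ₁, -, -, -, -, -, -⟩ := dual_primes (p := Nat.card X₁) hG hM hK hX₁K rfl hL₁ hNX₁
      obtain ⟨-, -, -, -, hKL₂, -, -⟩ := dual_primes (p := Nat.card X₂) hG hM hK hX₂K rfl hL₂ hNX₂
      obtain ⟨g, hg⟩ := sigma_disjoint hG hL₂ hL₁ (heq ▸ hσ₁) hσ₁
      exact hne (conj_eq_of_centralizer_le hG hL₂ (heq ▸ hσ₁) (IsPGroup.of_card (n := 1) (pow_one _).symm)
        (fun e => hX₁p.ne_one (by rw [e, Subgroup.card_bot])) (hX₁K.trans hKL₂) hg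
        (Subgroup.le_normalizer.trans hNX₁) ((Subgroup.centralizer_le_normalizer _).trans hNX₁))
    · rw [hcM] at hd
      rcases hq.dvd_mul.mp hd with h | h
      · haveI := Fact.mk hq
        obtain ⟨y, hy⟩ := exists_prime_orderOf_dvd_card' q h
        have hY : Nat.card (Subgroup.zpowers (y : G)) = q := by rw [Nat.card_zpowers, Subgroup.orderOf_coe, hy]
        obtain ⟨L', hL', hN'⟩ := exists_maximal_ge (normalizer_ne_top hG
          (fun e => by rw [e, Subgroup.card_bot] at hY; exact hq.one_lt.ne hY)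
          (fun e => hM.1 (top_le_iff.mp (e ▸ (Subgroup.zpowers_le.mpr y.2).trans hK.1))))
        refine ⟨L', ?_, (dual_primes hG hM hK (Subgroup.zpowers_le.mpr y.2) hY hL' hN').1⟩
        rw [hS, Finset.mem_insert, Set.Finite.mem_toFinset]
        exact Or.inr ⟨hL', _, Subgroup.zpowers_le.mpr y.2, hY.symm ▸ hq, hN'⟩
      · exact ⟨M, hMS, piCoreOf_primes _ M hq (h.trans (Subgroup.card_dvd_of_le inf_le_left))⟩
  obtain ⟨L', hL'S, q, hq, hqd, hqσ, hqk⟩ := hnP1
  -- all primes of `K` lie in `σ(L)`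
  have hn : (∀ s : ℕ, s.Prime → s ∣ Nat.card K → s ∈ Cfsg.sigma L) ∧
      ((∃ q : ℕ, q.Prime ∧ q ∣ Nat.card M ∧ q ∉ Cfsg.sigma M ∧ q ∉ Cfsg.kappa M) ∨
        ∃ q : ℕ, q.Prime ∧ q ∣ Nat.card L ∧ q ∉ Cfsg.sigma L ∧ q ∉ Cfsg.kappa L) := by
    rcases hmem L' hL'S with rfl | ⟨hL'c, X', hX'K, hX'p, hNX'⟩
    · refine ⟨fun s hs hd => ?_, Or.inl ⟨q, hq, hqd, hqσ, hqk⟩⟩
      have hkp := (compl_prime hG hM hK hK1 hq hqd hqσ hqk).1
      rwa [(Nat.prime_dvd_prime_iff_eq hs hkp).mp hd, ← (Nat.prime_dvd_prime_iff_eq hr hkp).mp hrd]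
    · haveI := Fact.mk hX'p
      obtain ⟨-, -, -, -, hKL'', -, -⟩ := dual_primes (p := Nat.card X') hG hM hK hX'K rfl hL'c hNX'
      obtain ⟨KL', hK', hK'1, hAK', -, hZ'⟩ := dual_hall (p := Nat.card X') hG hM hK hX'K rfl hL'c hNX'
      have hkp := (compl_prime hG hL'c hK' hK'1 hq hqd hqσ hqk).1
      have hAK : Nat.card A = Nat.card KL' :=
        (hkp.eq_one_or_self_of_dvd _ (Subgroup.card_dvd_of_le hAK')).resolve_left
          fun e => hAne (Subgroup.card_eq_one.mp e)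
      have hall : ∀ s : ℕ, s.Prime → s ∣ Nat.card K → s ∈ Cfsg.sigma L' := fun s hs hd => by
        have h1 : s ∣ Nat.card KL' * Nat.card ↥(Cfsg.sigmaCore L' ⊓ Subgroup.centralizer (KL' : Set G)) := by
          rw [← card_Z hK', hZ', hcM]
          exact dvd_mul_of_dvd_left hd _
        rcases hs.dvd_mul.mp h1 with h | h
        · exact absurd (Nat.eq_one_of_dvd_coprimes (kappa_coprime_kstar hK) hd (hAK ▸ h)) hs.ne_one
        · exact piCoreOf_primes _ L' hs (h.trans (Subgroup.card_dvd_of_le inf_le_left))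
      have he := hsame L' hL'c hKL'' (hall r hr hrd)
      subst he
      exact ⟨hall, Or.inr ⟨q, hq, hqd, hqσ, hqk⟩⟩
  obtain ⟨hKσ, hor⟩ := hn
  have hKLσ : K ≤ Cfsg.sigmaCore L := le_of_sylows fun s hs hd => by
    haveI := Fact.mk hs
    obtain ⟨W, hW⟩ := exists_sylowIn (q := s) K
    exact ⟨W, hW, pGroup_le_sigmaCore hG hL (hKσ s hs hd) hW.isPGroup (hW.1.trans hKL')⟩
  have hKLA : KL = A := by
    refine (Basics.KW.le_of_coprime_sup (A := A) (d := Nat.card K) ?_ ?_ ?_ (kappa_coprime_kstar hK).symm).antisymm hAKL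
    · exact Or.inr (le_sup_left.trans (hZ.le.trans (sup_le (kappa_le_normalizer_kstar M K) Subgroup.le_normalizer)))
    · rw [mul_comm, ← hcM]
      exact Subgroup.card_dvd_of_le (sup_le (le_sup_left.trans hZ.le) le_sup_right)
    · exact Nat.coprime_of_dvd fun s hs h1 h2 => (hKLh.2.1 s hs h1).2.2.1 (hKσ s hs h2)
  subst hKLA
  have hKB : K = Cfsg.sigmaCore L ⊓
      Subgroup.centralizer ((Cfsg.sigmaCore M ⊓ Subgroup.centralizer (K : Set G) : Subgroup G) : Set G) := by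
    refine Subgroup.eq_of_le_of_card_ge (le_inf hKLσ (Subgroup.le_centralizer_iff.mp inf_le_right)) ?_
    have h1 := card_Z hKLh
    rw [hZ, hcM] at h1
    exact (Nat.eq_of_mul_eq_mul_left Nat.card_pos ((mul_comm _ _).trans h1)).ge
  refine ⟨L, hL, hconj, hKLh, hKB, fun X' hX'K hX'p => ?_, ?_, hor⟩
  · haveI := Fact.mk hX'p
    have hX'M : X' ≤ M := hX'K.trans hK.1
    obtain ⟨L₂, hL₂, hN₂⟩ := exists_maximal_ge (normalizer_ne_top hG
      (fun e => hX'p.ne_one (by rw [e, Subgroup.card_bot])) fun e => hM.1 (top_le_iff.mp (e ▸ hX'M)))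
    obtain ⟨hσ₂, -, hu₂, -, hKL₂, -, -⟩ := dual_primes (p := Nat.card X') hG hM hK hX'K rfl hL₂ hN₂
    have heq : L₂ = L := by
      obtain ⟨g, hg⟩ := sigma_disjoint hG hL hL₂ (hKσ _ hX'p (Subgroup.card_dvd_of_le hX'K)) hσ₂
      exact conj_eq_of_centralizer_le hG hL (hKσ _ hX'p (Subgroup.card_dvd_of_le hX'K))
        (IsPGroup.of_card (n := 1) (pow_one _).symm) (fun e => hX'p.ne_one (by rw [e, Subgroup.card_bot]))
        (hX'K.trans hKL') hg (Subgroup.le_normalizer.trans hN₂) ((Subgroup.centralizer_le_normalizer _).trans hN₂)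
    exact heq ▸ ⟨hN₂, hu₂⟩
  · have hcyc : IsCyclic K ∧ IsCyclic ↥(Cfsg.sigmaCore M ⊓ Subgroup.centralizer (K : Set G)) := by
      rcases hor with ⟨q, hq, hqd, hqσ, hqk⟩ | ⟨q, hq, hqd, hqσ, hqk⟩
      · obtain ⟨hp, -, hc⟩ := compl_prime hG hM hK hK1 hq hqd hqσ hqk
        haveI := Fact.mk hp
        exact ⟨isCyclic_of_prime_card (p := Nat.card K) rfl, hc⟩
      · obtain ⟨hp, -, hc⟩ := compl_prime hG hL hKLh hKL1 hq hqd hqσ hqk
        haveI := Fact.mk hp
        exact ⟨hKB.symm ▸ hc, isCyclic_of_prime_card (α := ↥(Cfsg.sigmaCore M ⊓ Subgroup.centralizer (K : Set G)))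
          (p := Nat.card ↥(Cfsg.sigmaCore M ⊓ Subgroup.centralizer (K : Set G))) rfl⟩
    obtain ⟨⟨k, hk⟩, ⟨a, ha⟩⟩ :=
      And.intro (isCyclic_iff_exists_zpowers_eq_top.mp hcyc.1) (isCyclic_iff_exists_zpowers_eq_top.mp hcyc.2)
    have hko : orderOf (k : G) = Nat.card K := by
      rw [Subgroup.orderOf_coe, ← Nat.card_zpowers, hk, Subgroup.card_top]
    have hao : orderOf (a : G) = Nat.card ↥(Cfsg.sigmaCore M ⊓ Subgroup.centralizer (K : Set G)) := by
      rw [Subgroup.orderOf_coe, ← Nat.card_zpowers, ha, Subgroup.card_top]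
    refine isCyclic_of_orderOf_eq_card ⟨(k : G) * a, mul_mem (Subgroup.mem_sup_left k.2) (Subgroup.mem_sup_right a.2)⟩ ?_
    rw [← Subgroup.orderOf_coe, orderOf_mul_of_coprime (Subgroup.mem_centralizer_iff.mp a.2.2 k k.2)
      (by rw [hko, hao]; exact kappa_coprime_kstar hK), hko, hao, card_Z hK]

end Cfsg.Agent.OddLocal
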