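import Cfsg.Agent.Lib.OddLocal.KappaMain
import Cfsg.Agent.S1365

/-! Consequences of BG 14.7 for a dual pair `(M, K)`, `(L, K*)`. -/

set_option autoImplicit false
set_option linter.unusedSectionVars false
set_option linter.style.haveILetI false

namespace Cfsg.Agent.OddLocal

open scoped commutatorElement Pointwise
open Cfsg
open Basics (IsSylowIn)

universe u

variable {G : Type u} [Group G] [Finite G]

theorem kappa_cyclic (hG : IsMinSimpleOddOrder G) {M K : Subgroup G} (hM : IsCoatom M)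
    (hK : IsPiHallOf (Cfsg.kappa M) K M) : IsCyclic K := by
  rcases eq_or_ne K ⊥ with rfl | hK1
  · infer_instance
  obtain ⟨L, -, -, -, -, -, hc, -⟩ := exists_dual hG hM hK hK1
  haveI := hc
  exact Subgroup.isCyclic_of_le (H := K) (H' := K ⊔ (Cfsg.sigmaCore M ⊓ Subgroup.centralizer (K : Set G))) le_sup_left

theorem exists_decomp (hG : IsMinSimpleOddOrder G) {M K : Subgroup G} (hM : IsCoatom M)
    (hK : IsPiHallOf (Cfsg.kappa M) K M) : ∃ U : Subgroup G, IsSigmaDecomposition M K U := by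
  rcases eq_or_ne K ⊥ with hK1 | hK1
  · obtain ⟨E, hE⟩ := exists_compl hG hM
    exact ⟨E, kappa_cyclic hG hM hK, hK, by rw [hK1, bot_sup_eq]; exact hE, by rw [hK1]; exact bot_le⟩
  obtain ⟨U₀, -, -, hKU, -, hcompl, -⟩ := decomp_compare hG hM hK hK1
  exact ⟨U₀, kappa_cyclic hG hM hK, hK, hcompl, hKU⟩

/-- BG 14.7 (c): `κ(M) = τ₁(M)` when `κ(M) ≠ ∅`. -/
theorem kappa_eq_tau1 (hG : IsMinSimpleOddOrder G) {M K : Subgroup G} (hM : IsCoatom M)
    (hK : IsPiHallOf (Cfsg.kappa M) K M) (hK1 : K ≠ ⊥) : Cfsg.kappa M = Cfsg.tau1 M := by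
  obtain ⟨-, E, U, hE, hKE, hUE, -, hU, hEU, hEeq, -⟩ := exists_kappa_compl hG hM hK hK1
  haveI := kappa_cyclic hG hM hK
  refine Set.Subset.antisymm (fun q hq => ⟨hq.1, hq.2.2.1, hq.2.1, fun hd => ?_, ?_⟩) fun q hq => ?_
  · have hdE := dvd_card_derived_compl hG hM hE hq.1 hq.2.2.1 hd
    have hle : ⁅E, E⁆ ≤ U := by
      rw [hEeq]
      exact commutator_sup_le (hKE.trans hEU)
    exact (hU.2.1 q hq.1 (hdE.trans (Subgroup.card_dvd_of_le hle))).2.1 hq
  · haveI := Fact.mk hq.1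
    exact kappa_rank_one hq
  · obtain ⟨hq', hqσ, hqd, hqn, -⟩ := hq
    by_contra hqk
    obtain ⟨V, hV⟩ := exists_decomp hG hM hK
    refine hqn ?_
    rw [(S1365.result hG M hM K V hV hK1).1]
    refine dvd_trans ?_ (Subgroup.card_dvd_of_le (le_sup_left : V ≤ V ⊔ Cfsg.sigmaCore M))
    refine Nat.dvd_of_factorization_pos ?_
    rw [hallOf_factorization (decomp_hall hG hM hV) hq' ⟨hq', hqk, hqσ⟩]
    exact (hq'.factorization_pos_of_dvd Nat.card_pos.ne' hqd).ne'

/-- The dual subgroup is unique. -/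
theorem dual_unique (hG : IsMinSimpleOddOrder G) {M K L L' : Subgroup G} (hM : IsCoatom M)
    (hK : IsPiHallOf (Cfsg.kappa M) K M) (hK1 : K ≠ ⊥) (hL : IsCoatom L) (hL' : IsCoatom L')
    (h : K ≤ Cfsg.sigmaCore L) (h' : K ≤ Cfsg.sigmaCore L')
    (hC : ∀ X : Subgroup G, X ≤ K → (Nat.card X).Prime → Subgroup.normalizer (X : Set G) ≤ L) : L' = L := by
  obtain ⟨r, hr, hrd⟩ := Nat.exists_prime_and_dvd fun e => hK1 (Subgroup.card_eq_one.mp e)
  haveI := Fact.mk hr
  obtain ⟨x, hx⟩ := exists_prime_orderOf_dvd_card' r hrd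
  have hX : Nat.card (Subgroup.zpowers (x : G)) = r := by rw [Nat.card_zpowers, Subgroup.orderOf_coe, hx]
  have hσ : r ∈ Cfsg.sigma L := piCoreOf_primes _ L hr (hrd.trans (Subgroup.card_dvd_of_le h))
  have hσ' : r ∈ Cfsg.sigma L' := piCoreOf_primes _ L' hr (hrd.trans (Subgroup.card_dvd_of_le h'))
  have hN := hC _ (Subgroup.zpowers_le.mpr x.2) (hX.symm ▸ hr)
  obtain ⟨g, hg⟩ := sigma_disjoint hG hL' hL hσ' hσ
  exact (conj_eq_of_centralizer_le hG hL' hσ' (IsPGroup.of_card (n := 1) (hX.trans (pow_one r).symm))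
    (fun e => by rw [e, Subgroup.card_bot] at hX; exact hr.one_lt.ne hX)
    ((Subgroup.zpowers_le.mpr x.2).trans (h'.trans (sigmaCore_le L'))) hg (Subgroup.le_normalizer.trans hN)
    ((Subgroup.centralizer_le_normalizer _).trans hN)).symm

/-- A dual pair. -/
structure DualPair (M K L : Subgroup G) : Prop where
  hM : IsCoatom M
  hL : IsCoatom L
  hK : IsPiHallOf (Cfsg.kappa M) K M
  hK1 : K ≠ ⊥
  hKL : IsPiHallOf (Cfsg.kappa L) (Cfsg.sigmaCore M ⊓ Subgroup.centralizer (K : Set G)) L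
  hstar : K = Cfsg.sigmaCore L ⊓
    Subgroup.centralizer ((Cfsg.sigmaCore M ⊓ Subgroup.centralizer (K : Set G) : Subgroup G) : Set G)

namespace DualPair

variable {M K L : Subgroup G}

theorem symm (h : DualPair M K L) (hG : IsMinSimpleOddOrder G) :
    DualPair L (Cfsg.sigmaCore M ⊓ Subgroup.centralizer (K : Set G)) M := by
  refine ⟨h.hL, h.hM, h.hKL, kappa_fixed_ne_bot hG h.hM h.hK h.hK1, ?_, ?_⟩
  · rw [← h.hstar]; exact h.hK
  · rw [← h.hstar]

theorem facts (h : DualPair M K L) (hG : IsMinSimpleOddOrder G) :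
    (∀ g : G, L ≠ M.map (MulAut.conj g).toMonoidHom) ∧
      (∀ X : Subgroup G, X ≤ K → (Nat.card X).Prime →
        Subgroup.normalizer (X : Set G) ≤ L ∧
          ∀ L' : Subgroup G, IsCoatom L' → Subgroup.normalizer (X : Set G) ≤ L' → L' = L) ∧
      IsCyclic ↥(K ⊔ (Cfsg.sigmaCore M ⊓ Subgroup.centralizer (K : Set G))) := by
  obtain ⟨L₀, hL₀, hconj, -, hs, hlines, hc, -⟩ := exists_dual hG h.hM h.hK h.hK1
  have he : L = L₀ := dual_unique hG h.hM h.hK h.hK1 hL₀ h.hL (hs.le.trans inf_le_left)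
    (h.hstar.le.trans inf_le_left) fun X h1 h2 => (hlines X h1 h2).1
  subst he
  exact ⟨hconj, hlines, hc⟩

theorem comm (h : DualPair M K L) (hG : IsMinSimpleOddOrder G) {a b : G}
    (ha : a ∈ K ⊔ (Cfsg.sigmaCore M ⊓ Subgroup.centralizer (K : Set G)))
    (hb : b ∈ K ⊔ (Cfsg.sigmaCore M ⊓ Subgroup.centralizer (K : Set G))) : a * b = b * a := by
  haveI := (h.facts hG).2.2
  exact congrArg Subtype.val
    (mul_comm' (⟨a, ha⟩ : ↥(K ⊔ (Cfsg.sigmaCore M ⊓ Subgroup.centralizer (K : Set G)))) ⟨b, hb⟩)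

/-- BG 14.7: `M ∩ L = Z`. -/
theorem inf_eq (h : DualPair M K L) (hG : IsMinSimpleOddOrder G) :
    M ⊓ L = K ⊔ (Cfsg.sigmaCore M ⊓ Subgroup.centralizer (K : Set G)) := by
  obtain ⟨hconj, hlines, -⟩ := h.facts hG
  obtain ⟨hconj', hlines', -⟩ := (h.symm hG).facts hG
  set A := Cfsg.sigmaCore M ⊓ Subgroup.centralizer (K : Set G) with hA
  obtain ⟨q, hq, hqd⟩ := Nat.exists_prime_and_dvd fun e =>
    kappa_fixed_ne_bot hG h.hM h.hK h.hK1 (Subgroup.card_eq_one.mp e)
  haveI := Fact.mk hq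
  obtain ⟨y, hy⟩ := exists_prime_orderOf_dvd_card' q hqd
  set Y := Subgroup.zpowers (y : G) with hYdef
  have hY : Nat.card Y = q := by rw [hYdef, Nat.card_zpowers, Subgroup.orderOf_coe, hy]
  have hYA : Y ≤ A := Subgroup.zpowers_le.mpr y.2
  have hYL : Y ≤ L := hYA.trans h.hKL.1
  have hYM : Y ≤ M := hYA.trans (inf_le_left.trans (sigmaCore_le M))
  have hqM : q ∈ Cfsg.sigma M := piCoreOf_primes _ M hq (hqd.trans (Subgroup.card_dvd_of_le inf_le_left))
  have hqL : q ∉ Cfsg.sigma L := (h.hKL.2.1 q hq hqd).2.2.1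
  have hA1 : A ≠ ⊥ := kappa_fixed_ne_bot hG h.hM h.hK h.hK1
  have hZL := (kappa_normalizer_line hG h.hL h.hKL hA1 hYA hY).1
  rw [← h.hstar] at hZL
  have hD : Cfsg.sigmaCore L ⊓ M ≤ K := by
    have h1 : Cfsg.sigmaCore L ⊓ M ≤ A ⊔ K := hZL ▸ le_inf (inf_le_left.trans (sigmaCore_le L))
      ((Subgroup.le_centralizer_iff.mp (centralizes_inter hG h.hL h.hM hconj' hqL hYL hYM hY (Or.inl hqM))).trans
        (Subgroup.centralizer_le_normalizer _))
    have h2 := Z_inf_core hG h.hL h.hKL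
    rw [← h.hstar] at h2
    exact (le_inf h1 inf_le_left).trans h2.le
  have hDK : Cfsg.sigmaCore L ⊓ M = K := le_antisymm hD (le_inf (h.hstar.le.trans inf_le_left) h.hK.1)
  obtain ⟨r, hr, hrd⟩ := Nat.exists_prime_and_dvd fun e => h.hK1 (Subgroup.card_eq_one.mp e)
  haveI := Fact.mk hr
  obtain ⟨x, hx⟩ := exists_prime_orderOf_dvd_card' r hrd
  have hX : Nat.card (Subgroup.zpowers (x : G)) = r := by rw [Nat.card_zpowers, Subgroup.orderOf_coe, hx]
  have hZM := (kappa_normalizer_line hG h.hM h.hK h.hK1 (Subgroup.zpowers_le.mpr x.2) hX).2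
  refine le_antisymm ?_ (le_inf (sup_le h.hK.1 (inf_le_left.trans (sigmaCore_le M)))
    (sup_le ((h.hstar.le.trans inf_le_left).trans (sigmaCore_le L)) h.hKL.1))
  rw [← hZM]
  refine le_inf inf_le_left ?_
  rw [← hDK]
  exact (le_inf (inf_le_right.trans (le_normalizer_sigmaCore L))
    (inf_le_left.trans Subgroup.le_normalizer)).trans le_normalizer_inf'

/-- Centralizers in `Z`. -/
theorem centralizer_eq (h : DualPair M K L) (hG : IsMinSimpleOddOrder G) {x y : G} (hx : x ∈ K) (hx1 : x ≠ 1)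
    (hy : y ∈ Cfsg.sigmaCore M ⊓ Subgroup.centralizer (K : Set G)) (hy1 : y ≠ 1) :
    M ⊓ Subgroup.centralizer ({x} : Set G) = K ⊔ (Cfsg.sigmaCore M ⊓ Subgroup.centralizer (K : Set G)) ∧
      L ⊓ Subgroup.centralizer ({y} : Set G) = K ⊔ (Cfsg.sigmaCore M ⊓ Subgroup.centralizer (K : Set G)) ∧
      Subgroup.centralizer ({x * y} : Set G) = K ⊔ (Cfsg.sigmaCore M ⊓ Subgroup.centralizer (K : Set G)) := by
  set Z := K ⊔ (Cfsg.sigmaCore M ⊓ Subgroup.centralizer (K : Set G)) with hZ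
  have hinf : M ⊓ L = Z := h.inf_eq hG
  have hge : ∀ {z : G}, z ∈ Z → Z ≤ Subgroup.centralizer ({z} : Set G) := fun hz c hc =>
    Subgroup.mem_centralizer_singleton_iff.mpr (h.comm hG hc hz)
  have hxL : Subgroup.centralizer ({x} : Set G) ≤ L :=
    kstar_centralizer_le hG h.hL h.hKL (kappa_fixed_ne_bot hG h.hM h.hK h.hK1) (h.hstar ▸ hx) hx1
  have hyM := kstar_centralizer_le hG h.hM h.hK h.hK1 hy hy1
  have hxZ : x ∈ Z := Subgroup.mem_sup_left hx
  have hyZ : y ∈ Z := Subgroup.mem_sup_right hy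
  have hZM : Z ≤ M := hinf.ge.trans inf_le_left
  have hZL : Z ≤ L := hinf.ge.trans inf_le_right
  refine ⟨le_antisymm (hinf ▸ inf_le_inf_left M hxL) (le_inf hZM (hge hxZ)),
    le_antisymm (by rw [← hinf, inf_comm]; exact inf_le_inf_right L hyM) (le_inf hZL (hge hyZ)),
    le_antisymm (fun c hc => hinf ▸ Subgroup.mem_inf.mpr ⟨hyM ?_, hxL ?_⟩) (hge (mul_mem hxZ hyZ))⟩
  all_goals
    have hcop : (orderOf x).Coprime (orderOf y) :=
      coprime_of_sets (π := {q | q ∉ Cfsg.sigma M}) (fun q hq hd => (orderOf_kappa h.hK hx q hq hd).2)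
        fun q hq hd hn => hn (orderOf_core hy.1 q hq hd)
    have hcomm : Commute x y := h.comm hG hxZ hyZ
    have hcz : Commute c (x * y) := Subgroup.mem_centralizer_singleton_iff.mp hc
    refine Subgroup.mem_centralizer_singleton_iff.mpr ?_
  · have hm := mem_zpowers_mul_left hcomm.symm hcop.symm
    rw [← hcomm.eq] at hm
    obtain ⟨i, hi⟩ := hm
    simp only at hi
    rw [← hi]
    exact (hcz.zpow_right i).eq
  · obtain ⟨i, hi⟩ := mem_zpowers_mul_left hcomm hcop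
    simp only at hi
    rw [← hi]
    exact (hcz.zpow_right i).eq

/-- Lines of `K*`: normalizer equals centralizer. -/
theorem normalizer_le_centralizer (h : DualPair M K L) (hG : IsMinSimpleOddOrder G) {Y : Subgroup G}
    (hYA : Y ≤ Cfsg.sigmaCore M ⊓ Subgroup.centralizer (K : Set G)) (hY : (Nat.card Y).Prime) :
    Subgroup.normalizer (Y : Set G) ≤ Subgroup.centralizer (Y : Set G) := by
  haveI := Fact.mk hY
  set Z := K ⊔ (Cfsg.sigmaCore M ⊓ Subgroup.centralizer (K : Set G)) with hZdef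
  obtain ⟨hN, -⟩ := ((h.symm hG).facts hG).2.1 Y hYA hY
  intro v hv
  set C := M ⊓ Subgroup.centralizer (Y : Set G) with hC
  have hZC : Z ≤ Subgroup.centralizer (Y : Set G) := fun c hc => Subgroup.mem_centralizer_iff.mpr fun a ha =>
    h.comm hG (Subgroup.mem_sup_right (hYA ha)) hc
  obtain ⟨r, hr, hrd⟩ := Nat.exists_prime_and_dvd fun e => h.hK1 (Subgroup.card_eq_one.mp e)
  haveI := Fact.mk hr
  obtain ⟨x, hx⟩ := exists_prime_orderOf_dvd_card' r hrd
  set X := Subgroup.zpowers (x : G) with hXdef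
  have hX : Nat.card X = r := by rw [hXdef, Nat.card_zpowers, Subgroup.orderOf_coe, hx]
  have hXK : X ≤ K := Subgroup.zpowers_le.mpr x.2
  have hXp : IsPGroup r X := IsPGroup.of_card (n := 1) (hX.trans (pow_one r).symm)
  have hXC : X ≤ C := le_inf (hXK.trans h.hK.1) ((hXK.trans le_sup_left).trans hZC)
  have hX' : X.map (MulAut.conj v).toMonoidHom ≤ C := by
    refine le_inf ((Subgroup.map_mono (hXK.trans h.hK.1)).trans (map_conj_eq_self (hN hv)).le) ?_
    refine (Subgroup.map_mono (hXC.trans inf_le_right)).trans ?_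
    exact (Subgroup.mem_normalizer_iff_map_conj_eq.mp (normalizer_le_normalizer_centralizer Y hv)).le
  obtain ⟨S₁, hS₁, hXS₁⟩ := exists_sylowIn_ge hXp hXC
  obtain ⟨S₂, hS₂, hXS₂⟩ := exists_sylowIn_ge (hXp.map _) hX'
  obtain ⟨c, hc, ec⟩ := hS₂.exists_conj hS₁
  have hcyc : IsCyclic S₁ := isCyclic_of_pRankLE_one (prime_ne_two hG (hX ▸ Subgroup.card_subgroup_dvd_card X))
    (kappa_rank_one (h.hK.2.1 r hr hrd)) (hS₁.1.trans inf_le_left) hS₁.isPGroup
  have hmap : X.map (MulAut.conj (c * v)).toMonoidHom = X := by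
    refine eq_of_le_cyclic hcyc ?_ hXS₁ (Subgroup.card_map_of_injective (MulAut.conj (c * v)).injective)
    rw [← map_conj_map_conj, ← ec]
    exact Subgroup.map_mono hXS₂
  have hcv : c * v ∈ Z := by
    rw [hZdef, ← (kappa_normalizer_line hG h.hM h.hK h.hK1 hXK hX).1]
    exact Subgroup.mem_inf.mpr ⟨mul_mem hc.1 (hN hv), Subgroup.mem_normalizer_iff_map_conj_eq.mpr hmap⟩
  rw [show v = c⁻¹ * (c * v) by group]
  exact mul_mem (inv_mem hc.2) (hZC hcv)

/-- The centralizer of a line of `K*` determines `M`. -/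
theorem normalizer_line (h : DualPair M K L) (hG : IsMinSimpleOddOrder G) {Y : Subgroup G}
    (hYA : Y ≤ Cfsg.sigmaCore M ⊓ Subgroup.centralizer (K : Set G)) (hY : (Nat.card Y).Prime) :
    Subgroup.centralizer (Y : Set G) ≤ M ∧
      ∀ L' : Subgroup G, IsCoatom L' → Subgroup.centralizer (Y : Set G) ≤ L' → L' = M := by
  obtain ⟨hN, huniq⟩ := ((h.symm hG).facts hG).2.1 Y hYA hY
  exact ⟨(Subgroup.centralizer_le_normalizer _).trans hN, fun L' hL' hle =>
    huniq L' hL' ((h.normalizer_le_centralizer hG hYA hY).trans hle)⟩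

/-- BG 14.7 (b): further primes of `M` are not in `σ(L)`. -/
theorem not_sigma_dual (h : DualPair M K L) (hG : IsMinSimpleOddOrder G) {t : ℕ} (ht : t.Prime)
    (htd : t ∣ Nat.card M) (hts : t ∉ Cfsg.sigma M) (htk : t ∉ Cfsg.kappa M) : t ∉ Cfsg.sigma L := by
  intro htL
  haveI := Fact.mk ht
  obtain ⟨hconj, hlines, -⟩ := h.facts hG
  obtain ⟨-, E, U, -, hKE, -, -, hU, hEU, -, -⟩ := exists_kappa_compl hG h.hM h.hK h.hK1
  obtain ⟨r, hr, hrd⟩ := Nat.exists_prime_and_dvd fun e => h.hK1 (Subgroup.card_eq_one.mp e)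
  haveI := Fact.mk hr
  obtain ⟨x, hx⟩ := exists_prime_orderOf_dvd_card' r hrd
  rw [← Subgroup.orderOf_coe] at hx
  set X := Subgroup.zpowers (x : G) with hXdef
  have hX : Nat.card X = r := by rw [hXdef, Nat.card_zpowers, hx]
  have hXK : X ≤ K := Subgroup.zpowers_le.mpr x.2
  have hXp : IsPGroup r X := IsPGroup.of_card (n := 1) (hX.trans (pow_one r).symm)
  have hcop : (Nat.card X).Coprime (Nat.card U) := by
    rw [hX]; exact hr.coprime_iff_not_dvd.mpr fun hd => (hU.2.1 r hr hd).2.1 (h.hK.2.1 r hr hrd)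
  obtain ⟨R, hR, hXR⟩ := Basics.exists_invariant_isSylowIn X U ((hXK.trans hKE).trans hEU) hcop
    (Or.inl (by haveI := hXp.isNilpotent; infer_instance)) t
  have htU : t ∣ Nat.card U := by
    refine Nat.dvd_of_factorization_pos ?_
    rw [hallOf_factorization hU ht ⟨ht, htk, hts⟩]
    exact (ht.factorization_pos_of_dvd Nat.card_pos.ne' htd).ne'
  have hRd : t ∣ Nat.card R := by
    rw [hR.2]; exact dvd_pow_self t (ht.factorization_pos_of_dvd Nat.card_pos.ne' htU).ne'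
  have hrL : r ∈ Cfsg.sigma L :=
    piCoreOf_primes _ L hr (hrd.trans (Subgroup.card_dvd_of_le (h.hstar.le.trans inf_le_left)))
  obtain ⟨g, hg⟩ := exists_conj_le_sigmaCore hG h.hL (Y := R ⊔ X)
    (fun e => hr.one_lt.ne (hX ▸ (Subgroup.card_eq_one.mpr (le_bot_iff.mp (e ▸ le_sup_right : X ≤ ⊥))).symm))
    fun s hs hd => by
      rcases hs.dvd_mul.mp (hd.trans (card_sup_dvd hXR)) with h' | h'
      · obtain ⟨n, hn⟩ := IsPGroup.iff_card.mp hR.isPGroup
        rw [hn] at h'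
        rwa [(Nat.prime_dvd_prime_iff_eq hs ht).mp (hs.dvd_of_dvd_pow h')]
      · rw [hX] at h'
        rwa [(Nat.prime_dvd_prime_iff_eq hs hr).mp h']
  have hle : R ⊔ X ≤ L.map (MulAut.conj g⁻¹).toMonoidHom := le_map_conj_iff.mpr (by
    rw [inv_inv]; exact hg.trans (sigmaCore_le L))
  have hx1 : (x : G) ≠ 1 := fun e => by rw [e, orderOf_one] at hx; exact hr.one_lt.ne hx
  have hxσ : (x : G) ∈ Cfsg.sigmaCore L := h.hstar.le.trans inf_le_left x.2
  have hLg := eq_of_mem_conj hG h.hL hxσ hx1 (hle (Subgroup.mem_sup_right (Subgroup.mem_zpowers _)))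
    (kstar_centralizer_le hG h.hL h.hKL (kappa_fixed_ne_bot hG h.hM h.hK h.hK1) (h.hstar ▸ x.2) hx1)
  have hRL : R ≤ L := hLg ▸ le_sup_left.trans hle
  obtain ⟨w, hw⟩ := exists_prime_orderOf_dvd_card' t hRd
  set W := Subgroup.zpowers (w : G) with hWdef
  have hW : Nat.card W = t := by rw [hWdef, Nat.card_zpowers, Subgroup.orderOf_coe, hw]
  have hWR : W ≤ R := Subgroup.zpowers_le.mpr w.2
  have hWC := centralizes_inter hG h.hM h.hL hconj hts (hWR.trans (hR.1.trans hU.1)) (hWR.trans hRL) hW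
    (Or.inl htL)
  obtain ⟨y, hy, hy1⟩ := (Subgroup.bot_or_exists_ne_one _).resolve_left
    (kappa_fixed_ne_bot hG h.hM h.hK h.hK1)
  have hWZ : W ≤ K ⊔ (Cfsg.sigmaCore M ⊓ Subgroup.centralizer (K : Set G)) := by
    rw [← (h.centralizer_eq hG x.2 hx1 hy hy1).2.1]
    exact le_inf (hWR.trans hRL) (hWC.trans (Subgroup.centralizer_le
      (Set.singleton_subset_iff.mpr (Subgroup.mem_inf.mpr ⟨hy.1, h.hKL.1 hy⟩))))
  have hdd := hW ▸ Subgroup.card_dvd_of_le hWZ
  rw [card_Z h.hK] at hdd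
  rcases ht.dvd_mul.mp hdd with h' | h'
  · exact htk (h.hK.2.1 t ht h')
  · exact hts (piCoreOf_primes _ M ht (h'.trans (Subgroup.card_dvd_of_le inf_le_left)))

/-- `K*` is a Hall `σ(M)`-subgroup of `L`. -/
theorem star_hall_sigma (h : DualPair M K L) (hG : IsMinSimpleOddOrder G) :
    IsPiHallOf (Cfsg.sigma M) (Cfsg.sigmaCore M ⊓ Subgroup.centralizer (K : Set G)) L := by
  obtain ⟨hconj, -, -⟩ := h.facts hG
  refine isPiHallOf_of_factorization h.hKL.1
    (fun q hq hd => piCoreOf_primes _ M hq (hd.trans (Subgroup.card_dvd_of_le inf_le_left))) fun q hq hqM => ?_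
  by_cases hd : q ∣ Nat.card L
  · refine hallOf_factorization h.hKL hq ?_
    haveI := Fact.mk hq
    by_contra hk
    refine (h.symm hG).not_sigma_dual hG hq hd (fun hs => ?_) hk hqM
    obtain ⟨g, hg⟩ := sigma_disjoint hG h.hM h.hL hqM hs
    exact hconj g hg
  · rw [Nat.factorization_eq_zero_of_not_dvd hd,
      Nat.factorization_eq_zero_of_not_dvd fun h' => hd (h'.trans (Subgroup.card_dvd_of_le h.hKL.1))]

end DualPair

end Cfsg.Agent.OddLocal
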