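import Cfsg.Agent.Lib.OddLocal.KappaA0
import Cfsg.Agent.Lib.OddLocal.KappaPair
import Cfsg.Agent.Lib.OddLocal.DerivedFitting
import Cfsg.Agent.Lib.OddLocal.Tau2Abelian
import Cfsg.Agent.S1365

/-! The Sylow subgroups for the primes of `K*`. -/

set_option autoImplicit false
set_option linter.unusedSectionVars false
set_option linter.style.haveILetI false

namespace Cfsg.Agent.OddLocal

open scoped commutatorElement Pointwise IsMulCommutative
open Cfsg
open Basics (IsSylowIn)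

universe u

variable {G : Type u} [Group G] [Finite G]

/-- A central element of an abelian Sylow normalizer is outside the derived subgroup. -/
theorem eq_one_of_mem_derived {W : Type u} [Group W] [Finite W] {p : ℕ} [Fact p.Prime] (P : Sylow p W)
    (hab : IsMulCommutative (P : Subgroup W)) {y : W} (hy : y ∈ (P : Subgroup W)) (hy' : y ∈ commutator W)
    (hN : ∀ n ∈ Subgroup.normalizer ((P : Subgroup W) : Set W), n⁻¹ * y * n = y) : y = 1 := by
  haveI := hab
  have key : ∀ (k : ℕ) (g₀ : W), g₀⁻¹ * y ^ k * g₀ ∈ (P : Subgroup W) → g₀⁻¹ * y ^ k * g₀ = y ^ k := by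
    intro k g₀ h
    obtain ⟨n, hn, e⟩ := P.conj_eq_normalizer_conj_of_mem (y ^ k) g₀ (pow_mem hy k) h
    rw [e]
    have h' : (n⁻¹ * y * n⁻¹⁻¹) ^ k = y ^ k := by rw [inv_inv, hN n hn]
    rwa [conj_pow, inv_inv] at h'
  set f : W →* (P : Subgroup W) := MonoidHom.transfer (MonoidHom.id (P : Subgroup W)) with hf
  have h1 : f y = 1 := (Abelianization.commutator_subset_ker f) hy'
  rw [hf, MonoidHom.transfer_eq_pow _ _ key] at h1
  have h2 : y ^ (P : Subgroup W).index = 1 := congrArg Subtype.val h1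
  obtain ⟨j, hj⟩ : ∃ j, y ^ p ^ j = 1 := by
    obtain ⟨j, hj⟩ := P.2 ⟨y, hy⟩
    exact ⟨j, congrArg Subtype.val hj⟩
  have hcop : (p ^ j).Coprime (P : Subgroup W).index :=
    Nat.Coprime.pow_left j ((Fact.out : p.Prime).coprime_iff_not_dvd.mpr P.not_dvd_index)
  exact orderOf_eq_one_iff.mp (Nat.eq_one_of_dvd_coprimes hcop (orderOf_dvd_of_pow_eq_one hj)
    (orderOf_dvd_of_pow_eq_one h2))

/-- A cyclic elementary abelian group has order at most `p`. -/
theorem card_le_of_cyclic_ea {p : ℕ} [Fact p.Prime] {V : Subgroup G} (hV : IsElementaryAbelian p V) (hc : IsCyclic V) :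
    Nat.card V ≤ p := by
  haveI := hc
  obtain ⟨v, hv⟩ := IsCyclic.exists_ofOrder_eq_natCard (α := V)
  rw [← hv, ← Subgroup.orderOf_coe]
  exact Nat.le_of_dvd (Fact.out : p.Prime).pos (orderOf_dvd_of_pow_eq_one (hV.2 v v.2))

namespace DualPair

variable {M K L : Subgroup G}

/-- The Sylow subgroups for a prime of `K*` are not abelian of rank at most two. -/
theorem sylow_not_abelian (h : DualPair M K L) (hG : IsMinSimpleOddOrder G) {p : ℕ} [hp : Fact p.Prime]
    (hpd : p ∣ Nat.card ↥(Cfsg.sigmaCore M ⊓ Subgroup.centralizer (K : Set G))) {P : Subgroup G}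
    (hP : IsSylowIn p M P) (hab : IsMulCommutative P)
    (hr2 : ∀ V : Subgroup G, V ≤ P → IsElementaryAbelian p V → Nat.card V ≤ p ^ 2) : False := by
  set A := Cfsg.sigmaCore M ⊓ Subgroup.centralizer (K : Set G) with hA
  have hp2 : p ≠ 2 := prime_ne_two hG (hpd.trans (Subgroup.card_subgroup_dvd_card _))
  obtain ⟨y₀, hy₀⟩ := exists_prime_orderOf_dvd_card' p hpd
  rw [← Subgroup.orderOf_coe] at hy₀
  set y : G := (y₀ : G) with hy
  have hyA : y ∈ A := y₀.2
  have hy1 : y ≠ 1 := fun e => by rw [e, orderOf_one] at hy₀; exact hp.out.one_lt.ne hy₀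
  have hYc : Nat.card (Subgroup.zpowers y) = p := by rw [Nat.card_zpowers, hy₀]
  have hpσ : p ∈ Cfsg.sigma M := piCoreOf_primes _ M hp.out (hpd.trans (Subgroup.card_dvd_of_le inf_le_left))
  obtain ⟨r, hr, hrd⟩ := Nat.exists_prime_and_dvd fun e => h.hK1 (Subgroup.card_eq_one.mp e)
  haveI := Fact.mk hr
  obtain ⟨k₀, hk₀⟩ := exists_prime_orderOf_dvd_card' r hrd
  rw [← Subgroup.orderOf_coe] at hk₀
  set k : G := (k₀ : G) with hk
  have hkK : k ∈ K := k₀.2
  have hk1 : k ≠ 1 := fun e => by rw [e, orderOf_one] at hk₀; exact hr.one_lt.ne hk₀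
  have hkM : k ∈ M := h.hK.1 hkK
  have hrS : ¬ r ∣ Nat.card (Cfsg.sigmaCore M) := fun hd =>
    (h.hK.2.1 r hr hrd).2.2.1 (piCoreOf_primes _ M hr hd)
  have hky : Commute k y := Subgroup.mem_centralizer_iff.mp hyA.2 k hkK
  obtain ⟨S, hYS, hSσ, hSp, hkS, hSi⟩ := exists_invariant_sylow_ge (p := r) (q := p) (A := Subgroup.zpowers k)
    (IsPGroup.of_card (n := 1) (by rw [Nat.card_zpowers, hk₀, pow_one]))
    ((Subgroup.zpowers_le.mpr hkM).trans (le_normalizer_sigmaCore M)) hrS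
    (Subgroup.zpowers_le.mpr hyA.1) (IsPGroup.of_card (n := 1) (hYc.trans (pow_one p).symm))
    (Subgroup.zpowers_le.mpr (Subgroup.centralizer_le_normalizer _ (Subgroup.mem_centralizer_iff.mpr
      fun a ha => by
        obtain ⟨i, rfl⟩ := Subgroup.mem_zpowers_iff.mp ha
        exact (hky.zpow_right i).eq.symm)))
  have hSM : S ≤ M := hSσ.trans (sigmaCore_le M)
  have hS : IsSylowIn p M S := by
    obtain ⟨T, hT, hST⟩ := exists_sylowIn_ge hSp hSM
    have hTσ : T ≤ Cfsg.sigmaCore M := pGroup_le_sigmaCore hG h.hM hpσ hT.isPGroup hT.1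
    have e : S = T := by
      refine le_antisymm hST (Subgroup.relIndex_eq_one.mp (Nat.eq_one_iff_not_exists_prime_dvd.mpr fun q hq hd => ?_))
      obtain ⟨i, hi⟩ := IsPGroup.iff_card.mp hT.isPGroup
      have hq' : q ∣ p ^ i := hi ▸ hd.trans (Subgroup.relIndex_dvd_card S T)
      obtain rfl := (Nat.prime_dvd_prime_iff_eq hq hp.out).mp (hq.dvd_of_dvd_pow hq')
      exact hSi (hd.trans (Dvd.intro _ (Subgroup.relIndex_mul_relIndex S T _ hST hTσ)))
    exact e ▸ hT
  obtain ⟨m, hm, em⟩ := hP.exists_conj hS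
  have hSab : IsMulCommutative S := by
    rw [← em]
    exact isMulCommutative_map hab _
  obtain ⟨V, hVe, hVm, hVn⟩ := exists_omega_abelian hSab p
  have hVS : V ≤ S := fun v hv => ((hVm v).mp hv).1
  have hV2 : Nat.card V ≤ p ^ 2 := by
    rw [← Basics.card_conj_smul m⁻¹ V]
    refine hr2 _ ?_ (ea_map hVe _)
    rw [map_inv, Subgroup.pointwise_smul_subset_iff, inv_inv]
    exact hVS.trans em.ge
  have hyV : y ∈ V := (hVm y).mpr ⟨hYS (Subgroup.mem_zpowers y), hy₀ ▸ pow_orderOf_eq_one y⟩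
  obtain ⟨U, hU⟩ := exists_decomp hG h.hM h.hK
  obtain ⟨hW, hYW⟩ := S1365.result hG M h.hM K U hU h.hK1
  set N := M ⊓ Subgroup.normalizer (S : Set G) with hN
  have hcomm : ∀ z : G, z ∈ ⁅N, N⁆ → ∀ v ∈ V, Commute z v := by
    intro z hz v hv
    obtain ⟨z₁, z₂, e, -, hz₁, hz₂, hz₁π, hz₂π⟩ := exists_split hG z ({p} : Set ℕ)
    have hzN : z ∈ N := Subgroup.commutator_le_self N hz
    have hz₁N : z₁ ∈ N := Subgroup.zpowers_le.mpr hzN hz₁
    have hz₂N : z₂ ∈ N := Subgroup.zpowers_le.mpr hzN hz₂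
    have hz₁S : z₁ ∈ S := by
      have hZp : IsPGroup p (Subgroup.zpowers z₁) := by
        refine IsPGroup.iff_card.mpr ⟨(orderOf z₁).factorization p, ?_⟩
        rw [Nat.card_zpowers]
        refine Nat.eq_prime_pow_of_unique_prime_dvd (orderOf_pos z₁).ne' (fun {q} hq hd => hz₁π q hq hd) |>.trans ?_
        congr 1
        conv_rhs => rw [Nat.eq_prime_pow_of_unique_prime_dvd (orderOf_pos z₁).ne' (fun {q} hq hd => hz₁π q hq hd),
          hp.out.factorization_pow, Finsupp.single_eq_same]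
      exact (hS.eq_of_le (R := Subgroup.zpowers z₁ ⊔ S) (hZp.to_sup_of_normal_right' hSp
        (Subgroup.zpowers_le.mpr hz₁N.2)) (sup_le (Subgroup.zpowers_le.mpr hz₁N.1) hSM) le_sup_right) ▸
        Subgroup.mem_sup_left (Subgroup.mem_zpowers z₁)
    have hc₁ : Commute z₁ v := congrArg Subtype.val (hSab.is_comm.comm ⟨z₁, hz₁S⟩ ⟨v, hVS hv⟩)
    haveI : Group.IsSolvable N := Basics.isSolvable_of_le inf_le_left (isSolvable_of_ne_top hG h.hM.1)
    have hVN : V ≤ N := le_inf (hVS.trans hSM) (hVS.trans Subgroup.le_normalizer)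
    haveI : (V.subgroupOf N).Normal :=
      (Subgroup.normal_subgroupOf_iff_le_normalizer hVN).mpr (inf_le_right.trans hVn)
    have hc : (⟨z₂, hz₂N⟩ : N) ∈ commutator N := by
      have hz' : z₂ ∈ ⁅N, N⁆ := Subgroup.zpowers_le.mpr hz hz₂
      rw [← N.map_subtype_commutator] at hz'
      obtain ⟨w, hw, ew⟩ := hz'
      exact (Subtype.ext ew : w = ⟨z₂, hz₂N⟩) ▸ hw
    have hcop : (orderOf (⟨z₂, hz₂N⟩ : N)).Coprime p := by
      rw [Subgroup.orderOf_mk]
      exact (hp.out.coprime_iff_not_dvd.mpr fun hd => hz₂π p hp.out hd rfl).symm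
    have hh := derived_pPower_centralizes (T := V.subgroupOf N) (odd_card_subgroup hG N) hp2
      ((hSp.to_le hVS).comap_subtype (K := N)) (fun X _ => ((Subgroup.card_le_card_group X).trans
        (Basics.card_subgroupOf hVN).le).trans hV2) hc hcop
    have hc₂ : Commute v z₂ := congrArg Subtype.val (Subgroup.mem_centralizer_iff.mp hh ⟨v, hVN hv⟩ hv)
    rw [e]
    exact hc₁.mul_left hc₂.symm
  have hkN : k ∈ N := ⟨hkM, hkS (Subgroup.mem_zpowers k)⟩
  have hWle : ⁅M, M⁆ ≤ M := Subgroup.commutator_le_self M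
  have hfix : ∀ n ∈ N, n * y * n⁻¹ = y := by
    intro n hn
    set y' := n * y * n⁻¹ with hy'
    have hy'V : y' ∈ V := (Subgroup.mem_normalizer_iff.mp (hVn hn.2) y).mp hyV
    have hz : Commute (n * k * n⁻¹ * k⁻¹) y' := hcomm _ (commutatorElement_def n k ▸
      Subgroup.commutator_mem_commutator hn hkN) y' hy'V
    have h1 : Commute (n * k * n⁻¹) y' := by
      change n * k * n⁻¹ * (n * y * n⁻¹) = n * y * n⁻¹ * (n * k * n⁻¹)
      calc n * k * n⁻¹ * (n * y * n⁻¹) = n * (k * y) * n⁻¹ := by group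
        _ = n * (y * k) * n⁻¹ := by rw [hky.eq]
        _ = _ := by group
    have h2 : Commute k y' := by
      have hk' : k = (n * k * n⁻¹ * k⁻¹)⁻¹ * (n * k * n⁻¹) := by group
      rw [hk']
      exact hz.inv_left.mul_left h1
    have hy'A : y' ∈ A := by
      rw [hA, ← kappa_semiprime hG h.hM h.hK hkK hk1]
      exact Subgroup.mem_inf.mpr ⟨hSσ (hVS hy'V), Subgroup.mem_centralizer_singleton_iff.mpr h2.eq.symm⟩
    haveI := (h.facts hG).2.2
    have hAc : IsCyclic A := Subgroup.isCyclic_of_le (H := A)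
      (H' := K ⊔ (Cfsg.sigmaCore M ⊓ Subgroup.centralizer (K : Set G))) le_sup_right
    have hmap : (Subgroup.zpowers y).map (MulAut.conj n).toMonoidHom = Subgroup.zpowers y := by
      refine eq_of_le_cyclic hAc ?_ (Subgroup.zpowers_le.mpr hyA) (Subgroup.card_map_of_injective (MulAut.conj n).injective)
      rw [MonoidHom.map_zpowers]
      exact Subgroup.zpowers_le.mpr hy'A
    have hc := h.normalizer_le_centralizer hG (Subgroup.zpowers_le.mpr hyA) (hYc.symm ▸ hp.out)
      (Subgroup.mem_normalizer_iff_map_conj_eq.mpr hmap)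
    exact mul_inv_eq_iff_eq_mul.mpr (Subgroup.mem_centralizer_iff.mp hc y (Subgroup.mem_zpowers y)).symm
  set W := ⁅M, M⁆ with hWdef
  have hSW : S ≤ W := hSσ.trans (sigmaCore_le_derived hG h.hM)
  have hfac : (Nat.card W).factorization p = (Nat.card M).factorization p := le_antisymm
    ((Nat.factorization_le_iff_dvd Nat.card_pos.ne' Nat.card_pos.ne').mpr (Subgroup.card_dvd_of_le hWle) p)
    ((hp.out.pow_dvd_iff_le_factorization Nat.card_pos.ne').mp (hS.2 ▸ Subgroup.card_dvd_of_le hSW))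
  have hSWs : IsSylowIn p W S := ⟨hSW, by rw [hfac]; exact hS.2⟩
  obtain ⟨T, hT⟩ := hSWs.exists_sylow
  have hyS : y ∈ S := hYS (Subgroup.mem_zpowers y)
  have hyW : y ∈ W := hSW hyS
  refine hy1 (congrArg Subtype.val (eq_one_of_mem_derived (W := W) T ?_ (y := ⟨y, hyW⟩) ?_ ?_ ?_))
  · have hmem : ∀ a : (T : Subgroup W), ((a : W) : G) ∈ S := fun a => hT ▸ Subgroup.mem_map_of_mem W.subtype a.2
    exact ⟨⟨fun a b => Subtype.ext (Subtype.ext
      (congrArg Subtype.val (hSab.is_comm.comm ⟨_, hmem a⟩ ⟨_, hmem b⟩) :))⟩⟩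
  · obtain ⟨w, hw, ew⟩ := hT.symm ▸ hyS
    exact (Subtype.ext ew : w = ⟨y, hyW⟩) ▸ hw
  · have hz : y ∈ ⁅W, W⁆ := hYW hyA
    rw [← W.map_subtype_commutator] at hz
    obtain ⟨w, hw, ew⟩ := hz
    exact (Subtype.ext ew : w = ⟨y, hyW⟩) ▸ hw
  · intro n hn
    have hn' : (n : G) ∈ N := by
      refine ⟨hWle n.2, ?_⟩
      rw [← hT]
      exact Subgroup.le_normalizer_map W.subtype ⟨n, hn, rfl⟩
    have h' := hfix _ (inv_mem hn')
    rw [inv_inv] at h'
    exact Subtype.ext h'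

end DualPair

end Cfsg.Agent.OddLocal
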