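import Cfsg.Agent.Lib.OddLocal.ActionTools
import Cfsg.Agent.Lib.OddLocal.BetaCore
import Cfsg.Agent.Lib.OddLocal.ExceptionalB
import Cfsg.Agent.Lib.OddLocal.Puig

/-! Actions of Frobenius-like groups with small fixed point groups (tools for BG 13.4). -/

set_option autoImplicit false
set_option linter.unusedSectionVars false
set_option linter.style.haveILetI false

namespace Cfsg.Agent.OddLocal

open scoped commutatorElement Pointwise
open Cfsg
open Basics (IsSylowIn)

universe u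

variable {G : Type u} [Group G] [Finite G] {p r : ℕ} [hp : Fact p.Prime] [hr : Fact r.Prime]

/-- `fpf_centralizes` modulo an invariant normal subgroup containing the fixed points. -/
theorem commutator_mem_of_fixed_le {U Z K X : Subgroup G} (hU : IsPGroup p U) (hZU : Z ≤ U)
    (hUZ : U ≤ Subgroup.normalizer (Z : Set G)) (hX : Nat.card X = r) (hr2 : r ≠ 2) (hp2 : p ≠ 2) (hrp : r ≠ p)
    (hKodd : Odd (Nat.card K)) (hrK : ¬ r ∣ Nat.card K) (hpK : ¬ p ∣ Nat.card K)
    (hXK : X ≤ Subgroup.normalizer (K : Set G)) (hKU : K ≤ Subgroup.normalizer (U : Set G))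
    (hXU : X ≤ Subgroup.normalizer (U : Set G)) (hKZ : K ≤ Subgroup.normalizer (Z : Set G))
    (hXZ : X ≤ Subgroup.normalizer (Z : Set G)) (hfix : U ⊓ Subgroup.centralizer (X : Set G) ≤ Z) :
    ∀ c ∈ ⁅X, K⁆, ∀ u ∈ U, ⁅c, u⁆ ∈ Z := by
  set L := Subgroup.normalizer (Z : Set G) with hL
  haveI hn : (Z.subgroupOf L).Normal :=
    (Subgroup.normal_subgroupOf_iff_le_normalizer (hZU.trans hUZ)).mpr le_rfl
  set φ := QuotientGroup.mk' (Z.subgroupOf L) with hφ
  have hmemN : ∀ {H : Subgroup G}, H ≤ L → ∀ {V : Subgroup G}, V ≤ Subgroup.normalizer (H : Set G) → V ≤ L →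
      (V.subgroupOf L).map φ ≤ Subgroup.normalizer (((H.subgroupOf L).map φ : Subgroup (L ⧸ Z.subgroupOf L)) : Set _) := by
    intro H hHL V hV hVL
    refine le_trans (Subgroup.map_mono ?_) (Subgroup.le_normalizer_map φ)
    rw [← Subgroup.subgroupOf_normalizer_eq hHL]
    exact Subgroup.comap_mono hV
  have hcopZ : (Nat.card X).Coprime (Nat.card (Z.subgroupOf L)) := by
    rw [Basics.card_subgroupOf Subgroup.le_normalizer, hX]
    obtain ⟨k, hk⟩ := IsPGroup.iff_card.mp (hU.to_le hZU)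
    rw [hk]
    exact ((Nat.coprime_primes hr.out hp.out).mpr hrp).pow_right k
  have hXc : Nat.card ((X.subgroupOf L).map φ) = r := by
    have h1 := Basics.card_map_mul_card_inf_ker φ (X.subgroupOf L)
    have h2 : X.subgroupOf L ⊓ φ.ker = ⊥ := by
      rw [hφ, QuotientGroup.ker_mk']
      exact (Subgroup.disjoint_of_coprime_natCard (by rwa [Basics.card_subgroupOf hXZ])).eq_bot
    rwa [h2, Subgroup.card_bot, mul_one, Basics.card_subgroupOf hXZ, hX] at h1
  have hKdvd : Nat.card ((K.subgroupOf L).map φ) ∣ Nat.card K := by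
    refine (Subgroup.card_map_dvd _ _).trans ?_
    rw [Basics.card_subgroupOf hKZ]
  have h2 := fpf_centralizes (Q := (U.subgroupOf L).map φ) (hU.comap_subtype.map φ) hXc hr2 hp2 hrp
    (hKodd.of_dvd_nat hKdvd) (fun h => hrK (h.trans hKdvd)) (fun h => hpK (h.trans hKdvd))
    (hmemN hKZ hXK hXZ) (hmemN hUZ hKU hKZ) (hmemN hUZ hXU hXZ) ?_
  swap
  · rw [← Basics.map_inf_centralizer (X.subgroupOf L) (U.subgroupOf L) (Z.subgroupOf L) (Subgroup.comap_mono hZU)
      (by rw [Basics.card_subgroupOf hXZ]; exact hcopZ)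
      (Or.inl (by
        haveI := isCyclic_of_prime_card (α := X.subgroupOf L) (p := r) (by rw [Basics.card_subgroupOf hXZ, hX])
        infer_instance))]
    rw [eq_bot_iff]
    rintro _ ⟨x, ⟨hx, hxc⟩, rfl⟩
    have h3 : (x : G) ∈ Z := hfix ⟨hx, Subgroup.mem_centralizer_iff.mpr fun v hv =>
      congrArg Subtype.val (Subgroup.mem_centralizer_iff.mp hxc ⟨v, hXZ hv⟩ hv)⟩
    rw [Subgroup.mem_bot]
    exact (QuotientGroup.eq_one_iff (N := Z.subgroupOf L) x).mpr h3
  intro c hc u hu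
  have hcK : c ∈ K := Subgroup.le_normalizer_iff_commutator_le_right.mp hXK hc
  have hcb : φ ⟨c, hKZ hcK⟩ ∈ ⁅(X.subgroupOf L).map φ, (K.subgroupOf L).map φ⁆ := by
    rw [← Subgroup.map_commutator]
    refine ⟨⟨c, hKZ hcK⟩, ?_, rfl⟩
    have h4 : (⁅X.subgroupOf L, K.subgroupOf L⁆).map L.subtype = ⁅X, K⁆ := by
      rw [Subgroup.map_commutator, Subgroup.map_subgroupOf_eq_of_le hXZ, Subgroup.map_subgroupOf_eq_of_le hKZ]
    obtain ⟨c', hc', e⟩ := h4.ge hc
    exact (Subtype.ext e : c' = ⟨c, hKZ hcK⟩) ▸ hc'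
  have hub := Subgroup.mem_centralizer_iff.mp (h2 hcb) (φ ⟨u, hUZ hu⟩) ⟨⟨u, hUZ hu⟩, hu, rfl⟩
  have h5 : φ ⁅(⟨c, hKZ hcK⟩ : L), ⟨u, hUZ hu⟩⁆ = 1 := by
    rw [map_commutatorElement, commutatorElement_eq_one_iff_mul_comm, hub]
  exact (QuotientGroup.eq_one_iff (N := Z.subgroupOf L) _).mp h5

/-- The kernel centralizes a group when it centralizes a subgroup containing the fixed points. -/
theorem centralizes_of_fixed_le {U Z K X : Subgroup G} (hU : IsPGroup p U) (hZU : Z ≤ U)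
    (hUZ : U ≤ Subgroup.normalizer (Z : Set G)) (hX : Nat.card X = r) (hr2 : r ≠ 2) (hp2 : p ≠ 2) (hrp : r ≠ p)
    (hKodd : Odd (Nat.card K)) (hrK : ¬ r ∣ Nat.card K) (hpK : ¬ p ∣ Nat.card K)
    (hXK : X ≤ Subgroup.normalizer (K : Set G)) (hKU : K ≤ Subgroup.normalizer (U : Set G))
    (hXU : X ≤ Subgroup.normalizer (U : Set G)) (hKZ : K ≤ Subgroup.normalizer (Z : Set G))
    (hXZ : X ≤ Subgroup.normalizer (Z : Set G)) (hfix : U ⊓ Subgroup.centralizer (X : Set G) ≤ Z)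
    (hcZ : ⁅X, K⁆ ≤ Subgroup.centralizer (Z : Set G)) : ⁅X, K⁆ ≤ Subgroup.centralizer (U : Set G) := by
  intro c hc
  rw [Subgroup.mem_centralizer_iff]
  intro u hu
  have hm := commutator_mem_of_fixed_le hU hZU hUZ hX hr2 hp2 hrp hKodd hrK hpK hXK hKU hXU hKZ hXZ hfix c hc u hu
  have hcK : c ∈ K := Subgroup.le_normalizer_iff_commutator_le_right.mp hXK hc
  have hcop : (orderOf c).Coprime p :=
    ((hp.out.coprime_iff_not_dvd.mpr hpK).symm).coprime_dvd_left (Subgroup.orderOf_dvd_natCard _ hcK)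
  exact (commute_of_fixed_commutator (hU.to_le hZU) hcop hm
    ((Subgroup.mem_centralizer_iff.mp (hcZ hc) _ hm).symm)).symm.eq

/-- An invariant subgroup containing the fixed points of `X` and of `[X, K]` is everything. -/
theorem le_of_fixed_le {W V K X : Subgroup G} (hW : IsPGroup p W) (hVW : V ≤ W) (hX : Nat.card X = r) (hr2 : r ≠ 2)
    (hp2 : p ≠ 2) (hrp : r ≠ p) (hKodd : Odd (Nat.card K)) (hrK : ¬ r ∣ Nat.card K) (hpK : ¬ p ∣ Nat.card K)
    (hXK : X ≤ Subgroup.normalizer (K : Set G)) (hKW : K ≤ Subgroup.normalizer (W : Set G))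
    (hXW : X ≤ Subgroup.normalizer (W : Set G)) (hKV : K ≤ Subgroup.normalizer (V : Set G))
    (hXV : X ≤ Subgroup.normalizer (V : Set G)) (hfX : W ⊓ Subgroup.centralizer (X : Set G) ≤ V)
    (hfK : W ⊓ Subgroup.centralizer ((⁅X, K⁆ : Subgroup G) : Set G) ≤ V) : W ≤ V := by
  by_contra hne
  have hlt := lt_inf_normalizer_of_lt hW (lt_of_le_of_ne hVW fun e => hne e.ge)
  set U := W ⊓ Subgroup.normalizer (V : Set G) with hU
  have hVU : V ≤ U := hlt.le
  have hKU : K ≤ Subgroup.normalizer (U : Set G) :=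
    (le_inf hKW (hKV.trans Subgroup.le_normalizer)).trans le_normalizer_inf'
  have hXU : X ≤ Subgroup.normalizer (U : Set G) :=
    (le_inf hXW (hXV.trans Subgroup.le_normalizer)).trans le_normalizer_inf'
  have hm := commutator_mem_of_fixed_le (hW.to_le inf_le_left) hVU inf_le_right hX hr2 hp2 hrp hKodd hrK hpK hXK hKU
    hXU hKV hXV ((inf_le_inf_right _ inf_le_left).trans hfX)
  have hKc : ⁅X, K⁆ ≤ K := Subgroup.le_normalizer_iff_commutator_le_right.mp hXK
  obtain ⟨n, hn⟩ := IsPGroup.iff_card.mp (hW.to_le (inf_le_left : U ≤ W))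
  refine hlt.not_ge fun u hu => ?_
  obtain ⟨c, hc, hcu⟩ := Basics.exists_inf_centralizer_mem_coset ⁅X, K⁆ U V hVU inf_le_right (hKc.trans hKV)
    (by
      rw [hn]
      exact Nat.Coprime.pow_right n (((hp.out.coprime_iff_not_dvd.mpr fun h =>
        hpK (h.trans (Subgroup.card_dvd_of_le hKc)))).symm))
    (Or.inr (by haveI := (hW.to_le (inf_le_left : U ≤ W)).isNilpotent; infer_instance)) u hu fun a ha => hm a ha u hu
  have hcV : c ∈ V := hfK ⟨hc.1.1, hc.2⟩
  have := mul_mem hcV (inv_mem hcu)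
  simpa using this

/-- Two cyclic fixed point groups with a common element of order `p` force `T` to be cyclic. -/
theorem cyclic_fixed_false {T P K X : Subgroup G} (hT : IsPGroup p T) (hTnc : ¬ IsCyclic T) (hP : Nat.card P = p)
    (hPT : P ≤ T) (hX : Nat.card X = r) (hr2 : r ≠ 2) (hp2 : p ≠ 2) (hrp : r ≠ p)
    (hKodd : Odd (Nat.card K)) (hrK : ¬ r ∣ Nat.card K) (hpK : ¬ p ∣ Nat.card K)
    (hXK : X ≤ Subgroup.normalizer (K : Set G)) (hKT : K ≤ Subgroup.normalizer (T : Set G))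
    (hXT : X ≤ Subgroup.normalizer (T : Set G)) (hKP : K ≤ Subgroup.centralizer (P : Set G))
    (hXP : X ≤ Subgroup.centralizer (P : Set G)) (hcX : IsCyclic ↥(T ⊓ Subgroup.centralizer (X : Set G)))
    (hcK : IsCyclic ↥(T ⊓ Subgroup.centralizer ((⁅X, K⁆ : Subgroup G) : Set G))) : False := by
  classical
  have hKc : ⁅X, K⁆ ≤ K := Subgroup.le_normalizer_iff_commutator_le_right.mp hXK
  have hAP : ⁅X, K⁆ ≤ Subgroup.centralizer (P : Set G) := hKc.trans hKP
  have hone : ∀ {S : Subgroup G}, IsCyclic S → P ≤ S → ∀ x ∈ S, x ^ p = 1 → x ∈ P := by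
    intro S hS hPS x hx hxp
    by_cases hx1 : x = 1
    · exact hx1 ▸ one_mem P
    have h1 := eq_of_le_cyclic hS (Subgroup.zpowers_le.mpr hx) hPS
      (by rw [Nat.card_zpowers, orderOf_eq_prime hxp hx1, hP])
    exact h1 ▸ Subgroup.mem_zpowers x
  have hPX : P ≤ T ⊓ Subgroup.centralizer (X : Set G) := le_inf hPT (Subgroup.le_centralizer_iff.mp hXP)
  have hPK : P ≤ T ⊓ Subgroup.centralizer ((⁅X, K⁆ : Subgroup G) : Set G) :=
    le_inf hPT (Subgroup.le_centralizer_iff.mp hAP)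
  have hPn : K ≤ Subgroup.normalizer (P : Set G) ∧ X ≤ Subgroup.normalizer (P : Set G) :=
    ⟨hKP.trans (Subgroup.centralizer_le_normalizer _), hXP.trans (Subgroup.centralizer_le_normalizer _)⟩
  -- an invariant subgroup of exponent `p` over `P`
  have key : ∀ U : Subgroup G, U ≤ T → P ≤ U → (∀ x ∈ U, x ^ p = 1) → U ≤ Subgroup.normalizer (P : Set G) →
      K ≤ Subgroup.normalizer (U : Set G) → X ≤ Subgroup.normalizer (U : Set G) → U ≤ P := by
    intro U hUT hPU hexp hUP hKU hXU x hx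
    have h1 := centralizes_of_fixed_le (hT.to_le hUT) hPU hUP hX hr2 hp2 hrp hKodd hrK hpK hXK hKU hXU hPn.1 hPn.2
      (fun v hv => hone hcX hPX v ⟨hUT hv.1, hv.2⟩ (hexp v hv.1)) hAP
    exact hone hcK hPK x ⟨hUT hx, Subgroup.le_centralizer_iff.mp h1 hx⟩ (hexp x hx)
  -- `P` is central
  set ZT := (Subgroup.center T).map T.subtype with hZT
  have hZc : IsMulCommutative ZT := ⟨⟨fun a b => by
    obtain ⟨⟨_, a, ha, rfl⟩, ⟨_, b, hb, rfl⟩⟩ := a, b
    exact Subtype.ext (by simpa using congrArg Subtype.val (Subgroup.mem_center_iff.mp hb a))⟩⟩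
  obtain ⟨Z₁, hZ₁, hZ₁mem, hZ₁n⟩ := exists_omega_abelian hZc p
  have hZn : Subgroup.normalizer (T : Set G) ≤ Subgroup.normalizer (Z₁ : Set G) :=
    (normalizer_le_normalizer_map_characteristic _).trans hZ₁n
  have hZT' : ∀ x ∈ Z₁, x ∈ T ∧ ∀ t ∈ T, t * x = x * t := by
    intro x hx
    obtain ⟨v, hv, rfl⟩ := ((hZ₁mem x).mp hx).1
    exact ⟨v.2, fun t ht => congrArg Subtype.val (Subgroup.mem_center_iff.mp hv ⟨t, ht⟩)⟩
  haveI hTnt : Nontrivial T := (Subgroup.nontrivial_iff_ne_bot T).mpr fun e => hTnc (by rw [e]; infer_instance)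
  obtain ⟨z, hz, hzo⟩ : ∃ z ∈ Z₁, orderOf z = p := by
    haveI := hT.center_nontrivial
    rcases (hT.to_subgroup (Subgroup.center T)).card_eq_or_dvd with e | e
    · exact absurd e Finite.one_lt_card.ne'
    obtain ⟨v, hv⟩ := exists_prime_orderOf_dvd_card' p e
    have ho : orderOf ((v : T) : G) = p := by rw [Subgroup.orderOf_coe, Subgroup.orderOf_coe, hv]
    exact ⟨_, (hZ₁mem _).mpr ⟨⟨v, v.2, rfl⟩, ho ▸ pow_orderOf_eq_one _⟩, ho⟩
  have hPcent : ∀ x ∈ P, ∀ t ∈ T, t * x = x * t := by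
    set U := Z₁ ⊔ P with hU
    have hPZ : P ≤ Subgroup.centralizer (Z₁ : Set G) := fun x hx =>
      Subgroup.mem_centralizer_iff.mpr fun v hv => ((hZT' v hv).2 x (hPT hx)).symm
    have hZP : Z₁ ≤ Subgroup.normalizer (P : Set G) :=
      (Subgroup.le_centralizer_iff.mp hPZ).trans (Subgroup.centralizer_le_normalizer _)
    have hUP := key U (sup_le (fun v hv => (hZT' v hv).1) hPT) le_sup_right (fun x hx => by
        obtain ⟨a, ha, b, hb, rfl⟩ := (Basics.mem_sup_of_le_normalizer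
          (hPZ.trans (Subgroup.centralizer_le_normalizer _))).mp hx
        have hb' : b ^ p = 1 := by
          rw [← hP]
          exact congrArg Subtype.val (pow_card_eq_one' (x := (⟨b, hb⟩ : P)))
        rw [(show Commute a b from Subgroup.mem_centralizer_iff.mp (hPZ hb) a ha).mul_pow, hZ₁.2 a ha, hb', one_mul])
      (sup_le hZP Subgroup.le_normalizer)
      (fun k hk => by
        rw [← Basics.conj_smul_eq_self_iff, hU, Subgroup.smul_sup,
          Basics.conj_smul_eq_self_iff.mpr (hZn (hKT hk)), Basics.conj_smul_eq_self_iff.mpr (hPn.1 hk)])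
      (fun k hk => by
        rw [← Basics.conj_smul_eq_self_iff, hU, Subgroup.smul_sup,
          Basics.conj_smul_eq_self_iff.mpr (hZn (hXT hk)), Basics.conj_smul_eq_self_iff.mpr (hPn.2 hk)])
    have hzP : z ∈ P := hUP (Subgroup.mem_sup_left hz)
    have hzeq : Subgroup.zpowers z = P :=
      Subgroup.eq_of_le_of_card_ge (Subgroup.zpowers_le.mpr hzP) (by rw [Nat.card_zpowers, hzo, hP])
    intro x hx t ht
    exact (hZT' x ((Subgroup.zpowers_le.mpr hz) (hzeq ▸ hx))).2 t ht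
  -- the elements of order `p` of the second centre
  have hPnT : T ≤ Subgroup.normalizer (P : Set G) := fun t ht => Subgroup.centralizer_le_normalizer _
    (Subgroup.mem_centralizer_iff.mpr fun x hx => (hPcent x hx t ht).symm)
  let W : Subgroup G :=
    { carrier := {x | x ∈ T ∧ x ^ p = 1 ∧ ∀ t ∈ T, ⁅x, t⁆ ∈ P}
      one_mem' := ⟨one_mem T, one_pow p, fun t _ => by simp⟩
      mul_mem' := fun {a b} ha hb => by
        have hcen : ∀ c ∈ T, Commute ⁅b, a⁆ c := fun c hc => ((hPcent _ (hb.2.2 a ha.1)) c hc).symm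
        refine ⟨mul_mem ha.1 hb.1, ?_, fun t ht => ?_⟩
        · rw [Transfer.mul_pow_of_commute (hcen a ha.1) (hcen b hb.1), ha.2.1, hb.2.1, one_mul, one_mul]
          obtain ⟨m, hm⟩ : p ∣ p.choose 2 :=
            hp.out.dvd_choose_self two_ne_zero (lt_of_le_of_ne hp.out.two_le (Ne.symm hp2))
          have hcp : ⁅b, a⁆ ^ p = 1 := by
            rw [← hP]
            exact congrArg Subtype.val (pow_card_eq_one' (x := (⟨_, hb.2.2 a ha.1⟩ : P)))
          rw [hm, pow_mul, hcp, one_pow]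
        · rw [show ⁅a * b, t⁆ = a * ⁅b, t⁆ * a⁻¹ * ⁅a, t⁆ by simp only [commutatorElement_def]; group]
          exact mul_mem ((Subgroup.mem_normalizer_iff.mp (hPnT ha.1) _).mp (hb.2.2 t ht)) (ha.2.2 t ht)
      inv_mem' := fun {a} ha => ⟨inv_mem ha.1, by rw [inv_pow, ha.2.1, inv_one], fun t ht => by
        rw [show ⁅a⁻¹, t⁆ = a⁻¹ * ⁅a, t⁆⁻¹ * a⁻¹⁻¹ by simp only [commutatorElement_def]; group]
        exact (Subgroup.mem_normalizer_iff.mp (hPnT (inv_mem ha.1)) _).mp (inv_mem (ha.2.2 t ht))⟩ }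
  have hWmem : ∀ x, x ∈ W ↔ x ∈ T ∧ x ^ p = 1 ∧ ∀ t ∈ T, ⁅x, t⁆ ∈ P := fun _ => Iff.rfl
  have hWn : ∀ n, n ∈ Subgroup.normalizer (T : Set G) → n ∈ Subgroup.normalizer (P : Set G) →
      n ∈ Subgroup.normalizer (W : Set G) := by
    intro n hnT hnP
    refine mem_normalizer_of_conj_mem fun x hx => ?_
    obtain ⟨hxT, hxp, hxc⟩ := (hWmem x).mp hx
    refine (hWmem _).mpr ⟨(Subgroup.mem_normalizer_iff.mp hnT x).mp hxT, by rw [conj_pow, hxp, mul_one, mul_inv_cancel],
      fun t ht => ?_⟩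
    have ht' : n⁻¹ * t * n ∈ T := (Subgroup.mem_normalizer_iff''.mp hnT t).mp ht
    rw [show ⁅n * x * n⁻¹, t⁆ = n * ⁅x, n⁻¹ * t * n⁆ * n⁻¹ by simp only [commutatorElement_def]; group]
    exact (Subgroup.mem_normalizer_iff.mp hnP _).mp (hxc _ ht')
  have hPW : P ≤ W := fun x hx => (hWmem x).mpr ⟨hPT hx,
    by rw [← hP]; exact congrArg Subtype.val (pow_card_eq_one' (x := (⟨x, hx⟩ : P))),
    fun t ht => by rw [commutatorElement_eq_one_iff_mul_comm.mpr (hPcent x hx t ht).symm]; exact one_mem P⟩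
  have hWP := key W (fun x hx => ((hWmem x).mp hx).1) hPW (fun x hx => ((hWmem x).mp hx).2.1)
    (fun x hx => hPnT ((hWmem x).mp hx).1) (fun k hk => hWn k (hKT hk) (hPn.1 hk))
    (fun k hk => hWn k (hXT hk) (hPn.2 hk))
  -- a normal elementary abelian subgroup of order `p ^ 2`
  obtain ⟨E, -, hE⟩ := exists_isMaxNormalEA p (isElementaryAbelian_bot (G := T) (p := p))
  haveI := hE.1
  have hEbig : p < Nat.card E := by
    by_contra hle
    push Not at hle
    have hEc : E ≤ Subgroup.center T := le_center_of_card_le hT E hle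
    obtain ⟨V, hV, hVc⟩ := exists_ea_two_of_not_isCyclic hp2 hT hTnc
    have hVE : V ≤ E := fun a ha => mem_of_isMaxNormalEA hp2 hT hE
      (Subgroup.centralizer_eq_top_iff_subset.mpr hEc ▸ Subgroup.mem_top a) (hV.2 a ha)
    exact absurd ((Subgroup.card_le_of_le hVE).trans hle) (not_le.mpr hVc)
  obtain ⟨E₂, hE₂n, -, hE₂, hE₂big, hE₂c⟩ := exists_normal_le_card_sq hT E hE.2.1 hEbig
  haveI := hE₂n
  set PT := P.subgroupOf T with hPT'
  haveI hPTn : PT.Normal := (Subgroup.normal_subgroupOf_iff_le_normalizer hPT).mpr hPnT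
  have hPE : PT ≤ E₂ := by
    have hE₂ne : E₂ ≠ ⊥ := fun e => by
      rw [e, Subgroup.card_bot] at hE₂big; exact absurd hE₂big (not_lt.mpr hp.out.one_lt.le)
    obtain ⟨v, hv0, hvc, hv1⟩ := exists_mem_center_ne_one_of_normal hT E₂ hE₂ne
    have hv : v ∈ E₂ ⊓ Subgroup.center T := ⟨hv0, hvc⟩
    have hvW : (v : G) ∈ W := (hWmem _).mpr ⟨v.2, congrArg Subtype.val (hE₂.2 v hv.1), fun t ht => by
      rw [commutatorElement_eq_one_iff_mul_comm.mpr
        (congrArg Subtype.val (Subgroup.mem_center_iff.mp hv.2 ⟨t, ht⟩)).symm]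
      exact one_mem P⟩
    have hvP : v ∈ PT := hWP hvW
    have hgen : Subgroup.zpowers v = PT := Subgroup.eq_of_le_of_card_ge (Subgroup.zpowers_le.mpr hvP) (by
      rw [hPT', Basics.card_subgroupOf hPT, hP, Nat.card_zpowers, orderOf_eq_prime (hE₂.2 v hv.1) hv1])
    exact hgen ▸ Subgroup.zpowers_le.mpr hv.1
  have hEW : ∀ x ∈ E₂, (x : G) ∈ W := by
    intro x hx
    refine (hWmem _).mpr ⟨x.2, congrArg Subtype.val (hE₂.2 x hx), fun t ht => ?_⟩
    set φ := QuotientGroup.mk' PT with hφ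
    haveI : (E₂.map φ).Normal := hE₂n.map φ (QuotientGroup.mk'_surjective _)
    have hcard : Nat.card (E₂.map φ) ≤ p := by
      have h1 := Basics.card_map_mul_card_inf_ker φ E₂
      have h3 : E₂ ⊓ φ.ker = PT := by rw [hφ, QuotientGroup.ker_mk', inf_eq_right.mpr hPE]
      rw [h3, show Nat.card PT = p from (Basics.card_subgroupOf hPT).trans hP] at h1
      rw [pow_two, ← h1] at hE₂c
      exact Nat.le_of_mul_le_mul_right hE₂c hp.out.pos
    have hc := le_center_of_card_le (hT.to_quotient PT) (E₂.map φ) hcard ⟨x, hx, rfl⟩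
    have h2 : φ ⁅x, (⟨t, ht⟩ : T)⁆ = 1 := by
      rw [map_commutatorElement, commutatorElement_eq_one_iff_mul_comm]
      exact ((Subgroup.mem_center_iff.mp hc) _).symm
    exact (QuotientGroup.eq_one_iff (N := PT) _).mp h2
  have h5 : Nat.card E₂ ≤ Nat.card P := by
    rw [← Basics.card_subgroupOf hPT]
    exact Subgroup.card_le_of_le fun x hx => hWP (hEW x hx)
  omega

end Cfsg.Agent.OddLocal
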