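import Cfsg.Agent.Lib.OddLocal.KappaSupport
import Cfsg.Agent.Lib.OddLocal.Decomp
import Cfsg.Agent.Lib.OddLocal.KappaFittingHall
import Cfsg.Agent.Lib.OddLocal.KappaSylow
import Cfsg.Agent.Lib.OddLocal.PrimeActionTools

/-! A neighbour with nonempty `κ` (BG 15.8). -/

set_option autoImplicit false
set_option linter.unusedSectionVars false
set_option linter.style.haveILetI false

namespace Cfsg.Agent.OddLocal

open scoped commutatorElement Pointwise
open Cfsg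
open Basics (IsSylowIn)

universe u

variable {G : Type u} [Group G] [Finite G]

/-- A standard factorisation with both parts in a given complement. -/
theorem exists_decomp_in_compl (hG : IsMinSimpleOddOrder G) {N F : Subgroup G} (hN : IsCoatom N)
    (hF : IsComplIn F (Cfsg.sigmaCore N) N) (hk : (Cfsg.kappa N).Nonempty) :
    ∃ K U : Subgroup G, IsSigmaDecomposition N K U ∧ K ≠ ⊥ ∧ F = U ⊔ K := by
  obtain ⟨K₀, hK₀⟩ := exists_kappa_hall hG hN
  have hK₀1 : K₀ ≠ ⊥ := fun e => by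
    obtain ⟨q, hq⟩ := hk
    exact hK₀.2.2 q hq.1 hq (by rw [e, Subgroup.relIndex_bot_left]; exact hq.2.1)
  obtain ⟨-, E, U₀, hE, hKE, hUE, -, hU, hEU, hEeq, -⟩ := exists_kappa_compl hG hN hK₀ hK₀1
  obtain ⟨m, hm, hmE⟩ := exists_conj_le_compl hG hN hF hE.1 fun q hq hd => compl_primes hG hN hE hq hd
  have hcF : Nat.card E = Nat.card F := by
    have h1 := card_of_isComplIn hE
    rw [card_of_isComplIn hF] at h1
    exact (Nat.eq_of_mul_eq_mul_right Nat.card_pos h1).symm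
  have hEF : E.map (MulAut.conj m).toMonoidHom = F := by
    refine Subgroup.eq_of_le_of_card_ge ?_ (by rw [Subgroup.card_map_of_injective (MulAut.conj m).injective, hcF])
    rintro _ ⟨e, he, rfl⟩
    exact hmE (Basics.conj_mem_conj_smul he)
  set K := K₀.map (MulAut.conj m).toMonoidHom with hKdef
  set U := U₀.map (MulAut.conj m).toMonoidHom with hUdef
  have hKc : Nat.card K = Nat.card K₀ := Subgroup.card_map_of_injective (MulAut.conj m).injective
  have hUc : Nat.card U = Nat.card U₀ := Subgroup.card_map_of_injective (MulAut.conj m).injective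
  have hKN : K ≤ N := ((Subgroup.map_mono hK₀.1).trans (map_conj_eq_self hm).le)
  have hK : IsPiHallOf (Cfsg.kappa N) K N := isPiHallOf_of_factorization hKN
    (fun q hq hd => hK₀.2.1 q hq (hKc ▸ hd)) fun q hq hqk => by rw [hKc]; exact hallOf_factorization hK₀ hq hqk
  have hFeq : F = U ⊔ K := by rw [← hEF, hEeq, Subgroup.map_sup]
  have hKU : K ≤ Subgroup.normalizer (U : Set G) :=
    (Subgroup.map_mono hKE).trans (conj_le_normalizer_conj hEU m)
  refine ⟨K, U, ⟨kappa_cyclic hG hN hK, hK, ⟨(le_sup_left.trans hFeq.ge).trans hF.1,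
    sup_le hKN (sigmaCore_le N), ?_, fun n hn => ?_⟩, hKU⟩, fun e => ?_, hFeq⟩
  · refine (Subgroup.disjoint_of_coprime_natCard (Nat.coprime_of_dvd fun q hq h1 h2 => ?_)).eq_bot
    rw [hUc] at h1
    obtain ⟨-, hqk, hqσ⟩ := hU.2.1 q hq h1
    rw [sup_comm] at h2
    rcases hq.dvd_mul.mp (h2.trans (card_sup_dvd (hKN.trans (le_normalizer_sigmaCore N)))) with h | h
    · exact hqσ (piCoreOf_primes _ N hq h)
    · exact hqk (hK.2.1 q hq h)
  · obtain ⟨f, hf, s, hs, rfl⟩ := hF.2.2.2 n hn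
    rw [hFeq] at hf
    obtain ⟨a, ha, c, hc, rfl⟩ := (Basics.mem_sup_of_le_normalizer hKU).mp hf
    exact ⟨a, ha, c * s, mul_mem (Subgroup.mem_sup_left hc) (Subgroup.mem_sup_right hs), mul_assoc _ _ _⟩
  · exact hK₀1 (Subgroup.card_eq_one.mp (by rw [← hKc, e, Subgroup.card_bot]))

/-- `M` over an element `x` of `M_σ` whose neighbour `N` has `κ(N) ≠ ∅`. -/
theorem neighbor_kappa_setup (hG : IsMinSimpleOddOrder G) {M N : Subgroup G} {x : G} (hM : IsCoatom M)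
    (hN : IsCoatom N) (hx : x ∈ Cfsg.sigmaCore M) (hx1 : x ≠ 1) (hxM : ¬ Subgroup.centralizer ({x} : Set G) ≤ M)
    (hxN : Subgroup.centralizer ({x} : Set G) ≤ N) (hkN : (Cfsg.kappa N).Nonempty) :
    ∃ K U L : Subgroup G, IsSigmaDecomposition N K U ∧ DualPair N K L ∧ M ⊓ N = U ⊔ K ∧ x ∈ U ∧
      U ≤ Cfsg.sigmaCore M ∧ M ⊓ Subgroup.centralizer ({x} : Set G) ≤ U ∧
      (∃ p : ℕ, p.Prime ∧ p ∣ Nat.card N ∧ p ∉ Cfsg.sigma N ∧ p ∉ Cfsg.kappa N) ∧
      (∃ (k : G) (r : ℕ), Outside N K L M k r) := by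
  obtain ⟨N', hN', -, huniq, hconj, -, -, hcompl, hτ, -, -⟩ := exists_neighbor hG hM hx hx1 hxM
  obtain rfl : N = N' := huniq N hN hxN
  obtain ⟨K, U, hKU, hK1, hF⟩ := exists_decomp_in_compl hG hN hcompl hkN
  obtain ⟨L, hL, -, hKL, hs, -⟩ := exists_dual hG hN hKU.hall hK1
  have hd : DualPair N K L := ⟨hN, hL, hKU.hall, hK1, hKL, hs⟩
  have hKM : K ≤ M := (hF ▸ le_sup_right : K ≤ M ⊓ N).trans inf_le_left
  have hUM : U ≤ M := (hF ▸ le_sup_left : U ≤ M ⊓ N).trans inf_le_left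
  have hxN' : x ∈ N := hxN (Subgroup.mem_centralizer_singleton_iff.mpr rfl)
  obtain ⟨hUab, hfree, -, -⟩ := decomp_free hG hN hKU hK1
  have hxU : x ∈ U := by
    have h1 := mem_decomp hG hN hKU hxN' fun q hq hqd hqk => (hτ q hq hqd).2.2.2 (kappa_rank_one (hp := ⟨hq⟩) hqk)
    obtain ⟨u, hu, s, hs, e⟩ := (Basics.mem_sup_of_le_normalizer
      ((hKU.compl.1).trans (le_normalizer_sigmaCore N))).mp (sup_comm U (Cfsg.sigmaCore N) ▸ h1)
    have hu' : u ∈ (M ⊓ N) ⊓ Cfsg.sigmaCore N := Subgroup.mem_inf.mpr ⟨by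
      rw [show u = x * s⁻¹ by rw [e, mul_inv_cancel_right]]
      exact mul_mem (Subgroup.mem_inf.mpr ⟨sigmaCore_le M hx, hxN'⟩)
        (inv_mem (Subgroup.mem_inf.mpr ⟨hUM hs, hKU.compl.1 hs⟩)), hu⟩
    rw [hcompl.2.2.1, Subgroup.mem_bot] at hu'
    rwa [e, hu', one_mul]
  obtain ⟨r, hr, hrd⟩ := Nat.exists_prime_and_dvd fun e => hK1 (Subgroup.card_eq_one.mp e)
  haveI := Fact.mk hr
  obtain ⟨k₀, hk₀⟩ := exists_prime_orderOf_dvd_card' r hrd
  rw [← Subgroup.orderOf_coe] at hk₀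
  set k : G := (k₀ : G) with hk
  have hk1 : k ≠ 1 := fun e => hr.one_lt.ne (by rw [← hk₀, e, orderOf_one])
  have ho : Outside N K L M k r := by
    refine ⟨hd, hM, k₀.2, hk₀, hr, hKM k₀.2, fun g e => hconj g⁻¹ ?_, fun g e => ?_⟩
    · rw [e, map_conj_map_conj, inv_mul_cancel, map_conj_one]
    · have hML := eq_of_mem_conj hG hL (hs.le.trans inf_le_left k₀.2) hk1 (e ▸ hKM k₀.2 : k ∈ L.map _)
        (kstar_centralizer_le hG hL hKL (kappa_fixed_ne_bot hG hN hKU.hall hK1) (hs ▸ k₀.2) hk1)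
      refine kappa_fixed_ne_bot hG hN hKU.hall hK1 (le_bot_iff.mp (hcompl.2.2.1 ▸ le_inf (le_inf ?_ ?_) inf_le_left))
      · exact (le_sup_right.trans (hd.inf_eq hG).ge).trans (inf_le_right.trans (e.trans hML).ge)
      · exact inf_le_left.trans (sigmaCore_le N)
  obtain ⟨p, hp, hpd⟩ := Nat.exists_prime_and_dvd fun e => hx1 (orderOf_eq_one_iff.mp e)
  have hpU := hpd.trans (Subgroup.orderOf_dvd_natCard _ hxU)
  refine ⟨K, U, L, hKU, hd, hF, hxU, ho.le_sigmaCore hG hKU hUM fun e => hx1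
    (Subgroup.mem_bot.mp (e ▸ Subgroup.mem_inf.mpr ⟨hxU, hx⟩)), fun v hv => ?_,
    ⟨p, hp, hpU.trans (Subgroup.card_dvd_of_le hKU.compl.1), decomp_primes hG hN hKU hp hpU⟩, k, r, ho⟩
  obtain ⟨hvM, hvC⟩ := Subgroup.mem_inf.mp hv
  have hv' : v ∈ U ⊔ K := hF ▸ Subgroup.mem_inf.mpr ⟨hvM, hxN hvC⟩
  obtain ⟨u, hu, c, hc, rfl⟩ := (Basics.mem_sup_of_le_normalizer hKU.normal).mp hv'
  by_contra hcU
  have hc1 : c ≠ 1 := fun e => hcU (by rw [e, mul_one]; exact hu)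
  have hux : Commute u x := congrArg Subtype.val (hUab.is_comm.comm ⟨u, hu⟩ ⟨x, hxU⟩)
  have hcx : Commute c x := by
    have h2 := hux.inv_left.mul_left (show Commute (u * c) x from Subgroup.mem_centralizer_singleton_iff.mp hvC)
    rwa [inv_mul_cancel_left] at h2
  exact hx1 (Subgroup.mem_bot.mp (hfree c hc hc1 ▸ Subgroup.mem_inf.mpr ⟨hxU,
    Subgroup.mem_centralizer_singleton_iff.mpr hcx.eq.symm⟩))

/-- The prime of `K` is not in `τ₂(M)`. -/
theorem neighbor_tau2_ne (hG : IsMinSimpleOddOrder G) {M N K U L : Subgroup G} {x k : G} {r : ℕ}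
    (ho : Outside N K L M k r) (hP2 : ∃ p : ℕ, p.Prime ∧ p ∣ Nat.card N ∧ p ∉ Cfsg.sigma N ∧ p ∉ Cfsg.kappa N)
    (hx : x ∈ Cfsg.sigmaCore M) (hUσ : U ≤ Cfsg.sigmaCore M)
    (hxC : M ⊓ Subgroup.centralizer ({x} : Set G) ≤ U) (t : ℕ) : t ∈ Cfsg.tau2 M → t ≠ r := by
  intro hτ htr
  haveI := Fact.mk hτ.1
  haveI := Fact.mk ho.prime
  have hM := ho.max
  have hL := ho.pair.hL
  obtain ⟨p, hp, hpd, hpσ, hpk⟩ := hP2
  obtain ⟨E, hE, hkE⟩ := ho.exists_compl_mem hG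
  have hEL : E ≤ L := ho.compl_le_dual hG hp hpd hpσ hpk hE hkE
  have htL := ho.tau2_sigma_dual hG hp hpd hpσ hpk hτ
  obtain ⟨B, B₁, hB, hBE, hkB, hBL, hP⟩ := ho.tau2_le_dual hG hτ htL hE hkE
  set A := Cfsg.sigmaCore N ⊓ Subgroup.centralizer (K : Set G) with hAdef
  have hA1 : A ≠ ⊥ := kappa_fixed_ne_bot hG ho.pair.hM ho.pair.hK ho.pair.hK1
  obtain ⟨hKp, -, -⟩ := compl_prime hG ho.pair.hM ho.pair.hK ho.pair.hK1 hp hpd hpσ hpk
  have hKr : Nat.card K = r := ((Nat.prime_dvd_prime_iff_eq ho.prime hKp).mp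
    (ho.order ▸ Subgroup.orderOf_dvd_natCard _ ho.mem)).symm
  obtain ⟨q, hq, hqc, Q, hQ, hQσ, hQn, hKQ⟩ := exists_normal_sylow hG hL ho.pair.hKL hA1 hP
  rw [← ho.pair.hstar] at hqc hKQ
  obtain rfl : r = q := hKr.symm.trans hqc
  have hr2 : r ≠ 2 := prime_ne_two hG (hKr.symm.dvd.trans (Subgroup.card_subgroup_dvd_card K))
  have hd' := ho.pair.symm hG
  have hrd' : r ∣ Nat.card ↥(Cfsg.sigmaCore L ⊓ Subgroup.centralizer (A : Set G)) := by
    rw [hAdef, ← ho.pair.hstar, hKr]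
  subst htr
  rcases em (∀ S : Sylow t G, IsMulCommutative (S : Subgroup G)) with hab | hna
  · have hBQ : B ≤ Q :=
      le_sup_left.trans (hQ.eq_of_le (hB.isPGroup.to_sup_of_normal_right' hQ.isPGroup (hBL.trans hQn))
        (sup_le hBL hQ.1) le_sup_right).le
    obtain ⟨T, hT⟩ := hQ.isPGroup.exists_le_sylow
    haveI := hab T
    have hQab : IsMulCommutative Q := ⟨⟨fun a b => Subtype.ext
        (congrArg (fun z : (T : Subgroup G) => (z : G))
          (mul_comm' (⟨a, hT a.2⟩ : (T : Subgroup G)) ⟨b, hT b.2⟩) :)⟩⟩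
    refine hd'.sylow_not_abelian hG hrd' hQ hQab fun V hVQ hV => ?_
    have hVM : V ≤ M := fun v hv => hB.centralizer_le (Subgroup.mem_centralizer_iff.mpr fun b hb =>
      congrArg Subtype.val (hQab.is_comm.comm ⟨b, hBQ hb⟩ ⟨v, hVQ hv⟩))
    have h := hτ.2.2.1 (V.subgroupOf M) ⟨⟨fun a b => Subtype.ext (Subtype.ext
        (congrArg (fun z : V => (z : G)) (hV.1.is_comm.comm ⟨_, a.2⟩ ⟨_, b.2⟩) :))⟩⟩ fun a ha => Subtype.ext (hV.2 _ ha)
    rwa [Basics.card_subgroupOf hVM] at h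
  · obtain ⟨T₀, hT₀⟩ := not_forall.mp hna
    have hna' : ∀ S : Sylow t G, ¬ IsMulCommutative (S : Subgroup G) := fun S hS =>
      hT₀ (sylow_commutative_of_one hS T₀)
    obtain ⟨T, P, Z, n, -, -, -, -, -, -, -, -, -, -, -, -, -, hcent⟩ := hB.nonAb_data hG hna'
    obtain ⟨a, ha, ha1, -⟩ := exists_ne_one_of_card hB.line_card
    have haC : a ∈ Subgroup.centralizer (Cfsg.sigmaCore M : Set G) := (hcent.ge ha).2
    have haU : a ∈ U := hxC (Subgroup.mem_inf.mpr ⟨hB.le (hB.line_le ha),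
      Subgroup.mem_centralizer_singleton_iff.mpr (Subgroup.mem_centralizer_iff.mp haC x hx).symm⟩)
    have h0 := inf_sigmaCore_eq_bot hB.notσ hB.isPGroup
    exact ha1 (Subgroup.mem_bot.mp (h0 ▸ Subgroup.mem_inf.mpr ⟨hB.line_le ha, hUσ haU⟩))

/-- In that situation `τ₂(M)` is empty. -/
theorem neighbor_tau2_empty (hG : IsMinSimpleOddOrder G) {M N K U L : Subgroup G} {x k : G} {r : ℕ}
    (ho : Outside N K L M k r) (hP2 : ∃ p : ℕ, p.Prime ∧ p ∣ Nat.card N ∧ p ∉ Cfsg.sigma N ∧ p ∉ Cfsg.kappa N)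
    (hx : x ∈ Cfsg.sigmaCore M) (hUσ : U ≤ Cfsg.sigmaCore M)
    (hxC : M ⊓ Subgroup.centralizer ({x} : Set G) ≤ U) (t : ℕ) : t ∉ Cfsg.tau2 M := by
  intro hτ
  haveI := Fact.mk hτ.1
  haveI := Fact.mk ho.prime
  have hM := ho.max
  have hL := ho.pair.hL
  obtain ⟨p, hp, hpd, hpσ, hpk⟩ := hP2
  obtain ⟨E, hE, hkE⟩ := ho.exists_compl_mem hG
  have hEL : E ≤ L := ho.compl_le_dual hG hp hpd hpσ hpk hE hkE
  have htL := ho.tau2_sigma_dual hG hp hpd hpσ hpk hτ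
  obtain ⟨B, B₁, hB, hBE, hkB, hBL, hP⟩ := ho.tau2_le_dual hG hτ htL hE hkE
  set A := Cfsg.sigmaCore N ⊓ Subgroup.centralizer (K : Set G) with hAdef
  have hA1 : A ≠ ⊥ := kappa_fixed_ne_bot hG ho.pair.hM ho.pair.hK ho.pair.hK1
  obtain ⟨hKp, -, -⟩ := compl_prime hG ho.pair.hM ho.pair.hK ho.pair.hK1 hp hpd hpσ hpk
  have hKr : Nat.card K = r := ((Nat.prime_dvd_prime_iff_eq ho.prime hKp).mp
    (ho.order ▸ Subgroup.orderOf_dvd_natCard _ ho.mem)).symm
  obtain ⟨q, hq, hqc, Q, hQ, hQσ, hQn, hKQ⟩ := exists_normal_sylow hG hL ho.pair.hKL hA1 hP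
  rw [← ho.pair.hstar] at hqc hKQ
  obtain rfl : r = q := hKr.symm.trans hqc
  have hr2 : r ≠ 2 := prime_ne_two hG (hKr.symm.dvd.trans (Subgroup.card_subgroup_dvd_card K))
  have hd' := ho.pair.symm hG
  have hrd' : r ∣ Nat.card ↥(Cfsg.sigmaCore L ⊓ Subgroup.centralizer (A : Set G)) := by
    rw [hAdef, ← ho.pair.hstar, hKr]
  have htr : t ≠ r := neighbor_tau2_ne hG ho ⟨p, hp, hpd, hpσ, hpk⟩ hx hUσ hxC t hτ
  -- `k` centralizes `B`
  have hBk : B ≤ Subgroup.centralizer ({k} : Set G) := by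
    intro b hb
    refine Subgroup.mem_centralizer_singleton_iff.mpr (commutatorElement_eq_one_iff_mul_comm.mp ?_)
    refine Subgroup.disjoint_def.mp (Subgroup.disjoint_of_coprime_natCard (Nat.coprime_of_dvd fun s hs h1 h2 => ?_))
      (show ⁅b, k⁆ ∈ B from ?_) (show ⁅b, k⁆ ∈ Q from ?_)
    · rw [hB.card] at h1
      obtain ⟨n, hn⟩ := IsPGroup.iff_card.mp hQ.isPGroup
      rw [hn] at h2
      exact htr (((Nat.prime_dvd_prime_iff_eq hs hτ.1).mp (hs.dvd_of_dvd_pow h1)).symm.trans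
        ((Nat.prime_dvd_prime_iff_eq hs ho.prime).mp (hs.dvd_of_dvd_pow h2)))
    · rw [commutatorElement_def, mul_assoc, mul_assoc, ← mul_assoc k]
      exact mul_mem hb ((Subgroup.mem_normalizer_iff.mp hkB _).mp (inv_mem hb))
    · rw [commutatorElement_def]
      exact mul_mem ((Subgroup.mem_normalizer_iff.mp (hQn (hBL hb)) _).mp (hKQ ho.mem)) (inv_mem (hKQ ho.mem))
  -- a fixed point free element on an invariant Sylow subgroup of `C(k)`
  obtain ⟨s, hs, hsd⟩ := Nat.exists_prime_and_dvd fun e => hA1 (Subgroup.card_eq_one.mp e)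
  haveI := Fact.mk hs
  obtain ⟨y₀, hy₀⟩ := exists_prime_orderOf_dvd_card' s hsd
  rw [← Subgroup.orderOf_coe] at hy₀
  set y : G := (y₀ : G) with hy
  have hyA : y ∈ A := y₀.2
  have hy1 : y ≠ 1 := fun e => hs.one_lt.ne (by rw [← hy₀, e, orderOf_one])
  set X := Subgroup.zpowers y with hXdef
  have hXc : Nat.card X = s := by rw [hXdef, Nat.card_zpowers, hy₀]
  have hsL : s ∉ Cfsg.sigma L := (ho.pair.hKL.2.1 s hs hsd).2.2.1
  have hyL : y ∈ L := ho.pair.hKL.1 hyA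
  have hyk : Commute y k := (Subgroup.mem_centralizer_iff.mp hyA.2 k ho.mem).symm
  set C := Cfsg.sigmaCore L ⊓ Subgroup.centralizer ({k} : Set G) with hC
  have hBσ : B ≤ Cfsg.sigmaCore L := pGroup_le_sigmaCore hG hL htL hB.isPGroup hBL
  have hBC : B ≤ C := le_inf hBσ hBk
  have hXC : X ≤ Subgroup.normalizer (C : Set G) := Subgroup.zpowers_le.mpr (le_normalizer_inf'
    ⟨le_normalizer_sigmaCore L hyL, Subgroup.le_normalizer (Subgroup.mem_centralizer_singleton_iff.mpr hyk.eq)⟩)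
  have hsσ : ¬ s ∣ Nat.card (Cfsg.sigmaCore L) := fun h => hsL (piCoreOf_primes _ L hs h)
  have hcop : ∀ {H : Subgroup G}, H ≤ Cfsg.sigmaCore L → (Nat.card X).Coprime (Nat.card H) := fun hH => by
    rw [hXc]; exact hs.coprime_iff_not_dvd.mpr fun h => hsσ (h.trans (Subgroup.card_dvd_of_le hH))
  have hXs : Group.IsSolvable X := Basics.isSolvable_of_le (Subgroup.zpowers_le.mpr hyL) (isSolvable_of_ne_top hG hL.1)
  obtain ⟨T, hT, hXT⟩ := Basics.exists_invariant_isSylowIn X C hXC (hcop inf_le_left) (Or.inl hXs) t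
  obtain ⟨T₁, hT₁, hBT₁⟩ := exists_sylowIn_ge hB.isPGroup hBC
  obtain ⟨c, hc, ec⟩ := hT₁.exists_conj hT
  set B' := MulAut.conj c • B with hB'
  have hB'T : B' ≤ T := ec ▸ Subgroup.pointwise_smul_le_pointwise_smul_iff.mpr hBT₁
  have hTσ : T ≤ Cfsg.sigmaCore L := hT.1.trans inf_le_left
  have hfixX : Cfsg.sigmaCore L ⊓ Subgroup.centralizer (X : Set G) ≤ K := by
    rw [hXdef, centralizer_eq_of_zpowers, kappa_semiprime hG hL ho.pair.hKL hyA hy1, ← ho.pair.hstar]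
  have hTX : ⁅X, T⁆ = T := by
    have h := Basics.commutator_sup_inf_centralizer X T hXT (hcop hTσ) (Or.inl hXs)
    have h0 : T ⊓ Subgroup.centralizer (X : Set G) = ⊥ := by
      refine le_bot_iff.mp ((le_inf inf_le_left ((inf_le_inf_right _ hTσ).trans hfixX)).trans
        (Subgroup.disjoint_of_coprime_natCard ?_).eq_bot.le)
      obtain ⟨n, hn⟩ := IsPGroup.iff_card.mp hT.isPGroup
      rw [hn, hKr]
      exact ((Nat.coprime_primes hτ.1 ho.prime).mpr htr).pow_left n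
    rwa [h0, sup_bot_eq, Subgroup.commutator_comm] at h
  have hTL : T ≤ L := hTσ.trans (sigmaCore_le L)
  have hTt : ∀ {ℓ : ℕ}, ℓ.Prime → ℓ ≠ t → ¬ ℓ ∣ Nat.card T := fun {ℓ} hℓ hne hd0 => by
    obtain ⟨n, hn⟩ := IsPGroup.iff_card.mp hT.isPGroup
    rw [hn] at hd0
    exact hne ((Nat.prime_dvd_prime_iff_eq hℓ hτ.1).mp (hℓ.dvd_of_dvd_pow hd0))
  have hQT : Q ≤ Subgroup.centralizer (T : Set G) := by
    refine le_trans (le_of_fixed_le (p := r) (r := s) (V := Q ⊓ Subgroup.centralizer (T : Set G)) hQ.isPGroup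
      inf_le_left hXc (prime_ne_two hG (hy₀ ▸ orderOf_dvd_natCard y)) hr2
      (fun e => hsσ (e ▸ hKr.symm.dvd.trans (Subgroup.card_dvd_of_le (ho.pair.hstar.le.trans inf_le_left))))
      (odd_card_subgroup hG T) (hTt hs fun e => hsL (e ▸ htL)) (hTt ho.prime (Ne.symm htr)) hXT (hTL.trans hQn)
      (Subgroup.zpowers_le.mpr (hQn hyL))
      ((le_inf (hTL.trans hQn) Subgroup.le_normalizer).trans normalizer_le_normalizer_inf_centralizer)
      ((le_inf (Subgroup.zpowers_le.mpr (hQn hyL)) hXT).trans normalizer_le_normalizer_inf_centralizer)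
      (le_inf inf_le_left (((inf_le_inf_right _ hQσ).trans hfixX).trans fun v hv =>
        Subgroup.mem_centralizer_iff.mpr fun w hw => ?_)) (hTX.symm ▸ le_rfl)) inf_le_right
    have hwk : Commute w k := Subgroup.mem_centralizer_singleton_iff.mp (hT.1 hw).2
    have hKz : K = Subgroup.zpowers k := (Subgroup.eq_of_le_of_card_ge (Subgroup.zpowers_le.mpr ho.mem)
      (by rw [Nat.card_zpowers, ho.order, hKr])).symm
    obtain ⟨i, rfl⟩ := Subgroup.mem_zpowers_iff.mp (hKz ▸ hv)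
    exact (hwk.zpow_right i).eq
  have hQB : Q ≤ Subgroup.centralizer (B : Set G) := by
    intro v hv
    have hcn := hQn (sigmaCore_le L hc.1)
    refine Subgroup.mem_centralizer_iff.mpr fun b hb => ?_
    have h := Subgroup.mem_centralizer_iff.mp (hQT ((Subgroup.mem_normalizer_iff.mp hcn v).mp hv))
      (c * b * c⁻¹) (hB'T (Basics.conj_mem_conj_smul hb))
    calc b * v = c⁻¹ * (c * b * c⁻¹ * (c * v * c⁻¹)) * c := by group
      _ = c⁻¹ * (c * v * c⁻¹ * (c * b * c⁻¹)) * c := by rw [h]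
      _ = v * b := by group
  have hQM : Q ≤ M := hQB.trans hB.centralizer_le
  have hr1 : PRankLE r 1 M := by
    by_contra h1
    exact neighbor_tau2_ne hG ho ⟨p, hp, hpd, hpσ, hpk⟩ hx hUσ hxC r
      ⟨ho.prime, ho.notσ hG, pRankLE_two_of_not_mem_sigma hG hM (ho.notσ hG), h1⟩ rfl
  have hQc : IsCyclic Q := isCyclic_of_pRankLE_one hr2 hr1 hQM hQ.isPGroup
  exact hd'.sylow_not_abelian hG hrd' hQ hQc.isMulCommutative fun V hVQ hV =>
    (card_le_of_cyclic_ea hV (Subgroup.isCyclic_of_le hVQ)).trans (Nat.le_self_pow two_ne_zero r)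

end Cfsg.Agent.OddLocal
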