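import Cfsg.Agent.Lib.OddLocal.PrimeActionFitting
import Cfsg.Agent.S1446

/-! A prime action with fixed points of prime order on a normal `q`-group. -/

set_option autoImplicit false
set_option linter.unusedSectionVars false
set_option linter.style.haveILetI false

namespace Cfsg.Agent.OddLocal

open scoped commutatorElement
open Cfsg

universe u

/-- The derived subgroup of the fixed point free part centralizes `Q`. -/
theorem derived_centralizes_of_semiprime {H : Type u} [Group H] [Finite H] [Group.IsSolvable H]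
    (hodd : Odd (Nat.card H)) {Q D R : Subgroup H} [hQn : Q.Normal] {q : ℕ} [hq : Fact q.Prime] (hQ : IsPGroup q Q)
    (hqD : ¬ q ∣ Nat.card D) (hqR : ¬ q ∣ Nat.card R) (hDR : (Nat.card D).Coprime (Nat.card R))
    (hRD : R ≤ Subgroup.normalizer (D : Set H)) (hR : R ≠ ⊥)
    (hfrob : ∀ r ∈ R, r ≠ 1 → D ⊓ Subgroup.centralizer ({r} : Set H) = ⊥)
    (hprime : ∀ x ∈ R, x ≠ 1 → Q ⊓ Subgroup.centralizer ({x} : Set H) = Q ⊓ Subgroup.centralizer (R : Set H))
    (hA : Nat.card ↥(Q ⊓ Subgroup.centralizer (R : Set H)) = q) : ⁅D, D⁆ ≤ Subgroup.centralizer (Q : Set H) := by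
  haveI := hQ.isNilpotent
  set Φ := (frattini ↥Q).map Q.subtype with hΦ
  haveI hΦn : Φ.Normal := ConjAct.normal_of_characteristic_of_normal
  have hΦQ : Φ ≤ Q := Subgroup.map_subtype_le _
  let f := QuotientGroup.mk' Φ
  set V := Q.map f with hV
  haveI hVn : V.Normal := hQn.map f (QuotientGroup.mk'_surjective _)
  haveI hVc : IsMulCommutative V := by
    refine ⟨⟨?_⟩⟩
    rintro ⟨_, a, ha, rfl⟩ ⟨_, b, hb, rfl⟩
    refine Subtype.ext ?_
    change f a * f b = f b * f a
    rw [← commutatorElement_eq_one_iff_mul_comm, ← map_commutatorElement]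
    exact (QuotientGroup.eq_one_iff _).mpr ⟨⁅(⟨a, ha⟩ : Q), ⟨b, hb⟩⁆, Basics.commutator_le_frattini
      (Subgroup.commutator_mem_commutator (Subgroup.mem_top _) (Subgroup.mem_top _)), rfl⟩
  have hVp : IsPGroup q V := hQ.map f
  have hqcop : ∀ {B : Subgroup H}, ¬ q ∣ Nat.card B → ∀ {C : Type u} [Group C] [Finite C], IsPGroup q C →
      (Nat.card B).Coprime (Nat.card C) := fun hB C _ _ hC => by
    obtain ⟨k, hk⟩ := IsPGroup.iff_card.mp hC
    rw [hk]
    exact ((hq.out.coprime_iff_not_dvd.mpr hB).symm).pow_right k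
  have hAN : ∀ {B : Subgroup (H ⧸ Φ)}, B ≤ Subgroup.normalizer (V : Set (H ⧸ Φ)) :=
    fun {B} => Subgroup.le_normalizer_of_normal
  have hcopD : (Nat.card (D.map f)).Coprime (Nat.card V) :=
    (hqcop hqD hVp).coprime_dvd_left (Subgroup.card_map_dvd _ _)
  suffices key : ∀ d ∈ ⁅D, D⁆, ∀ v ∈ V, Commute (f d) v by
    intro d hd
    have hdD : d ∈ D := Subgroup.commutator_le_self D hd
    refine Subgroup.mem_centralizer_iff.mpr fun a ha => ?_
    refine (LocalEvenB.commute_of_frattini hQ (by rw [Subgroup.normalizer_eq_top]; trivial)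
      ((hq.out.coprime_iff_not_dvd.mpr fun h => hqD (h.trans (Subgroup.orderOf_dvd_natCard _ hdD))).symm)
      (fun y hy => ?_) a ha).eq.symm
    refine (QuotientGroup.eq_one_iff _).mp ?_
    change f (d * y * d⁻¹ * y⁻¹) = 1
    rw [map_mul, map_mul, map_mul, map_inv, map_inv, (key d hd (f y) ⟨y, hy, rfl⟩).eq, mul_inv_cancel_right,
      mul_inv_cancel]
  intro d hd v hv
  set W := ⁅V, D.map f⁆ with hW
  obtain ⟨w, hw, c, hc, rfl⟩ := Basics.exists_mem_commutator_mul (D.map f) V hAN hcopD (Or.inr inferInstance) hv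
  have hfd : f d ∈ D.map f := ⟨d, Subgroup.commutator_le_self D hd, rfl⟩
  refine Commute.mul_right ?_ (show Commute (f d) c from Subgroup.mem_centralizer_iff.mp hc.2 _ hfd)
  by_cases hW1 : W = ⊥
  · rw [← hW, hW1, Subgroup.mem_bot] at hw
    rw [hw]; exact Commute.one_right _
  have hWV : W ≤ V := Subgroup.commutator_le_left _ _
  haveI : IsMulCommutative W :=
    ⟨⟨fun a b => Subtype.ext (congrArg Subtype.val (mul_comm' (⟨a, hWV a.2⟩ : V) ⟨b, hWV b.2⟩) :)⟩⟩
  have hWp : IsPGroup q W := hVp.to_le hWV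
  have hfix : ∀ x ∈ R, x ≠ 1 → V ⊓ Subgroup.centralizer (((Subgroup.zpowers x).map f : Subgroup _) : Set (H ⧸ Φ)) =
      (Q ⊓ Subgroup.centralizer (R : Set H)).map f := by
    intro x hx hx1
    rw [hV, ← Basics.map_inf_centralizer (Subgroup.zpowers x) Q Φ hΦQ
      (hqcop (B := Subgroup.zpowers x) (fun h => hqR (h.trans (Subgroup.card_dvd_of_le (Subgroup.zpowers_le.mpr hx))))
        (hQ.to_le hΦQ)) (Or.inl inferInstance), Subgroup.zpowers_eq_closure, Subgroup.centralizer_closure, hprime x hx hx1]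
  obtain ⟨x₀, hx₀, hx₀1⟩ := (Subgroup.bot_or_exists_ne_one R).resolve_left hR
  have hone : ∀ {B : Subgroup H}, ¬ q ∣ Nat.card B → ∀ b ∈ B, b ∈ Φ → b = 1 := fun {B} hB b hb hbΦ => by
    refine Subgroup.disjoint_def.mp (Subgroup.disjoint_of_coprime_natCard ?_) hb hbΦ
    exact hqcop hB (hQ.to_le hΦQ)
  have hR' : R.map f ≠ ⊥ := fun e => hx₀1 (hone hqR x₀ hx₀ ((QuotientGroup.eq_one_iff _).mp
    (Subgroup.mem_bot.mp (e ▸ Subgroup.mem_map_of_mem f hx₀))))
  have hD' : D.map f ≠ ⊥ := fun e => hW1 (by rw [hW, e, Subgroup.commutator_bot_right])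
  have hconj : ∀ y ∈ R.map f, y ∈ Subgroup.normalizer (W : Set (H ⧸ Φ)) := by
    intro y hy
    rw [Subgroup.mem_normalizer_iff_map_conj_eq, hW, Subgroup.map_commutator,
      Subgroup.mem_normalizer_iff_map_conj_eq.mp (hAN (B := R.map f) hy),
      Subgroup.mem_normalizer_iff_map_conj_eq.mp (((Subgroup.map_mono hRD).trans (Subgroup.le_normalizer_map f)) hy)]
  have hRfix : W ⊓ Subgroup.centralizer ((R.map f : Subgroup _) : Set (H ⧸ Φ)) ≤
      (Q ⊓ Subgroup.centralizer (R : Set H)).map f := by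
    rw [← hfix x₀ hx₀ hx₀1]
    exact inf_le_inf hWV (Subgroup.centralizer_le (Subgroup.map_mono (Subgroup.zpowers_le.mpr hx₀)))
  have hsup : (Nat.card ↥(D.map f ⊔ R.map f)).Coprime (Nat.card W) := by
    rw [← Subgroup.map_sup]
    refine Nat.Coprime.coprime_dvd_left (Subgroup.card_map_dvd _ _) (hqcop (fun h => ?_) hWp)
    rw [Basics.card_sup_of_coprime hRD hDR] at h
    exact (hq.out.dvd_mul.mp h).elim hqD hqR
  obtain ⟨-, -, hder⟩ := S1446.result (D.map f) (R.map f) W hD' hR'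
    ((Subgroup.disjoint_of_coprime_natCard ((hDR.coprime_dvd_left (Subgroup.card_map_dvd _ _)).coprime_dvd_right
      (Subgroup.card_map_dvd _ _))).eq_bot)
    ((Subgroup.map_mono hRD).trans (Subgroup.le_normalizer_map f))
    (by
      rintro _ ⟨r, hr, rfl⟩ hr1
      refine (Subgroup.eq_bot_iff_forall _).mpr ?_
      rintro _ ⟨⟨e, he, rfl⟩, hcomm⟩
      have hre : r * e * r⁻¹ * e⁻¹ = 1 := hone hqD _
        (mul_mem ((Subgroup.mem_normalizer_iff.mp (hRD hr) e).mp he) (inv_mem he))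
        ((QuotientGroup.eq_one_iff _).mp (by
          change f (r * e * r⁻¹ * e⁻¹) = 1
          rw [map_mul, map_mul, map_mul, map_inv, map_inv,
            ← Subgroup.mem_centralizer_singleton_iff.mp hcomm, mul_inv_cancel_right, mul_inv_cancel]))
      have he1 : e ∈ D ⊓ Subgroup.centralizer ({r} : Set H) := Subgroup.mem_inf.mpr
        ⟨he, Subgroup.mem_centralizer_singleton_iff.mpr (mul_inv_eq_iff_eq_mul.mp (mul_inv_eq_one.mp hre)).symm⟩
      rw [hfrob r hr (fun e' => hr1 (by rw [e', map_one])), Subgroup.mem_bot] at he1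
      rw [he1, map_one])
    inferInstance (hodd.of_dvd_nat ((Subgroup.card_subgroup_dvd_card _).trans (Subgroup.card_quotient_dvd_card Φ)))
    hW1 hWp.isNilpotent (Subgroup.normalizer_commutator_ge_right _ _) hconj hsup
    (le_bot_iff.mp ((Basics.inf_centralizer_inf_commutator_eq_bot (D.map f) V hAN hcopD) ▸
      le_inf (inf_le_inf_right _ hWV) inf_le_left))
    (by
      rintro _ ⟨x, hx, rfl⟩ hx1
      refine le_antisymm (fun a ha => Subgroup.mem_inf.mpr ⟨ha.1, ?_⟩) fun a ha => Subgroup.mem_inf.mpr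
        ⟨ha.1, Subgroup.centralizer_le (Set.singleton_subset_iff.mpr (Subgroup.mem_map_of_mem f hx)) ha.2⟩
      have hx1' : x ≠ 1 := fun e => hx1 (by rw [e, map_one])
      have h1 : a ∈ V ⊓ Subgroup.centralizer (((Subgroup.zpowers x).map f : Subgroup _) : Set (H ⧸ Φ)) := by
        refine Subgroup.mem_inf.mpr ⟨hWV ha.1, ?_⟩
        rw [MonoidHom.map_zpowers, Subgroup.zpowers_eq_closure, Subgroup.centralizer_closure]
        exact ha.2
      rw [hfix x hx hx1'] at h1
      obtain ⟨b, hb, rfl⟩ := h1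
      refine Subgroup.mem_centralizer_iff.mpr ?_
      rintro _ ⟨y, hy, rfl⟩
      rw [← map_mul, ← map_mul, Subgroup.mem_centralizer_iff.mp hb.2 y hy])
  haveI : IsCyclic ↥(Q ⊓ Subgroup.centralizer (R : Set H)) := isCyclic_of_prime_card hA
  haveI : IsCyclic ↥((Q ⊓ Subgroup.centralizer (R : Set H)).map f) :=
    isCyclic_of_surjective (f.subgroupMap _) (f.subgroupMap_surjective _)
  have h := hder (Subgroup.isCyclic_of_le hRfix)
  rw [← Subgroup.map_commutator] at h
  exact (Subgroup.mem_centralizer_iff.mp (h ⟨d, hd, rfl⟩) w hw).symm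

end Cfsg.Agent.OddLocal
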