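import Cfsg.Agent.Lib.OddLocal.SigmaDecomp

/-! The maximal subgroup over the centralizer of a `σ`-element (BG 14.4). -/

set_option autoImplicit false
set_option linter.unusedSectionVars false
set_option linter.style.haveILetI false

namespace Cfsg.Agent.OddLocal

open scoped commutatorElement Pointwise
open Cfsg
open Basics (IsSylowIn)

universe u

variable {G : Type u} [Group G] [Finite G] {p : ℕ} [hp : Fact p.Prime]

omit hp in
/-- An element of a complement has its centralizer split. -/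
theorem fixed_factor {N E B : Subgroup G} (hE : IsComplIn E B N) (hEB : E ≤ Subgroup.normalizer (B : Set G))
    {a c : G} (ha : a ∈ E) (hc : c ∈ N) (hac : a * c = c * a) :
    ∃ e ∈ E, ∃ b ∈ B, c = e * b ∧ a * e = e * a ∧ a * b = b * a := by
  obtain ⟨e, he, b, hb, rfl⟩ := hE.2.2.2 c hc
  have h1 : e⁻¹ * a * e * a⁻¹ ∈ E ⊓ B := by
    refine Subgroup.mem_inf.mpr ⟨mul_mem (mul_mem (mul_mem (inv_mem he) ha) he) (inv_mem ha), ?_⟩
    have e' : e⁻¹ * a * e * a⁻¹ = b * (a * b⁻¹ * a⁻¹) := by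
      calc e⁻¹ * a * e * a⁻¹ = e⁻¹ * (a * (e * b)) * b⁻¹ * a⁻¹ := by group
        _ = e⁻¹ * ((e * b) * a) * b⁻¹ * a⁻¹ := by rw [hac]
        _ = b * (a * b⁻¹ * a⁻¹) := by group
    rw [e']
    exact mul_mem hb ((Subgroup.mem_normalizer_iff.mp (hEB ha) _).mp (inv_mem hb))
  rw [hE.2.2.1, Subgroup.mem_bot, mul_inv_eq_one, mul_assoc, inv_mul_eq_iff_eq_mul] at h1
  refine ⟨e, he, b, hb, rfl, h1, ?_⟩
  have h3 : e * (a * b) = e * (b * a) := by rw [← mul_assoc, ← h1, mul_assoc, hac, mul_assoc]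
  exact mul_left_cancel h3

omit hp in
theorem fittingHallOf_le_sigmaCore (hG : IsMinSimpleOddOrder G) {M : Subgroup G} (hM : IsCoatom M) :
    Cfsg.fittingHallOf M ≤ Cfsg.sigmaCore M := by
  refine Subgroup.map_le_iff_le_comap.mpr (sSup_le fun N hN => Subgroup.map_le_iff_le_comap.mp ?_)
  obtain ⟨hNn, hNnil, hNc⟩ := hN
  refine le_of_sylows fun q hq hd => ?_
  haveI := Fact.mk hq
  obtain ⟨P⟩ : Nonempty (Sylow q N) := inferInstance
  haveI := hNnil
  haveI : (P : Subgroup N).Normal := Sylow.normal_of_normalizerCondition normalizerCondition_of_isNilpotent P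
  haveI : (P : Subgroup N).Characteristic := P.characteristic_of_normal inferInstance
  set S := ((P : Subgroup N).map N.subtype).map M.subtype with hS
  have hc : Nat.card S = q ^ (Nat.card N).factorization q := by
    rw [hS, Subgroup.card_map_of_injective M.subtype_injective, Subgroup.card_map_of_injective N.subtype_injective,
      P.card_eq_multiplicity]
  have hd' : q ∣ Nat.card N := by rwa [Subgroup.card_map_of_injective M.subtype_injective] at hd
  have hSN : IsSylowIn q (N.map M.subtype) S := ⟨Subgroup.map_mono (Subgroup.map_subtype_le _), by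
    rw [hc, Subgroup.card_map_of_injective M.subtype_injective]⟩
  have hSM : IsSylowIn q M S := by
    refine ⟨Subgroup.map_subtype_le _, ?_⟩
    rw [hc, ← Subgroup.card_mul_index N, Nat.factorization_mul Nat.card_pos.ne' Subgroup.index_ne_zero_of_finite,
      Finsupp.add_apply, Nat.factorization_eq_zero_of_not_dvd (n := N.index) fun h =>
        Nat.not_coprime_of_dvd_of_dvd hq.one_lt hd' h hNc, add_zero]
  have hS1 : S ≠ ⊥ := fun e => by
    rw [e, Subgroup.card_bot] at hc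
    exact (Nat.one_lt_pow (hq.factorization_pos_of_dvd Nat.card_pos.ne' hd').ne' hq.one_lt).ne hc
  have hn : M ≤ Subgroup.normalizer (S : Set G) := by
    haveI := hNn
    haveI : ((P : Subgroup N).map N.subtype).Normal := ConjAct.normal_of_characteristic_of_normal
    exact le_normalizer_map_subtype _
  have hσ : q ∈ Cfsg.sigma M :=
    mem_sigma_of_normalizer_le hSM hS1 (normalizer_eq_of_le hG hM hS1 hSM.1 hn).le
  exact ⟨S, hSN, pGroup_le_sigmaCore hG hM hσ hSM.isPGroup hSM.1⟩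

omit hp in
theorem fittingHallOf_eq_sigmaCore (hG : IsMinSimpleOddOrder G) {M : Subgroup G} (hM : IsCoatom M)
    (hn : Group.IsNilpotent (Cfsg.sigmaCore M)) : Cfsg.fittingHallOf M = Cfsg.sigmaCore M := by
  refine le_antisymm (fittingHallOf_le_sigmaCore hG hM) (Subgroup.map_mono ?_)
  have hH := (sigmaCore_hall hG hM).1
  refine le_sSup ⟨Cfsg.piCore_normal _ _, ?_, ?_⟩
  · haveI : Group.IsNilpotent ↥((Cfsg.piCore (Cfsg.sigma M) M).map M.subtype) := hn
    exact Group.nilpotent_of_mulEquiv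
      (Subgroup.equivMapOfInjective (Cfsg.piCore (Cfsg.sigma M) M) M.subtype M.subtype_injective).symm
  · refine Nat.coprime_of_dvd fun q hq h1 h2 => ?_
    have h1' : q ∣ Nat.card (Cfsg.sigmaCore M) := by
      rwa [Cfsg.sigmaCore, Subgroup.card_map_of_injective M.subtype_injective]
    refine hH.2.2 q hq (hH.2.1 q hq h1') ?_
    rwa [Cfsg.sigmaCore, Subgroup.relIndex, ← Subgroup.comap_subtype, Subgroup.comap_map_eq_self_of_injective M.subtype_injective]

/-- The prime order case. -/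
theorem exists_neighbor_line (hG : IsMinSimpleOddOrder G) {M X : Subgroup G} (hM : IsCoatom M)
    (hps : p ∈ Cfsg.sigma M) (hXM : X ≤ M) (hX : Nat.card X = p)
    (hC : ¬ Subgroup.centralizer (X : Set G) ≤ M) :
    ∃ N A A₀ : Subgroup G, IsCoatom N ∧ (∀ g : G, N ≠ M.map (MulAut.conj g).toMonoidHom) ∧ Exc p N A A₀ ∧
      X ≤ A ∧ A ≤ M ∧ IsComplIn (M ⊓ N) (Cfsg.sigmaCore N) N ∧ Subgroup.centralizer (X : Set G) ≤ N ∧
      (∀ L : Subgroup G, IsCoatom L → Subgroup.centralizer (X : Set G) ≤ L → L = N) ∧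
      Cfsg.sigmaCore N ⊓ Subgroup.centralizer (X : Set G) ≠ ⊥ := by
  have hX1 : X ≠ ⊥ := fun e => by rw [e, Subgroup.card_bot] at hX; exact hp.out.one_lt.ne hX
  have hXp : IsPGroup p X := IsPGroup.of_card (n := 1) (hX.trans (pow_one p).symm)
  obtain ⟨x, hx, hx1, hxX⟩ := exists_ne_one_of_card hX
  obtain ⟨N, hN, hCN⟩ := exists_maximal_ge (centralizer_ne_top hG (s := (X : Set G)) hx hx1)
  have hXC : X ≤ Subgroup.centralizer (X : Set G) := by
    haveI : IsCyclic X := isCyclic_of_prime_card hX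
    exact Subgroup.le_centralizer_iff_isMulCommutative.mpr IsCyclic.isMulCommutative
  have hXN : X ≤ N := hXC.trans hCN
  have hconj : ∀ g : G, N ≠ M.map (MulAut.conj g).toMonoidHom := fun g hg =>
    hC (conj_eq_of_centralizer_le hG hM hps hXp hX1 hXM hg hXN hCN ▸ hCN)
  have hNM : N ≠ M := fun e => hconj 1 (by rw [map_conj_one, e])
  have hpN : p ∉ Cfsg.sigma N := fun h => by
    obtain ⟨g, hg⟩ := sigma_disjoint hG hM hN hps h
    exact hconj g hg
  have hr1 : ¬ PRankLE p 1 N := by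
    intro h1
    obtain ⟨S, hS, hXS⟩ := exists_sylowIn_ge hXp (pGroup_le_sigmaCore hG hM hps hXp hXM)
    obtain ⟨T, hT⟩ := hS.exists_sylow_top hG hM hps
    have hS1 : S ≠ ⊥ := fun e => hX1 (le_bot_iff.mp (e ▸ hXS))
    have hp2 : p ≠ 2 := prime_ne_two hG (hX ▸ Subgroup.card_subgroup_dvd_card X)
    obtain ⟨z, hz, hzo, hzc⟩ := exists_central_mem hS.isPGroup le_rfl Subgroup.le_normalizer hS1
    set W := S ⊓ Subgroup.centralizer (X : Set G) with hW
    have hWc : IsCyclic W :=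
      isCyclic_of_pRankLE_one hp2 h1 (inf_le_right.trans hCN) (hS.isPGroup.to_le inf_le_left)
    have hzW : z ∈ W := Subgroup.mem_inf.mpr ⟨hz, Subgroup.mem_centralizer_iff.mpr fun a ha =>
      Subgroup.mem_centralizer_singleton_iff.mp (hzc (hXS ha))⟩
    have hzX : Subgroup.zpowers z = X := eq_of_le_cyclic hWc (Subgroup.zpowers_le.mpr hzW) (le_inf hXS hXC)
      (by rw [Nat.card_zpowers, hzo, hX])
    have hSC : S ≤ Subgroup.centralizer (X : Set G) := by
      rw [← hzX, centralizer_eq_of_zpowers]; exact hzc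
    have hSc : IsCyclic S := by rwa [hW, inf_eq_left.mpr hSC] at hWc
    have hNS : Subgroup.normalizer (S : Set G) ≤ Subgroup.normalizer (X : Set G) := fun g hg =>
      Subgroup.mem_normalizer_iff_map_conj_eq.mpr (eq_of_le_cyclic hSc
        ((Subgroup.map_mono hXS).trans (Subgroup.mem_normalizer_iff_map_conj_eq.mp hg).le) hXS
        (Subgroup.card_map_of_injective (MulAut.conj g).injective))
    obtain ⟨L, hL, hNL⟩ := exists_maximal_ge
      (normalizer_ne_top hG hX1 fun e => hM.1 (top_le_iff.mp (e ▸ hXM)))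
    have hCL : Subgroup.centralizer (X : Set G) ≤ L := (Subgroup.centralizer_le_normalizer _).trans hNL
    have hSL : IsSylowIn p L S := isSylowIn_of_not_dvd_relIndex hS.isPGroup (hSC.trans hCL)
      fun h => T.not_dvd_index (hT.symm ▸ h.trans (Subgroup.relIndex_dvd_index_of_le (hSC.trans hCL)))
    obtain ⟨g, hg⟩ := sigma_disjoint hG hM hL hps (mem_sigma_of_normalizer_le hSL hS1 (hNS.trans hNL))
    exact hC (conj_eq_of_centralizer_le hG hM hps hXp hX1 hXM hg (hXC.trans hCL) hCL ▸ hCL)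
  obtain ⟨F, hF, hXF⟩ := exists_compl_ge hG hN hXN fun q hq hd => by
    rw [hX] at hd; rwa [(Nat.prime_dvd_prime_iff_eq hq hp.out).mp hd]
  obtain ⟨A, hAF, hAe, hA2, A₁, hA⟩ :=
    exists_ea_in_compl hG hN hF ⟨hp.out, hpN, pRankLE_two_of_not_mem_sigma hG hN hpN, hr1⟩
  have hXA : X ≤ A := hA.le_of_card_prime hG hF hAF hXF hX
  obtain ⟨g, hg⟩ := exists_conj_ge hG hM hps hA.isPGroup
  obtain ⟨c, hc, hcg⟩ := sigma_transitive hG hM hps (Nat.card G) X hXp hX1 (by omega) hXM g (hXA.trans hg)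
  set B := A.map (MulAut.conj c⁻¹).toMonoidHom with hB
  have hBM : B ≤ M := by
    refine (Subgroup.map_mono hg).trans ?_
    rw [map_conj_map_conj]
    exact (map_conj_eq_self hcg).le
  have hBN : B ≤ N := (Subgroup.map_mono hA.le).trans (map_conj_eq_self (inv_mem (hCN hc))).le
  have hXB : X ≤ B := fun a ha => ⟨a, hXA ha, by
    have h := Subgroup.mem_centralizer_iff.mp hc a ha
    simp only [MulEquiv.coe_toMonoidHom, MulAut.conj_apply, inv_inv]
    rw [mul_assoc, h, inv_mul_cancel_left]⟩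
  have hB2 : Nat.card B = p ^ 2 := by
    rw [hB, Subgroup.card_map_of_injective (MulAut.conj c⁻¹).injective, hA2]
  obtain ⟨B₀, hBx⟩ := exists_exc hG hN hpN hBN (ea_map hAe _) hB2
  have hinf : Cfsg.sigmaCore N ⊓ M = ⊥ := hBx.inf_maximal hG hM hNM.symm hBM
  have hnc : ¬ IsCyclic B :=
    not_isCyclic_of_ea hBx.ea (hB2 ▸ lt_self_pow₀ hp.out.one_lt (by norm_num))
  obtain ⟨E, hE, hBE⟩ := exists_compl_ge hG hN hBN fun q hq hd => by
    rw [hB2] at hd; rwa [(Nat.prime_dvd_prime_iff_eq hq hp.out).mp (hq.dvd_of_dvd_pow hd)]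
  have hEM : E ≤ M :=
    ((hBx.inf_normalizer_eq hG hE hBE).ge.trans inf_le_right).trans
      (normalizer_le_of_noncyclic hG hM hps hBx.isPGroup hBM hnc)
  have hME : M ⊓ N = E := by
    refine le_antisymm (fun m hm => ?_) (le_inf hEM hE.1)
    obtain ⟨e, he, b, hb, rfl⟩ := hE.2.2.2 m hm.2
    have hb1 : b ∈ Cfsg.sigmaCore N ⊓ M := Subgroup.mem_inf.mpr ⟨hb, (M.mul_mem_cancel_left (hEM he)).mp hm.1⟩
    rw [hinf, Subgroup.mem_bot] at hb1
    rwa [hb1, mul_one]
  have hne : Cfsg.sigmaCore N ⊓ Subgroup.centralizer (X : Set G) ≠ ⊥ := fun e => hC fun c hc => by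
    obtain ⟨a, ha, b, hb, rfl, -, hxb⟩ := fixed_factor hE (hE.1.trans (le_normalizer_sigmaCore N))
      (hBE (hXB hx)) (hCN hc) (Subgroup.mem_centralizer_iff.mp hc x hx)
    have hbX : b ∈ Cfsg.sigmaCore N ⊓ Subgroup.centralizer (X : Set G) := Subgroup.mem_inf.mpr ⟨hb, by
      rw [← hxX, centralizer_eq_of_zpowers]; exact Subgroup.mem_centralizer_singleton_iff.mpr hxb.symm⟩
    rw [e, Subgroup.mem_bot] at hbX
    rw [hbX, mul_one]
    exact hEM ha
  refine ⟨N, B, B₀, hN, hconj, hBx, hXB, hBM, hME.symm ▸ hE, hCN, ?_, hne⟩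
  refine (hBx.unique_of_fixed hG (centralizer_ne_top hG (s := (X : Set G)) hx hx1) ?_ hne).2
  exact (Subgroup.le_centralizer_iff_isMulCommutative.mpr hBx.ea.1).trans (Subgroup.centralizer_le hXB)

omit hp in
/-- BG 14.4: the neighbour of `M` at an element `x`. -/
theorem exists_neighbor (hG : IsMinSimpleOddOrder G) {M : Subgroup G} (hM : IsCoatom M) {x : G}
    (hx : x ∈ Cfsg.sigmaCore M) (hx1 : x ≠ 1) (hxM : ¬ Subgroup.centralizer ({x} : Set G) ≤ M) :
    ∃ N : Subgroup G, IsCoatom N ∧ Subgroup.centralizer ({x} : Set G) ≤ N ∧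
      (∀ L : Subgroup G, IsCoatom L → Subgroup.centralizer ({x} : Set G) ≤ L → L = N) ∧
      (∀ g : G, N ≠ M.map (MulAut.conj g).toMonoidHom) ∧ Group.IsNilpotent (Cfsg.sigmaCore N) ∧
      Cfsg.fittingHallOf N = Cfsg.sigmaCore N ∧ IsComplIn (M ⊓ N) (Cfsg.sigmaCore N) N ∧
      (∀ r : ℕ, r.Prime → r ∣ orderOf x → r ∈ Cfsg.tau2 N) ∧ x ∈ Cfsg.sigmaHat N ∧
      IsComplIn (M ⊓ Subgroup.centralizer ({x} : Set G)) (Cfsg.sigmaCore N ⊓ Subgroup.centralizer ({x} : Set G))
        (Subgroup.centralizer ({x} : Set G)) := by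
  set C := Subgroup.centralizer ({x} : Set G) with hCdef
  have hxM' : x ∈ M := sigmaCore_le M hx
  have hxC : x ∈ C := Subgroup.mem_centralizer_singleton_iff.mpr rfl
  have hline : ∀ (r : ℕ) [Fact r.Prime], r ∣ orderOf x → ∃ Y : Subgroup G, Nat.card Y = r ∧ Y ≤ M ∧
      r ∈ Cfsg.sigma M ∧ C ≤ Subgroup.centralizer (Y : Set G) ∧ ¬ Subgroup.centralizer (Y : Set G) ≤ M ∧
      Y ≤ Subgroup.zpowers x := by
    intro r hr hd
    have hle : C ≤ Subgroup.centralizer ((Subgroup.zpowers (x ^ (orderOf x / r)) : Subgroup G) : Set G) := fun c hc => by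
      rw [centralizer_eq_of_zpowers]
      exact Subgroup.mem_centralizer_singleton_iff.mpr
        ((show Commute c x from Subgroup.mem_centralizer_singleton_iff.mp hc).pow_right _).eq
    refine ⟨Subgroup.zpowers (x ^ (orderOf x / r)), ?_, Subgroup.zpowers_le.mpr (pow_mem hxM' _),
      piCoreOf_primes _ M hr.out (hd.trans (Subgroup.orderOf_dvd_natCard _ hx)), hle, fun h => hxM (hle.trans h),
      Subgroup.zpowers_le.mpr (pow_mem (Subgroup.mem_zpowers x) _)⟩
    rw [Nat.card_zpowers, orderOf_pow_orderOf_div (orderOf_pos x).ne' hd]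
  obtain ⟨t, ht, htd⟩ := Nat.exists_prime_and_dvd fun e => hx1 (orderOf_eq_one_iff.mp e)
  haveI := Fact.mk ht
  obtain ⟨X, hX, hXM, htM, hCX, hXn, -⟩ := hline t htd
  obtain ⟨N, A, A₀, hN, hconj, hA, -, -, hcompl, hXN, -, -⟩ := exists_neighbor_line hG hM htM hXM hX hXn
  have hCN : C ≤ N := hCX.trans hXN
  have hxE : x ∈ M ⊓ N := Subgroup.mem_inf.mpr ⟨hxM', hCN hxC⟩
  have hEn : M ⊓ N ≤ Subgroup.normalizer (Cfsg.sigmaCore N : Set G) := inf_le_right.trans (le_normalizer_sigmaCore N)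
  have hsplit : ∀ c ∈ C, ∃ e ∈ M ⊓ C, ∃ b ∈ Cfsg.sigmaCore N ⊓ C, c = e * b := by
    intro c hc
    obtain ⟨e, he, b, hb, h0, h1, h2⟩ := fixed_factor hcompl hEn hxE (hCN hc)
      (Subgroup.mem_centralizer_singleton_iff.mp hc).symm
    exact ⟨e, Subgroup.mem_inf.mpr ⟨he.1, Subgroup.mem_centralizer_singleton_iff.mpr h1.symm⟩, b,
      Subgroup.mem_inf.mpr ⟨hb, Subgroup.mem_centralizer_singleton_iff.mpr h2.symm⟩, h0⟩
  have hne : Cfsg.sigmaCore N ⊓ C ≠ ⊥ := fun h => hxM fun c hc => by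
    obtain ⟨e, he, b, hb, rfl⟩ := hsplit c hc
    rw [h, Subgroup.mem_bot] at hb
    rw [hb, mul_one]
    exact he.1
  have hτ : ∀ r : ℕ, r.Prime → r ∣ orderOf x → r ∈ Cfsg.tau2 N := by
    intro r hr hrd
    haveI := Fact.mk hr
    obtain ⟨Y, hY, hYM, hrM, hCY, hYn, hYx⟩ := hline r hrd
    have hrN : r ∉ Cfsg.sigma N := fun h => by
      obtain ⟨g, hg⟩ := sigma_disjoint hG hM hN hrM h
      exact hconj g hg
    refine ⟨hr, hrN, pRankLE_two_of_not_mem_sigma hG hN hrN, fun h1 => ?_⟩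
    obtain ⟨N', -, -, hN', hconj', -, -, -, -, -, huniq, -⟩ := exists_neighbor_line hG hM hrM hYM hY hYn
    have hY1 : Y ≠ ⊥ := fun e => by rw [e, Subgroup.card_bot] at hY; exact hr.one_lt.ne hY
    obtain ⟨L, hL, hNL⟩ := exists_maximal_ge (normalizer_ne_top hG hY1 fun e => hM.1 (top_le_iff.mp (e ▸ hYM)))
    obtain ⟨q, hq, hqd⟩ := Nat.exists_prime_and_dvd fun e => hne (Subgroup.card_eq_one.mp e)
    haveI := Fact.mk hq
    obtain ⟨y, hy⟩ := exists_prime_orderOf_dvd_card' q hqd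
    have hσ : r ∈ Cfsg.sigma L := sigma_of_fixed hG hN hL hrN h1 (hYx.trans (Subgroup.zpowers_le.mpr hxE.2)) hY hNL
      (Y := Subgroup.zpowers (y : G)) (by rw [Nat.card_zpowers, Subgroup.orderOf_coe, hy])
      (Subgroup.zpowers_le.mpr ⟨y.2.1, hCY y.2.2⟩)
    obtain ⟨g, hg⟩ := sigma_disjoint hG hM hL hrM hσ
    exact hconj' g ((huniq L hL ((Subgroup.centralizer_le_normalizer _).trans hNL)) ▸ hg)
  obtain ⟨y, hy, hy1⟩ := (Subgroup.bot_or_exists_ne_one _).resolve_left hne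
  have hhat : x ∈ Cfsg.sigmaHat N :=
    ⟨hxE.2, y, hy.1, hy1, (Subgroup.mem_centralizer_singleton_iff.mp hy.2).symm⟩
  have hnil := hA.isNilpotent hG
  refine ⟨N, hN, hCN, (tau2_element_unique hG hN hcompl hxE.2 hx1 hτ hhat).2, hconj, hnil,
    fittingHallOf_eq_sigmaCore hG hN hnil, hcompl, hτ, hhat, inf_le_right, inf_le_right, ?_, hsplit⟩
  exact le_bot_iff.mp (hcompl.2.2.1 ▸ le_inf (le_inf (inf_le_left.trans inf_le_left) (inf_le_left.trans
    (inf_le_right.trans hCN))) (inf_le_right.trans inf_le_left))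

omit hp in
/-- Conjugates of `M` containing `x ∈ M_σ` are conjugate under the centralizer of `x`. -/
theorem conj_of_mem (hG : IsMinSimpleOddOrder G) {M : Subgroup G} (hM : IsCoatom M) {x g : G}
    (hx : x ∈ Cfsg.sigmaCore M) (hx1 : x ≠ 1) (hxg : x ∈ M.map (MulAut.conj g).toMonoidHom) :
    ∃ r ∈ Subgroup.centralizer ({x} : Set G),
      M.map (MulAut.conj r).toMonoidHom = M.map (MulAut.conj g).toMonoidHom := by
  obtain ⟨t, ht, htd⟩ := Nat.exists_prime_and_dvd fun e => hx1 (orderOf_eq_one_iff.mp e)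
  haveI := Fact.mk ht
  set X := Subgroup.zpowers (x ^ (orderOf x / t)) with hXdef
  have hX : Nat.card X = t := by rw [Nat.card_zpowers, orderOf_pow_orderOf_div (orderOf_pos x).ne' htd]
  have hXp : IsPGroup t X := IsPGroup.of_card (n := 1) (hX.trans (pow_one t).symm)
  have hX1 : X ≠ ⊥ := fun e => by rw [e, Subgroup.card_bot] at hX; exact ht.one_lt.ne hX
  have hXM : X ≤ M := Subgroup.zpowers_le.mpr (pow_mem (sigmaCore_le M hx) _)
  have htM : t ∈ Cfsg.sigma M := piCoreOf_primes _ M ht (htd.trans (Subgroup.orderOf_dvd_natCard _ hx))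
  obtain ⟨c, hc, hcg⟩ := sigma_transitive hG hM htM (Nat.card G) X hXp hX1 (by omega) hXM g
    (Subgroup.zpowers_le.mpr (pow_mem hxg _))
  have hMc : M.map (MulAut.conj g).toMonoidHom = M.map (MulAut.conj c).toMonoidHom := by
    conv_lhs => rw [show g = c * (c⁻¹ * g) by group, ← map_conj_map_conj, map_conj_eq_self hcg]
  by_cases hXc : Subgroup.centralizer (X : Set G) ≤ M
  · exact ⟨1, one_mem _, by rw [hMc, map_conj_one, map_conj_eq_self (hXc hc)]⟩
  obtain ⟨N, -, -, hN, -, -, -, -, hcompl, hXN, -, -⟩ := exists_neighbor_line hG hM htM hXM hX hXc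
  obtain ⟨e, he, b, hb, hcb⟩ := hcompl.2.2.2 c⁻¹ (inv_mem (hXN hc))
  have hMb : M.map (MulAut.conj c).toMonoidHom = M.map (MulAut.conj b⁻¹).toMonoidHom := by
    rw [show c = b⁻¹ * e⁻¹ by rw [← mul_inv_rev, ← hcb, inv_inv], ← map_conj_map_conj,
      map_conj_eq_self (inv_mem he.1)]
  refine ⟨b⁻¹, ?_, (hMc.trans hMb).symm⟩
  have hxN : x ∈ N := hXN (by
    rw [hXdef, centralizer_eq_of_zpowers]
    exact Subgroup.mem_centralizer_singleton_iff.mpr ((Commute.refl x).pow_right _).eq)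
  rw [hMc, hMb] at hxg
  obtain ⟨m, hm, hme⟩ := hxg
  simp only [MulEquiv.coe_toMonoidHom, MulAut.conj_apply, inv_inv] at hme
  have h1 : x⁻¹ * m ∈ (M ⊓ N) ⊓ Cfsg.sigmaCore N := by
    refine Subgroup.mem_inf.mpr ⟨Subgroup.mem_inf.mpr ⟨mul_mem (inv_mem (sigmaCore_le M hx)) hm,
      mul_mem (inv_mem hxN) ?_⟩, ?_⟩
    · rw [show m = b * x * b⁻¹ by rw [← hme]; group]
      exact mul_mem (mul_mem (sigmaCore_le N hb) hxN) (inv_mem (sigmaCore_le N hb))
    · rw [show m = b * x * b⁻¹ by rw [← hme]; group, show x⁻¹ * (b * x * b⁻¹) = x⁻¹ * b * x * b⁻¹ by group]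
      exact mul_mem ((Subgroup.mem_normalizer_iff''.mp (le_normalizer_sigmaCore N hxN) b).mp hb) (inv_mem hb)
  rw [hcompl.2.2.1, Subgroup.mem_bot, inv_mul_eq_one] at h1
  rw [← h1] at hme
  refine Subgroup.mem_centralizer_singleton_iff.mpr ?_
  calc b⁻¹ * x = (b⁻¹ * x * b) * b⁻¹ := by group
    _ = x * b⁻¹ := by rw [hme]

omit hp in
theorem eq_of_mem_conj (hG : IsMinSimpleOddOrder G) {M : Subgroup G} (hM : IsCoatom M) {x g : G}
    (hx : x ∈ Cfsg.sigmaCore M) (hx1 : x ≠ 1) (hxg : x ∈ M.map (MulAut.conj g).toMonoidHom)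
    (hC : Subgroup.centralizer ({x} : Set G) ≤ M) : M.map (MulAut.conj g).toMonoidHom = M := by
  obtain ⟨r, hr, e⟩ := conj_of_mem hG hM hx hx1 hxg
  rw [← e, map_conj_eq_self (hC hr)]

omit hp in
theorem supportR_of_le {M : Subgroup G} {x : G} (h : Subgroup.centralizer ({x} : Set G) ≤ M) :
    Cfsg.supportR M x = ⊥ := by
  rw [Cfsg.supportR, dif_neg (fun h' => h'.1 h)]

omit hp in
theorem supportR_of_neighbor {M N : Subgroup G} {x : G} (h : ¬ Subgroup.centralizer ({x} : Set G) ≤ M)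
    (hN : IsCoatom N) (hCN : Subgroup.centralizer ({x} : Set G) ≤ N)
    (hu : ∀ L : Subgroup G, IsCoatom L → Subgroup.centralizer ({x} : Set G) ≤ L → L = N)
    (hF : Cfsg.fittingHallOf N = Cfsg.sigmaCore N) :
    Cfsg.supportR M x = Cfsg.sigmaCore N ⊓ Subgroup.centralizer ({x} : Set G) := by
  have hex : ∃! L : Subgroup G, IsCoatom L ∧ Subgroup.centralizer ({x} : Set G) ≤ L :=
    ⟨N, ⟨hN, hCN⟩, fun L hL => hu L hL.1 hL.2⟩
  rw [Cfsg.supportR, dif_pos ⟨h, hex⟩]
  generalize hgen : Classical.choose _ = L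
  have hs : IsCoatom L ∧ Subgroup.centralizer ({x} : Set G) ≤ L := hgen ▸ Classical.choose_spec hex.exists
  rw [hu L hs.1 hs.2, hF]

end Cfsg.Agent.OddLocal
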