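import Cfsg.Agent.Lib.OddLocal.KappaFittingHall
import Cfsg.Agent.Lib.OddLocal.KappaFittingTI
import Cfsg.Agent.Lib.OddLocal.SemiprimeDerived
import Cfsg.Agent.Lib.OddLocal.SigmaNeighbor

/-! Maximal subgroups of type `P₁` and maximal subgroups with `M_σ` not nilpotent. -/

set_option autoImplicit false
set_option linter.unusedSectionVars false
set_option linter.style.haveILetI false

namespace Cfsg.Agent.OddLocal

open scoped commutatorElement Pointwise
open Cfsg
open Basics (IsSylowIn)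

universe u

variable {G : Type u} [Group G] [Finite G]

/-- A normal nilpotent subgroup lies in the Fitting subgroup. -/
theorem le_fittingOf_of_normal {M N : Subgroup G} (hNM : N ≤ M) (hn : M ≤ Subgroup.normalizer (N : Set G))
    (hN : Group.IsNilpotent N) : N ≤ Cfsg.fittingOf M := by
  haveI : (N.subgroupOf M).Normal := (Subgroup.normal_subgroupOf_iff_le_normalizer hNM).mpr hn
  rw [← Subgroup.map_subgroupOf_eq_of_le hNM]
  refine Subgroup.map_mono (Basics.le_fittingSubgroup ?_)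
  exact Group.nilpotent_of_mulEquiv (Subgroup.subgroupOfEquivOfLe hNM).symm

/-- A commutative group is nilpotent. -/
theorem nilpotent_of_commutative {H : Type u} [Group H] [h : IsMulCommutative H] : Group.IsNilpotent H := by
  letI : CommGroup H := { (inferInstance : Group H) with mul_comm := fun a b => h.is_comm.comm a b }
  exact CommGroup.isNilpotent

/-- The product of two commuting nilpotent subgroups is nilpotent. -/
theorem nilpotent_sup_of_commute {A B : Subgroup G} (hA : Group.IsNilpotent A) (hB : Group.IsNilpotent B)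
    (h : A ≤ Subgroup.centralizer (B : Set G)) : Group.IsNilpotent ↥(A ⊔ B) := by
  haveI := hA
  haveI := hB
  have hc : ∀ (a : A) (b : B), Commute (A.subtype a) (B.subtype b) := fun a b =>
    (Subgroup.mem_centralizer_iff.mp (h a.2) b b.2).symm
  let f : A × B →* G := MonoidHom.noncommCoprod A.subtype B.subtype hc
  have hr : f.range = A ⊔ B := by
    simp only [f]
    rw [MonoidHom.noncommCoprod_range, Subgroup.range_subtype, Subgroup.range_subtype]
  rw [← hr]
  exact Group.nilpotent_of_surjective f.rangeRestrict f.rangeRestrict_surjective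

/-- If `M_σ` is not nilpotent, `M` is of type `P₁`. -/
theorem p1_of_not_nilpotent (hG : IsMinSimpleOddOrder G) {M : Subgroup G} (hM : IsCoatom M)
    (hn : ¬ Group.IsNilpotent (Cfsg.sigmaCore M)) :
    (∀ q : ℕ, q.Prime → q ∣ Nat.card M → q ∉ Cfsg.sigma M → q ∈ Cfsg.kappa M) ∧
      ∃ K : Subgroup G, IsPiHallOf (Cfsg.kappa M) K M ∧ K ≠ ⊥ := by
  have hP : ∀ q : ℕ, q.Prime → q ∣ Nat.card M → q ∉ Cfsg.sigma M → q ∈ Cfsg.kappa M := by
    intro q hq hqd hqσ
    by_contra hqk
    haveI := Fact.mk hq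
    by_cases h1 : PRankLE q 1 M
    · obtain ⟨x₀, hx⟩ := exists_prime_orderOf_dvd_card' q hqd
      rw [← Subgroup.orderOf_coe] at hx
      set x : G := (x₀ : G) with hxdef
      have hXN : Subgroup.zpowers x ≤ Subgroup.normalizer (Cfsg.sigmaCore M : Set G) :=
        (Subgroup.zpowers_le.mpr x₀.2).trans (le_normalizer_sigmaCore M)
      refine hn (Basics.isNilpotent_of_fpf_prime (A := Subgroup.zpowers x) (p := q)
        (by rw [Nat.card_zpowers, hx]) ((Cfsg.sigmaCore M).normalizerMonoidHom.comp (Subgroup.inclusion hXN))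
        fun y hy => Subtype.ext ?_)
      by_contra hy1
      exact hqk (mem_kappa_of_fixed hG hq hqσ h1 x₀.2 hx ⟨x₀.2, y, y.2, hy1,
        mul_inv_eq_iff_eq_mul.mp (congrArg Subtype.val (hy ⟨x, Subgroup.mem_zpowers x⟩))⟩)
    · obtain ⟨E, hE⟩ := exists_compl hG hM
      obtain ⟨A, -, -, -, A₁, hA⟩ :=
        exists_ea_in_compl hG hM hE ⟨hq, hqσ, pRankLE_two_of_not_mem_sigma hG hM hqσ, h1⟩
      exact hn (hA.isNilpotent hG)
  obtain ⟨K, hK⟩ := exists_kappa_hall hG hM
  refine ⟨hP, K, hK, fun e => ?_⟩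
  have hc := card_of_P1 hG hM hK hP
  rw [e, Subgroup.card_bot, one_mul] at hc
  have heq : Cfsg.sigmaCore M = M := Subgroup.eq_of_le_of_card_ge (sigmaCore_le M) hc.le
  haveI : Group.IsSolvable M := isSolvable_of_ne_top hG hM.1
  have hne : M ≠ ⊥ := fun h => sigmaCore_ne_bot hG hM (by rw [heq, h])
  haveI : Nontrivial M := (Subgroup.nontrivial_iff_ne_bot M).mpr hne
  have h := sigmaCore_le_derived hG hM
  rw [heq, ← M.map_subtype_commutator] at h
  refine (Group.IsSolvable.commutator_lt_top_of_nontrivial ↥M).ne (top_le_iff.mp fun a _ => ?_)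
  obtain ⟨b, hb, e'⟩ := h a.2
  exact Subtype.ext e' ▸ hb

/-- The structure of `M_σ` in type `P₁`: a normal Sylow `q`-subgroup `Q` and a nilpotent `K`-invariant
complement `D` whose derived subgroup centralizes `Q`. -/
theorem p1_structure (hG : IsMinSimpleOddOrder G) {M K : Subgroup G} (hM : IsCoatom M)
    (hK : IsPiHallOf (Cfsg.kappa M) K M) (hK1 : K ≠ ⊥)
    (hP : ∀ q : ℕ, q.Prime → q ∣ Nat.card M → q ∉ Cfsg.sigma M → q ∈ Cfsg.kappa M) :
    ∃ q : ℕ, q.Prime ∧ Nat.card ↥(Cfsg.sigmaCore M ⊓ Subgroup.centralizer (K : Set G)) = q ∧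
      ∃ Q D : Subgroup G, IsSylowIn q M Q ∧ M ≤ Subgroup.normalizer (Q : Set G) ∧
        Cfsg.sigmaCore M ⊓ Subgroup.centralizer (K : Set G) ≤ Q ∧
        D ≤ Cfsg.sigmaCore M ∧ K ≤ Subgroup.normalizer (D : Set G) ∧ ¬ q ∣ Nat.card D ∧
        Cfsg.sigmaCore M = Q ⊔ D ∧ M = Q ⊔ D ⊔ K ∧ Group.IsNilpotent D ∧
        ⁅D, D⁆ ≤ Subgroup.centralizer (Q : Set G) := by
  obtain ⟨q, hq, hAc, Q, hQ, hQW, hQn, hAQ⟩ := exists_normal_sylow hG hM hK hK1 hP
  haveI := Fact.mk hq
  set W := Cfsg.sigmaCore M with hW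
  have hWM : W ≤ M := sigmaCore_le M
  haveI : Group.IsSolvable M := isSolvable_of_ne_top hG hM.1
  obtain ⟨H₀, hH₀, hH₀π⟩ := Basics.exists_hall_pi (G := M) {s : ℕ | s ≠ q}
  have hKq : ¬ q ∣ Nat.card K := fun hd =>
    (hK.2.1 q hq hd).2.2.1 (piCoreOf_primes _ M hq (hAc ▸ Subgroup.card_dvd_of_le inf_le_left))
  have hidx : ∀ s : ℕ, s.Prime → s ∣ H₀.index → s = q := fun s hs hd => by
    by_contra h
    exact ((hH₀π s hs (hd.trans H₀.index_dvd_card)).2.mp hd) h
  obtain ⟨g, hg⟩ := Basics.exists_le_conj_hall hH₀ (K := K.subgroupOf M)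
    (Nat.coprime_of_dvd fun s hs h1 h2 => hKq (by
      rw [Basics.card_subgroupOf hK.1] at h1
      exact hidx s hs h2 ▸ h1))
  set E := (MulAut.conj g • H₀ : Subgroup M).map M.subtype with hE
  have hEM : E ≤ M := Subgroup.map_subtype_le _
  have hEc : Nat.card E = Nat.card H₀ := by
    rw [hE, Subgroup.card_map_of_injective M.subtype_injective, Basics.card_conj_smul]
  have hqE : ¬ q ∣ Nat.card E := fun hd => by
    rw [hEc] at hd
    exact ((hH₀π q hq (hd.trans (Subgroup.card_subgroup_dvd_card _))).1.mp hd) rfl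
  have hKE : K ≤ E := by
    rw [← Subgroup.map_subgroupOf_eq_of_le hK.1]
    exact Subgroup.map_mono hg
  set D := E ⊓ W with hD
  have hKD : K ≤ Subgroup.normalizer (D : Set G) := (le_inf (hKE.trans Subgroup.le_normalizer)
    (hK.1.trans (le_normalizer_sigmaCore M))).trans le_normalizer_inf'
  have hqD : ¬ q ∣ Nat.card D := fun hd => hqE (hd.trans (Subgroup.card_dvd_of_le inf_le_left))
  have hcopQE : ∀ {B : Subgroup G}, ¬ q ∣ Nat.card B → (Nat.card B).Coprime (Nat.card Q) := fun hB => by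
    rw [hQ.2]
    exact ((hq.coprime_iff_not_dvd.mpr hB).symm).pow_right _
  have hsupM : M = Q ⊔ E := by
    refine (Subgroup.eq_of_le_of_card_ge (sup_le hQ.1 hEM) (le_of_eq ?_)).symm
    rw [Basics.card_sup_of_coprime (hEM.trans hQn) (hcopQE hqE).symm, hEc]
    refine Nat.eq_of_factorization_eq Nat.card_pos.ne' (mul_ne_zero Nat.card_pos.ne' Nat.card_pos.ne') fun s => ?_
    rw [Nat.factorization_mul Nat.card_pos.ne' Nat.card_pos.ne', Finsupp.add_apply, hQ.2]
    by_cases hsq : s = q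
    · subst hsq
      rw [hq.factorization_pow, Finsupp.single_eq_same,
        Nat.factorization_eq_zero_of_not_dvd (n := Nat.card H₀) fun hd => hqE (hEc.symm ▸ hd), add_zero]
    · rw [hq.factorization_pow, Finsupp.single_eq_of_ne hsq, zero_add, ← Subgroup.card_mul_index H₀,
        Nat.factorization_mul Nat.card_pos.ne' Subgroup.index_ne_zero_of_finite, Finsupp.add_apply]
      by_cases hs : s.Prime
      · rw [Nat.factorization_eq_zero_of_not_dvd (n := H₀.index) fun hd => hsq (hidx s hs hd), add_zero]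
      · simp [Nat.factorization_eq_zero_of_not_prime _ hs]
  have hWeq : W = Q ⊔ D := by
    refine le_antisymm (fun w hw => ?_) (sup_le hQW inf_le_right)
    have hwM : w ∈ Q ⊔ E := hsupM ▸ hWM hw
    obtain ⟨a, ha, b, hb, rfl⟩ := (Basics.mem_sup_of_le_normalizer (hEM.trans hQn)).mp hwM
    exact mul_mem (Subgroup.mem_sup_left ha) (Subgroup.mem_sup_right
      (Subgroup.mem_inf.mpr ⟨hb, (W.mul_mem_cancel_left (hQW ha)).mp hw⟩))
  have hMsup : M = Q ⊔ D ⊔ K := by
    rw [← hWeq]
    refine (Subgroup.eq_of_le_of_card_ge (sup_le hWM hK.1) (le_of_eq ?_)).symm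
    rw [Basics.card_sup_of_coprime (hK.1.trans (le_normalizer_sigmaCore M)) (Nat.coprime_of_dvd fun s hs h1 h2 =>
      (hK.2.1 s hs h2).2.2.1 (piCoreOf_primes _ M hs h1)), card_of_P1 hG hM hK hP, mul_comm]
  obtain ⟨r, hr, hrd⟩ := Nat.exists_prime_and_dvd fun e => hK1 (Subgroup.card_eq_one.mp e)
  haveI := Fact.mk hr
  obtain ⟨x₀, hx⟩ := exists_prime_orderOf_dvd_card' r hrd
  rw [← Subgroup.orderOf_coe] at hx
  set x : G := (x₀ : G) with hxdef
  have hfree : ∀ k ∈ K, k ≠ 1 → D ⊓ Subgroup.centralizer ({k} : Set G) = ⊥ := fun k hk hk1 => by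
    refine (Subgroup.eq_bot_iff_forall _).mpr fun d hd => ?_
    obtain ⟨hdD, hdC⟩ := Subgroup.mem_inf.mp hd
    have h1 : d ∈ W ⊓ Subgroup.centralizer ({k} : Set G) := Subgroup.mem_inf.mpr ⟨hdD.2, hdC⟩
    rw [hW, kappa_semiprime hG hM hK hk hk1] at h1
    exact Subgroup.disjoint_def.mp (Subgroup.disjoint_of_coprime_natCard (hcopQE hqD)) hdD (hAQ h1)
  have hnilD : Group.IsNilpotent D := by
    have hXN : Subgroup.zpowers x ≤ Subgroup.normalizer (D : Set G) := (Subgroup.zpowers_le.mpr x₀.2).trans hKD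
    refine Basics.isNilpotent_of_fpf_prime (A := Subgroup.zpowers x) (p := r) (by rw [Nat.card_zpowers, hx])
      (D.normalizerMonoidHom.comp (Subgroup.inclusion hXN)) fun y hy => Subtype.ext ?_
    have h1 : (y : G) ∈ D ⊓ Subgroup.centralizer ({x} : Set G) := Subgroup.mem_inf.mpr
      ⟨y.2, Subgroup.mem_centralizer_singleton_iff.mpr
        (mul_inv_eq_iff_eq_mul.mp (congrArg Subtype.val (hy ⟨x, Subgroup.mem_zpowers x⟩))).symm⟩
    rw [hfree x x₀.2 (fun e => by rw [e, orderOf_one] at hx; exact hr.one_lt.ne hx), Subgroup.mem_bot] at h1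
    exact h1
  refine ⟨q, hq, hAc, Q, D, hQ, hQn, hAQ, inf_le_right, hKD, hqD, hWeq, hMsup, hnilD, ?_⟩
  have hDM : D ≤ M := inf_le_right.trans hWM
  haveI : (Q.subgroupOf M).Normal := (Subgroup.normal_subgroupOf_iff_le_normalizer hQ.1).mpr hQn
  have hcent : ∀ (B : Subgroup G), B ≤ M → ∀ a : M, a ∈ Subgroup.centralizer ((B.subgroupOf M : Subgroup M) : Set M) ↔
      (a : G) ∈ Subgroup.centralizer (B : Set G) := fun B hB a =>
    ⟨fun ha => Subgroup.mem_centralizer_iff.mpr fun b hb =>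
      congrArg Subtype.val (Subgroup.mem_centralizer_iff.mp ha ⟨b, hB hb⟩ hb),
     fun ha => Subgroup.mem_centralizer_iff.mpr fun b hb => Subtype.ext (Subgroup.mem_centralizer_iff.mp ha _ hb)⟩
  have hsing : ∀ a k : M, a ∈ Subgroup.centralizer ({k} : Set M) ↔
      (a : G) ∈ Subgroup.centralizer ({(k : G)} : Set G) := fun a k => by
    rw [Subgroup.mem_centralizer_singleton_iff, Subgroup.mem_centralizer_singleton_iff]
    exact ⟨fun h => congrArg Subtype.val h, fun h => Subtype.ext h⟩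
  have hQC : ∀ k ∈ K, k ≠ 1 → Q ⊓ Subgroup.centralizer ({k} : Set G) = W ⊓ Subgroup.centralizer (K : Set G) := by
    intro k hk hk1
    rw [← kappa_semiprime hG hM hK hk hk1]
    refine le_antisymm (inf_le_inf_right _ hQW) (le_inf ?_ inf_le_right)
    rw [kappa_semiprime hG hM hK hk hk1]
    exact hAQ
  have hQA : ∀ a : M, a ∈ Q.subgroupOf M ⊓ Subgroup.centralizer ((K.subgroupOf M : Subgroup M) : Set M) ↔
      (a : G) ∈ W ⊓ Subgroup.centralizer (K : Set G) := fun a =>
    ⟨fun ha => Subgroup.mem_inf.mpr ⟨hQW ha.1, (hcent K hK.1 a).mp ha.2⟩,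
     fun ha => Subgroup.mem_inf.mpr ⟨hAQ ha, (hcent K hK.1 a).mpr ha.2⟩⟩
  have h := derived_centralizes_of_semiprime (odd_card_subgroup hG M) (Q := Q.subgroupOf M) (D := D.subgroupOf M)
    (R := K.subgroupOf M) (hQ.isPGroup.comap_subtype (K := M))
    (by rwa [Basics.card_subgroupOf hDM]) (by rwa [Basics.card_subgroupOf hK.1])
    (by
      rw [Basics.card_subgroupOf hDM, Basics.card_subgroupOf hK.1]
      exact Nat.coprime_of_dvd fun s hs h1 h2 => (hK.2.1 s hs h2).2.2.1
        (piCoreOf_primes _ M hs (h1.trans (Subgroup.card_dvd_of_le inf_le_right))))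
    (fun k hk => Subgroup.mem_normalizer_iff.mpr fun a => (Subgroup.mem_normalizer_iff.mp (hKD hk) (a : G)))
    (fun e => hK1 ((Subgroup.map_subgroupOf_eq_of_le hK.1).symm.trans (by rw [e, Subgroup.map_bot])))
    (fun k hk hk1 => (Subgroup.eq_bot_iff_forall _).mpr fun a ha => Subtype.ext (by
      have h1 : (a : G) ∈ D ⊓ Subgroup.centralizer ({(k : G)} : Set G) :=
        Subgroup.mem_inf.mpr ⟨ha.1, (hsing a k).mp ha.2⟩
      rw [hfree (k : G) hk fun e => hk1 (Subtype.ext e), Subgroup.mem_bot] at h1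
      exact h1))
    (fun k hk hk1 => by
      ext a
      rw [hQA]
      rw [← hQC (k : G) hk fun e => hk1 (Subtype.ext e)]
      exact ⟨fun ha => Subgroup.mem_inf.mpr ⟨ha.1, (hsing a k).mp ha.2⟩,
        fun ha => Subgroup.mem_inf.mpr ⟨ha.1, (hsing a k).mpr ha.2⟩⟩)
    (q := q) (by
      rw [← hAc, show Q.subgroupOf M ⊓ Subgroup.centralizer ((K.subgroupOf M : Subgroup M) : Set M) =
        (W ⊓ Subgroup.centralizer (K : Set G)).subgroupOf M from Subgroup.ext hQA]
      exact Basics.card_subgroupOf (inf_le_left.trans hWM))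
  rw [← Subgroup.map_subgroupOf_eq_of_le hDM, ← Subgroup.map_commutator]
  rintro _ ⟨d, hd, rfl⟩
  exact (hcent Q hQ.1 d).mp (h hd)

/-- A subgroup of `M` whose primes divide a normal Hall subgroup lies in it. -/
theorem le_of_coprime_index {M H Z : Subgroup G} (hHM : H ≤ M) (hn : M ≤ Subgroup.normalizer (H : Set G))
    (hidx : ∀ q : ℕ, q.Prime → q ∣ Nat.card H → ¬ q ∣ H.relIndex M) (hZM : Z ≤ M)
    (hZ : ∀ q : ℕ, q.Prime → q ∣ Nat.card Z → q ∣ Nat.card H) : Z ≤ H := by
  have hc : H.relIndex M * Nat.card H = Nat.card M := by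
    have := Subgroup.relIndex_mul_relIndex ⊥ H M bot_le hHM
    rw [Subgroup.relIndex_bot_left, Subgroup.relIndex_bot_left] at this
    rw [← this, mul_comm]
  refine Basics.KW.le_of_coprime_sup (Or.inr (hZM.trans hn)) (d := H.relIndex M) ?_ ?_ ?_
  · exact (Subgroup.card_dvd_of_le (sup_le hZM hHM)).trans (dvd_of_eq (by rw [← hc, mul_comm]))
  · exact Nat.coprime_of_dvd fun q hq h1 h2 => hidx q hq (hZ q hq h1) h2
  · exact Nat.coprime_of_dvd fun q hq h1 h2 => hidx q hq h1 h2

/-- Images modulo a normal subgroup of two subgroups with the same product with it. -/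
theorem map_eq_of_sup {H : Type u} [Group H] {N A B : Subgroup H} [N.Normal] (h : A ≤ N ⊔ B) (h' : B ≤ N ⊔ A) :
    A.map (QuotientGroup.mk' N) = B.map (QuotientGroup.mk' N) := by
  have hN : N.map (QuotientGroup.mk' N) = ⊥ := by
    rw [Subgroup.map_eq_bot_iff, QuotientGroup.ker_mk']
  refine le_antisymm ((Subgroup.map_mono h).trans ?_) ((Subgroup.map_mono h').trans ?_) <;>
    rw [Subgroup.map_sup, hN, bot_sup_eq]

/-- `M' ` modulo `M_σ` is commutative, and `M'' ≤ M_σ`. -/
theorem derived_two_le_core (hG : IsMinSimpleOddOrder G) {M : Subgroup G} (hM : IsCoatom M)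
    [((Cfsg.sigmaCore M).subgroupOf M).Normal] :
    IsMulCommutative ↥((commutator M).map (QuotientGroup.mk' ((Cfsg.sigmaCore M).subgroupOf M))) ∧
      ⁅⁅M, M⁆, ⁅M, M⁆⁆ ≤ Cfsg.sigmaCore M := by
  obtain ⟨E, hE⟩ := exists_compl hG hM
  set N := (Cfsg.sigmaCore M).subgroupOf M with hN
  set π := QuotientGroup.mk' N with hπ
  have htop : (⊤ : Subgroup M).map π = (E.subgroupOf M).map π := by
    refine map_eq_of_sup (fun a _ => ?_) (le_top.trans le_sup_right)
    obtain ⟨e, he, b, hb, h⟩ := hE.2.2.2 (a : G) a.2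
    have h' : a = (⟨e, hE.1 he⟩ : M) * ⟨b, sigmaCore_le M hb⟩ := Subtype.ext h
    rw [h']
    exact mul_mem (Subgroup.mem_sup_right he) (Subgroup.mem_sup_left hb)
  have hc : (commutator M).map π = (⁅E.subgroupOf M, E.subgroupOf M⁆).map π := by
    rw [commutator_def, Subgroup.map_commutator, Subgroup.map_commutator, htop]
  have hcm : IsMulCommutative ↥⁅E.subgroupOf M, E.subgroupOf M⁆ := by
    haveI := derived_compl_commutative hG hM hE
    have hmem : ∀ a : ↥⁅E.subgroupOf M, E.subgroupOf M⁆, ((a : M) : G) ∈ ⁅E, E⁆ := fun a => by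
      have h := Subgroup.mem_map_of_mem M.subtype a.2
      rwa [Subgroup.map_commutator, Subgroup.map_subgroupOf_eq_of_le hE.1] at h
    exact ⟨⟨fun a b => Subtype.ext (Subtype.ext
      (congrArg Subtype.val (mul_comm' (⟨_, hmem a⟩ : ↥⁅E, E⁆) ⟨_, hmem b⟩) :))⟩⟩
  have hcomm : IsMulCommutative ↥((commutator M).map π) := by
    rw [hc]; exact isMulCommutative_map hcm π
  refine ⟨hcomm, ?_⟩
  rw [← M.map_subtype_commutator, ← Subgroup.map_commutator, ← Subgroup.map_subgroupOf_eq_of_le (sigmaCore_le M)]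
  refine Subgroup.map_mono ?_
  rw [← hN, ← QuotientGroup.ker_mk' N, ← Subgroup.map_eq_bot_iff, ← hπ, Subgroup.map_commutator,
    Subgroup.commutator_eq_bot_iff_le_centralizer]
  exact Subgroup.le_centralizer_iff_isMulCommutative.mpr hcomm

/-- A subgroup central on `N` and lying in `N X` with `X` nilpotent is nilpotent. -/
theorem nilpotent_of_central_core {M N C X : Subgroup G} (hNM : N ≤ M) (hn : M ≤ Subgroup.normalizer (N : Set G))
    (hC : C ≤ M) (hXM : X ≤ M) (hX : Group.IsNilpotent X) (hCN : C ≤ Subgroup.centralizer (N : Set G))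
    (h : ∀ c ∈ C, c ∈ N ⊔ X) : Group.IsNilpotent C := by
  haveI : (N.subgroupOf M).Normal := (Subgroup.normal_subgroupOf_iff_le_normalizer hNM).mpr hn
  set π := QuotientGroup.mk' (N.subgroupOf M) with hπ
  have hXn : Group.IsNilpotent ↥((X.subgroupOf M).map π) := by
    haveI : Group.IsNilpotent ↥(X.subgroupOf M) :=
      Group.nilpotent_of_mulEquiv (Subgroup.subgroupOfEquivOfLe hXM).symm
    exact Group.nilpotent_of_surjective _ (π.subgroupMap_surjective _)
  let f : C →* ↥((X.subgroupOf M).map π) := (π.comp (Subgroup.inclusion hC)).codRestrict _ fun c => by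
    have hc : Subgroup.inclusion hC c ∈ N.subgroupOf M ⊔ X.subgroupOf M := by
      rw [← Subgroup.subgroupOf_sup hNM hXM]
      exact h c c.2
    have h' := Subgroup.mem_map_of_mem π hc
    rwa [Subgroup.map_sup, (Subgroup.map_eq_bot_iff _).mpr (QuotientGroup.ker_mk' _).ge, bot_sup_eq] at h'
  haveI := hXn
  refine Subgroup.isNilpotent_of_ker_le_center f fun c hc => Subgroup.mem_center_iff.mpr fun d => ?_
  have hcN : (c : G) ∈ N := (QuotientGroup.eq_one_iff (Subgroup.inclusion hC c)).mp (congrArg Subtype.val hc)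
  exact Subtype.ext (Subgroup.mem_centralizer_iff.mp (hCN d.2) (c : G) hcN).symm

end Cfsg.Agent.OddLocal
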