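import Cfsg.Agent.Lib.OddLocal.KappaFittingTI
import Cfsg.Agent.Lib.OddLocal.KappaCover
import Cfsg.Agent.Lib.OddLocal.KappaNonNil
import Cfsg.Agent.Lib.OddLocal.SigmaMixed
import Cfsg.Agent.Lib.OddLocal.SigmaNeighbor

/-! The subgroups containing `U` and `K` (BG 14.12–14.13, 15.9). -/

set_option autoImplicit false
set_option linter.unusedSectionVars false
set_option linter.style.haveILetI false

namespace Cfsg.Agent.OddLocal

open scoped commutatorElement Pointwise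
open Cfsg
open Basics (IsSylowIn)

universe u

variable {G : Type u} [Group G] [Finite G]

/-- An element of prime order without fixed points on coprime groups `F` and `W`, `F` normalizing `W`, forces `F`
to centralize `W`. -/
theorem free_action_centralizes {F W : Subgroup G} {x : G} {r : ℕ} [hr : Fact r.Prime] (hx : orderOf x = r)
    (hxF : x ∈ Subgroup.normalizer (F : Set G)) (hxW : x ∈ Subgroup.normalizer (W : Set G))
    (hFW : F ≤ Subgroup.normalizer (W : Set G)) (hcop : (Nat.card F).Coprime (Nat.card W))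
    (hfF : F ⊓ Subgroup.centralizer ({x} : Set G) = ⊥) (hfW : W ⊓ Subgroup.centralizer ({x} : Set G) = ⊥) :
    F ≤ Subgroup.centralizer (W : Set G) := by
  set X := W ⊔ F with hX
  have hxX : Subgroup.zpowers x ≤ Subgroup.normalizer (X : Set G) := by
    refine Subgroup.zpowers_le.mpr ?_
    rw [Subgroup.mem_normalizer_iff_map_conj_eq, hX, Subgroup.map_sup,
      Subgroup.mem_normalizer_iff_map_conj_eq.mp hxW, Subgroup.mem_normalizer_iff_map_conj_eq.mp hxF]
  have hnil : Group.IsNilpotent X := by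
    refine Basics.isNilpotent_of_fpf_prime (A := Subgroup.zpowers x) (p := r) (by rw [Nat.card_zpowers, hx])
      (X.normalizerMonoidHom.comp (Subgroup.inclusion hxX)) fun v hv => Subtype.ext ?_
    have hvx : x * (v : G) * x⁻¹ = v := congrArg Subtype.val (hv ⟨x, Subgroup.mem_zpowers x⟩)
    obtain ⟨w, hw, f, hf, e⟩ := (Basics.mem_sup_of_le_normalizer hFW).mp v.2
    have e' : x * w * x⁻¹ * (x * f * x⁻¹) = w * f := by
      rw [show x * w * x⁻¹ * (x * f * x⁻¹) = x * (w * f) * x⁻¹ by group, ← e]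
      exact hvx
    have h1 : w⁻¹ * (x * w * x⁻¹) = f * (x * f * x⁻¹)⁻¹ := by
      calc w⁻¹ * (x * w * x⁻¹) = w⁻¹ * (x * w * x⁻¹ * (x * f * x⁻¹)) * (x * f * x⁻¹)⁻¹ := by group
        _ = _ := by rw [e']; group
    have h2 : w⁻¹ * (x * w * x⁻¹) = 1 := Subgroup.disjoint_def.mp (Subgroup.disjoint_of_coprime_natCard hcop.symm)
      (mul_mem (inv_mem hw) ((Subgroup.mem_normalizer_iff.mp hxW w).mp hw))
      (h1 ▸ mul_mem hf (inv_mem ((Subgroup.mem_normalizer_iff.mp hxF f).mp hf)))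
    have hw1 : w ∈ W ⊓ Subgroup.centralizer ({x} : Set G) := Subgroup.mem_inf.mpr ⟨hw,
      Subgroup.mem_centralizer_singleton_iff.mpr (mul_inv_eq_iff_eq_mul.mp (inv_mul_eq_one.mp h2).symm).symm⟩
    have hf1 : f ∈ F ⊓ Subgroup.centralizer ({x} : Set G) := Subgroup.mem_inf.mpr ⟨hf,
      Subgroup.mem_centralizer_singleton_iff.mpr (mul_inv_eq_iff_eq_mul.mp (by
        rw [h2] at h1
        exact (mul_inv_eq_one.mp h1.symm).symm)).symm⟩
    rw [hfW, Subgroup.mem_bot] at hw1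
    rw [hfF, Subgroup.mem_bot] at hf1
    rw [e, hw1, hf1, one_mul]
    rfl
  intro f hf
  exact Subgroup.mem_centralizer_iff.mpr fun w hw => (Basics.commute_of_coprime_le hnil
    (Subgroup.mem_sup_left hw : w ∈ X) (Subgroup.mem_sup_right hf)
    ((hcop.symm.coprime_dvd_left (Subgroup.orderOf_dvd_natCard _ hw)).coprime_dvd_right
      (Subgroup.orderOf_dvd_natCard _ hf))).eq

/-- The properties of the part `U` of a standard factorisation with `K ≠ 1`. -/
theorem decomp_free (hG : IsMinSimpleOddOrder G) {M K U : Subgroup G} (hM : IsCoatom M)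
    (hKU : IsSigmaDecomposition M K U) (hK1 : K ≠ ⊥) :
    IsMulCommutative U ∧ (∀ k ∈ K, k ≠ 1 → U ⊓ Subgroup.centralizer ({k} : Set G) = ⊥) ∧
      (∀ q : ℕ, q.Prime → q ∣ Nat.card U → q ∉ Cfsg.sigma M ∧ q ∉ Cfsg.kappa M) ∧
      (U ≠ ⊥ → Cfsg.sigmaCore M ⊓ Subgroup.centralizer (U : Set G) = ⊥) := by
  have hUM : U ≤ M := hKU.compl.1
  have hU := decomp_hall hG hM hKU
  have hπ : ∀ q : ℕ, q.Prime → q ∣ Nat.card U → q ∉ Cfsg.sigma M ∧ q ∉ Cfsg.kappa M :=
    fun q hq hd => ⟨(hU.2.1 q hq hd).2.2, (hU.2.1 q hq hd).2.1⟩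
  have hdis : Disjoint U (Cfsg.sigmaCore M) := Subgroup.disjoint_of_coprime_natCard
    (Nat.coprime_of_dvd fun q hq h1 h2 => (hπ q hq h1).1 (piCoreOf_primes _ M hq h2))
  refine ⟨?_, fun k hk hk1 => ?_, hπ, fun hU1 => ?_⟩
  · obtain ⟨U₀, hU₀c, -, -, hU₀M, -, -, -, -, -, hcmp⟩ := decomp_compare hG hM hKU.hall hK1
    haveI := hU₀c
    refine ⟨⟨fun a b => Subtype.ext ?_⟩⟩
    have hz : ⁅(a : G), (b : G)⁆ ∈ Cfsg.sigmaCore M := by
      refine commutator_sup_le (hU₀M.trans (le_normalizer_sigmaCore M))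
        (Subgroup.commutator_mem_commutator ?_ ?_) <;> rw [← hcmp U hKU]
      · exact Subgroup.mem_sup_right a.2
      · exact Subgroup.mem_sup_right b.2
    exact commutatorElement_eq_one_iff_mul_comm.mp (Subgroup.disjoint_def.mp hdis
      (Subgroup.commutator_le_self U (Subgroup.commutator_mem_commutator a.2 b.2)) hz)
  · refine (Subgroup.eq_bot_iff_forall _).mpr fun u hu => ?_
    obtain ⟨huU, huk⟩ := Subgroup.mem_inf.mp hu
    by_contra hu1
    obtain ⟨r, hr, hrd⟩ := Nat.exists_prime_and_dvd fun e => hk1 (orderOf_eq_one_iff.mp e)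
    obtain ⟨s, hs, hsd⟩ := Nat.exists_prime_and_dvd fun e => hu1 (orderOf_eq_one_iff.mp e)
    obtain ⟨hsσ, hsk⟩ := hπ s hs (hsd.trans (Subgroup.orderOf_dvd_natCard _ huU))
    exact not_commute_kappa hG hM hr hs (hKU.hall.2.1 r hr (hrd.trans (Subgroup.orderOf_dvd_natCard _ hk))) hsk hsσ
      (pow_mem (hKU.hall.1 hk) _) (pow_mem (hUM huU) _) (orderOf_pow_orderOf_div (orderOf_pos k).ne' hrd)
      (orderOf_pow_orderOf_div (orderOf_pos u).ne' hsd)
      ((show Commute u k from Subgroup.mem_centralizer_singleton_iff.mp huk).symm.pow_pow _ _)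
  · obtain ⟨p, hp, hpd⟩ := Nat.exists_prime_and_dvd fun e => hU1 (Subgroup.card_eq_one.mp e)
    haveI := Fact.mk hp
    obtain ⟨hpσ, hpk⟩ := hπ p hp hpd
    have hpM : p ∣ Nat.card M := hpd.trans (Subgroup.card_dvd_of_le hUM)
    obtain ⟨R, hR⟩ := exists_sylowIn (q := p) U
    obtain ⟨S, hS⟩ := (hR.isPGroup.comap_subtype (K := M)).exists_le_sylow
    have hRS : R = (S : Subgroup M).map M.subtype := by
      refine Subgroup.eq_of_le_of_card_ge (fun a ha => ⟨⟨a, hUM (hR.1 ha)⟩, hS ha, rfl⟩) ?_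
      rw [(Basics.isSylowIn_map S).2, hR.2, hallOf_factorization hU hp ⟨hp, hpk, hpσ⟩]
    obtain ⟨-, hbot, -⟩ := S1429.result hG M hM (fun h => hpk (h p hp hpM hpσ)) p hpM
      (fun h => h.elim hpσ hpk) S
    exact le_bot_iff.mp (hbot ▸ inf_le_inf_left _ (Subgroup.centralizer_le ((Subgroup.closure_le U).mpr
      fun a ha => hR.1 (hRS ▸ ha.1))))

/-- A maximal subgroup `H` outside the two classes of a dual pair, containing an element `k` of prime order of
`K`. -/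
structure Outside (M K L H : Subgroup G) (k : G) (r : ℕ) : Prop where
  pair : DualPair M K L
  max : IsCoatom H
  mem : k ∈ K
  order : orderOf k = r
  prime : r.Prime
  memH : k ∈ H
  notM : ∀ g : G, H ≠ M.map (MulAut.conj g).toMonoidHom
  notL : ∀ g : G, H ≠ L.map (MulAut.conj g).toMonoidHom

namespace Outside

variable {M K L H : Subgroup G} {k : G} {r : ℕ}

theorem ne_one (h : Outside M K L H k r) : k ≠ 1 := fun e => by
  have := h.order
  rw [e, orderOf_one] at this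
  exact h.prime.one_lt.ne this

theorem mem_core (h : Outside M K L H k r) : k ∈ Cfsg.sigmaCore L := h.pair.hstar.le.trans inf_le_left h.mem

theorem centralizer_le (h : Outside M K L H k r) (hG : IsMinSimpleOddOrder G) :
    Subgroup.centralizer ({k} : Set G) ≤ L :=
  kstar_centralizer_le hG h.pair.hL h.pair.hKL (kappa_fixed_ne_bot hG h.pair.hM h.pair.hK h.pair.hK1)
    (h.pair.hstar ▸ h.mem) h.ne_one

theorem sigma_dual (h : Outside M K L H k r) : r ∈ Cfsg.sigma L :=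
  orderOf_core h.mem_core r h.prime h.order.symm.dvd

theorem notσ (h : Outside M K L H k r) (hG : IsMinSimpleOddOrder G) : r ∉ Cfsg.sigma H := fun hs => by
  haveI := Fact.mk h.prime
  obtain ⟨g, hg⟩ := sigma_disjoint hG h.pair.hL h.max h.sigma_dual hs
  exact h.notL g hg

theorem kappa_empty (h : Outside M K L H k r) (hG : IsMinSimpleOddOrder G) : Cfsg.kappa H = ∅ := by
  by_contra hne
  rcases h.pair.conj_cases hG h.max (Set.nonempty_iff_ne_empty.mpr hne) with ⟨g, hg⟩ | ⟨g, hg⟩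
  · exact h.notM g hg
  · exact h.notL g hg

theorem nilpotent (h : Outside M K L H k r) (hG : IsMinSimpleOddOrder G) :
    Group.IsNilpotent (Cfsg.sigmaCore H) := by
  by_contra hn
  obtain ⟨-, KH, hKH, hKH1⟩ := p1_of_not_nilpotent hG h.max hn
  obtain ⟨q, hq, hqd⟩ := Nat.exists_prime_and_dvd fun e => hKH1 (Subgroup.card_eq_one.mp e)
  exact (h.kappa_empty hG ▸ hKH.2.1 q hq hqd : q ∈ (∅ : Set ℕ)).elim

/-- `k` has no fixed points on `H_σ`. -/
theorem free (h : Outside M K L H k r) (hG : IsMinSimpleOddOrder G) :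
    Cfsg.sigmaCore H ⊓ Subgroup.centralizer ({k} : Set G) = ⊥ := by
  by_contra hne
  obtain ⟨y, hy, hy1⟩ := (Subgroup.bot_or_exists_ne_one _).resolve_left hne
  obtain ⟨hyS, hyC⟩ := Subgroup.mem_inf.mp hy
  rcases fixed_dichotomy hG h.max hyS hy1 h.memH (Subgroup.mem_centralizer_singleton_iff.mp hyC).symm h.ne_one
    (fun q hq hd => by
      rw [h.order] at hd
      rw [(Nat.prime_dvd_prime_iff_eq hq h.prime).mp hd]
      exact h.notσ hG) with ⟨h1, -⟩ | ⟨-, -, h2⟩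
  · exact (h.kappa_empty hG ▸ h1 r h.prime h.order.symm.dvd : r ∈ (∅ : Set ℕ)).elim
  · exact h.notL 1 (by rw [map_conj_one]; exact (h2 L h.pair.hL (h.centralizer_le hG)).symm)

/-- There is a complement to `H_σ` containing `k`. -/
theorem exists_compl_mem (h : Outside M K L H k r) (hG : IsMinSimpleOddOrder G) :
    ∃ E : Subgroup G, IsComplIn E (Cfsg.sigmaCore H) H ∧ k ∈ E := by
  obtain ⟨E, hE, hkE⟩ := exists_compl_ge hG h.max (Subgroup.zpowers_le.mpr h.memH) fun q hq hd => by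
    rw [Nat.card_zpowers, h.order] at hd
    rw [(Nat.prime_dvd_prime_iff_eq hq h.prime).mp hd]
    exact h.notσ hG
  exact ⟨E, hE, hkE (Subgroup.mem_zpowers k)⟩

/-- The basic data at a prime of `τ₂(H)`. -/
theorem tau2_data (h : Outside M K L H k r) (hG : IsMinSimpleOddOrder G) {t : ℕ} [ht : Fact t.Prime]
    (hτ : t ∈ Cfsg.tau2 H) {E : Subgroup G} (hE : IsComplIn E (Cfsg.sigmaCore H) H) (hkE : k ∈ E) :
    ∃ B B₁ : Subgroup G, Exc t H B B₁ ∧ B ≤ E ∧ k ∈ Subgroup.normalizer (B : Set G) ∧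
      ∃ z ∈ B, z ≠ 1 ∧ orderOf z = t ∧ Commute z k ∧ z ∈ L ∧ B ≤ Subgroup.centralizer ({z} : Set G) := by
  obtain ⟨B, hBE, hBe, hB2, B₁, hB⟩ := exists_ea_in_compl hG h.max hE hτ
  have hkB : k ∈ Subgroup.normalizer (B : Set G) :=
    hB.compl_le_normalizer hG hE hBE hkE
  refine ⟨B, B₁, hB, hBE, hkB, ?_⟩
  obtain ⟨z, hz, hz1⟩ : ∃ z ∈ B ⊓ Subgroup.centralizer ({k} : Set G), z ≠ 1 := by
    refine (Subgroup.bot_or_exists_ne_one _).resolve_left fun hbot => ?_
    haveI := Fact.mk h.prime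
    have hle := free_action_centralizes h.order hkB (le_normalizer_sigmaCore H h.memH) hB.le_normalizer_core
      (Nat.coprime_of_dvd fun q hq h1 h2 => by
        rw [hB2] at h1
        exact hτ.2.1 ((Nat.prime_dvd_prime_iff_eq hq ht.out).mp (hq.dvd_of_dvd_pow h1) ▸ piCoreOf_primes _ H hq h2))
      hbot (h.free hG)
    exact sigmaCore_ne_bot hG h.max (le_bot_iff.mp (hB.centralizer_eq_bot hG ▸
      le_inf le_rfl (Subgroup.le_centralizer_iff.mp hle)))
  obtain ⟨hzB, hzk⟩ := Subgroup.mem_inf.mp hz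
  haveI := hBe.1
  refine ⟨z, hzB, hz1, orderOf_eq_prime (hBe.2 z hzB) hz1, Subgroup.mem_centralizer_singleton_iff.mp hzk,
    h.centralizer_le hG hzk, fun b hb => Subgroup.mem_centralizer_singleton_iff.mpr (ea_commute hBe hb hzB).eq⟩

/-- The primes of `τ₂(H)` lie in `σ(L)`, when `M` is of type `P₂`. -/
theorem tau2_sigma_dual (h : Outside M K L H k r) (hG : IsMinSimpleOddOrder G) {p : ℕ} (hp : p.Prime)
    (hpd : p ∣ Nat.card M) (hpσ : p ∉ Cfsg.sigma M) (hpk : p ∉ Cfsg.kappa M) {t : ℕ} [ht : Fact t.Prime]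
    (hτ : t ∈ Cfsg.tau2 H) : t ∈ Cfsg.sigma L := by
  by_contra htL
  obtain ⟨E, hE, hkE⟩ := h.exists_compl_mem hG
  obtain ⟨B, B₁, hB, -, hkB, z, hzB, hz1, hzo, hzk, hzL, hBz⟩ := h.tau2_data hG hτ hE hkE
  set A := Cfsg.sigmaCore M ⊓ Subgroup.centralizer (K : Set G) with hA
  have hA1 : A ≠ ⊥ := kappa_fixed_ne_bot hG h.pair.hM h.pair.hK h.pair.hK1
  rcases fixed_dichotomy hG h.pair.hL h.mem_core h.ne_one hzL hzk hz1 (fun q hq hd => by
      rw [hzo] at hd; rwa [(Nat.prime_dvd_prime_iff_eq hq ht.out).mp hd]) with ⟨hκ, -⟩ | ⟨-, hCz, -⟩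
  swap
  · obtain ⟨B₂, hB'⟩ := exists_exc hG h.pair.hL htL (hBz.trans hCz) hB.ea hB.card
    have hne : H ≠ L := fun e => h.notL 1 (by rw [map_conj_one, e])
    have h0 := hB'.inf_maximal hG h.max hne hB.le
    exact h.ne_one (Subgroup.mem_bot.mp (h0 ▸ Subgroup.mem_inf.mpr ⟨h.mem_core, h.memH⟩))
  -- `t ∈ κ(L)`: move `z` into `K*` inside `C(k)`
  set C := Subgroup.centralizer ({k} : Set G) with hC
  have hCL : C ≤ L := h.centralizer_le hG
  have hAC : A ≤ C := fun a ha => Subgroup.mem_centralizer_singleton_iff.mpr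
    (Subgroup.mem_centralizer_iff.mp ha.2 k h.mem).symm
  haveI : Group.IsSolvable C := Basics.isSolvable_of_le hCL (isSolvable_of_ne_top hG h.pair.hL.1)
  have hzC : Subgroup.zpowers z ≤ C := Subgroup.zpowers_le.mpr (Subgroup.mem_centralizer_singleton_iff.mpr hzk.eq)
  have hidx : ∀ q : ℕ, q.Prime → q ∈ Cfsg.kappa L → ¬ q ∣ A.relIndex C := fun q hq hqk hd =>
    h.pair.hKL.2.2 q hq hqk (hd.trans (Dvd.intro _ (Subgroup.relIndex_mul_relIndex A C L hAC hCL)))
  obtain ⟨c, hc⟩ := Basics.exists_le_conj_hall (H := A.subgroupOf C) (K := (Subgroup.zpowers z).subgroupOf C)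
    (Nat.coprime_of_dvd fun q hq h1 h2 => hidx q hq (h.pair.hKL.2.1 q hq (by rwa [Basics.card_subgroupOf hAC] at h1)) h2)
    (Nat.coprime_of_dvd fun q hq h1 h2 => hidx q hq (hκ q hq (by
      rwa [Basics.card_subgroupOf hzC, Nat.card_zpowers] at h1)) h2)
  obtain ⟨a, ha, eza⟩ := hc (show (⟨z, hzC (Subgroup.mem_zpowers z)⟩ : C) ∈ (Subgroup.zpowers z).subgroupOf C from
    Subgroup.mem_zpowers z)
  have eza' : (c : G) * (a : G) * (c : G)⁻¹ = z := congrArg Subtype.val eza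
  have haA : (a : G) ∈ A := ha
  have ha1 : (a : G) ≠ 1 := fun e => hz1 (by rw [← eza', e, mul_one, mul_inv_cancel])
  set H' := H.map (MulAut.conj (c : G)⁻¹).toMonoidHom with hH'
  set B' := B.map (MulAut.conj (c : G)⁻¹).toMonoidHom with hB'def
  have hB'M : B' ≤ M := by
    rintro _ ⟨b, hb, rfl⟩
    refine kstar_centralizer_le hG h.pair.hM h.pair.hK h.pair.hK1 haA ha1 (Subgroup.mem_centralizer_singleton_iff.mpr ?_)
    have e := Subgroup.mem_centralizer_singleton_iff.mp (hBz hb)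
    rw [← eza'] at e
    simp only [MulEquiv.coe_toMonoidHom, MulAut.conj_apply, inv_inv]
    calc (c : G)⁻¹ * b * c * a = (c : G)⁻¹ * (b * ((c : G) * a * (c : G)⁻¹)) * c := by group
      _ = (c : G)⁻¹ * ((c : G) * a * (c : G)⁻¹ * b) * c := by rw [e]
      _ = _ := by group
  have htA : t ∈ Cfsg.sigma M := orderOf_core haA.1 t ht.out (by rw [← orderOf_conj_elt (c : G), eza', hzo])
  have hH'c : IsCoatom H' := isCoatom_map_conj h.max _
  have htH' : t ∉ Cfsg.sigma H' := fun hs => hτ.2.1 (by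
    exact sigma_of_conj_inv (show H = H'.map (MulAut.conj (c : G)).toMonoidHom by
      rw [hH', map_conj_map_conj, mul_inv_cancel, map_conj_one]) hs)
  obtain ⟨B₂, hB'e⟩ := exists_exc hG hH'c htH' (Subgroup.map_mono hB.le) (ea_map hB.ea _)
    ((Subgroup.card_map_of_injective (MulAut.conj (c : G)⁻¹).injective).trans hB.card)
  have hne : M ≠ H' := fun e => h.notM c (by rw [e, hH', map_conj_map_conj, mul_inv_cancel, map_conj_one])
  have h0 := hB'e.inf_maximal hG h.pair.hM hne hB'M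
  obtain ⟨-, hnil, -⟩ := compl_prime hG h.pair.hM h.pair.hK h.pair.hK1 hp hpd hpσ hpk
  refine sigmaCore_ne_bot hG hH'c (le_bot_iff.mp (le_of_lines hB'e.ea hB'e.card hB'e.le_normalizer_core
    hB'e.not_dvd_sigma fun X hX hXc => ?_))
  obtain ⟨b, hb, hb1, hbX⟩ := exists_ne_one_of_card hXc
  have hbo : orderOf b = t := by rw [← Nat.card_zpowers, hbX, hXc]
  have hbS : b ∈ Cfsg.sigmaCore M := pGroup_le_sigmaCore hG h.pair.hM htA (hB'e.isPGroup) hB'M (hX hb)
  obtain ⟨hCb, -⟩ := fitting_centralizer_le hG h.pair.hM h.pair.hK h.pair.hK1 hp hpd hpσ hpk ht.out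
    (sigmaCore_le_fittingOf hnil hbS) hbo
  refine le_trans ?_ h0.le
  refine inf_le_inf_left _ (le_trans ?_ hCb)
  rw [← hbX, centralizer_eq_of_zpowers]

/-- At a prime of `τ₂(H) ∩ σ(L)`: `B ≤ L` and `L` is of type `P₁`. -/
theorem tau2_le_dual (h : Outside M K L H k r) (hG : IsMinSimpleOddOrder G) {t : ℕ} [ht : Fact t.Prime]
    (hτ : t ∈ Cfsg.tau2 H) (htL : t ∈ Cfsg.sigma L) {E : Subgroup G} (hE : IsComplIn E (Cfsg.sigmaCore H) H)
    (hkE : k ∈ E) :
    ∃ B B₁ : Subgroup G, Exc t H B B₁ ∧ B ≤ E ∧ k ∈ Subgroup.normalizer (B : Set G) ∧ B ≤ L ∧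
      (∀ q : ℕ, q.Prime → q ∣ Nat.card L → q ∉ Cfsg.sigma L → q ∈ Cfsg.kappa L) := by
  obtain ⟨B, B₁, hB, hBE, hkB, z, hzB, hz1, hzo, hzk, hzL, hBz⟩ := h.tau2_data hG hτ hE hkE
  have hzS : z ∈ Cfsg.sigmaCore L := sigma_le_core hG h.pair.hL (Subgroup.zpowers_le.mpr hzL) (fun q hq hd => by
    rw [Nat.card_zpowers, hzo] at hd
    rwa [(Nat.prime_dvd_prime_iff_eq hq ht.out).mp hd]) (Subgroup.mem_zpowers z)
  have hBL : B ≤ L := by
    by_cases hC : Subgroup.centralizer ({z} : Set G) ≤ L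
    · exact hBz.trans hC
    obtain ⟨N, hN, hCN, -, hconj, -, -, hcompl, hτN, -, -⟩ := exists_neighbor hG h.pair.hL hzS hz1 hC
    have hkN : k ∈ N := hCN (Subgroup.mem_centralizer_singleton_iff.mpr hzk.symm.eq)
    have hrN : r ∉ Cfsg.sigma N := fun hs => by
      haveI := Fact.mk h.prime
      obtain ⟨g, hg⟩ := sigma_disjoint hG h.pair.hL hN h.sigma_dual hs
      exact hconj g hg
    have htN : t ∉ Cfsg.sigma N := (hτN t ht.out hzo.symm.dvd).2.1
    set X := Subgroup.zpowers k ⊔ B with hX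
    have hkX : Subgroup.zpowers k ≤ Subgroup.normalizer (B : Set G) := Subgroup.zpowers_le.mpr hkB
    have hXN : X ≤ N := sup_le (Subgroup.zpowers_le.mpr hkN) (hBz.trans hCN)
    obtain ⟨m, hm, hmX⟩ := exists_conj_le_compl hG hN hcompl hXN fun q hq hd => by
      rw [hX, sup_comm] at hd
      rcases hq.dvd_mul.mp (hd.trans (card_sup_dvd hkX)) with h' | h'
      · rw [hB.card] at h'
        rwa [(Nat.prime_dvd_prime_iff_eq hq ht.out).mp (hq.dvd_of_dvd_pow h')]
      · rw [Nat.card_zpowers, h.order] at h'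
        rwa [(Nat.prime_dvd_prime_iff_eq hq h.prime).mp h']
    obtain ⟨e, he, b, hb, rfl⟩ := hcompl.2.2.2 m hm
    have hbX : ∀ v ∈ X, b * v * b⁻¹ ∈ L ⊓ N := fun v hv => by
      have h' := hmX (Basics.conj_mem_conj_smul hv)
      have h'' := mul_mem (mul_mem (inv_mem he) h') he
      rwa [show e⁻¹ * (e * b * v * (e * b)⁻¹) * e = b * v * b⁻¹ by group] at h''
    have hcomm : b * k * b⁻¹ * k⁻¹ ∈ (L ⊓ N) ⊓ Cfsg.sigmaCore N := by
      refine Subgroup.mem_inf.mpr ⟨mul_mem (hbX k (Subgroup.mem_sup_left (Subgroup.mem_zpowers k)))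
        (inv_mem (Subgroup.mem_inf.mpr ⟨sigmaCore_le L h.mem_core, hkN⟩)), ?_⟩
      rw [show b * k * b⁻¹ * k⁻¹ = b * (k * b⁻¹ * k⁻¹) by group]
      exact mul_mem hb ((Subgroup.mem_normalizer_iff.mp (le_normalizer_sigmaCore N hkN) _).mp (inv_mem hb))
    rw [hcompl.2.2.1, Subgroup.mem_bot, mul_inv_eq_one] at hcomm
    have hbk : b ∈ Subgroup.centralizer ({k} : Set G) :=
      Subgroup.mem_centralizer_singleton_iff.mpr (mul_inv_eq_iff_eq_mul.mp hcomm)
    have hb1 : b ∈ (L ⊓ N) ⊓ Cfsg.sigmaCore N :=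
      Subgroup.mem_inf.mpr ⟨Subgroup.mem_inf.mpr ⟨h.centralizer_le hG hbk, sigmaCore_le N hb⟩, hb⟩
    rw [hcompl.2.2.1, Subgroup.mem_bot] at hb1
    intro v hv
    have h' := (hbX v (Subgroup.mem_sup_right hv)).1
    rwa [hb1, one_mul, inv_one, mul_one] at h'
  refine ⟨B, B₁, hB, hBE, hkB, hBL, fun q hq hqd hqσ => ?_⟩
  by_contra hqk
  have hA1 : Cfsg.sigmaCore M ⊓ Subgroup.centralizer (K : Set G) ≠ ⊥ :=
    kappa_fixed_ne_bot hG h.pair.hM h.pair.hK h.pair.hK1
  obtain ⟨-, hnil, -⟩ := compl_prime hG h.pair.hL h.pair.hKL hA1 hq hqd hqσ hqk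
  have hne : L ≠ H := fun e => h.notL 1 (by rw [map_conj_one, e])
  have h0 := hB.inf_maximal hG h.pair.hL hne hBL
  refine sigmaCore_ne_bot hG h.max (le_bot_iff.mp (le_of_lines hB.ea hB.card hB.le_normalizer_core
    hB.not_dvd_sigma fun X hX hXc => ?_))
  obtain ⟨b, hb, hb1, hbX⟩ := exists_ne_one_of_card hXc
  have hbo : orderOf b = t := by rw [← Nat.card_zpowers, hbX, hXc]
  have hbS : b ∈ Cfsg.sigmaCore L := pGroup_le_sigmaCore hG h.pair.hL htL hB.isPGroup hBL (hX hb)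
  obtain ⟨hCb, -⟩ := fitting_centralizer_le hG h.pair.hL h.pair.hKL hA1 hq hqd hqσ hqk ht.out
    (sigmaCore_le_fittingOf hnil hbS) hbo
  refine le_trans ?_ h0.le
  refine inf_le_inf_left _ (le_trans ?_ hCb)
  rw [← hbX, centralizer_eq_of_zpowers]

/-- A further prime of `M` is not in `τ₂(H)`. -/
theorem not_tau2 (h : Outside M K L H k r) (hG : IsMinSimpleOddOrder G) {p : ℕ} (hp : p.Prime)
    (hpd : p ∣ Nat.card M) (hpσ : p ∉ Cfsg.sigma M) (hpk : p ∉ Cfsg.kappa M) : p ∉ Cfsg.tau2 H := fun hτ =>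
  haveI := Fact.mk hp
  h.pair.not_sigma_dual hG hp hpd hpσ hpk (h.tau2_sigma_dual hG hp hpd hpσ hpk hτ)

/-- An element of prime order outside `σ(H) ∪ τ₂(H)` has no fixed points on `H_σ`. -/
theorem free_elt (h : Outside M K L H k r) (hG : IsMinSimpleOddOrder G) {x y : G} {s : ℕ} (hs : s.Prime)
    (hxH : x ∈ H) (hxo : orderOf x = s) (hsσ : s ∉ Cfsg.sigma H) (hsτ : s ∉ Cfsg.tau2 H)
    (hy : y ∈ Cfsg.sigmaCore H) (hxy : Commute x y) : y = 1 := by
  by_contra hy1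
  rcases fixed_dichotomy hG h.max hy hy1 hxH hxy
    (fun e => hs.one_lt.ne (by rw [← hxo, e, orderOf_one])) (fun q hq hd => by
      rw [hxo] at hd; rwa [(Nat.prime_dvd_prime_iff_eq hq hs).mp hd]) with ⟨h1, -⟩ | ⟨h1, -⟩
  · exact (h.kappa_empty hG ▸ h1 s hs hxo.symm.dvd : s ∈ (∅ : Set ℕ)).elim
  · exact hsτ (h1 s hs hxo.symm.dvd)

/-- If `U ≤ H` meets `H_σ`, it lies in it. -/
theorem le_sigmaCore (h : Outside M K L H k r) (hG : IsMinSimpleOddOrder G) {U : Subgroup G}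
    (hKU : IsSigmaDecomposition M K U) (hUH : U ≤ H) (hne : U ⊓ Cfsg.sigmaCore H ≠ ⊥) :
    U ≤ Cfsg.sigmaCore H := by
  obtain ⟨hUab, -, hπ, -⟩ := decomp_free hG h.pair.hM hKU h.pair.hK1
  refine sigma_le_core hG h.max hUH fun s hs hd => ?_
  haveI := Fact.mk hs
  by_contra hsσ
  obtain ⟨u, hu⟩ := exists_prime_orderOf_dvd_card' s hd
  obtain ⟨hsM, hsk⟩ := hπ s hs hd
  obtain ⟨y, hy, hy1⟩ := (Subgroup.bot_or_exists_ne_one _).resolve_left hne
  obtain ⟨hyU, hyS⟩ := Subgroup.mem_inf.mp hy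
  exact hy1 (h.free_elt hG hs (hUH u.2) (by rw [Subgroup.orderOf_coe, hu]) hsσ
    (h.not_tau2 hG hs (hd.trans (Subgroup.card_dvd_of_le hKU.compl.1)) hsM hsk) hyS
    (congrArg Subtype.val (hUab.is_comm.comm u ⟨y, hyU⟩)))

/-- `H_σ ∩ L = 1`. -/
theorem core_inf_dual (h : Outside M K L H k r) (hG : IsMinSimpleOddOrder G) :
    Cfsg.sigmaCore H ⊓ L = ⊥ := by
  refine le_bot_iff.mp (h.free hG ▸ le_inf inf_le_left fun x hx => ?_)
  obtain ⟨hxH, hxL⟩ := Subgroup.mem_inf.mp hx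
  refine Subgroup.mem_centralizer_singleton_iff.mpr (commutatorElement_eq_one_iff_mul_comm.mp ?_)
  refine Subgroup.disjoint_def.mp (Subgroup.disjoint_of_coprime_natCard (Nat.coprime_of_dvd fun q hq h1 h2 => ?_))
    (show ⁅x, k⁆ ∈ Cfsg.sigmaCore H from ?_) (show ⁅x, k⁆ ∈ Cfsg.sigmaCore L from ?_)
  · haveI := Fact.mk hq
    obtain ⟨g, hg⟩ := sigma_disjoint hG h.pair.hL h.max (piCoreOf_primes _ L hq h2) (piCoreOf_primes _ H hq h1)
    exact h.notL g hg
  · rw [commutatorElement_def, mul_assoc, mul_assoc, ← mul_assoc k]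
    exact mul_mem hxH ((Subgroup.mem_normalizer_iff.mp (le_normalizer_sigmaCore H h.memH) _).mp (inv_mem hxH))
  · rw [commutatorElement_def]
    exact mul_mem ((Subgroup.mem_normalizer_iff.mp (le_normalizer_sigmaCore L hxL) _).mp h.mem_core)
      (inv_mem h.mem_core)

/-- A complement to `H_σ` containing `k` lies in `L`. -/
theorem compl_le_dual (h : Outside M K L H k r) (hG : IsMinSimpleOddOrder G) {p : ℕ} (hp : p.Prime)
    (hpd : p ∣ Nat.card M) (hpσ : p ∉ Cfsg.sigma M) (hpk : p ∉ Cfsg.kappa M) {E : Subgroup G}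
    (hE : IsComplIn E (Cfsg.sigmaCore H) H) (hkE : k ∈ E) : E ≤ L := by
  haveI := Fact.mk h.prime
  by_cases hτ : ∃ t, t ∈ Cfsg.tau2 H
  · obtain ⟨t, ht⟩ := hτ
    haveI := Fact.mk ht.1
    have htL := h.tau2_sigma_dual hG hp hpd hpσ hpk ht
    obtain ⟨B, B₁, hB, hBE, -, hBL, -⟩ := h.tau2_le_dual hG ht htL hE hkE
    refine (hB.compl_le_normalizer hG hE hBE).trans (normalizer_le_of_noncyclic hG h.pair.hL htL hB.isPGroup hBL
      fun hc => ?_)
    have h2 := card_le_of_cyclic_ea hB.ea hc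
    rw [hB.card] at h2
    exact absurd h2 (not_le.mpr (by
      rw [pow_two]; exact lt_mul_self ht.1.one_lt))
  push Not at hτ
  have hrank : PRankLE r 1 H := by
    by_contra h1
    exact hτ r ⟨h.prime, h.notσ hG, pRankLE_two_of_not_mem_sigma hG h.max (h.notσ hG), h1⟩
  have hkc : Nat.card (Subgroup.zpowers k) = r := by rw [Nat.card_zpowers, h.order]
  by_cases hd : r ∣ Nat.card ↥⁅H, H⁆
  · exact (line_normal_of_derived hG h.max hE (h.notσ hG) hrank (Subgroup.zpowers_le.mpr hkE) hkc hd).1.trans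
      ((h.pair.facts hG).2.1 _ (Subgroup.zpowers_le.mpr h.mem) (hkc.symm ▸ h.prime)).1
  haveI : IsMulCommutative ↥⁅E, E⁆ := derived_compl_commutative hG h.max hE
  have hED : ⁅E, E⁆ ≤ E := Subgroup.commutator_le_self E
  have hEn : E ≤ Subgroup.normalizer ((⁅E, E⁆ : Subgroup G) : Set G) :=
    le_normalizer_commutator Subgroup.le_normalizer Subgroup.le_normalizer
  have hkn : ∀ a ∈ ⁅E, E⁆, k * a * k⁻¹ ∈ ⁅E, E⁆ := fun a ha => (Subgroup.mem_normalizer_iff.mp (hEn hkE) a).mp ha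
  have hab : ∀ a ∈ ⁅E, E⁆, ∀ b ∈ ⁅E, E⁆, a * b = b * a := fun a ha b hb =>
    congrArg Subtype.val (IsMulCommutative.is_comm.comm (⟨a, ha⟩ : ↥⁅E, E⁆) ⟨b, hb⟩)
  let φ : ↥⁅E, E⁆ →* G :=
    { toFun := fun a => k * a * k⁻¹ * (a : G)⁻¹
      map_one' := by simp
      map_mul' := fun a b => by
        have e := hab _ (inv_mem a.2) _ (mul_mem (hkn _ b.2) (inv_mem b.2))
        calc k * ↑(a * b) * k⁻¹ * (↑(a * b) : G)⁻¹
            = k * a * k⁻¹ * (k * b * k⁻¹ * (b : G)⁻¹ * (a : G)⁻¹) := by rw [Subgroup.coe_mul]; group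
          _ = k * a * k⁻¹ * ((a : G)⁻¹ * (k * b * k⁻¹ * (b : G)⁻¹)) := by rw [e]
          _ = _ := by group }
  have hrE : ∀ a ∈ ⁅E, E⁆, a ^ r = 1 → a = 1 := fun a ha e => by
    by_contra h1
    exact hd ((orderOf_eq_prime e h1) ▸ (Subgroup.orderOf_dvd_natCard _ ha).trans
      (Subgroup.card_dvd_of_le (Subgroup.commutator_mono hE.1 hE.1)))
  have hφE : φ.range ≤ ⁅E, E⁆ := by
    rintro _ ⟨a, rfl⟩
    exact mul_mem (hkn _ a.2) (inv_mem a.2)
  have hfix : φ.range ⊓ Subgroup.centralizer ({k} : Set G) = ⊥ := by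
    refine (Subgroup.eq_bot_iff_forall _).mpr fun d hd' => ?_
    obtain ⟨⟨a, rfl⟩, hC⟩ := Subgroup.mem_inf.mp hd'
    have hcom : Commute (φ a) k := Subgroup.mem_centralizer_singleton_iff.mp hC
    have hi : ∀ i : ℕ, k ^ i * a * (k ^ i)⁻¹ = φ a ^ i * a := by
      intro i
      induction i with
      | zero => simp
      | succ i ih =>
        rw [pow_succ']
        calc k * k ^ i * a * (k * k ^ i)⁻¹ = k * (k ^ i * a * (k ^ i)⁻¹) * k⁻¹ := by group
          _ = k * (φ a ^ i * a) * k⁻¹ := by rw [ih]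
          _ = φ a ^ i * k * a * k⁻¹ := by
            rw [← mul_assoc k, (hcom.pow_left i).symm.eq]
          _ = φ a ^ i * φ a * a := by
            show _ = φ a ^ i * (k * a * k⁻¹ * (a : G)⁻¹) * a
            group
          _ = _ := by rw [← pow_succ]
    have e := hi r
    rw [← h.order, pow_orderOf_eq_one, h.order, one_mul, inv_one, mul_one] at e
    exact hrE _ (hφE ⟨a, rfl⟩) (mul_eq_right.mp e.symm)
  have hφ1 : φ.range = ⊥ := by
    by_contra hne
    obtain ⟨s, hs, hsd⟩ := Nat.exists_prime_and_dvd fun e => hne (Subgroup.card_eq_one.mp e)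
    haveI := Fact.mk hs
    obtain ⟨x, hx⟩ := exists_prime_orderOf_dvd_card' s hsd
    have hxE : (x : G) ∈ E := hED (hφE x.2)
    have hsσ : s ∉ Cfsg.sigma H := compl_primes hG h.max hE hs
      (hsd.trans (Subgroup.card_dvd_of_le (hφE.trans hED)))
    have hnk : k ∈ Subgroup.normalizer (φ.range : Set G) := by
      refine Subgroup.mem_normalizer_fintype ?_
      rintro _ ⟨a, rfl⟩
      refine ⟨⟨k * a * k⁻¹, hkn _ a.2⟩, ?_⟩
      show k * (k * a * k⁻¹) * k⁻¹ * (k * a * k⁻¹)⁻¹ = k * (k * a * k⁻¹ * (a : G)⁻¹) * k⁻¹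
      group
    have hle := free_action_centralizes h.order hnk (le_normalizer_sigmaCore H h.memH)
      ((hφE.trans hED).trans (hE.1.trans (le_normalizer_sigmaCore H)))
      (Nat.coprime_of_dvd fun q hq h1 h2 => compl_primes hG h.max hE hq
        (h1.trans (Subgroup.card_dvd_of_le (hφE.trans hED))) (piCoreOf_primes _ H hq h2)) hfix (h.free hG)
    obtain ⟨y, hy, hy1⟩ := (Subgroup.bot_or_exists_ne_one _).resolve_left (sigmaCore_ne_bot hG h.max)
    exact hy1 (h.free_elt hG hs (hE.1 hxE) (by rw [Subgroup.orderOf_coe, hx]) hsσ (hτ s) hy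
      (Subgroup.mem_centralizer_iff.mp (hle x.2) y hy).symm)
  intro e he
  refine h.centralizer_le hG (Subgroup.mem_centralizer_singleton_iff.mpr (commutatorElement_eq_one_iff_mul_comm.mp ?_))
  have hc : ⁅e, k⁆ ∈ ⁅E, E⁆ := Subgroup.commutator_mem_commutator he hkE
  have hck : Commute ⁅e, k⁆ k := by
    have h1 : φ ⟨_, hc⟩ ∈ φ.range := ⟨_, rfl⟩
    rw [hφ1, Subgroup.mem_bot] at h1
    exact (mul_inv_eq_iff_eq_mul.mp (mul_inv_eq_one.mp h1)).symm
  refine hrE _ hc ?_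
  have e1 : (⁅e, k⁆ * k) ^ r = 1 := by
    rw [show ⁅e, k⁆ * k = e * k * e⁻¹ by rw [commutatorElement_def]; group, conj_pow, ← h.order, pow_orderOf_eq_one]
    group
  rwa [hck.mul_pow, ← h.order, pow_orderOf_eq_one, h.order, mul_one] at e1

end Outside

/-- A maximal subgroup over the normalizer of a Sylow subgroup of `U`. -/
theorem sylow_normalizer_over (hG : IsMinSimpleOddOrder G) {M K U L H R : Subgroup G} {q : ℕ} [hq : Fact q.Prime]
    (hd : DualPair M K L) (hKU : IsSigmaDecomposition M K U) (hqU : q ∣ Nat.card U) (hR : IsSylowIn q U R)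
    (hH : IsCoatom H) (hNR : Subgroup.normalizer (R : Set G) ≤ H) :
    U ≤ Cfsg.sigmaCore H ∧ K ≤ H ∧ ∀ k ∈ K, ∀ r : ℕ, r.Prime → orderOf k = r → Outside M K L H k r := by
  obtain ⟨hUab, -, hπ, -⟩ := decomp_free hG hd.hM hKU hd.hK1
  haveI := hUab
  have hU := decomp_hall hG hd.hM hKU
  have hUM : U ≤ M := hKU.compl.1
  obtain ⟨hqσ, hqk⟩ := hπ q hq.out hqU
  have hqM : q ∣ Nat.card M := hqU.trans (Subgroup.card_dvd_of_le hUM)
  have hRM : IsSylowIn q M R := ⟨hR.1.trans hUM, by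
    rw [hR.2, hallOf_factorization hU hq.out ⟨hq.out, hqk, hqσ⟩]⟩
  have hUR : U ≤ Subgroup.normalizer (R : Set G) := fun u hu => Subgroup.centralizer_le_normalizer _
    (Subgroup.mem_centralizer_iff.mpr fun a ha => congrArg Subtype.val (hUab.is_comm.comm (⟨a, hR.1 ha⟩ : U) ⟨u, hu⟩))
  have hKR : K ≤ Subgroup.normalizer (R : Set G) := fun k hk => by
    obtain ⟨P, hP⟩ := hR.exists_sylow
    refine Subgroup.mem_normalizer_fintype fun a ha => ?_
    have hkU := Subgroup.mem_normalizer_iff_map_conj_eq.mp (hKU.normal hk)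
    have hR' : R.map (MulAut.conj k).toMonoidHom ≤ U := hkU ▸ Subgroup.map_mono hR.1
    have e := hR.eq_of_le (R := R ⊔ R.map (MulAut.conj k).toMonoidHom)
      (hR.isPGroup.to_sup_of_normal_right' (hR.isPGroup.map _) (hR.1.trans (fun u hu =>
        Subgroup.centralizer_le_normalizer _ (Subgroup.mem_centralizer_iff.mpr fun b hb =>
          congrArg Subtype.val (hUab.is_comm.comm (⟨b, hR' hb⟩ : U) ⟨u, hu⟩)))))
      (sup_le hR.1 hR') le_sup_left
    exact e ▸ Subgroup.mem_sup_right (Subgroup.mem_map_of_mem _ ha)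
  have hnotM : ∀ g : G, H ≠ M.map (MulAut.conj g).toMonoidHom := by
    intro g e
    have hRH : R ≤ M.map (MulAut.conj g).toMonoidHom := e ▸ Subgroup.le_normalizer.trans hNR
    have hR' : IsSylowIn q M (R.map (MulAut.conj g⁻¹).toMonoidHom) :=
      ⟨le_map_conj_iff.mp hRH, by rw [Subgroup.card_map_of_injective (MulAut.conj g⁻¹).injective, hRM.2]⟩
    have hN' : Subgroup.normalizer ((R.map (MulAut.conj g⁻¹).toMonoidHom : Subgroup G) : Set G) ≤ M := by
      intro v hv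
      have h1 : g * v * g⁻¹ ∈ Subgroup.normalizer (R : Set G) := by
        have h2 := conj_le_normalizer_conj (le_refl (Subgroup.normalizer
          ((R.map (MulAut.conj g⁻¹).toMonoidHom : Subgroup G) : Set G))) g (Subgroup.mem_map_of_mem _ hv)
        rw [map_conj_map_conj, mul_inv_cancel, map_conj_one] at h2
        exact h2
      have h3 := hNR h1
      rw [e, Subgroup.mem_map] at h3
      obtain ⟨m, hm, hme⟩ := h3
      rwa [show v = m from (MulAut.conj g).injective hme.symm]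
    obtain ⟨P, hP⟩ := hR'.exists_sylow
    exact hqσ ⟨hq.out, hqM, P, by rw [hP]; exact hN'⟩
  have hout : ∀ k ∈ K, ∀ r : ℕ, r.Prime → orderOf k = r → Outside M K L H k r := by
    intro k hk r hr hkr
    refine ⟨hd, hH, hk, hkr, hr, hNR (hKR hk), hnotM, fun g e => ?_⟩
    have hk1 : k ≠ 1 := fun e' => hr.one_lt.ne (by rw [← hkr, e', orderOf_one])
    have hkL : k ∈ Cfsg.sigmaCore L := hd.hstar.le.trans inf_le_left hk
    have hHL := eq_of_mem_conj hG hd.hL hkL hk1 (e ▸ hNR (hKR hk) : k ∈ L.map (MulAut.conj g).toMonoidHom)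
      (kstar_centralizer_le hG hd.hL hd.hKL (kappa_fixed_ne_bot hG hd.hM hd.hK hd.hK1) (hd.hstar ▸ hk) hk1)
    have hUZ : U ≤ M ⊓ L := le_inf hUM ((hUR.trans hNR).trans (e.trans hHL).le)
    rw [hd.inf_eq hG] at hUZ
    have h2 := hqU.trans (Subgroup.card_dvd_of_le hUZ)
    rw [card_Z hd.hK] at h2
    rcases hq.out.dvd_mul.mp h2 with h' | h'
    · exact hqk (hd.hK.2.1 q hq.out h')
    · exact hqσ (piCoreOf_primes _ M hq.out (h'.trans (Subgroup.card_dvd_of_le inf_le_left)))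
  refine ⟨?_, hKR.trans hNR, hout⟩
  obtain ⟨r, hr, hrd⟩ := Nat.exists_prime_and_dvd fun e => hd.hK1 (Subgroup.card_eq_one.mp e)
  haveI := Fact.mk hr
  obtain ⟨k, hk⟩ := exists_prime_orderOf_dvd_card' r hrd
  rw [← Subgroup.orderOf_coe] at hk
  have ho := hout k k.2 r hr hk
  have hRH : R ≤ H := Subgroup.le_normalizer.trans hNR
  have hqR : q ∣ Nat.card R := by
    rw [hR.2]; exact dvd_pow_self q (hq.out.factorization_pos_of_dvd Nat.card_pos.ne' hqU).ne'
  have hR1 : R ≠ ⊥ := fun e => hq.out.one_lt.ne (Nat.dvd_one.mp (by rw [e, Subgroup.card_bot] at hqR; exact hqR)).symm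
  have hqH : q ∈ Cfsg.sigma H := by
    by_contra hqH
    have h1 : PRankLE q 1 H := by
      by_contra h1
      exact ho.not_tau2 hG hq.out hqM hqσ hqk ⟨hq.out, hqH, pRankLE_two_of_not_mem_sigma hG hH hqH, h1⟩
    obtain ⟨S, hS, hRS⟩ := exists_sylowIn_ge hR.isPGroup hRH
    have hSc : IsCyclic S := isCyclic_of_pRankLE_one (prime_ne_two hG (hqM.trans (Subgroup.card_subgroup_dvd_card M)))
      h1 hS.1 hS.isPGroup
    obtain ⟨P, hP⟩ := hS.exists_sylow
    refine hqH ⟨hq.out, hqR.trans (Subgroup.card_dvd_of_le hRH), P, hP.symm ▸ fun v hv => hNR ?_⟩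
    rw [Subgroup.mem_normalizer_iff_map_conj_eq] at hv ⊢
    exact eq_of_le_cyclic hSc ((Subgroup.map_mono hRS).trans hv.le) hRS
      (Subgroup.card_map_of_injective (MulAut.conj v).injective)
  refine ho.le_sigmaCore hG hKU (hUR.trans hNR) fun e => hR1 (le_bot_iff.mp (e ▸ le_inf hR.1 ?_))
  exact pGroup_le_sigmaCore hG hH hqH hR.isPGroup hRH

end Cfsg.Agent.OddLocal
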