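import Cfsg.Agent.Lib.OddLocal.KappaFittingHall
import Cfsg.Agent.Lib.OddLocal.KappaNonNil
import Cfsg.Agent.Lib.OddLocal.KappaSylow
import Cfsg.Agent.Lib.OddLocal.KappaSupport
import Cfsg.Agent.Lib.OddLocal.PrimeActionTools
import Cfsg.Agent.Lib.LocalEvenB.FixedOrder
import Cfsg.Agent.S1414

/-! The structure of `M` with `M_F ≠ M_σ` (BG 15.2). -/

set_option autoImplicit false
set_option linter.unusedSectionVars false
set_option linter.style.haveILetI false

namespace Cfsg.Agent.OddLocal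

open scoped commutatorElement Pointwise
open Cfsg
open Basics (IsSylowIn)

universe u

variable {G : Type u} [Group G] [Finite G]

/-- The order of an invariant section on which `D` has no fixed points, `D R` being a Frobenius group. -/
theorem card_section {D R N N₀ : Subgroup G} (hle : N₀ ≤ N) (hDs : Group.IsSolvable D) (hNs : Group.IsSolvable N)
    (hN0 : N ≤ Subgroup.normalizer (N₀ : Set G)) (hD0 : D ≤ Subgroup.normalizer (N₀ : Set G))
    (hR0 : R ≤ Subgroup.normalizer (N₀ : Set G)) (hDN : D ≤ Subgroup.normalizer (N : Set G))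
    (hRN : R ≤ Subgroup.normalizer (N : Set G)) (hRD : R ≤ Subgroup.normalizer (D : Set G))
    (hfrob : ∀ x ∈ R, x ≠ 1 → D ⊓ Subgroup.centralizer ({x} : Set G) = ⊥)
    (hcD : (Nat.card D).Coprime (Nat.card N)) (hcR : (Nat.card R).Coprime (Nat.card N))
    (hfix : N ⊓ Subgroup.centralizer (D : Set G) ≤ N₀) :
    (N ⊓ Subgroup.centralizer (R : Set G) ≤ N₀ → N = N₀) ∧
      ∀ q : ℕ, (N ⊓ Subgroup.centralizer (R : Set G)) ⊓ N₀ = ⊥ →
        Nat.card ↥(N ⊓ Subgroup.centralizer (R : Set G)) = q → Nat.card N = Nat.card N₀ * q ^ Nat.card R := by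
  set Γ := Subgroup.normalizer (N₀ : Set G) with hΓ
  haveI : (N₀.subgroupOf Γ).Normal := Subgroup.normal_subgroupOf_iff_le_normalizer Subgroup.le_normalizer |>.mpr le_rfl
  set f := QuotientGroup.mk' (N₀.subgroupOf Γ) with hf
  have hN₀Γ : N₀ ≤ Γ := Subgroup.le_normalizer
  have hc : ∀ {B : Subgroup G}, B ≤ Γ → Nat.card (B.subgroupOf Γ) = Nat.card B := fun hB => Basics.card_subgroupOf hB
  have hnorm : ∀ {B C : Subgroup G}, B ≤ Γ → C ≤ Γ → B ≤ Subgroup.normalizer (C : Set G) →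
      (B.subgroupOf Γ).map f ≤ Subgroup.normalizer (((C.subgroupOf Γ).map f : Subgroup _) : Set _) := by
    intro B C _ hC h
    refine (Subgroup.map_mono ?_).trans (Subgroup.le_normalizer_map _)
    intro b hb
    rw [← Subgroup.subgroupOf_normalizer_eq hC, Subgroup.mem_subgroupOf]
    exact h hb
  have hlift : ∀ {B : Subgroup G}, B ≤ Γ → (Nat.card B).Coprime (Nat.card N) →
      (N.subgroupOf Γ).map f ⊓ Subgroup.centralizer (((B.subgroupOf Γ).map f : Subgroup _) : Set _) =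
        ((N ⊓ Subgroup.centralizer (B : Set G)).subgroupOf Γ).map f := by
    intro B hB hcop
    rw [hf, ← Basics.map_inf_centralizer (B.subgroupOf Γ) (N.subgroupOf Γ) (N₀.subgroupOf Γ)
      (Subgroup.comap_mono hle) (by rw [hc hB, hc hN₀Γ]; exact hcop.coprime_dvd_right (Subgroup.card_dvd_of_le hle))
      (Or.inr (Basics.isSolvable_subgroupOf hN₀Γ (Basics.isSolvable_of_le hle hNs)))]
    congr 1
    ext v
    exact ⟨fun hv => Subgroup.mem_inf.mpr ⟨hv.1, Subgroup.mem_centralizer_iff.mpr fun b hb =>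
        congrArg Subtype.val (Subgroup.mem_centralizer_iff.mp hv.2 ⟨b, hB hb⟩ hb)⟩,
      fun hv => Subgroup.mem_inf.mpr ⟨hv.1, Subgroup.mem_centralizer_iff.mpr fun b hb =>
        Subtype.ext (Subgroup.mem_centralizer_iff.mp hv.2 _ hb)⟩⟩
  have hker : ∀ {B : Subgroup G}, B ≤ N₀ → (B.subgroupOf Γ).map f = ⊥ := fun hB => by
    rw [Subgroup.map_eq_bot_iff, hf, QuotientGroup.ker_mk']
    exact Subgroup.comap_mono hB
  have hcardmap : ∀ {B : Subgroup G}, B ≤ Γ → Nat.card ((B.subgroupOf Γ).map f) * Nat.card ↥(B ⊓ N₀) = Nat.card B := by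
    intro B hB
    have h := Basics.card_map_mul_card_inf_ker f (B.subgroupOf Γ)
    rw [hf, QuotientGroup.ker_mk', show B.subgroupOf Γ ⊓ N₀.subgroupOf Γ = (B ⊓ N₀).subgroupOf Γ from
      (Subgroup.comap_inf B N₀ Γ.subtype).symm, hc (inf_le_left.trans hB), hc hB] at h
    exact h
  have hcd : ∀ {B : Subgroup G}, B ≤ Γ → Nat.card ((B.subgroupOf Γ).map f) ∣ Nat.card B := fun hB =>
    Dvd.intro _ (hcardmap hB)
  have hRc : Nat.card ((R.subgroupOf Γ).map f) = Nat.card R := by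
    have h := hcardmap hR0
    rwa [(Subgroup.disjoint_of_coprime_natCard (hcR.coprime_dvd_right (Subgroup.card_dvd_of_le hle))).eq_bot,
      Subgroup.card_bot, mul_one] at h
  have h0 : (N.subgroupOf Γ).map f ⊓ Subgroup.centralizer (((D.subgroupOf Γ).map f : Subgroup _) : Set _) = ⊥ := by
    rw [hlift hD0 hcD]
    exact hker hfix
  obtain ⟨hmain, -⟩ := frobenius_card_fixed _ ((D.subgroupOf Γ).map f) ((R.subgroupOf Γ).map f)
    ((N.subgroupOf Γ).map f) rfl (Basics.isSolvable_map f (Basics.isSolvable_subgroupOf hD0 hDs))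
    (Basics.isSolvable_map f (Basics.isSolvable_subgroupOf hN0 hNs)) (hnorm hR0 hD0 hRD) (by
      rintro _ ⟨x, hx, rfl⟩ hx1 _ ⟨d, hd, rfl⟩ hxd
      have h1 : f (x * d * x⁻¹ * d⁻¹) = 1 := by
        rw [map_mul, map_mul, map_mul, map_inv, map_inv, hxd, mul_inv_cancel_right, mul_inv_cancel]
      have h2 : (x : G) * d * (x : G)⁻¹ * (d : G)⁻¹ = 1 :=
        Subgroup.disjoint_def.mp (Subgroup.disjoint_of_coprime_natCard
          (hcD.coprime_dvd_right (Subgroup.card_dvd_of_le hle)))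
          (mul_mem ((Subgroup.mem_normalizer_iff.mp (hRD hx) _).mp hd) (inv_mem hd))
          (show ((x * d * x⁻¹ * d⁻¹ : Γ) : G) ∈ N₀ from (QuotientGroup.eq_one_iff (N := N₀.subgroupOf Γ) _).mp h1)
      have hd1 : (d : G) ∈ D ⊓ Subgroup.centralizer ({(x : G)} : Set G) := Subgroup.mem_inf.mpr
        ⟨hd, Subgroup.mem_centralizer_singleton_iff.mpr (mul_inv_eq_iff_eq_mul.mp (mul_inv_eq_one.mp h2)).symm⟩
      rw [hfrob (x : G) hx (fun e => hx1 (by rw [show x = 1 from Subtype.ext e, map_one])), Subgroup.mem_bot] at hd1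
      rw [show d = 1 from Subtype.ext hd1, map_one])
    ((hcD.coprime_dvd_left (hcd hD0)).coprime_dvd_right (hcd hN0))
    ((hcR.coprime_dvd_left (hcd hR0)).coprime_dvd_right (hcd hN0))
    (hnorm hD0 hN0 hDN) (hnorm hR0 hN0 hRN) h0
  rw [hlift hR0 hcR, hRc] at hmain
  have hN := hcardmap hN0
  rw [inf_eq_right.mpr hle] at hN
  refine ⟨fun h => ?_, fun q hdis hq => ?_⟩
  · rw [hker h, Subgroup.card_bot, one_pow] at hmain
    rw [hmain, one_mul] at hN
    exact (Subgroup.eq_of_le_of_card_ge hle hN.ge).symm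
  · have h := hcardmap (B := N ⊓ Subgroup.centralizer (R : Set G)) (inf_le_left.trans hN0)
    rw [hdis, Subgroup.card_bot, mul_one, hq] at h
    rw [← hN, hmain, h, mul_comm]

/-- The structure of `M` when `M_σ` is not nilpotent. -/
theorem p1_full (hG : IsMinSimpleOddOrder G) {M K : Subgroup G} (hM : IsCoatom M)
    (hK : IsPiHallOf (Cfsg.kappa M) K M) (hn : ¬ Group.IsNilpotent (Cfsg.sigmaCore M)) :
    ∃ q : ℕ, q.Prime ∧ Nat.card ↥(Cfsg.sigmaCore M ⊓ Subgroup.centralizer (K : Set G)) = q ∧ q ∈ Cfsg.beta M ∧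
      K ≠ ⊥ ∧ (Nat.card K).Prime ∧
      (∀ s : ℕ, s.Prime → s ∣ Nat.card M → s ∉ Cfsg.sigma M → s ∈ Cfsg.kappa M) ∧
      ∃ Q D : Subgroup G, IsSylowIn q M Q ∧ M ≤ Subgroup.normalizer (Q : Set G) ∧ Q ≤ Cfsg.sigmaCore M ∧
        Cfsg.sigmaCore M ⊓ Subgroup.centralizer (K : Set G) ≤ Q ∧ D ≤ Cfsg.sigmaCore M ∧
        K ≤ Subgroup.normalizer (D : Set G) ∧ ¬ q ∣ Nat.card D ∧ Cfsg.sigmaCore M = Q ⊔ D ∧ M = Q ⊔ D ⊔ K ∧
        Group.IsNilpotent D ∧ ⁅D, D⁆ ≤ Subgroup.centralizer (Q : Set G) ∧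
        M ≤ Subgroup.normalizer ((Q ⊓ Subgroup.centralizer (D : Set G) : Subgroup G) : Set G) ∧
        Q ⊓ Subgroup.centralizer (D : Set G) < Q ∧
        Nat.card Q = Nat.card ↥(Q ⊓ Subgroup.centralizer (D : Set G)) * q ^ Nat.card K ∧
        (∀ a ∈ Q, ∀ b ∈ Q, a ^ q ∈ Q ⊓ Subgroup.centralizer (D : Set G) ∧
          a * b * a⁻¹ * b⁻¹ ∈ Q ⊓ Subgroup.centralizer (D : Set G)) ∧
        ∀ N : Subgroup G, Q ⊓ Subgroup.centralizer (D : Set G) < N → N < Q →
          ¬ M ≤ Subgroup.normalizer (N : Set G) := by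
  obtain ⟨hP, K', hK', hK'1⟩ := p1_of_not_nilpotent hG hM hn
  have hK1 : K ≠ ⊥ := by
    obtain ⟨r, hr, hrd⟩ := Nat.exists_prime_and_dvd fun e => hK'1 (Subgroup.card_eq_one.mp e)
    intro e
    refine hK.2.2 r hr (hK'.2.1 r hr hrd) ?_
    rw [e, Subgroup.relIndex_bot_left]
    exact hrd.trans (Subgroup.card_dvd_of_le hK'.1)
  obtain ⟨q, hq, hAc, Q, D, hQ, hQn, hAQ, hDW, hKD, hqD, hWeq, hMeq, hDnil, hDD⟩ := p1_structure hG hM hK hK1 hP
  haveI := Fact.mk hq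
  set W := Cfsg.sigmaCore M with hW
  set A := W ⊓ Subgroup.centralizer (K : Set G) with hA
  have hQW : Q ≤ W := hWeq ▸ le_sup_left
  have hWM : W ≤ M := sigmaCore_le M
  have hDM : D ≤ M := hDW.trans hWM
  haveI hMs : Group.IsSolvable M := isSolvable_of_ne_top hG hM.1
  have hDQ : ¬ D ≤ Subgroup.centralizer (Q : Set G) := fun h => hn (by
    rw [hWeq, sup_comm]
    exact nilpotent_sup_of_commute hDnil hQ.isPGroup.isNilpotent h)
  have hqM : q ∣ Nat.card M := hAc.symm.dvd.trans (Subgroup.card_dvd_of_le (inf_le_left.trans hWM))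
  have hβ : q ∈ Cfsg.beta M := by
    by_contra hb
    obtain ⟨-, ⟨P, N, hN, hNP⟩, -⟩ := (S1414.result hG M hM).2.2.2.2 q hq hqM hb
    haveI := hN
    refine hDQ fun d hd => Subgroup.mem_centralizer_iff.mpr fun v hv => ?_
    have hdN : (⟨d, hDW hd⟩ : W) ∈ N := by
      refine (QuotientGroup.eq_one_iff _).mp (orderOf_eq_one_iff.mp ?_)
      refine Nat.eq_one_of_dvd_coprimes ?_ (orderOf_map_dvd (QuotientGroup.mk' N) ⟨d, hDW hd⟩)
        (dvd_trans (orderOf_dvd_natCard _) ?_ : orderOf (QuotientGroup.mk' N ⟨d, hDW hd⟩) ∣ Nat.card (P : Subgroup W))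
      · rw [Subgroup.orderOf_mk]
        obtain ⟨j, hj⟩ := IsPGroup.iff_card.mp P.2
        rw [hj]
        exact (((hq.coprime_iff_not_dvd.mpr hqD).symm).coprime_dvd_left (Subgroup.orderOf_dvd_natCard _ hd)).pow_right j
      · rw [← Subgroup.index_eq_card, hNP.symm.index_eq_card]
    refine (commutatorElement_eq_one_iff_mul_comm.mp ?_).symm
    have h1 : ⁅d, v⁆ ∈ Q := by
      rw [commutatorElement_def]
      exact mul_mem ((Subgroup.mem_normalizer_iff.mp (hQn (hDM hd)) v).mp hv) (inv_mem hv)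
    have h2 : ⁅(⟨d, hDW hd⟩ : W), ⟨v, hQW hv⟩⁆ ∈ N := by
      rw [commutatorElement_def, mul_assoc, mul_assoc, ← mul_assoc _ _ (⟨v, hQW hv⟩ : W)⁻¹]
      exact mul_mem hdN (hN.conj_mem _ (inv_mem hdN) _)
    have hc : (Nat.card N).Coprime q := (hq.coprime_iff_not_dvd.mpr (by
      rw [← hNP.index_eq_card]
      exact P.not_dvd_index)).symm
    have h4 : (Nat.card (N.map W.subtype)).Coprime (Nat.card Q) := by
      obtain ⟨j, hj⟩ := IsPGroup.iff_card.mp hQ.isPGroup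
      rw [Subgroup.card_map_of_injective W.subtype_injective, hj]
      exact hc.pow_right j
    exact Subgroup.disjoint_def.mp (Subgroup.disjoint_of_coprime_natCard h4) ⟨_, h2, rfl⟩ h1
  obtain ⟨r, hr, hrd⟩ := Nat.exists_prime_and_dvd fun e => hK1 (Subgroup.card_eq_one.mp e)
  haveI := Fact.mk hr
  obtain ⟨k₀, hk₀⟩ := exists_prime_orderOf_dvd_card' r hrd
  rw [← Subgroup.orderOf_coe] at hk₀
  set k : G := (k₀ : G) with hk
  have hk1 : k ≠ 1 := fun e => hr.one_lt.ne (by rw [← hk₀, e, orderOf_one])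
  set X := Subgroup.zpowers k with hXdef
  have hXK : X ≤ K := Subgroup.zpowers_le.mpr k₀.2
  have hXc : Nat.card X = r := by rw [hXdef, Nat.card_zpowers, hk₀]
  have hrσ : r ∉ Cfsg.sigma M := (hK.2.1 r hr hrd).2.2.1
  have hrW : ¬ r ∣ Nat.card W := fun h => hrσ (piCoreOf_primes _ M hr h)
  have hrq : r ≠ q := fun e => hrW (e ▸ hAc.symm.dvd.trans (Subgroup.card_dvd_of_le inf_le_left))
  have hfree : ∀ x ∈ K, x ≠ 1 → D ⊓ Subgroup.centralizer ({x} : Set G) = ⊥ := fun x hx hx1 => by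
    refine (Subgroup.eq_bot_iff_forall _).mpr fun d hd => ?_
    obtain ⟨hdD, hdC⟩ := Subgroup.mem_inf.mp hd
    have h1 : d ∈ W ⊓ Subgroup.centralizer ({x} : Set G) := Subgroup.mem_inf.mpr ⟨hDW hdD, hdC⟩
    rw [hW, kappa_semiprime hG hM hK hx hx1] at h1
    refine Subgroup.disjoint_def.mp (Subgroup.disjoint_of_coprime_natCard ?_) hdD (hAQ h1)
    rw [hQ.2]
    exact ((hq.coprime_iff_not_dvd.mpr hqD).symm).pow_right _
  have hQfix : ∀ R : Subgroup G, R ≤ K → R ≠ ⊥ → Q ⊓ Subgroup.centralizer (R : Set G) = A := fun R hR hR1 => by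
    obtain ⟨x, hx, hx1⟩ := (Subgroup.bot_or_exists_ne_one R).resolve_left hR1
    refine le_antisymm ?_ (le_inf hAQ (inf_le_right.trans (Subgroup.centralizer_le hR)))
    rw [hA, hW, ← kappa_semiprime hG hM hK (hR hx) hx1]
    exact inf_le_inf hQW (Subgroup.centralizer_le (Set.singleton_subset_iff.mpr hx))
  have hX1 : X ≠ ⊥ := fun e => hk1 (Subgroup.zpowers_eq_bot.mp e)
  set Φ := (frattini ↥Q).map Q.subtype with hΦ
  have hΦQ : Φ ≤ Q := Subgroup.map_subtype_le _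
  haveI := hQ.isPGroup.isNilpotent
  have hMΦ : M ≤ Subgroup.normalizer (Φ : Set G) := hQn.trans (normalizer_le_normalizer_map_char _ _)
  have hDX : ⁅X, D⁆ = D := by
    have hXD : X ≤ Subgroup.normalizer (D : Set G) := hXK.trans hKD
    have hXs : Group.IsSolvable X := Basics.isSolvable_of_le (hXK.trans hK.1) hMs
    have h := Basics.commutator_sup_inf_centralizer X D hXD (by
      rw [hXc]; exact hr.coprime_iff_not_dvd.mpr fun h => hrW (h.trans (Subgroup.card_dvd_of_le hDW))) (Or.inl hXs)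
    rwa [hXdef, centralizer_eq_of_zpowers, hfree k k₀.2 hk1, sup_bot_eq, Subgroup.commutator_comm] at h
  have hrD : ¬ r ∣ Nat.card D := fun h => hrW (h.trans (Subgroup.card_dvd_of_le hDW))
  have hA1 : A ≠ ⊥ := fun e => by rw [e, Subgroup.card_bot] at hAc; exact hq.one_lt.ne hAc
  have hAΦ : A ⊓ Φ = ⊥ := by
    refine (Subgroup.bot_or_exists_ne_one _).resolve_right ?_
    rintro ⟨a, ha, ha1⟩
    haveI := Fact.mk (hAc.symm ▸ hq : (Nat.card A).Prime)
    have hle : A ≤ Φ := by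
      have e := Subgroup.eq_of_le_of_card_ge (inf_le_left : A ⊓ Φ ≤ A) (by
        rcases (Nat.dvd_prime (hAc.symm ▸ hq : (Nat.card A).Prime)).mp
          (Subgroup.card_dvd_of_le (inf_le_left : A ⊓ Φ ≤ A)) with h | h
        · exact absurd (Subgroup.mem_bot.mp (Subgroup.card_eq_one.mp h ▸ ha)) ha1
        · exact h.ge)
      exact e.ge.trans inf_le_right
    refine hDQ fun d hd => Subgroup.mem_centralizer_iff.mpr fun v hv => ?_
    have hcom := commutator_mem_of_fixed_le hQ.isPGroup hΦQ (hQ.1.trans hMΦ) hXc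
      (prime_ne_two hG (hk₀ ▸ orderOf_dvd_natCard k)) (prime_ne_two hG (hqM.trans (Subgroup.card_subgroup_dvd_card M)))
      hrq (odd_card_subgroup hG D) hrD hqD (hXK.trans hKD) (hDM.trans hQn) ((hXK.trans hK.1).trans hQn)
      (hDM.trans hMΦ) ((hXK.trans hK.1).trans hMΦ) ((hQfix X hXK hX1).le.trans hle)
    refine (LocalEvenB.commute_of_frattini hQ.isPGroup (hQn (hDM hd))
      (((hq.coprime_iff_not_dvd.mpr hqD).symm).coprime_dvd_left (Subgroup.orderOf_dvd_natCard _ hd))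
      (fun y hy => ?_) v hv).eq.symm
    have h := hcom d (hDX.ge hd) y hy
    rwa [commutatorElement_def] at h
  set Q₀ := Q ⊓ Subgroup.centralizer (D : Set G) with hQ₀
  have hΦ₀ : Φ ≤ Q₀ := by
    refine le_inf hΦQ (Subgroup.le_centralizer_iff.mp (free_action_centralizes hk₀
      ((hXK.trans hKD) (Subgroup.mem_zpowers k)) (((hXK.trans hK.1).trans hMΦ) (Subgroup.mem_zpowers k))
      (hDM.trans hMΦ) ?_ (hfree k k₀.2 hk1) (le_bot_iff.mp (hAΦ ▸ le_inf ?_ inf_le_left))))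
    · obtain ⟨j, hj⟩ := IsPGroup.iff_card.mp (hQ.isPGroup.to_le hΦQ)
      rw [hj]
      exact ((hq.coprime_iff_not_dvd.mpr hqD).symm).pow_right j
    · rw [← hQfix X hXK hX1]
      exact inf_le_inf hΦQ (by rw [hXdef, centralizer_eq_of_zpowers])
  have hΦ₁ : ∀ a ∈ Q, ∀ b ∈ Q, a ^ q ∈ Φ ∧ a * b * a⁻¹ * b⁻¹ ∈ Φ := fun a ha b hb =>
    ⟨⟨_, Basics.pow_mem_frattini hQ.isPGroup ⟨a, ha⟩, by simp⟩, ⟨⁅(⟨a, ha⟩ : Q), ⟨b, hb⟩⁆, Basics.commutator_le_frattini
      (Subgroup.commutator_mem_commutator (Subgroup.mem_top _) (Subgroup.mem_top _)),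
      by simp [commutatorElement_def]⟩⟩
  have hQQ₀ : Q ≤ Subgroup.normalizer (Q₀ : Set G) := fun a ha => Subgroup.mem_normalizer_fintype fun v hv => by
    rw [show a * v * a⁻¹ = a * v * a⁻¹ * v⁻¹ * v by group]
    exact mul_mem (hΦ₀ (hΦ₁ a ha v (Subgroup.mem_inf.mp hv).1).2) hv
  have hDQ₀ : D ≤ Subgroup.normalizer (Q₀ : Set G) :=
    (le_inf (hDM.trans hQn) Subgroup.le_normalizer).trans normalizer_le_normalizer_inf_centralizer
  have hKQ₀ : K ≤ Subgroup.normalizer (Q₀ : Set G) :=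
    (le_inf (hK.1.trans hQn) hKD).trans normalizer_le_normalizer_inf_centralizer
  have hMQ₀ : M ≤ Subgroup.normalizer (Q₀ : Set G) := hMeq.le.trans (sup_le (sup_le hQQ₀ hDQ₀) hKQ₀)
  have hcop : ∀ {B : Subgroup G}, ¬ q ∣ Nat.card B → ∀ {C : Subgroup G}, C ≤ Q →
      (Nat.card B).Coprime (Nat.card C) := fun hB C hC => by
    obtain ⟨j, hj⟩ := IsPGroup.iff_card.mp (hQ.isPGroup.to_le hC)
    rw [hj]
    exact ((hq.coprime_iff_not_dvd.mpr hB).symm).pow_right j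
  have hqK : ¬ q ∣ Nat.card K := fun h => (hK.2.1 q hq h).2.2.1
    (piCoreOf_primes _ M hq (hAc.symm.dvd.trans (Subgroup.card_dvd_of_le inf_le_left)))
  have hsec : ∀ N R : Subgroup G, Q₀ ≤ N → N ≤ Q → D ≤ Subgroup.normalizer (N : Set G) →
      R ≤ Subgroup.normalizer (N : Set G) → R ≤ K →
      ((N ⊓ Subgroup.centralizer (R : Set G) ≤ Q₀ → N = Q₀) ∧
      ∀ q' : ℕ, (N ⊓ Subgroup.centralizer (R : Set G)) ⊓ Q₀ = ⊥ →
        Nat.card ↥(N ⊓ Subgroup.centralizer (R : Set G)) = q' → Nat.card N = Nat.card Q₀ * q' ^ Nat.card R) :=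
    fun N R h0 hNQ hDN hRN hRK => card_section h0 (Basics.isSolvable_of_le hDM hMs)
      (Basics.isSolvable_of_le (hNQ.trans hQ.1) hMs) (hNQ.trans hQQ₀) hDQ₀ (hRK.trans hKQ₀) hDN hRN
      (hRK.trans hKD) (fun x hx => hfree x (hRK hx)) (hcop hqD hNQ)
      (hcop (fun h => hqK (h.trans (Subgroup.card_dvd_of_le hRK))) hNQ) (inf_le_inf_right _ hNQ)
  have hne : Q₀ ≠ Q := fun e => hDQ (Subgroup.le_centralizer_iff.mp (e.ge.trans inf_le_right))
  have hAQ₀ : A ⊓ Q₀ = ⊥ := by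
    rcases (Nat.dvd_prime (hAc.symm ▸ hq : (Nat.card A).Prime)).mp
      (Subgroup.card_dvd_of_le (inf_le_left : A ⊓ Q₀ ≤ A)) with h | h
    · exact Subgroup.card_eq_one.mp h
    · refine absurd ((hsec Q X inf_le_left le_rfl (hDM.trans hQn) ((hXK.trans hK.1).trans hQn) hXK).1 ?_) hne.symm
      rw [hQfix X hXK hX1]
      exact (Subgroup.eq_of_le_of_card_ge inf_le_left h.ge).ge.trans inf_le_right
  have hcard : ∀ R : Subgroup G, R ≤ K → R ≠ ⊥ → Nat.card Q = Nat.card Q₀ * q ^ Nat.card R := fun R hR hR1 =>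
    (hsec Q R inf_le_left le_rfl (hDM.trans hQn) ((hR.trans hK.1).trans hQn) hR).2 q
      (by rw [hQfix R hR hR1]; exact hAQ₀) (by rw [hQfix R hR hR1]; exact hAc)
  have hKX : Nat.card K = r := by
    have h := (hcard K le_rfl hK1).symm.trans (hcard X hXK hX1)
    rw [hXc] at h
    exact Nat.pow_right_injective hq.two_le (Nat.eq_of_mul_eq_mul_left Nat.card_pos h)
  refine ⟨q, hq, hAc, hβ, hK1, hKX.symm ▸ hr, hP, Q, D, hQ, hQn, hQW, hAQ, hDW, hKD, hqD, hWeq, hMeq, hDnil, hDD,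
    hMQ₀, lt_of_le_of_ne inf_le_left hne, hcard K le_rfl hK1,
    fun a ha b hb => ⟨hΦ₀ (hΦ₁ a ha b hb).1, hΦ₀ (hΦ₁ a ha b hb).2⟩, fun N hN hNQ hMN => ?_⟩
  obtain ⟨h1, h2⟩ := hsec N K hN.le hNQ.le (hDM.trans hMN) (hK.1.trans hMN) le_rfl
  have hle : N ⊓ Subgroup.centralizer (K : Set G) ≤ A := (inf_le_inf_right _ hNQ.le).trans (hQfix K le_rfl hK1).le
  rcases (Nat.dvd_prime hq).mp (hAc ▸ Subgroup.card_dvd_of_le hle) with h | h
  · exact hN.ne (h1 ((Subgroup.card_eq_one.mp h).le.trans bot_le)).symm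
  · have e := h2 q (le_bot_iff.mp (hAQ₀ ▸ inf_le_inf_right _ hle)) h
    rw [← hcard K le_rfl hK1] at e
    exact hNQ.ne (Subgroup.eq_of_le_of_card_ge hNQ.le e.ge)

end Cfsg.Agent.OddLocal
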