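import Cfsg.Agent.Lib.OddLocal.KappaTau3

/-! The structure of a Hall `κ(M)`-subgroup (BG 14.2). -/

set_option autoImplicit false
set_option linter.unusedSectionVars false
set_option linter.style.haveILetI false

namespace Cfsg.Agent.OddLocal

open scoped commutatorElement Pointwise
open Cfsg
open Basics (IsSylowIn)

universe u

variable {G : Type u} [Group G] [Finite G] {p : ℕ} [hp : Fact p.Prime]

omit hp in
theorem hallOf_factorization {π : Set ℕ} {H M : Subgroup G} (h : IsPiHallOf π H M) {q : ℕ} (hq : q.Prime)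
    (hqπ : q ∈ π) : (Nat.card H).factorization q = (Nat.card M).factorization q := by
  have h1 := Subgroup.card_mul_index (H.subgroupOf M)
  rw [Basics.card_subgroupOf h.1] at h1
  rw [← h1, Nat.factorization_mul Nat.card_pos.ne' Subgroup.index_ne_zero_of_finite, Finsupp.add_apply,
    Nat.factorization_eq_zero_of_not_dvd (n := (H.subgroupOf M).index) (h.2.2 q hq hqπ), add_zero]

omit hp in
theorem isPiHallOf_of_factorization {π : Set ℕ} {H M : Subgroup G} (hHM : H ≤ M)
    (h1 : ∀ q : ℕ, q.Prime → q ∣ Nat.card H → q ∈ π)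
    (h2 : ∀ q : ℕ, q.Prime → q ∈ π → (Nat.card H).factorization q = (Nat.card M).factorization q) :
    IsPiHallOf π H M := by
  refine ⟨hHM, h1, fun q hq hqπ hd => ?_⟩
  have e := Subgroup.card_mul_index (H.subgroupOf M)
  rw [Basics.card_subgroupOf hHM] at e
  have h := h2 q hq hqπ
  rw [← e, Nat.factorization_mul Nat.card_pos.ne' Subgroup.index_ne_zero_of_finite, Finsupp.add_apply] at h
  have := hq.factorization_pos_of_dvd (Subgroup.index_ne_zero_of_finite (H := H.subgroupOf M)) hd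
  omega

omit hp in
theorem centralizer_eq_of_zpowers (x : G) :
    Subgroup.centralizer ((Subgroup.zpowers x : Subgroup G) : Set G) = Subgroup.centralizer ({x} : Set G) := by
  rw [Subgroup.zpowers_eq_closure, Subgroup.centralizer_closure]

omit hp in
/-- A subgroup whose primes do not divide `|M'|` is abelian. -/
theorem commutative_of_not_dvd_derived {M K : Subgroup G} (hKM : K ≤ M)
    (h : ∀ q : ℕ, q.Prime → q ∣ Nat.card K → ¬ q ∣ Nat.card ↥⁅M, M⁆) : IsMulCommutative K := by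
  refine Subgroup.le_centralizer_iff_isMulCommutative.mp ?_
  rw [← Subgroup.commutator_eq_bot_iff_le_centralizer, ← Subgroup.card_eq_one]
  refine Nat.eq_one_iff_not_exists_prime_dvd.mpr fun s hs hd => ?_
  exact h s hs (hd.trans (Subgroup.card_dvd_of_le (Subgroup.commutator_le_self K)))
    (hd.trans (Subgroup.card_dvd_of_le (Subgroup.commutator_mono hKM hKM)))

theorem kappa_rank_one {M : Subgroup G} (hpk : p ∈ Cfsg.kappa M) : PRankLE p 1 M := by
  obtain ⟨P⟩ : Nonempty (Sylow p M) := inferInstance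
  haveI := (hpk.2.2.2 P).1
  exact pRankLE_one_of_cyclic_sylow (Basics.isSylowIn_map P)
    (((P : Subgroup M).equivMapOfInjective M.subtype M.subtype_injective).isCyclic.mp inferInstance)

/-- Every line of a `κ`-prime in `M` has nontrivial fixed points in `M_σ`. -/
theorem fixed_of_kappa (hG : IsMinSimpleOddOrder G) {M X : Subgroup G} (hpk : p ∈ Cfsg.kappa M) (hXM : X ≤ M)
    (hX : Nat.card X = p) : Cfsg.sigmaCore M ⊓ Subgroup.centralizer (X : Set G) ≠ ⊥ := by
  obtain ⟨S, hS, hXS⟩ := exists_sylowIn_ge (IsPGroup.of_card (n := 1) (hX.trans (pow_one p).symm)) hXM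
  obtain ⟨P, hP⟩ := hS.exists_sylow
  obtain ⟨hc, x, hxP, hx1, y, hy, hy1, hxy⟩ := hpk.2.2.2 P
  haveI := hc
  have hSc : IsCyclic S :=
    hP ▸ ((P : Subgroup M).equivMapOfInjective M.subtype M.subtype_injective).isCyclic.mp inferInstance
  have hxS : (x : G) ∈ S := hP ▸ ⟨x, hxP, rfl⟩
  have hd : p ∣ orderOf (x : G) := by
    have h := Subgroup.orderOf_dvd_natCard _ hxS
    obtain ⟨k, hk⟩ := IsPGroup.iff_card.mp hS.isPGroup
    rw [hk] at h
    obtain ⟨i, -, hi⟩ := (Nat.dvd_prime_pow hp.out).mp h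
    rcases Nat.eq_zero_or_pos i with rfl | h0
    · rw [pow_zero, orderOf_eq_one_iff] at hi
      exact absurd (Subtype.ext hi) hx1
    · exact hi ▸ dvd_pow_self p h0.ne'
  set x0 := (x : G) ^ (orderOf (x : G) / p) with hx0
  have he : Subgroup.zpowers x0 = X := eq_of_le_cyclic hSc (Subgroup.zpowers_le.mpr (pow_mem hxS _)) hXS
    (by rw [Nat.card_zpowers, hx0, orderOf_pow_orderOf_div (orderOf_pos _).ne' hd, hX])
  intro h0
  refine hy1 (Subgroup.mem_bot.mp (h0 ▸ Subgroup.mem_inf.mpr ⟨hy, ?_⟩))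
  rw [← he, centralizer_eq_of_zpowers]
  exact Subgroup.mem_centralizer_singleton_iff.mpr ((show Commute (x : G) y from hxy).pow_left _).eq.symm

/-- The complement has no `τ₂` primes and acts semiprimely when some `τ₃` line has fixed points. -/
theorem tau3_case (hG : IsMinSimpleOddOrder G) {M E : Subgroup G} (hM : IsCoatom M)
    (hE : IsComplIn E (Cfsg.sigmaCore M) M) (hpk : p ∈ Cfsg.kappa M) (hd : p ∣ Nat.card ↥⁅M, M⁆) :
    (∀ r : ℕ, r ∉ Cfsg.tau2 M) ∧ ∀ (s : ℕ) [Fact s.Prime] (R : Subgroup G), R ≤ E → Nat.card R = s →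
      Cfsg.sigmaCore M ⊓ Subgroup.centralizer (R : Set G) ≠ ⊥ ∧ ∀ (t : ℕ) [Fact t.Prime] (R' : Subgroup G),
        R' ≤ E → Nat.card R' = t →
        Cfsg.sigmaCore M ⊓ Subgroup.centralizer (R : Set G) ≤ Subgroup.centralizer (R' : Set G) := by
  have hps : p ∉ Cfsg.sigma M := hpk.2.2.1
  have hp1 := kappa_rank_one hpk
  have hpE : p ∣ Nat.card E := (dvd_card_derived_compl hG hM hE hp.out hps hd).trans
    (Subgroup.card_dvd_of_le (Subgroup.commutator_le_self E))
  obtain ⟨P, hPE, hP⟩ : ∃ P : Subgroup G, P ≤ E ∧ Nat.card P = p := by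
    obtain ⟨x, hx⟩ := exists_prime_orderOf_dvd_card' p hpE
    exact ⟨Subgroup.zpowers (x : G), Subgroup.zpowers_le.mpr x.2, by rw [Nat.card_zpowers, Subgroup.orderOf_coe, hx]⟩
  have hPM : P ≤ M := hPE.trans hE.1
  have hC := fixed_of_kappa hG hpk hPM hP
  have hEP := (line_normal_of_derived hG hM hE hps hp1 hPE hP hd).1
  have hP1 : P ≠ ⊥ := fun e => by rw [e, Subgroup.card_bot] at hP; exact hp.out.one_lt.ne hP
  obtain ⟨L, hL, hNP⟩ := exists_maximal_ge (normalizer_ne_top hG hP1 fun e => hM.1 (top_le_iff.mp (e ▸ hPM)))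
  obtain ⟨-, hconj⟩ := normalizer_sup_facts hG hL hps hp1 hP hNP
  have hEL : E ≤ L := hEP.trans hNP
  set C := Cfsg.sigmaCore M ⊓ Subgroup.centralizer (P : Set G) with hCdef
  have hCL : C ≤ Cfsg.sigmaCore M ⊓ L :=
    le_inf inf_le_left (inf_le_right.trans ((Subgroup.centralizer_le_normalizer _).trans hNP))
  have hτ : ∀ r : ℕ, r ∉ Cfsg.tau2 M := fun r hr => by
    haveI := Fact.mk hr.1
    obtain ⟨B, hBE, -, -, B₁, hB⟩ := exists_ea_in_compl hG hM hE hr
    exact hC (le_bot_iff.mp ((hB.inf_maximal hG hL (fun e => hconj 1 (by rw [map_conj_one, e])) (hBE.trans hEL)) ▸ hCL))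
  obtain ⟨q, hq, hqd⟩ := Nat.exists_prime_and_dvd fun e => hC (Subgroup.card_eq_one.mp e)
  haveI := Fact.mk hq
  have hpσL : p ∈ Cfsg.sigma L := by
    obtain ⟨y, hy⟩ := exists_prime_orderOf_dvd_card' q hqd
    exact sigma_of_fixed hG hM hL hps hp1 hPM hP hNP (Y := Subgroup.zpowers (y : G))
      (by rw [Nat.card_zpowers, Subgroup.orderOf_coe, hy]) (Subgroup.zpowers_le.mpr y.2)
  have hPσ : P ≤ Cfsg.sigmaCore L :=
    pGroup_le_sigmaCore hG hL hpσL (IsPGroup.of_card (n := 1) (hP.trans (pow_one p).symm)) (hPE.trans hEL)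
  -- all lines of `E` have the fixed points of `P`
  have key : ∀ (s : ℕ) [Fact s.Prime] (R : Subgroup G), R ≤ E → Nat.card R = s →
      Cfsg.sigmaCore M ⊓ Subgroup.centralizer (R : Set G) = C := by
    intro s hs R hRE hR
    have hRM : R ≤ M := hRE.trans hE.1
    have hRp : IsPGroup s R := IsPGroup.of_card (n := 1) (hR.trans (pow_one s).symm)
    have hss : s ∉ Cfsg.sigma M := compl_primes hG hM hE hs.out (hR ▸ Subgroup.card_dvd_of_le hRE)
    have hs1 : PRankLE s 1 M := by
      by_contra h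
      exact hτ s ⟨hs.out, hss, pRankLE_two_of_not_mem_sigma hG hM hss, h⟩
    by_cases hsd : s ∣ Nat.card ↥⁅M, M⁆
    · have h1 : C ≤ Cfsg.sigmaCore M ⊓ Subgroup.centralizer (R : Set G) := le_inf inf_le_left
        (hCL.trans (Subgroup.le_centralizer_iff.mp (centralizes_inter_of_le_derived hG hM hL hconj hRp hss hRM
          ((line_normal_of_derived hG hM hE hss hs1 hRE hR hsd).2.trans (Subgroup.commutator_mono hEL hEL)))))
      refine le_antisymm (le_inf inf_le_left ?_) h1
      have hR1 : R ≠ ⊥ := fun e => by rw [e, Subgroup.card_bot] at hR; exact hs.out.one_lt.ne hR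
      obtain ⟨H, hH, hNR⟩ := exists_maximal_ge (normalizer_ne_top hG hR1 fun e => hM.1 (top_le_iff.mp (e ▸ hRM)))
      obtain ⟨-, hconjH⟩ := normalizer_sup_facts hG hH hss hs1 hR hNR
      have hEH : E ≤ H := (line_normal_of_derived hG hM hE hss hs1 hRE hR hsd).1.trans hNR
      exact (le_inf inf_le_left (inf_le_right.trans ((Subgroup.centralizer_le_normalizer _).trans hNR))).trans
        (Subgroup.le_centralizer_iff.mp (centralizes_inter_of_le_derived hG hM hH hconjH
          (IsPGroup.of_card (n := 1) (hP.trans (pow_one p).symm)) hps hPM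
          ((line_normal_of_derived hG hM hE hps hp1 hPE hP hd).2.trans (Subgroup.commutator_mono hEH hEH))))
    have hsτ : s ∈ Cfsg.tau1 M := ⟨hs.out, hss, hR ▸ Subgroup.card_dvd_of_le hRM, hsd, hs1⟩
    have hRP := tau3_line_central hG hM hps hp1 hd hPM hP hC hsτ hRM hR (hRE.trans hEP)
    refine le_antisymm (le_inf inf_le_left (cent_tau1_le (p := s) hG hM hsτ hRM hR hPM hps hP
      (Subgroup.le_centralizer_iff.mp hRP))) (le_inf inf_le_left ?_)
    have hRL : R ≤ L := hRE.trans hEL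
    by_cases hsL : s ∈ Cfsg.sigma L ∨ s ∈ Cfsg.tau2 L ∨ s ∈ Cfsg.tau3 L
    · exact hCL.trans (Subgroup.le_centralizer_iff.mp (centralizes_inter hG hM hL hconj hss hRM hRL hR hsL))
    push Not at hsL
    obtain ⟨g1, g2, g3⟩ := hsL
    have hs1L : PRankLE s 1 L := by
      by_contra h
      exact g2 ⟨hs.out, g1, pRankLE_two_of_not_mem_sigma hG hL g1, h⟩
    have hsτL : s ∈ Cfsg.tau1 L := ⟨hs.out, g1, hR ▸ Subgroup.card_dvd_of_le hRL,
      fun h => g3 ⟨hs.out, g1, h, hs1L⟩, hs1L⟩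
    have hRC : R ≤ Subgroup.normalizer (C : Set G) :=
      le_trans (le_inf (hRM.trans (le_normalizer_sigmaCore M))
        ((hRE.trans hEP).trans (normalizer_le_normalizer_centralizer P))) le_normalizer_inf'
    have hcop : (Nat.card R).Coprime (Nat.card C) :=
      coprime_of_pGroup hRp fun h => not_dvd_sigmaCore hs.out hss (h.trans (Subgroup.card_dvd_of_le inf_le_left))
    refine le_of_sylows fun t ht htd => ?_
    haveI := Fact.mk ht
    have htM : t ∈ Cfsg.sigma M := piCoreOf_primes _ M ht (htd.trans (Subgroup.card_dvd_of_le inf_le_left))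
    have hsol : Group.IsSolvable R := by haveI := hRp.isNilpotent; infer_instance
    obtain ⟨T, hT, hRT⟩ := Basics.exists_invariant_isSylowIn R C hRC hcop (Or.inl hsol) t
    have hTM : T ≤ M := hT.1.trans (inf_le_left.trans (sigmaCore_le M))
    have hTc := cyclic_fixed hG hM hps hp1 hPM hP htM hT.isPGroup hTM (hT.1.trans inf_le_right)
    refine ⟨T, hT, Subgroup.le_centralizer_iff.mp ?_⟩
    have hT1 : T ≠ ⊥ := fun e => by
      have h := hT.2
      rw [e, Subgroup.card_bot] at h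
      exact (Nat.one_lt_pow (ht.factorization_pos_of_dvd Nat.card_pos.ne' htd).ne' ht.one_lt).ne h
    obtain ⟨y, hy, hyo⟩ := exists_orderOf_eq hT.isPGroup hT1
    set Y := Subgroup.zpowers y with hYdef
    have hY : Nat.card Y = t := by rw [hYdef, Nat.card_zpowers, hyo]
    have hYT : Y ≤ T := Subgroup.zpowers_le.mpr hy
    have hRY : R ≤ Subgroup.normalizer (Y : Set G) := fun a ha => Subgroup.mem_normalizer_iff_map_conj_eq.mpr
      (eq_of_le_cyclic hTc ((Subgroup.map_mono hYT).trans (Subgroup.mem_normalizer_iff_map_conj_eq.mp (hRT ha)).le)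
        hYT (Subgroup.card_map_of_injective (MulAut.conj a).injective))
    have hYC : Y ≤ C := hYT.trans hT.1
    have hYL : Y ≤ L := hYC.trans (hCL.trans inf_le_right)
    have hYM : Y ≤ M := hYT.trans hTM
    refine centralizes_cyclic_of_line hT.isPGroup hTc hRT
      (coprime_of_pGroups (fun e : s = t => hss (by rw [e]; exact htM)) hRp hT.isPGroup) hYT hY ?_
    by_contra hnc
    have htL : t ∉ Cfsg.sigma L := fun h => by
      obtain ⟨g, hg⟩ := sigma_disjoint hG hM hL htM h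
      exact hconj g hg
    have hYp : IsPGroup t Y := IsPGroup.of_card (n := 1) (hY.trans (pow_one t).symm)
    have htd' : t ∣ Nat.card ↥⁅L, L⁆ :=
      ((hYp.to_le (Subgroup.le_normalizer_iff_commutator_le_right.mp hRY)).card_eq_or_dvd.resolve_left fun e =>
        hnc (Subgroup.commutator_eq_bot_iff_le_centralizer.mp (Subgroup.card_eq_one.mp e))).trans
        (Subgroup.card_dvd_of_le (Subgroup.commutator_mono hRL hYL))
    have hNY := normalizer_le_of_fixed hG hM hps hp1 hPM hP hY hYC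
    have ht1 : PRankLE t 1 L := by
      by_contra h1
      obtain ⟨F, hF, hYF⟩ := exists_compl_ge hG hL hYL fun r hr hrd => by
        rw [hY] at hrd; rwa [(Nat.prime_dvd_prime_iff_eq hr ht).mp hrd]
      obtain ⟨A, hAF, hAe, hA2, A₁, hA⟩ :=
        exists_ea_in_compl hG hL hF ⟨ht, htL, pRankLE_two_of_not_mem_sigma hG hL htL, h1⟩
      have h0 := hA.inf_maximal hG hM (fun e => hconj 1 (by rw [map_conj_one, e]))
        (((Subgroup.le_centralizer_iff_isMulCommutative.mpr hAe.1).trans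
          (Subgroup.centralizer_le (hA.le_of_card_prime hG hF hAF hYF hY))).trans
          ((Subgroup.centralizer_le_normalizer _).trans hNY))
      exact hP1 (le_bot_iff.mp (h0 ▸ le_inf hPσ hPM))
    exact hnc (tau3_line_central (p := t) hG hL htL ht1 htd' hYL hY (fun e =>
      hP1 (le_bot_iff.mp (e ▸ le_inf hPσ (Subgroup.le_centralizer_iff.mp (hYC.trans inf_le_right))))) hsτL hRL hR hRY)
  refine ⟨hτ, fun s _ R hRE hR => ⟨(key s R hRE hR).symm ▸ hC, fun t _ R' hR'E hR' => ?_⟩⟩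
  rw [key s R hRE hR, ← key t R' hR'E hR']
  exact inf_le_right

omit hp in
/-- A Hall `κ(M)`-subgroup lies in a complement whose other part is an abelian fixed point free group. -/
theorem exists_kappa_compl (hG : IsMinSimpleOddOrder G) {M K : Subgroup G} (hM : IsCoatom M)
    (hK : IsPiHallOf (Cfsg.kappa M) K M) (hK1 : K ≠ ⊥) :
    (∀ (r : ℕ) [Fact r.Prime] (X : Subgroup G), X ≤ K → Nat.card X = r →
      K ≤ Subgroup.normalizer (X : Set G) ∧ ∀ (t : ℕ) [Fact t.Prime] (Y : Subgroup G), Y ≤ K → Nat.card Y = t →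
        Cfsg.sigmaCore M ⊓ Subgroup.centralizer (X : Set G) ≤ Subgroup.centralizer (Y : Set G)) ∧
    ∃ E U : Subgroup G, IsComplIn E (Cfsg.sigmaCore M) M ∧ K ≤ E ∧ U ≤ E ∧ IsMulCommutative U ∧
      Cfsg.IsPiHallOf {q | q.Prime ∧ q ∉ Cfsg.kappa M ∧ q ∉ Cfsg.sigma M} U M ∧
      E ≤ Subgroup.normalizer (U : Set G) ∧ E = U ⊔ K ∧
      ∀ k ∈ K, k ≠ 1 → U ⊓ Subgroup.centralizer ({k} : Set G) = ⊥ := by
  set π : Set ℕ := {q | q.Prime ∧ q ∉ Cfsg.kappa M ∧ q ∉ Cfsg.sigma M} with hπ
  have hKσ : ∀ q : ℕ, q.Prime → q ∣ Nat.card K → q ∉ Cfsg.sigma M := fun q hq hd => (hK.2.1 q hq hd).2.2.1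
  obtain ⟨E, hE, hKE⟩ := exists_compl_ge hG hM hK.1 hKσ
  have hKsyl : ∀ (t : ℕ) [Fact t.Prime], t ∈ Cfsg.kappa M → ∀ S : Subgroup G, IsSylowIn t K S →
      IsSylowIn t E S := by
    intro t ht htk S hS
    refine isSylowIn_of_le (N := M) ⟨hS.1.trans hK.1, ?_⟩ (hS.1.trans hKE) hE.1
    rw [hS.2, hallOf_factorization hK ht.out htk]
  have hKE' : ∀ t : ℕ, t.Prime → t ∣ Nat.card E → t ∉ π → t ∈ Cfsg.kappa M := fun t ht hd h => by
    by_contra hk
    exact h ⟨ht, hk, compl_primes hG hM hE ht hd⟩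
  by_cases hB : ∃ p ∈ Cfsg.kappa M, p ∣ Nat.card ↥⁅M, M⁆
  · -- some `τ₃` line has fixed points
    obtain ⟨p, hpk, hpd⟩ := hB
    haveI := Fact.mk hpk.1
    obtain ⟨hτ, hlines⟩ := tau3_case hG hM hE hpk hpd
    have hall : ∀ t : ℕ, t.Prime → t ∣ Nat.card E → t ∈ Cfsg.kappa M := by
      intro t ht htd
      haveI := Fact.mk ht
      have hts := compl_primes hG hM hE ht htd
      have ht1 : PRankLE t 1 M := by
        by_contra h
        exact hτ t ⟨ht, hts, pRankLE_two_of_not_mem_sigma hG hM hts, h⟩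
      obtain ⟨x, hx⟩ := exists_prime_orderOf_dvd_card' t htd
      obtain ⟨hne, -⟩ := hlines t (Subgroup.zpowers (x : G)) (Subgroup.zpowers_le.mpr x.2)
        (by rw [Nat.card_zpowers, Subgroup.orderOf_coe, hx])
      obtain ⟨y, hy, hy1⟩ := (Subgroup.bot_or_exists_ne_one _).resolve_left hne
      exact mem_kappa_of_fixed hG ht hts ht1 (hE.1 x.2) (by rw [Subgroup.orderOf_coe, hx]) ⟨hE.1 x.2, y, hy.1, hy1,
        Subgroup.mem_centralizer_iff.mp hy.2 x (Subgroup.mem_zpowers _)⟩
    have hEK : E = K := le_antisymm (le_of_sylows fun t ht htd => by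
      haveI := Fact.mk ht
      obtain ⟨S, hS⟩ := exists_sylowIn (q := t) K
      exact ⟨S, hKsyl t (hall t ht htd) S hS, hS.1⟩) hKE
    refine ⟨fun r _ X hXK hX => ⟨?_, fun t _ Y hYK hY =>
      (hlines r X (hXK.trans hKE) hX).2 t Y (hYK.trans hKE) hY⟩, E, ⊥, hE, hKE, bot_le, inferInstance, ?_, ?_,
      by rw [bot_sup_eq]; exact hEK, fun k _ _ => bot_inf_eq _⟩
    · -- every line of `E` is normal
      rename_i hr
      have hXE : X ≤ E := hXK.trans hKE
      have hrs := compl_primes hG hM hE hr.out (hX ▸ Subgroup.card_dvd_of_le hXE)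
      have hr1 := kappa_rank_one (hall r hr.out (hX ▸ Subgroup.card_dvd_of_le hXE))
      by_cases hrd : r ∣ Nat.card ↥⁅M, M⁆
      · exact hEK ▸ (line_normal_of_derived hG hM hE hrs hr1 hXE hX hrd).1
      have hrτ : r ∈ Cfsg.tau1 M := ⟨hr.out, hrs, hX ▸ Subgroup.card_dvd_of_le (hXE.trans hE.1), hrd, hr1⟩
      obtain ⟨K₁, hK₁E, hK₁π, hK₁f⟩ :=
        exists_hall_in hG (H := E) (fun e => hM.1 (top_le_iff.mp (e ▸ hE.1))) (Cfsg.tau1 M)
      have hK₁c := commutative_of_not_dvd_derived (hK₁E.trans hE.1) fun q hq hd => (hK₁π q hq hd).2.2.2.1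
      have hXp : IsPGroup r X := IsPGroup.of_card (n := 1) (hX.trans (pow_one r).symm)
      obtain ⟨S₀, hS₀, hXS⟩ := exists_sylowIn_ge hXp hXE
      obtain ⟨S₁, hS₁⟩ := exists_sylowIn (q := r) K₁
      obtain ⟨d, hd, ed⟩ := hS₀.exists_conj (sylowIn_of_hall_in hK₁E (hK₁f r hr.out hrτ) hS₁)
      set X' := MulAut.conj d • X with hX'
      have hX'K : X' ≤ K₁ := (ed ▸ Subgroup.pointwise_smul_le_pointwise_smul_iff.mpr hXS : _ ≤ S₁).trans hS₁.1
      have hX'c : Nat.card X' = r := by rw [hX', Basics.card_conj_smul, hX]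
      have hcent : E ≤ Subgroup.centralizer (X' : Set G) := le_of_sylows fun t ht htd => by
        haveI := Fact.mk ht
        have hts := compl_primes hG hM hE ht htd
        have htk := hall t ht htd
        have ht1 := kappa_rank_one htk
        by_cases htM : t ∣ Nat.card ↥⁅M, M⁆
        · obtain ⟨S, hS⟩ := exists_sylowIn (q := t) E
          have hS1 : S ≠ ⊥ := fun e => by
            have h := hS.2
            rw [e, Subgroup.card_bot] at h
            exact (Nat.one_lt_pow (ht.factorization_pos_of_dvd Nat.card_pos.ne' htd).ne' ht.one_lt).ne h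
          obtain ⟨z, hz, hzo⟩ := exists_orderOf_eq hS.isPGroup hS1
          have hZE : Subgroup.zpowers z ≤ E := Subgroup.zpowers_le.mpr (hS.1 hz)
          have hZ : Nat.card (Subgroup.zpowers z) = t := by rw [Nat.card_zpowers, hzo]
          obtain ⟨hEZ, hZd⟩ := line_normal_of_derived hG hM hE hts ht1 hZE hZ htM
          have hSd : S ≤ ⁅E, E⁆ :=
            sylow_le_derived_of_rank_one hG hE.1 ht1 (dvd_card_derived_compl hG hM hE ht hts htM) hS
          have hES : E ≤ Subgroup.normalizer (S : Set G) :=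
            le_normalizer_sylowIn (derived_compl_commutative hG hM hE)
              (le_normalizer_commutator Subgroup.le_normalizer Subgroup.le_normalizer)
              (isSylowIn_of_le hS hSd (Subgroup.commutator_le_self E))
          have hX'E : X' ≤ E := hX'K.trans hK₁E
          have hSc : IsCyclic S := isCyclic_of_pRankLE_one
            (prime_ne_two hG (hZ ▸ Subgroup.card_subgroup_dvd_card (Subgroup.zpowers z))) ht1 (hS.1.trans hE.1)
            hS.isPGroup
          exact ⟨S, hS, Subgroup.le_centralizer_iff.mp (centralizes_cyclic_of_line hS.isPGroup hSc (hX'E.trans hES)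
            (coprime_of_pGroups (fun e : r = t => hrd (e ▸ htM)) (IsPGroup.of_card (n := 1) (hX'c.trans (pow_one r).symm))
              hS.isPGroup) (Subgroup.zpowers_le.mpr hz) hZ
            (tau3_line_central hG hM hts ht1 htM (hZE.trans hE.1) hZ (fixed_of_kappa hG htk (hZE.trans hE.1) hZ) hrτ
              (hX'E.trans hE.1) hX'c (hX'E.trans hEZ)))⟩
        · obtain ⟨S, hS⟩ := exists_sylowIn (q := t) K₁
          exact ⟨S, sylowIn_of_hall_in hK₁E (hK₁f t ht ⟨ht, hts, htk.2.1, htM, ht1⟩) hS,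
            hS.1.trans ((Subgroup.le_centralizer_iff_isMulCommutative.mpr hK₁c).trans (Subgroup.centralizer_le hX'K))⟩
      have hdX : MulAut.conj d • X' = X' :=
        Basics.conj_smul_eq_self_iff.mpr (Subgroup.centralizer_le_normalizer _ (hcent hd))
      have hXX : X' = X := (smul_left_cancel_iff (MulAut.conj d)).mp (hdX.trans hX')
      exact hKE.trans ((hXX ▸ hcent).trans (Subgroup.centralizer_le_normalizer _))
    · refine isPiHallOf_of_factorization bot_le (fun q hq hd => ?_) fun q hq hqπ => ?_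
      · rw [Subgroup.card_bot] at hd
        exact absurd hd hq.not_dvd_one
      · rw [Subgroup.card_bot, Nat.factorization_one, Finsupp.zero_apply]
        symm
        refine Nat.factorization_eq_zero_of_not_dvd fun hd => ?_
        rw [card_of_isComplIn hE] at hd
        rcases hq.dvd_mul.mp hd with h | h
        · first
            | exact hqπ.2.2 (piCoreOf_primes _ M hq h)
            | exact hqπ.2.1 (hall q hq h)
        · first
            | exact hqπ.2.2 (piCoreOf_primes _ M hq h)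
            | exact hqπ.2.1 (hall q hq h)
    · exact fun k _ => mem_normalizer_of_conj_mem fun a ha => by rw [Subgroup.mem_bot] at ha ⊢; simp [ha]
  -- `κ(M) ⊆ τ₁(M)`
  push Not at hB
  have hKc : IsMulCommutative K := commutative_of_not_dvd_derived hK.1 fun q hq hd => hB q (hK.2.1 q hq hd)
  have hτ1 : ∀ r : ℕ, r ∈ Cfsg.kappa M → r ∈ Cfsg.tau1 M := fun r hr => by
    haveI := Fact.mk hr.1
    exact ⟨hr.1, hr.2.2.1, hr.2.1, hB r hr, kappa_rank_one hr⟩
  have hlines : ∀ (r : ℕ) [Fact r.Prime] (X : Subgroup G), X ≤ K → Nat.card X = r →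
      K ≤ Subgroup.normalizer (X : Set G) ∧ ∀ (t : ℕ) [Fact t.Prime] (Y : Subgroup G), Y ≤ K → Nat.card Y = t →
        Cfsg.sigmaCore M ⊓ Subgroup.centralizer (X : Set G) ≤ Subgroup.centralizer (Y : Set G) := by
    intro r hr X hXK hX
    refine ⟨((Subgroup.le_centralizer_iff_isMulCommutative.mpr hKc).trans (Subgroup.centralizer_le hXK)).trans
      (Subgroup.centralizer_le_normalizer _), fun t ht Y hYK hY => ?_⟩
    exact cent_tau1_le hG hM (hτ1 r (hK.2.1 r hr.out (hX ▸ Subgroup.card_dvd_of_le hXK))) (hXK.trans hK.1) hX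
      (hYK.trans hK.1) (hKσ t ht.out (hY ▸ Subgroup.card_dvd_of_le hYK)) hY
      (hYK.trans ((Subgroup.le_centralizer_iff_isMulCommutative.mpr hKc).trans (Subgroup.centralizer_le hXK)))
  refine ⟨hlines, ?_⟩
  obtain ⟨U, hUE, hUπ, hUf⟩ := exists_hall_in hG (H := E) (fun e => hM.1 (top_le_iff.mp (e ▸ hE.1))) π
  have hUM : U ≤ M := hUE.trans hE.1
  have hdU : ⁅E, E⁆ ≤ U := le_of_sylows fun t ht htd => by
    haveI := Fact.mk ht
    have htπ : t ∈ π := ⟨ht,
      fun hk => hB t hk (htd.trans (Subgroup.card_dvd_of_le (Subgroup.commutator_mono hE.1 hE.1))),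
      compl_primes hG hM hE ht (htd.trans (Subgroup.card_dvd_of_le (Subgroup.commutator_le_self E)))⟩
    obtain ⟨S, hS⟩ := exists_sylowIn (q := t) ⁅E, E⁆
    obtain ⟨V, hV⟩ := exists_sylowIn (q := t) U
    exact ⟨S, hS, (le_sylowIn_of_normalized hS.isPGroup (hS.1.trans (Subgroup.commutator_le_self E))
      (le_normalizer_sylowIn (derived_compl_commutative hG hM hE)
        (le_normalizer_commutator Subgroup.le_normalizer Subgroup.le_normalizer) hS)
      (sylowIn_of_hall_in hUE (hUf t ht htπ) hV)).trans hV.1⟩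
  have hEU : E ≤ Subgroup.normalizer (U : Set G) := fun e he => mem_normalizer_of_conj_mem fun a ha => by
    rw [show e * a * e⁻¹ = ⁅e, a⁆ * a by rw [commutatorElement_def]; group]
    exact mul_mem (hdU (Subgroup.commutator_mem_commutator he (hUE ha))) ha
  have hEeq : E = U ⊔ K := le_antisymm (le_of_sylows fun t ht htd => by
    haveI := Fact.mk ht
    by_cases htπ : t ∈ π
    · obtain ⟨V, hV⟩ := exists_sylowIn (q := t) U
      exact ⟨V, sylowIn_of_hall_in hUE (hUf t ht htπ) hV, hV.1.trans le_sup_left⟩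
    · obtain ⟨S, hS⟩ := exists_sylowIn (q := t) K
      exact ⟨S, hKsyl t (hKE' t ht htd htπ) S hS, hS.1.trans le_sup_right⟩) (sup_le hUE hKE)
  -- prime order elements of `U` and `K` do not commute
  have hreg : ∀ x ∈ K, (orderOf x).Prime → ∀ z ∈ U, (orderOf z).Prime → x * z ≠ z * x := by
    intro x hxK hr z hzU ht hxz
    set r := orderOf x with hro
    set t := orderOf z with hzo
    haveI := Fact.mk hr
    haveI := Fact.mk ht
    set X := Subgroup.zpowers x with hXdef
    set Z := Subgroup.zpowers z with hZdef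
    have hX : Nat.card X = r := Nat.card_zpowers x
    have hZ : Nat.card Z = t := Nat.card_zpowers z
    have hXM : X ≤ M := (Subgroup.zpowers_le.mpr hxK).trans hK.1
    have hZE : Z ≤ E := (Subgroup.zpowers_le.mpr hzU).trans hUE
    have hZM : Z ≤ M := hZE.trans hE.1
    have hrk : r ∈ Cfsg.kappa M := hK.2.1 r hr (Subgroup.orderOf_dvd_natCard K hxK)
    have htπ : t ∈ π := hUπ t ht (Subgroup.orderOf_dvd_natCard U hzU)
    have hZX : Z ≤ Subgroup.centralizer (X : Set G) := by
      rw [hXdef, centralizer_eq_of_zpowers, hZdef, Subgroup.zpowers_le]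
      exact Subgroup.mem_centralizer_singleton_iff.mpr hxz.symm
    have hsub := cent_tau1_le (p := r) hG hM (hτ1 r hrk) hXM hX hZM htπ.2.2 hZ hZX
    obtain ⟨q, hq, hqd⟩ := Nat.exists_prime_and_dvd fun e =>
      fixed_of_kappa hG hrk hXM hX (Subgroup.card_eq_one.mp e)
    haveI := Fact.mk hq
    obtain ⟨y, hy⟩ := exists_prime_orderOf_dvd_card' q hqd
    rw [← Subgroup.orderOf_coe] at hy
    set Y := Subgroup.zpowers (y : G) with hYdef
    have hY : Nat.card Y = q := by rw [hYdef, Nat.card_zpowers, hy]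
    have hYZ : Y ≤ Cfsg.sigmaCore M ⊓ Subgroup.centralizer (Z : Set G) :=
      Subgroup.zpowers_le.mpr ⟨y.2.1, hsub y.2⟩
    have hY1 : Y ≠ ⊥ := fun e => by rw [e, Subgroup.card_bot] at hY; exact hq.one_lt.ne hY
    by_cases ht1 : PRankLE t 1 M
    · refine htπ.2.1 (mem_kappa_of_fixed hG ht htπ.2.2 ht1 (hE.1 (hUE hzU)) rfl
        ⟨hE.1 (hUE hzU), y, y.2.1, fun e => ?_, Subgroup.mem_centralizer_iff.mp (hsub y.2) z (Subgroup.mem_zpowers z)⟩)
      rw [e, orderOf_one] at hy
      exact hq.one_lt.ne hy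
    obtain ⟨B, hBE, hBe, hB2, B₁, hBexc⟩ :=
      exists_ea_in_compl hG hM hE ⟨ht, htπ.2.2, pRankLE_two_of_not_mem_sigma hG hM htπ.2.2, ht1⟩
    have hZB : Z ≤ B := hBexc.le_of_card_prime hG hE hBE hZE hZ
    have hNZ : Subgroup.normalizer (Z : Set G) ≤ M :=
      hBexc.normalizer_le_of_bad hG hZB hZ fun e => hY1 (le_bot_iff.mp (e ▸ hYZ))
    have hX1 : X ≠ ⊥ := fun e => by rw [e, Subgroup.card_bot] at hX; exact hr.one_lt.ne hX
    obtain ⟨L, hL, hNX⟩ := exists_maximal_ge (normalizer_ne_top hG hX1 fun e => hM.1 (top_le_iff.mp (e ▸ hXM)))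
    obtain ⟨-, hconj⟩ := normalizer_sup_facts hG hL hrk.2.2.1 (kappa_rank_one hrk) hX hNX
    have hLM : L ≠ M := fun e => hconj 1 (by rw [map_conj_one, e])
    have hCX : Subgroup.centralizer (X : Set G) ≤ L := (Subgroup.centralizer_le_normalizer _).trans hNX
    have hZL : Z ≤ L := hZX.trans hCX
    have hXY : Y ≤ Cfsg.sigmaCore M ⊓ Subgroup.centralizer (X : Set G) := Subgroup.zpowers_le.mpr y.2
    have hrL : r ∈ Cfsg.sigma L :=
      sigma_of_fixed hG hM hL hrk.2.2.1 (kappa_rank_one hrk) hXM hX hNX hY hXY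
    have hXσ : X ≤ Cfsg.sigmaCore L := pGroup_le_sigmaCore hG hL hrL
      (IsPGroup.of_card (n := 1) (hX.trans (pow_one r).symm)) (Subgroup.le_normalizer.trans hNX)
    have hZp : IsPGroup t Z := IsPGroup.of_card (n := 1) (hZ.trans (pow_one t).symm)
    have hZ1 : Z ≠ ⊥ := fun e => by rw [e, Subgroup.card_bot] at hZ; exact ht.one_lt.ne hZ
    have htL : t ∉ Cfsg.sigma L := fun htL => by
      obtain ⟨S, hS, hZS⟩ := exists_sylowIn_ge hZp (le_inf hZL hZM)
      obtain ⟨S₀, hS₀⟩ := hS.exists_sylow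
      obtain ⟨-, -, hSM'⟩ :=
        S1424.result hG L hL t htL Z hZp hZ1 hZL M hM hLM.symm hNZ S₀ (hS₀.symm ▸ hZS)
      rw [hS₀] at hSM'
      have hSM : IsSylowIn t M S := isSylowIn_of_not_dvd_relIndex hS.isPGroup (hS.1.trans inf_le_right) hSM'
      obtain ⟨A, hAS, hAe, hA2⟩ := exists_ea_in_sylow ht1 (pRankLE_two_of_not_mem_sigma hG hM htπ.2.2) hSM
      obtain ⟨A₁, hA⟩ := exists_exc hG hM htπ.2.2 (hAS.trans hSM.1) hAe hA2
      have h0 := hA.inf_maximal hG hL hLM (hAS.trans (hS.1.trans inf_le_left))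
      exact hY1 (le_bot_iff.mp (h0 ▸ le_inf (hXY.trans inf_le_left) ((hXY.trans inf_le_right).trans hCX)))
    have ht1L : PRankLE t 1 L := by
      by_contra h1
      obtain ⟨F, hF, hZF⟩ := exists_compl_ge hG hL hZL fun s hs hsd => by
        rw [hZ] at hsd; rwa [(Nat.prime_dvd_prime_iff_eq hs ht).mp hsd]
      obtain ⟨A, hAF, hAe, hA2, A₁, hA⟩ :=
        exists_ea_in_compl hG hL hF ⟨ht, htL, pRankLE_two_of_not_mem_sigma hG hL htL, h1⟩
      have h0 := hA.inf_maximal hG hM hLM.symm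
        (((Subgroup.le_centralizer_iff_isMulCommutative.mpr hAe.1).trans
          (Subgroup.centralizer_le (hA.le_of_card_prime hG hF hAF hZF hZ))).trans
          ((Subgroup.centralizer_le_normalizer _).trans hNZ))
      exact hX1 (le_bot_iff.mp (h0 ▸ le_inf hXσ hXM))
    exact htπ.2.2 (sigma_of_fixed hG hL hM htL ht1L hZL hZ hNZ hX
      (le_inf hXσ (Subgroup.le_centralizer_iff.mp hZX)))
  have hregular : ∀ k ∈ K, k ≠ 1 → U ⊓ Subgroup.centralizer ({k} : Set G) = ⊥ := by
    intro k hk hk1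
    by_contra hne
    obtain ⟨r, hr, hrd⟩ := Nat.exists_prime_and_dvd fun e => hk1 (orderOf_eq_one_iff.mp e)
    obtain ⟨t, ht, htd⟩ := Nat.exists_prime_and_dvd fun e => hne (Subgroup.card_eq_one.mp e)
    haveI := Fact.mk ht
    obtain ⟨z, hz⟩ := exists_prime_orderOf_dvd_card' t htd
    rw [← Subgroup.orderOf_coe] at hz
    refine hreg (k ^ (orderOf k / r)) (pow_mem hk _)
      (by rw [orderOf_pow_orderOf_div (orderOf_pos k).ne' hrd]; exact hr) z z.2.1 (hz.symm ▸ ht) ?_
    exact ((show Commute k (z : G) from (Subgroup.mem_centralizer_singleton_iff.mp z.2.2).symm).pow_left _).eq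
  have hUnil : Group.IsNilpotent U := by
    obtain ⟨r, hr, hrd⟩ := Nat.exists_prime_and_dvd fun e => hK1 (Subgroup.card_eq_one.mp e)
    haveI := Fact.mk hr
    obtain ⟨x, hx⟩ := exists_prime_orderOf_dvd_card' r hrd
    haveI : (U.subgroupOf E).Normal := (Subgroup.normal_subgroupOf_iff_le_normalizer hUE).mpr hEU
    haveI := Basics.isNilpotent_of_conj_fpf (U.subgroupOf E) (x := ⟨(x : G), hKE x.2⟩) (p := r)
      (by rw [← Subgroup.orderOf_coe]; exact (Subgroup.orderOf_coe x).trans hx) fun n hn hxn => by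
        have hx1 : (x : G) ≠ 1 := fun e => by
          rw [← Subgroup.orderOf_coe, e, orderOf_one] at hx
          exact hr.one_lt.ne hx
        have h := hregular x x.2 hx1
        exact Subtype.ext (Subgroup.mem_bot.mp (h ▸ Subgroup.mem_inf.mpr
          ⟨hn, Subgroup.mem_centralizer_singleton_iff.mpr (congrArg Subtype.val hxn).symm⟩))
    exact Group.nilpotent_of_mulEquiv (Subgroup.subgroupOfEquivOfLe hUE)
  refine ⟨E, U, hE, hKE, hUE, nilpotent_commutative hG hM hUM hUnil fun q hq hd => (hUπ q hq hd).2.2, ?_, hEU, hEeq,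
    hregular⟩
  refine isPiHallOf_of_factorization hUM hUπ fun q hq hqπ => ?_
  haveI := Fact.mk hq
  obtain ⟨S, hS⟩ := exists_sylowIn (q := q) E
  rw [hUf q hq hqπ]
  exact Nat.pow_right_injective hq.two_le (hS.2.symm.trans (compl_sylow hE hqπ.2.2 hS).2)

omit hp in
/-- Semiprimality of `K` on `M_σ`. -/
theorem kappa_semiprime (hG : IsMinSimpleOddOrder G) {M K : Subgroup G} (hM : IsCoatom M)
    (hK : IsPiHallOf (Cfsg.kappa M) K M) {k : G} (hk : k ∈ K) (hk1 : k ≠ 1) :
    Cfsg.sigmaCore M ⊓ Subgroup.centralizer ({k} : Set G) =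
      Cfsg.sigmaCore M ⊓ Subgroup.centralizer (K : Set G) := by
  have hK1 : K ≠ ⊥ := fun e => hk1 (Subgroup.mem_bot.mp (e ▸ hk))
  refine le_antisymm (le_inf inf_le_left ?_) (inf_le_inf_left _ (Subgroup.centralizer_le (by simpa using hk)))
  obtain ⟨r, hr, hrd⟩ := Nat.exists_prime_and_dvd fun e => hk1 (orderOf_eq_one_iff.mp e)
  haveI := Fact.mk hr
  set x := k ^ (orderOf k / r) with hx
  have hX : Nat.card (Subgroup.zpowers x) = r := by
    rw [Nat.card_zpowers, hx, orderOf_pow_orderOf_div (orderOf_pos k).ne' hrd]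
  have hle : Cfsg.sigmaCore M ⊓ Subgroup.centralizer ({k} : Set G) ≤
      Cfsg.sigmaCore M ⊓ Subgroup.centralizer ((Subgroup.zpowers x : Subgroup G) : Set G) := by
    refine inf_le_inf_left _ fun c hc => ?_
    rw [centralizer_eq_of_zpowers]
    exact Subgroup.mem_centralizer_singleton_iff.mpr
      ((show Commute c k from Subgroup.mem_centralizer_singleton_iff.mp hc).pow_right _).eq
  refine hle.trans (Subgroup.le_centralizer_iff.mp (le_of_sylows fun t ht htd => ?_))
  haveI := Fact.mk ht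
  obtain ⟨S, hS⟩ := exists_sylowIn (q := t) K
  refine ⟨S, hS, Subgroup.le_centralizer_iff.mp ?_⟩
  have hS1 : S ≠ ⊥ := fun e => by
    have h := hS.2
    rw [e, Subgroup.card_bot] at h
    exact (Nat.one_lt_pow (ht.factorization_pos_of_dvd Nat.card_pos.ne' htd).ne' ht.one_lt).ne h
  obtain ⟨z, hz, hzo⟩ := exists_orderOf_eq hS.isPGroup hS1
  have htk := hK.2.1 t ht htd
  have hz1 : z ≠ 1 := fun e => by rw [e, orderOf_one] at hzo; exact ht.one_lt.ne hzo
  refine le_trans (le_inf inf_le_left ?_)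
    (fixed_le_of_rank_one hG hM htk.2.2.1 (kappa_rank_one htk) hS.isPGroup (hS.1.trans hK.1) hz hz1)
  rw [← centralizer_eq_of_zpowers]
  exact ((exists_kappa_compl hG hM hK hK1).1 r _ (Subgroup.zpowers_le.mpr (pow_mem hk _)) hX).2 t _
    (Subgroup.zpowers_le.mpr (hS.1 hz)) (by rw [Nat.card_zpowers, hzo])

omit hp in
theorem kappa_fixed_ne_bot (hG : IsMinSimpleOddOrder G) {M K : Subgroup G} (hM : IsCoatom M)
    (hK : IsPiHallOf (Cfsg.kappa M) K M) (hK1 : K ≠ ⊥) :
    Cfsg.sigmaCore M ⊓ Subgroup.centralizer (K : Set G) ≠ ⊥ := by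
  obtain ⟨r, hr, hrd⟩ := Nat.exists_prime_and_dvd fun e => hK1 (Subgroup.card_eq_one.mp e)
  haveI := Fact.mk hr
  obtain ⟨x, hx⟩ := exists_prime_orderOf_dvd_card' r hrd
  rw [← Subgroup.orderOf_coe] at hx
  have hx1 : (x : G) ≠ 1 := fun e => by rw [e, orderOf_one] at hx; exact hr.one_lt.ne hx
  rw [← kappa_semiprime hG hM hK x.2 hx1, ← centralizer_eq_of_zpowers]
  exact fixed_of_kappa hG (hK.2.1 r hr hrd) ((Subgroup.zpowers_le.mpr x.2).trans hK.1) (by rw [Nat.card_zpowers, hx])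

omit hp in
/-- The normalizer in `M` of a line of `K`. -/
theorem kappa_normalizer_line (hG : IsMinSimpleOddOrder G) {M K X : Subgroup G} (hM : IsCoatom M)
    (hK : IsPiHallOf (Cfsg.kappa M) K M) (hK1 : K ≠ ⊥) (hXK : X ≤ K) {r : ℕ} [hr : Fact r.Prime]
    (hX : Nat.card X = r) :
    M ⊓ Subgroup.normalizer (X : Set G) = K ⊔ (Cfsg.sigmaCore M ⊓ Subgroup.centralizer (K : Set G)) ∧
      M ⊓ Subgroup.normalizer (K : Set G) = K ⊔ (Cfsg.sigmaCore M ⊓ Subgroup.centralizer (K : Set G)) := by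
  obtain ⟨hlines, E, U, hE, hKE, hUE, -, hU, hEU, hEeq, hreg⟩ := exists_kappa_compl hG hM hK hK1
  have hKX := (hlines r X hXK hX).1
  obtain ⟨x, hx, hx1, hxX⟩ := exists_ne_one_of_card (p := r) hX
  have hCX : Cfsg.sigmaCore M ⊓ Subgroup.centralizer (X : Set G) =
      Cfsg.sigmaCore M ⊓ Subgroup.centralizer (K : Set G) := by
    rw [← hxX, centralizer_eq_of_zpowers, kappa_semiprime hG hM hK (hXK hx) hx1]
  have hX1 : M ⊓ Subgroup.normalizer (X : Set G) = K ⊔ (Cfsg.sigmaCore M ⊓ Subgroup.centralizer (K : Set G)) := by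
    refine le_antisymm (fun m hm => ?_) (sup_le (le_inf hK.1 hKX)
      (le_inf (inf_le_left.trans (sigmaCore_le M))
        ((hCX.ge.trans inf_le_right).trans (Subgroup.centralizer_le_normalizer _))))
    obtain ⟨e, he, b, hb, rfl⟩ := hE.2.2.2 m hm.1
    -- `e` normalizes `X` and `b` centralizes it
    have hkey : ∀ a ∈ X, e⁻¹ * a * e ∈ X ∧ b * a = a * b := by
      intro a ha
      have h1 : (e * b) * a * (e * b)⁻¹ ∈ X := (Subgroup.mem_normalizer_iff.mp hm.2 a).mp ha
      set c := (e * b) * a * (e * b)⁻¹ with hc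
      have hd : e⁻¹ * c * e * a⁻¹ ∈ E ⊓ Cfsg.sigmaCore M := by
        refine Subgroup.mem_inf.mpr ⟨mul_mem (mul_mem (mul_mem (inv_mem he) (hKE (hXK h1))) he)
          (inv_mem (hKE (hXK ha))), ?_⟩
        rw [show e⁻¹ * c * e * a⁻¹ = b * (a * b⁻¹ * a⁻¹) by rw [hc]; group]
        exact mul_mem hb ((Basics.conj_mem_iff_of_mem_normalizer
          (le_normalizer_sigmaCore M (hK.1 (hXK ha)))).mpr (inv_mem hb))
      rw [hE.2.2.1, Subgroup.mem_bot, mul_inv_eq_one] at hd
      have hba : b * a = a * b := by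
        calc b * a = (e⁻¹ * c * e) * b := by rw [hc]; group
        _ = a * b := by rw [hd]
      refine ⟨?_, hba⟩
      have h2 : (e * b)⁻¹ * a * (e * b) ∈ X := (Subgroup.mem_normalizer_iff''.mp hm.2 a).mp ha
      set c' := (e * b)⁻¹ * a * (e * b) with hc'
      have hd' : e⁻¹ * a * e * c'⁻¹ ∈ E ⊓ Cfsg.sigmaCore M := by
        refine Subgroup.mem_inf.mpr ⟨mul_mem (mul_mem (mul_mem (inv_mem he) (hKE (hXK ha))) he)
          (inv_mem (hKE (hXK h2))), ?_⟩
        rw [show e⁻¹ * a * e * c'⁻¹ = b * (c' * b⁻¹ * c'⁻¹) by rw [hc']; group]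
        exact mul_mem hb ((Basics.conj_mem_iff_of_mem_normalizer
          (le_normalizer_sigmaCore M (hK.1 (hXK h2)))).mpr (inv_mem hb))
      rw [hE.2.2.1, Subgroup.mem_bot, mul_inv_eq_one] at hd'
      exact hd' ▸ h2
    have hbc : b ∈ Cfsg.sigmaCore M ⊓ Subgroup.centralizer (K : Set G) := hCX ▸ Subgroup.mem_inf.mpr
      ⟨hb, Subgroup.mem_centralizer_iff.mpr fun a ha => (hkey a ha).2.symm⟩
    refine mul_mem (Subgroup.mem_sup_left ?_) (Subgroup.mem_sup_right hbc)
    obtain ⟨u, hu, k, hk, rfl⟩ := (Basics.mem_sup_of_le_normalizer (hKE.trans hEU)).mp (hEeq ▸ he)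
    suffices hu1 : u = 1 by rw [hu1, one_mul]; exact hk
    have h1 : u⁻¹ * x * u ∈ X := by
      have h := (hkey x hx).1
      have h2 := (Subgroup.mem_normalizer_iff.mp (hKX hk) _).mp h
      rwa [show k * ((u * k)⁻¹ * x * (u * k)) * k⁻¹ = u⁻¹ * x * u by group] at h2
    have h2 : (u⁻¹ * x * u) * x⁻¹ ∈ U ⊓ X := by
      refine Subgroup.mem_inf.mpr ⟨?_, mul_mem h1 (inv_mem hx)⟩
      rw [show (u⁻¹ * x * u) * x⁻¹ = u⁻¹ * (x * u * x⁻¹) by group]
      exact mul_mem (inv_mem hu) ((Subgroup.mem_normalizer_iff.mp (hEU (hKE (hXK hx))) u).mp hu)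
    have hUX : U ⊓ X = ⊥ := (Subgroup.disjoint_of_coprime_natCard (by
      rw [hX]
      exact Nat.Coprime.symm (hr.out.coprime_iff_not_dvd.mpr fun h =>
        (hU.2.1 r hr.out h).2.1 (hK.2.1 r hr.out (hX ▸ Subgroup.card_dvd_of_le hXK))))).eq_bot
    rw [hUX, Subgroup.mem_bot, mul_inv_eq_one] at h2
    have h3 : u ∈ U ⊓ Subgroup.centralizer ({x} : Set G) := by
      refine Subgroup.mem_inf.mpr ⟨hu, Subgroup.mem_centralizer_singleton_iff.mpr ?_⟩
      calc u * x = u * (u⁻¹ * x * u) := by rw [h2]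
      _ = x * u := by group
    rwa [hreg x (hXK hx) hx1, Subgroup.mem_bot] at h3
  refine ⟨hX1, le_antisymm ?_ (sup_le (le_inf hK.1 Subgroup.le_normalizer)
    (le_inf (inf_le_left.trans (sigmaCore_le M)) (inf_le_right.trans (Subgroup.centralizer_le_normalizer _))))⟩
  refine le_of_le_of_eq (le_inf inf_le_left ?_) hX1
  intro m hm
  -- `X` is the only line of its order in `K`
  have hrk := hK.2.1 r hr.out (hX ▸ Subgroup.card_dvd_of_le hXK)
  have hXm : X.map (MulAut.conj m).toMonoidHom ≤ K :=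
    (Subgroup.map_mono hXK).trans (Subgroup.mem_normalizer_iff_map_conj_eq.mp hm.2).le
  have hc : Nat.card ↥(X.map (MulAut.conj m).toMonoidHom) = r :=
    (Subgroup.card_map_of_injective (MulAut.conj m).injective).trans hX
  obtain ⟨S, hS, hXS⟩ := exists_sylowIn_ge (IsPGroup.of_card (n := 1) (hc.trans (pow_one r).symm)) hXm
  have hSc : IsCyclic S := isCyclic_of_pRankLE_one (prime_ne_two hG (hX ▸ Subgroup.card_subgroup_dvd_card X))
    (kappa_rank_one hrk) (hS.1.trans hK.1) hS.isPGroup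
  exact Subgroup.mem_normalizer_iff_map_conj_eq.mpr (eq_of_le_cyclic hSc hXS
    (le_sylowIn_of_normalized (IsPGroup.of_card (n := 1) (hX.trans (pow_one r).symm)) hXK hKX hS) (hc.trans hX.symm))

end Cfsg.Agent.OddLocal
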