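import Cfsg.Agent.Lib.OddLocal.KappaTools

/-! `τ₁` lines centralize `τ₃` lines with nontrivial fixed points (BG 13.10, 13.11). -/

set_option autoImplicit false
set_option linter.unusedSectionVars false
set_option linter.style.haveILetI false

namespace Cfsg.Agent.OddLocal

open scoped commutatorElement Pointwise
open Cfsg
open Basics (IsSylowIn)

universe u

variable {G : Type u} [Group G] [Finite G] {p : ℕ} [hp : Fact p.Prime]

/-- Lines of the same prime normalizing each other commute. -/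
theorem le_centralizer_of_prime_card {P X : Subgroup G} (hP : Nat.card P = p) (hX : Nat.card X = p)
    (hXP : X ≤ Subgroup.normalizer (P : Set G)) : X ≤ Subgroup.centralizer (P : Set G) := by
  have hsup : IsPGroup p ↥(P ⊔ X : Subgroup G) :=
    (IsPGroup.of_card (n := 1) (hP.trans (pow_one p).symm)).to_sup_of_normal_left'
      (IsPGroup.of_card (n := 1) (hX.trans (pow_one p).symm)) hXP
  have hn : P ⊔ X ≤ Subgroup.normalizer (P : Set G) := sup_le Subgroup.le_normalizer hXP
  obtain ⟨z, hz, hzo, hzc⟩ := exists_central_mem hsup le_sup_left hn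
    (fun e => by rw [e, Subgroup.card_bot] at hP; exact hp.out.one_lt.ne hP)
  have he : Subgroup.zpowers z = P :=
    Subgroup.eq_of_le_of_card_ge (Subgroup.zpowers_le.mpr hz) (by rw [Nat.card_zpowers, hzo, hP])
  rw [← he, Subgroup.zpowers_eq_closure, Subgroup.centralizer_closure]
  exact le_sup_right.trans hzc

/-- A line acted on nontrivially forces the fixed points of the operator out of `L`. -/
theorem frobenius_leave (hG : IsMinSimpleOddOrder G) {M L P X : Subgroup G} (hM : IsCoatom M) (hL : IsCoatom L)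
    (hne : L ≠ M) {s : ℕ} [hs : Fact s.Prime] (hP : Nat.card P = p) (hX : Nat.card X = s) {E : Subgroup G}
    (hE : IsComplIn E (Cfsg.sigmaCore M) M) (hPE : P ≤ E) (hXE : X ≤ E) (hXP : X ≤ Subgroup.normalizer (P : Set G))
    (hXPne : ⁅X, P⁆ = P) (hEL : E ≤ L) (hCP : Cfsg.sigmaCore M ⊓ Subgroup.centralizer (P : Set G) ≤ L) :
    ¬ Cfsg.sigmaCore M ⊓ Subgroup.centralizer (X : Set G) ≤ L := by
  intro hle
  have hps : p ∉ Cfsg.sigma M := compl_primes hG hM hE hp.out (hP ▸ Subgroup.card_dvd_of_le hPE)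
  have hss : s ∉ Cfsg.sigma M := compl_primes hG hM hE hs.out (hX ▸ Subgroup.card_dvd_of_le hXE)
  have hsp : s ≠ p := by
    intro e
    subst e
    have hXc : X ≤ Subgroup.centralizer (P : Set G) := le_centralizer_of_prime_card hP hX hXP
    rw [Subgroup.commutator_eq_bot_iff_le_centralizer.mpr hXc] at hXPne
    rw [← hXPne, Subgroup.card_bot] at hP
    exact hs.out.one_lt.ne hP
  refine hne ((hM.le_iff_eq hL.1).mp ?_)
  intro m hm
  obtain ⟨a, ha, b, hb, rfl⟩ := hE.2.2.2 m hm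
  refine mul_mem (hEL ha) (le_of_sylows (N := Cfsg.sigmaCore M) (K := L) (fun t ht htd => ?_) hb)
  haveI := Fact.mk ht
  have hts : t ∈ Cfsg.sigma M := piCoreOf_primes _ M ht htd
  set A := P ⊔ X with hA
  have hAE : A ≤ E := sup_le hPE hXE
  obtain ⟨W, hW, hAW⟩ := Basics.exists_invariant_isSylowIn A (Cfsg.sigmaCore M)
    ((hAE.trans hE.1).trans (le_normalizer_sigmaCore M)) (Nat.coprime_of_dvd fun r hr h1 h2 =>
      compl_primes hG hM hE hr (h1.trans (Subgroup.card_dvd_of_le hAE)) (piCoreOf_primes _ M hr h2))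
    (Or.inl (Basics.isSolvable_of_le (hAE.trans hE.1) (isSolvable_of_ne_top hG hM.1))) t
  refine ⟨W, hW, (le_of_fixed_le (V := W ⊓ L) hW.isPGroup inf_le_left hX
    (prime_ne_two hG (hX ▸ Subgroup.card_subgroup_dvd_card X))
    (prime_ne_two hG (htd.trans (Subgroup.card_subgroup_dvd_card _))) (fun e => hss (e ▸ hts))
    (odd_card_subgroup hG P) ?_ ?_ hXP (le_sup_left.trans hAW) (le_sup_right.trans hAW) ?_ ?_
    (le_inf inf_le_left ((inf_le_inf_right _ hW.1).trans hle)) ?_).trans inf_le_right⟩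
  · rw [hP]; exact fun h => hsp ((Nat.prime_dvd_prime_iff_eq hs.out hp.out).mp h)
  · rw [hP]; exact fun h => hps ((Nat.prime_dvd_prime_iff_eq ht hp.out).mp h ▸ hts)
  · exact (le_inf (le_sup_left.trans hAW) ((hPE.trans hEL).trans Subgroup.le_normalizer)).trans le_normalizer_inf'
  · exact (le_inf (le_sup_right.trans hAW) ((hXE.trans hEL).trans Subgroup.le_normalizer)).trans le_normalizer_inf'
  · rw [hXPne]
    exact le_inf inf_le_left ((inf_le_inf_right _ hW.1).trans hCP)

/-- Both sides fix elements: impossible. -/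
theorem crossing_false (hG : IsMinSimpleOddOrder G) {M L X E EL : Subgroup G} (hM : IsCoatom M) (hL : IsCoatom L)
    (hconj : ∀ g : G, L ≠ M.map (MulAut.conj g).toMonoidHom)
    (hE : IsComplIn E (Cfsg.sigmaCore M) M) (hEL : IsComplIn EL (Cfsg.sigmaCore L) L)
    (hXE : X ≤ E) (hXEL : X ≤ EL) (hEle : E ≤ L) (hELle : EL ≤ M)
    (hpM : p ∈ Cfsg.tau1 M) (hpL : p ∈ Cfsg.tau1 L) (hX : Nat.card X = p)
    (hnM : ¬ Cfsg.sigmaCore M ⊓ Subgroup.centralizer (X : Set G) ≤ L)
    (hyne : Cfsg.sigmaCore L ⊓ Subgroup.centralizer (X : Set G) ≠ ⊥) : False := by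
  have hXM : X ≤ M := hXE.trans hE.1
  have hXL : X ≤ L := hXEL.trans hEL.1
  -- a line of `σ(L)` in `E ∩ C(X)` is impossible
  have key : ∀ s : ℕ, s.Prime → s ∈ Cfsg.sigma L → ∀ y ∈ M ⊓ Subgroup.centralizer (X : Set G),
      orderOf y = s → False := by
    intro s hs hsL y hy hyo
    haveI := Fact.mk hs
    have hsM : s ∉ Cfsg.sigma M := fun h => by
      obtain ⟨g, hg⟩ := sigma_disjoint hG hM hL h hsL
      exact hconj g hg
    obtain ⟨e, he, heo⟩ := exists_fixed_in_compl hE hXE hsM hy hyo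
    have heσ : e ∈ Cfsg.sigmaCore L :=
      pGroup_le_sigmaCore hG hL hsL (IsPGroup.of_card (n := 1) (by rw [Nat.card_zpowers, heo, pow_one]))
        (Subgroup.zpowers_le.mpr (hEle he.1)) (Subgroup.mem_zpowers e)
    have hN := normalizer_le_of_tau1_fixed hG hL hpL hXL hX (X := Subgroup.zpowers e)
      (by rw [Nat.card_zpowers, heo]) (Subgroup.zpowers_le.mpr ⟨heσ, he.2⟩)
    exact hnM ((le_inf le_rfl (cent_tau1_le hG hM hpM hXM hX (R := Subgroup.zpowers e)
      (Subgroup.zpowers_le.mpr (hE.1 he.1)) hsM (by rw [Nat.card_zpowers, heo]) (Subgroup.zpowers_le.mpr he.2))).trans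
      (inf_le_right.trans ((Subgroup.centralizer_le_normalizer _).trans hN)))
  have hxne : Cfsg.sigmaCore M ⊓ Subgroup.centralizer (X : Set G) ≠ ⊥ := fun e => hnM (e ▸ bot_le)
  obtain ⟨t, ht, htd⟩ := Nat.exists_prime_and_dvd fun e => hxne (Subgroup.card_eq_one.mp e)
  obtain ⟨s, hs, hsd⟩ := Nat.exists_prime_and_dvd fun e => hyne (Subgroup.card_eq_one.mp e)
  haveI := Fact.mk ht
  haveI := Fact.mk hs
  obtain ⟨x, hxo⟩ := exists_prime_orderOf_dvd_card' t htd
  obtain ⟨y, hyo⟩ := exists_prime_orderOf_dvd_card' s hsd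
  rw [← Subgroup.orderOf_coe] at hxo hyo
  have hsL : s ∈ Cfsg.sigma L := piCoreOf_primes _ L hs (hyo ▸ Subgroup.orderOf_dvd_natCard _ y.2.1)
  have htM : t ∈ Cfsg.sigma M := piCoreOf_primes _ M ht (hxo ▸ Subgroup.orderOf_dvd_natCard _ x.2.1)
  rcases exists_crossed_fixed hG hM hL hpM.2.1 hpM.2.2.2.2 hXM hpL.2.1 hpL.2.2.2.2 hXL hX x.2 hxo y.2 hyo with
    ⟨y', hy', hy'o⟩ | ⟨x', hx', hx'o⟩
  · exact key s hs hsL y' hy' hy'o
  · have htL : t ∉ Cfsg.sigma L := fun h => by
      obtain ⟨g, hg⟩ := sigma_disjoint hG hM hL htM h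
      exact hconj g hg
    obtain ⟨e, he, heo⟩ := exists_fixed_in_compl hEL hXEL htL hx' hx'o
    have heσ : e ∈ Cfsg.sigmaCore M :=
      pGroup_le_sigmaCore hG hM htM (IsPGroup.of_card (n := 1) (by rw [Nat.card_zpowers, heo, pow_one]))
        (Subgroup.zpowers_le.mpr (hELle he.1)) (Subgroup.mem_zpowers e)
    have hN := normalizer_le_of_tau1_fixed hG hM hpM hXM hX (X := Subgroup.zpowers e)
      (by rw [Nat.card_zpowers, heo]) (Subgroup.zpowers_le.mpr ⟨heσ, he.2⟩)
    have hy' : (y : G) ∈ Subgroup.centralizer ((Subgroup.zpowers e : Subgroup G) : Set G) :=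
      cent_tau1_le hG hL hpL hXL hX (Subgroup.zpowers_le.mpr (hEL.1 he.1)) htL
        (by rw [Nat.card_zpowers, heo]) (Subgroup.zpowers_le.mpr he.2) y.2
    exact key s hs hsL y ⟨(Subgroup.centralizer_le_normalizer _).trans hN hy', y.2.2⟩ hyo

/-- BG 13.10: a `τ₁` line normalizing a `τ₃` line with fixed points in `M_σ` centralizes it. -/
theorem tau3_line_central (hG : IsMinSimpleOddOrder G) {M P X : Subgroup G} (hM : IsCoatom M)
    (hps : p ∉ Cfsg.sigma M) (hp1 : PRankLE p 1 M) (hd : p ∣ Nat.card ↥⁅M, M⁆) (hPM : P ≤ M)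
    (hP : Nat.card P = p) (hC : Cfsg.sigmaCore M ⊓ Subgroup.centralizer (P : Set G) ≠ ⊥)
    {s : ℕ} [hs : Fact s.Prime] (hs1 : s ∈ Cfsg.tau1 M) (hXM : X ≤ M) (hX : Nat.card X = s)
    (hXP : X ≤ Subgroup.normalizer (P : Set G)) : X ≤ Subgroup.centralizer (P : Set G) := by
  by_contra hne
  have hPp : IsPGroup p P := IsPGroup.of_card (n := 1) (hP.trans (pow_one p).symm)
  have hXp : IsPGroup s X := IsPGroup.of_card (n := 1) (hX.trans (pow_one s).symm)
  have hXsolv : Group.IsSolvable X := Basics.isSolvable_of_le hXM (isSolvable_of_ne_top hG hM.1)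
  have hsp : s ≠ p := fun e => hs1.2.2.2.1 (e ▸ hd)
  have hXPle : ⁅X, P⁆ ≤ P := Subgroup.le_normalizer_iff_commutator_le_right.mp hXP
  have hXPeq : ⁅X, P⁆ = P := Subgroup.eq_of_le_of_card_ge hXPle <| by
    rcases (hPp.to_le hXPle).card_eq_or_dvd with e | e
    · exact absurd (Subgroup.commutator_eq_bot_iff_le_centralizer.mp (Subgroup.card_eq_one.mp e)) hne
    · exact hP.le.trans (Nat.le_of_dvd Nat.card_pos e)
  have hPtop : P ≠ ⊤ := fun e => hM.1 (top_le_iff.mp (e ▸ hPM))
  have hP1 : P ≠ ⊥ := fun e => by rw [e, Subgroup.card_bot] at hP; exact hp.out.one_lt.ne hP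
  obtain ⟨L, hL, hNP⟩ := exists_maximal_ge (normalizer_ne_top hG hP1 hPtop)
  obtain ⟨-, hconj⟩ := normalizer_sup_facts hG hL hps hp1 hP hNP
  have hLM : L ≠ M := fun e => hconj 1 (by rw [map_conj_one, e])
  have hPL : P ≤ L := Subgroup.le_normalizer.trans hNP
  have hcd : Nat.card ↥(P ⊔ X : Subgroup G) ∣ Nat.card P * Nat.card X :=
    ⟨_, Basics.card_mul_card_eq_card_sup_mul_card_inf hXP⟩
  obtain ⟨E, hE, hPXE⟩ := exists_compl_ge hG hM (sup_le hPM hXM) fun t ht htd => by
    rcases ht.dvd_mul.mp (htd.trans hcd) with h | h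
    · rw [hP] at h; rwa [(Nat.prime_dvd_prime_iff_eq ht hp.out).mp h]
    · rw [hX] at h; rw [(Nat.prime_dvd_prime_iff_eq ht hs.out).mp h]; exact hs1.2.1
  have hPE : P ≤ E := le_sup_left.trans hPXE
  have hXE : X ≤ E := le_sup_right.trans hPXE
  have hEle : E ≤ L := (line_normal_of_derived hG hM hE hps hp1 hPE hP hd).1.trans hNP
  have hXL : X ≤ L := hXE.trans hEle
  have hCPL : Cfsg.sigmaCore M ⊓ Subgroup.centralizer (P : Set G) ≤ L :=
    inf_le_right.trans ((Subgroup.centralizer_le_normalizer _).trans hNP)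
  -- `P` fixes all of `M_σ ∩ L`
  obtain ⟨q, hq, hqd⟩ := Nat.exists_prime_and_dvd fun e => hC (Subgroup.card_eq_one.mp e)
  haveI := Fact.mk hq
  set C := Cfsg.sigmaCore M ⊓ Subgroup.centralizer (P : Set G) with hCdef
  have hqM : q ∈ Cfsg.sigma M := piCoreOf_primes _ M hq (hqd.trans (Subgroup.card_dvd_of_le inf_le_left))
  have hXC : X ≤ Subgroup.normalizer (C : Set G) :=
    le_trans (le_inf (hXM.trans (le_normalizer_sigmaCore M)) (hXP.trans (normalizer_le_normalizer_centralizer P)))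
      le_normalizer_inf'
  obtain ⟨Y, hYC, hY, hXY⟩ := exists_invariant_line hXC
    (coprime_of_pGroup hXp fun h => not_dvd_sigmaCore hs.out hs1.2.1 (h.trans (Subgroup.card_dvd_of_le inf_le_left)))
    hXsolv hqd fun U hU hUC => cyclic_fixed hG hM hps hp1 hPM hP hqM hU
      (hUC.trans (inf_le_left.trans (sigmaCore_le M))) (hUC.trans inf_le_right)
  have hYp : IsPGroup q Y := IsPGroup.of_card (n := 1) (hY.trans (pow_one q).symm)
  have hpsL : p ∈ Cfsg.sigma L := sigma_of_fixed hG hM hL hps hp1 hPM hP hNP hY hYC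
  have hNY := normalizer_le_of_fixed hG hM hps hp1 hPM hP hY hYC
  have hYL : Y ≤ L := hYC.trans hCPL
  have hYM : Y ≤ M := hYC.trans (inf_le_left.trans (sigmaCore_le M))
  have hPσ : P ≤ Cfsg.sigmaCore L := pGroup_le_sigmaCore hG hL hpsL hPp hPL
  have hPY : P ≤ Subgroup.centralizer (Y : Set G) := Subgroup.le_centralizer_iff.mp (hYC.trans inf_le_right)
  have hMLC : Cfsg.sigmaCore M ⊓ L ≤ C := le_inf inf_le_left
    (Subgroup.le_centralizer_iff.mp (centralizes_inter hG hM hL hconj hps hPM hPL hP (Or.inl hpsL)))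
  have hinfb : Cfsg.sigmaCore L ⊓ M ≠ ⊥ := fun e => hP1 (le_bot_iff.mp (e ▸ le_inf hPσ hPM))
  have hqL : q ∉ Cfsg.sigma L := fun h => by
    obtain ⟨g, hg⟩ := sigma_disjoint hG hM hL hqM h
    exact hconj g hg
  have hleave := frobenius_leave hG hM hL hLM hP hX hE hPE hXE hXP hXPeq hEle hCPL
  -- `s ∉ σ(L)`
  have hsL : s ∉ Cfsg.sigma L := fun hsL => by
    have hXc := centralizes_inter (p := s) hG hM hL hconj hs1.2.1 hXM hXL hX (Or.inl hsL)
    have hYX : Y ≤ Cfsg.sigmaCore M ⊓ Subgroup.centralizer (X : Set G) :=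
      le_inf (hYC.trans inf_le_left)
        ((le_inf (hYC.trans inf_le_left) hYL).trans (Subgroup.le_centralizer_iff.mp hXc))
    have hXtop : X ≠ ⊤ := fun e => hM.1 (top_le_iff.mp (e ▸ hXM))
    have hX1 : X ≠ ⊥ := fun e => by rw [e, Subgroup.card_bot] at hX; exact hs.out.one_lt.ne hX
    obtain ⟨H, hH, hNX⟩ := exists_maximal_ge (normalizer_ne_top hG hX1 hXtop)
    have hsH := sigma_of_fixed (p := s) hG hM hH hs1.2.1 hs1.2.2.2.2 hXM hX hNX hY hYX
    obtain ⟨g, hg⟩ := sigma_disjoint hG hL hH hsL hsH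
    have hHL : H = L := conj_eq_of_centralizer_le hG hL hsL hXp hX1 hXL hg (Subgroup.le_normalizer.trans hNX)
      ((Subgroup.centralizer_le_normalizer _).trans hNX)
    exact hleave (inf_le_right.trans ((Subgroup.centralizer_le_normalizer _).trans (hHL ▸ hNX)))
  by_cases hqd' : q ∣ Nat.card ↥⁅L, L⁆
  swap
  · -- `q ∈ τ₁(L)`
    have hXYc : X ≤ Subgroup.centralizer (Y : Set G) := by
      rw [← Subgroup.commutator_eq_bot_iff_le_centralizer, ← Subgroup.card_eq_one]
      refine ((hYp.to_le (Subgroup.le_normalizer_iff_commutator_le_right.mp hXY)).card_eq_or_dvd).resolve_right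
        fun h => hqd' (h.trans (Subgroup.card_dvd_of_le (Subgroup.commutator_mono hXL hYL)))
    have hq1 : PRankLE q 1 L := by
      by_contra h1
      obtain ⟨F, hF, hYF⟩ := exists_compl_ge hG hL hYL fun t ht htd => by
        rw [hY] at htd; rwa [(Nat.prime_dvd_prime_iff_eq ht hq).mp htd]
      obtain ⟨A, hAF, hAe, hA2, A₁, hA⟩ :=
        exists_ea_in_compl hG hL hF ⟨hq, hqL, pRankLE_two_of_not_mem_sigma hG hL hqL, h1⟩
      exact hinfb (hA.inf_maximal hG hM hLM.symm (((Subgroup.le_centralizer_iff_isMulCommutative.mpr hAe.1).trans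
        (Subgroup.centralizer_le (hA.le_of_card_prime hG hF hAF hYF hY))).trans
        ((Subgroup.centralizer_le_normalizer _).trans hNY)))
    exact hne (Subgroup.le_centralizer_iff.mp ((le_inf hPσ hPY).trans
      (cent_tau1_le (p := q) hG hL ⟨hq, hqL, hY ▸ Subgroup.card_dvd_of_le hYL, hqd', hq1⟩ hYL hY hXL hsL hX hXYc)))
  -- `q ∈ τ₃(L)`
  have hq1 : PRankLE q 1 L := by
    by_contra h1
    obtain ⟨F, hF, hYF⟩ := exists_compl_ge hG hL hYL fun t ht htd => by
      rw [hY] at htd; rwa [(Nat.prime_dvd_prime_iff_eq ht hq).mp htd]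
    obtain ⟨A, hAF, hAe, hA2, A₁, hA⟩ :=
      exists_ea_in_compl hG hL hF ⟨hq, hqL, pRankLE_two_of_not_mem_sigma hG hL hqL, h1⟩
    exact hinfb (hA.inf_maximal hG hM hLM.symm (((Subgroup.le_centralizer_iff_isMulCommutative.mpr hAe.1).trans
      (Subgroup.centralizer_le (hA.le_of_card_prime hG hF hAF hYF hY))).trans
      ((Subgroup.centralizer_le_normalizer _).trans hNY)))
  have hcd' : Nat.card ↥(Y ⊔ X : Subgroup G) ∣ Nat.card Y * Nat.card X :=
    ⟨_, Basics.card_mul_card_eq_card_sup_mul_card_inf hXY⟩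
  obtain ⟨EL, hEL, hYXE⟩ := exists_compl_ge hG hL (sup_le hYL hXL) fun t ht htd => by
    rcases ht.dvd_mul.mp (htd.trans hcd') with h | h
    · rw [hY] at h; rw [(Nat.prime_dvd_prime_iff_eq ht hq).mp h]; exact hqL
    · rw [hX] at h; rw [(Nat.prime_dvd_prime_iff_eq ht hs.out).mp h]; exact hsL
  have hYEL : Y ≤ EL := le_sup_left.trans hYXE
  have hXEL : X ≤ EL := le_sup_right.trans hYXE
  obtain ⟨hELY, hYd⟩ := line_normal_of_derived hG hL hEL hqL hq1 hYEL hY hqd'
  have hELle : EL ≤ M := hELY.trans hNY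
  have hnoτ2 : ∀ r : ℕ, r ∉ Cfsg.tau2 L := fun r hr => by
    haveI := Fact.mk hr.1
    obtain ⟨B, hBE, -, -, B₁, hB⟩ := exists_ea_in_compl hG hL hEL hr
    exact hinfb (hB.inf_maximal hG hM hLM.symm (hBE.trans hELle))
  have hnoτ2M : ∀ r : ℕ, r ∉ Cfsg.tau2 M := fun r hr => by
    haveI := Fact.mk hr.1
    obtain ⟨B, hBE, -, -, B₁, hB⟩ := exists_ea_in_compl hG hM hE hr
    refine hC (le_bot_iff.mp ?_)
    rw [← hB.inf_maximal hG hL hLM (hBE.trans hEle)]
    exact le_inf inf_le_left hCPL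
  have hsτ : s ∈ Cfsg.tau1 L := by
    have hsd : s ∣ Nat.card L := hX ▸ Subgroup.card_dvd_of_le hXL
    have h1 : PRankLE s 1 L := by
      by_contra h
      exact hnoτ2 s ⟨hs.out, hsL, pRankLE_two_of_not_mem_sigma hG hL hsL, h⟩
    refine ⟨hs.out, hsL, hsd, fun hd' => hs1.2.2.2.1 ?_, h1⟩
    exact hX ▸ Subgroup.card_dvd_of_le
      ((line_normal_of_derived hG hL hEL hsL h1 hXEL hX hd').2.trans (Subgroup.commutator_mono hELle hELle))
  by_cases hy0 : Cfsg.sigmaCore L ⊓ Subgroup.centralizer (X : Set G) = ⊥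
  swap
  · exact crossing_false hG hM hL hconj hE hEL hXE hXEL hEle hELle hs1 hsτ hX hleave hy0
  by_cases hXYc : X ≤ Subgroup.centralizer (Y : Set G)
  swap
  · -- `Y` centralizes `L_σ`
    have hXYeq : ⁅X, Y⁆ = Y := Subgroup.eq_of_le_of_card_ge (Subgroup.le_normalizer_iff_commutator_le_right.mp hXY) <| by
      rcases (hYp.to_le (Subgroup.le_normalizer_iff_commutator_le_right.mp hXY)).card_eq_or_dvd with e | e
      · exact absurd (Subgroup.commutator_eq_bot_iff_le_centralizer.mp (Subgroup.card_eq_one.mp e)) hXYc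
      · exact hY.le.trans (Nat.le_of_dvd Nat.card_pos e)
    refine hLM ((hL.le_iff_eq hM.1).mp fun m hm => ?_).symm
    obtain ⟨a, ha, b, hb, rfl⟩ := hEL.2.2.2 m hm
    refine mul_mem (hELle ha) (le_of_sylows (N := Cfsg.sigmaCore L) (K := M) (fun t ht htd => ?_) hb)
    haveI := Fact.mk ht
    have htL : t ∈ Cfsg.sigma L := piCoreOf_primes _ L ht htd
    obtain ⟨W, hW, hAW⟩ := Basics.exists_invariant_isSylowIn (Y ⊔ X) (Cfsg.sigmaCore L)
      ((sup_le hYL hXL).trans (le_normalizer_sigmaCore L)) (Nat.coprime_of_dvd fun r hr h1 h2 =>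
        compl_primes hG hL hEL hr (h1.trans (Subgroup.card_dvd_of_le hYXE)) (piCoreOf_primes _ L hr h2))
      (Or.inl (Basics.isSolvable_of_le (sup_le hYL hXL) (isSolvable_of_ne_top hG hL.1))) t
    refine ⟨W, hW, ?_⟩
    have h := fpf_centralizes (r := s) (K := Y) hW.isPGroup hX
      (prime_ne_two hG (hX ▸ Subgroup.card_subgroup_dvd_card X))
      (prime_ne_two hG (htd.trans (Subgroup.card_subgroup_dvd_card _))) (fun e => hsL (e ▸ htL))
      (odd_card_subgroup hG Y)
      (by rw [hY]; exact fun h => hs1.2.1 ((Nat.prime_dvd_prime_iff_eq hs.out hq).mp h ▸ hqM))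
      (by rw [hY]; exact fun h => hqL ((Nat.prime_dvd_prime_iff_eq ht hq).mp h ▸ htL))
      hXY (le_sup_left.trans hAW) (le_sup_right.trans hAW) (le_bot_iff.mp ((inf_le_inf_right _ hW.1).trans hy0.le))
    rw [hXYeq] at h
    exact (Subgroup.le_centralizer_iff.mp h).trans ((Subgroup.centralizer_le_normalizer _).trans hNY)
  -- `E_L` centralizes `Y`
  have hcent : EL ≤ Subgroup.centralizer (Y : Set G) := by
    obtain ⟨K, hKE, hKπ, hKf⟩ := exists_hall_in hG (H := EL) (fun e => hL.1 (top_le_iff.mp (e ▸ hEL.1))) (Cfsg.tau1 L)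
    have hKc : IsMulCommutative K := by
      refine Subgroup.le_centralizer_iff_isMulCommutative.mp ?_
      rw [← Subgroup.commutator_eq_bot_iff_le_centralizer, ← Subgroup.card_eq_one]
      refine Nat.eq_one_iff_not_exists_prime_dvd.mpr fun r hr hrd => ?_
      exact (hKπ r hr (hrd.trans (Subgroup.card_dvd_of_le (Subgroup.commutator_le_self K)))).2.2.2.1
        (hrd.trans (Subgroup.card_dvd_of_le (Subgroup.commutator_mono (hKE.trans hEL.1) (hKE.trans hEL.1))))
    obtain ⟨S₀, hS₀, hXS⟩ := exists_sylowIn_ge hXp hXEL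
    obtain ⟨S₁, hS₁⟩ := exists_sylowIn (q := s) K
    obtain ⟨d, hd', ed⟩ := hS₀.exists_conj (sylowIn_of_hall_in hKE (hKf s hs.out hsτ) hS₁)
    set X' := MulAut.conj d • X with hX'
    have hX'K : X' ≤ K := (ed ▸ Subgroup.pointwise_smul_le_pointwise_smul_iff.mpr hXS : _ ≤ S₁).trans hS₁.1
    have hYX' : Y ≤ Subgroup.centralizer (X' : Set G) := by
      intro y hy
      rw [Subgroup.mem_centralizer_iff]
      intro a ha
      rw [SetLike.mem_coe, hX', Basics.mem_conj_smul] at ha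
      have hy' : d⁻¹ * y * d ∈ Y := (Subgroup.mem_normalizer_iff''.mp (hELY hd') y).mp hy
      have h := (Subgroup.mem_centralizer_iff.mp (hXYc ha) _ hy').symm
      calc a * y = d * ((d⁻¹ * a * d) * (d⁻¹ * y * d)) * d⁻¹ := by group
      _ = d * ((d⁻¹ * y * d) * (d⁻¹ * a * d)) * d⁻¹ := by rw [h]
      _ = y * a := by group
    refine le_of_sylows fun t ht htd => ?_
    haveI := Fact.mk ht
    have htsL : t ∉ Cfsg.sigma L := compl_primes hG hL hEL ht htd
    have ht1 : PRankLE t 1 L := by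
      by_contra h
      exact hnoτ2 t ⟨ht, htsL, pRankLE_two_of_not_mem_sigma hG hL htsL, h⟩
    by_cases htd' : t ∣ Nat.card ↥⁅L, L⁆
    · obtain ⟨S, hS⟩ := exists_sylowIn (q := t) EL
      exact ⟨S, hS, (sylow_le_derived_of_rank_one hG hEL.1 ht1 (dvd_card_derived_compl hG hL hEL ht htsL htd') hS).trans
        ((Subgroup.le_centralizer_iff_isMulCommutative.mpr (derived_compl_commutative hG hL hEL)).trans
          (Subgroup.centralizer_le hYd))⟩
    have htτ : t ∈ Cfsg.tau1 L := ⟨ht, htsL, htd.trans (Subgroup.card_dvd_of_le hEL.1), htd', ht1⟩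
    obtain ⟨S, hS⟩ := exists_sylowIn (q := t) K
    have hSy := sylowIn_of_hall_in hKE (hKf t ht htτ) hS
    refine ⟨S, hSy, Subgroup.le_centralizer_iff.mp ?_⟩
    have hSX : S ≤ Subgroup.centralizer (X' : Set G) :=
      hS.1.trans ((Subgroup.le_centralizer_iff_isMulCommutative.mpr hKc).trans (Subgroup.centralizer_le hX'K))
    by_cases htM : t ∈ Cfsg.sigma M
    · exfalso
      have hS1 : S ≠ ⊥ := fun e => by
        have h := hSy.2
        rw [e, Subgroup.card_bot] at h
        exact (Nat.one_lt_pow (ht.factorization_pos_of_dvd Nat.card_pos.ne' htd).ne' ht.one_lt).ne h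
      obtain ⟨z, hz, hzo⟩ := exists_orderOf_eq hS.isPGroup hS1
      set z' := d⁻¹ * z * d with hz'
      have hzX : z' ∈ Subgroup.centralizer (X : Set G) := by
        rw [Subgroup.mem_centralizer_iff]
        intro a ha
        have h := Subgroup.mem_centralizer_iff.mp (hSX hz) (d * a * d⁻¹) (Basics.conj_mem_conj_smul ha)
        calc a * z' = d⁻¹ * ((d * a * d⁻¹) * z) * d := by rw [hz']; group
        _ = d⁻¹ * (z * (d * a * d⁻¹)) * d := by rw [h]
        _ = z' * a := by rw [hz']; group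
      have hz'E : z' ∈ EL := mul_mem (mul_mem (inv_mem hd') (hSy.1 hz)) hd'
      have hz'o : orderOf z' = t := by
        have h := orderOf_conj_elt d⁻¹ z
        rw [inv_inv] at h
        rw [hz', h, hzo]
      have hZσ : Subgroup.zpowers z' ≤ Cfsg.sigmaCore M :=
        pGroup_le_sigmaCore hG hM htM (IsPGroup.of_card (n := 1) (by rw [Nat.card_zpowers, hz'o, pow_one]))
          (Subgroup.zpowers_le.mpr (hELle hz'E))
      have hZP : Subgroup.zpowers z' ≤ Subgroup.centralizer (P : Set G) :=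
        (le_inf hZσ (Subgroup.zpowers_le.mpr (hEL.1 hz'E))).trans (hMLC.trans inf_le_right)
      have hXz : X ≤ Subgroup.centralizer ((Subgroup.zpowers z' : Subgroup G) : Set G) :=
        Subgroup.le_centralizer_iff.mp (Subgroup.zpowers_le.mpr hzX)
      exact hne (Subgroup.le_centralizer_iff.mp ((le_inf hPσ (Subgroup.le_centralizer_iff.mp hZP)).trans
        (cent_tau1_le (p := t) hG hL htτ (Subgroup.zpowers_le.mpr (hEL.1 hz'E)) (by rw [Nat.card_zpowers, hz'o])
          hXL hsL hX hXz)))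
    · have hSM : S ≤ M := (hS.1.trans hKE).trans hELle
      have ht1M : PRankLE t 1 M := by
        by_contra h
        exact hnoτ2M t ⟨ht, htM, pRankLE_two_of_not_mem_sigma hG hM htM, h⟩
      exact (le_inf (hYC.trans inf_le_left) hYX').trans (fixed_le_of_commuting hG hM hs1
        (hX'K.trans (hKE.trans hELle)) (by rw [hX', Basics.card_conj_smul, hX]) htM ht1M hS.isPGroup hSM hSX)
  obtain ⟨S, hS, hYS⟩ := exists_sylowIn_ge hYp hYEL
  have hSd : S ≤ ⁅EL, EL⁆ :=
    sylow_le_derived_of_rank_one hG hEL.1 hq1 (dvd_card_derived_compl hG hL hEL hq hqL hqd') hS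
  have hSc : IsCyclic S := isCyclic_of_pRankLE_one
    (prime_ne_two hG (hY ▸ Subgroup.card_subgroup_dvd_card Y)) hq1 (hS.1.trans hEL.1) hS.isPGroup
  have hSn : EL ≤ Subgroup.normalizer (S : Set G) :=
    le_normalizer_sylowIn (derived_compl_commutative hG hL hEL)
      (le_normalizer_commutator Subgroup.le_normalizer Subgroup.le_normalizer)
      (isSylowIn_of_le hS hSd (Subgroup.commutator_le_self EL))
  refine not_dvd_derived_of_central hS (le_of_sylows fun t ht _ => ?_)
    (dvd_card_derived_compl hG hL hEL hq hqL hqd')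
  haveI := Fact.mk ht
  by_cases htq : t = q
  · subst htq
    exact ⟨S, hS, Subgroup.le_centralizer_iff_isMulCommutative.mpr
      (by haveI := hSc; exact IsCyclic.isMulCommutative)⟩
  obtain ⟨T, hT⟩ := exists_sylowIn (q := t) EL
  exact ⟨T, hT, centralizes_cyclic_of_line hS.isPGroup hSc (hT.1.trans hSn)
    (coprime_of_pGroups htq hT.isPGroup hS.isPGroup) hYS hY (hT.1.trans hcent)⟩

end Cfsg.Agent.OddLocal
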