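import Cfsg.Agent.Lib.OddLocal.TauOneFixed
import Mathlib.GroupTheory.Transfer

/-! Tools for the structure of `κ(M)`. -/

set_option autoImplicit false
set_option linter.unusedSectionVars false
set_option linter.style.haveILetI false

namespace Cfsg.Agent.OddLocal

open scoped commutatorElement Pointwise
open Cfsg
open Basics (IsSylowIn)

universe u

variable {G : Type u} [Group G] [Finite G] {p : ℕ} [hp : Fact p.Prime]

/-- An operator group fixing a line of a cyclic `p`-group fixes all of it. -/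
theorem centralizes_cyclic_of_line {Q X R : Subgroup G} (hQ : IsPGroup p Q) (hQc : IsCyclic Q)
    (hXQ : X ≤ Subgroup.normalizer (Q : Set G)) (hcop : (Nat.card X).Coprime (Nat.card Q))
    (hRQ : R ≤ Q) (hR : Nat.card R = p) (hRX : X ≤ Subgroup.centralizer (R : Set G)) :
    X ≤ Subgroup.centralizer (Q : Set G) := by
  haveI hQm : IsMulCommutative Q := IsCyclic.isMulCommutative
  have hd := Basics.inf_centralizer_inf_commutator_eq_bot X Q hXQ hcop
  have hle : ⁅Q, X⁆ ≤ Q := Subgroup.le_normalizer_iff_commutator_le_left.mp hXQ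
  by_cases h : ⁅Q, X⁆ = ⊥
  · exact Subgroup.le_centralizer_iff.mp (Subgroup.commutator_eq_bot_iff_le_centralizer.mp h)
  exfalso
  obtain ⟨c, hc, hco⟩ := exists_orderOf_eq (r := p) (hQ.to_le hle) h
  have he := eq_of_le_cyclic hQc (Subgroup.zpowers_le.mpr (hle hc)) hRQ (by rw [Nat.card_zpowers, hco, hR])
  have hR0 : R ≤ (⊥ : Subgroup G) :=
    hd ▸ le_inf (le_inf hRQ (Subgroup.le_centralizer_iff.mp hRX)) (he ▸ Subgroup.zpowers_le.mpr hc)
  rw [le_bot_iff.mp hR0, Subgroup.card_bot] at hR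
  exact hp.out.one_lt.ne hR

omit hp in
/-- An invariant line in a nontrivial invariant subgroup with cyclic Sylow subgroups. -/
theorem exists_invariant_line {D X : Subgroup G} (hXD : X ≤ Subgroup.normalizer (D : Set G))
    (hcop : (Nat.card X).Coprime (Nat.card D)) (hsol : Group.IsSolvable X) {q : ℕ} [hq : Fact q.Prime]
    (hqd : q ∣ Nat.card D) (hcyc : ∀ U : Subgroup G, IsPGroup q U → U ≤ D → IsCyclic U) :
    ∃ Y : Subgroup G, Y ≤ D ∧ Nat.card Y = q ∧ X ≤ Subgroup.normalizer (Y : Set G) := by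
  obtain ⟨T, hT, hXT⟩ := Basics.exists_invariant_isSylowIn X D hXD hcop (Or.inl hsol) q
  have hT1 : T ≠ ⊥ := fun e => by
    have h := hT.2
    rw [e, Subgroup.card_bot] at h
    exact (Nat.one_lt_pow (hq.out.factorization_pos_of_dvd Nat.card_pos.ne' hqd).ne' hq.out.one_lt).ne h
  obtain ⟨x, hx, hxo⟩ := exists_orderOf_eq hT.isPGroup hT1
  refine ⟨Subgroup.zpowers x, (Subgroup.zpowers_le.mpr hx).trans hT.1, by rw [Nat.card_zpowers, hxo], fun a ha => ?_⟩
  exact Subgroup.mem_normalizer_iff_map_conj_eq.mpr (eq_of_le_cyclic (hcyc T hT.isPGroup hT.1)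
    ((Subgroup.map_mono (Subgroup.zpowers_le.mpr hx)).trans
      (Subgroup.mem_normalizer_iff_map_conj_eq.mp (hXT ha)).le) (Subgroup.zpowers_le.mpr hx)
    (Subgroup.card_map_of_injective (MulAut.conj a).injective))

/-- Lines of `τ₃` primes are normal in a complement and lie in its derived group. -/
theorem line_normal_of_derived (hG : IsMinSimpleOddOrder G) {M E P : Subgroup G} (hM : IsCoatom M)
    (hE : IsComplIn E (Cfsg.sigmaCore M) M) (hps : p ∉ Cfsg.sigma M) (hp1 : PRankLE p 1 M) (hPE : P ≤ E)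
    (hP : Nat.card P = p) (hd : p ∣ Nat.card ↥⁅M, M⁆) :
    E ≤ Subgroup.normalizer (P : Set G) ∧ P ≤ ⁅E, E⁆ := by
  obtain ⟨S, hS, hPS⟩ := exists_sylowIn_ge (IsPGroup.of_card (n := 1) (hP.trans (pow_one p).symm)) hPE
  have hSd : S ≤ ⁅E, E⁆ :=
    sylow_le_derived_of_rank_one hG hE.1 hp1 (dvd_card_derived_compl hG hM hE hp.out hps hd) hS
  have hES : E ≤ Subgroup.normalizer (S : Set G) :=
    le_normalizer_sylowIn (derived_compl_commutative hG hM hE)
      (le_normalizer_commutator Subgroup.le_normalizer Subgroup.le_normalizer)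
      (isSylowIn_of_le hS hSd (Subgroup.commutator_le_self E))
  have hSc : IsCyclic S := isCyclic_of_pRankLE_one
    (prime_ne_two hG (hP ▸ Subgroup.card_subgroup_dvd_card P)) hp1 (hS.1.trans hE.1) hS.isPGroup
  exact ⟨fun e he => Subgroup.mem_normalizer_iff_map_conj_eq.mpr (eq_of_le_cyclic hSc
    ((Subgroup.map_mono hPS).trans (Subgroup.mem_normalizer_iff_map_conj_eq.mp (hES he)).le) hPS
    (Subgroup.card_map_of_injective (MulAut.conj e).injective)), hPS.trans hSd⟩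

/-- Burnside: a central Sylow subgroup does not meet the derived group. -/
theorem not_dvd_derived_of_central {E S : Subgroup G} (hS : IsSylowIn p E S)
    (hc : E ≤ Subgroup.centralizer (S : Set G)) : ¬ p ∣ Nat.card ↥⁅E, E⁆ := by
  obtain ⟨S₀, hS₀⟩ := hS.exists_sylow
  have hP : Subgroup.normalizer ((S₀ : Subgroup E) : Set E) ≤ Subgroup.centralizer ((S₀ : Subgroup E) : Set E) :=
    fun x _ => Subgroup.mem_centralizer_iff.mpr fun y hy => Subtype.ext
      (Subgroup.mem_centralizer_iff.mp (hc x.2) y (hS₀ ▸ ⟨y, hy, rfl⟩))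
  have hle : commutator E ≤ (MonoidHom.transferSylow S₀ hP).ker := by
    rw [commutator_def, Subgroup.commutator_le]
    intro a _ b _
    rw [MonoidHom.mem_ker, map_commutatorElement, commutatorElement_eq_one_iff_mul_comm]
    refine Subtype.ext (Subtype.ext ?_)
    have h := Subgroup.mem_centralizer_iff.mp (hP (Subgroup.le_normalizer
      ((MonoidHom.transferSylow S₀ hP) b).2)) _ ((MonoidHom.transferSylow S₀ hP) a).2
    exact congrArg Subtype.val h
  intro hd
  rw [← E.map_subtype_commutator, Subgroup.card_map_of_injective E.subtype_injective] at hd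
  exact MonoidHom.not_dvd_card_ker_transferSylow S₀ hP (hd.trans (Subgroup.card_dvd_of_le hle))

/-- A fixed element outside `σ(M)` can be moved into a complement. -/
theorem exists_fixed_in_compl {M E X : Subgroup G} (hE : IsComplIn E (Cfsg.sigmaCore M) M) (hXE : X ≤ E)
    (hps : p ∉ Cfsg.sigma M) {y : G} (hy : y ∈ M ⊓ Subgroup.centralizer (X : Set G)) (hyo : orderOf y = p) :
    ∃ e ∈ E ⊓ Subgroup.centralizer (X : Set G), orderOf e = p := by
  obtain ⟨a, ha, b, hb, hab⟩ := hE.2.2.2 y hy.1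
  have hMn : M ≤ Subgroup.normalizer (Cfsg.sigmaCore M : Set G) := le_normalizer_sigmaCore M
  have hac : a ∈ Subgroup.centralizer (X : Set G) := by
    rw [Subgroup.mem_centralizer_iff]
    intro x hx
    have hxy : x * y = y * x := Subgroup.mem_centralizer_iff.mp hy.2 x hx
    have h1 : a⁻¹ * (x * a * x⁻¹) ∈ Cfsg.sigmaCore M := by
      have e1 : a⁻¹ * (x * a * x⁻¹) = b * (x * b⁻¹ * x⁻¹) := by
        rw [show a = y * b⁻¹ by rw [hab]; group]
        calc (y * b⁻¹)⁻¹ * (x * (y * b⁻¹) * x⁻¹) = b * y⁻¹ * (x * y) * b⁻¹ * x⁻¹ := by group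
        _ = b * y⁻¹ * (y * x) * b⁻¹ * x⁻¹ := by rw [hxy]
        _ = b * (x * b⁻¹ * x⁻¹) := by group
      rw [e1]
      exact mul_mem hb ((Basics.conj_mem_iff_of_mem_normalizer (hMn (hE.1 (hXE hx)))).mpr (inv_mem hb))
    have h2 : a⁻¹ * (x * a * x⁻¹) ∈ E ⊓ Cfsg.sigmaCore M := Subgroup.mem_inf.mpr
      ⟨mul_mem (inv_mem ha) (mul_mem (mul_mem (hXE hx) ha) (inv_mem (hXE hx))), h1⟩
    rw [hE.2.2.1, Subgroup.mem_bot, inv_mul_eq_one] at h2
    calc x * a = x * a * x⁻¹ * x := by group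
    _ = a * x := by rw [← h2]
  have hyB : y ∈ Cfsg.sigmaCore M ⊔ Subgroup.zpowers a := by
    rw [hab]
    exact mul_mem (Subgroup.mem_sup_right (Subgroup.mem_zpowers a)) (Subgroup.mem_sup_left hb)
  have h1 : orderOf y ∣ Nat.card (Cfsg.sigmaCore M) * Nat.card (Subgroup.zpowers a) :=
    (Subgroup.orderOf_dvd_natCard _ hyB).trans
      (card_sup_dvd ((Subgroup.zpowers_le.mpr (hE.1 ha)).trans hMn))
  rw [hyo, Nat.card_zpowers] at h1
  have hdvd : p ∣ orderOf a := (hp.out.dvd_mul.mp h1).resolve_left (not_dvd_sigmaCore hp.out hps)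
  exact ⟨a ^ (orderOf a / p), pow_mem (Subgroup.mem_inf.mpr ⟨ha, hac⟩) _,
    orderOf_pow_orderOf_div (orderOf_pos a).ne' hdvd⟩

/-- A `t`-subgroup of `C(X)` sharing a fixed element of `M_σ` lies in `M`, as do the normalizers of its subgroups. -/
theorem fixed_pGroup_facts (hG : IsMinSimpleOddOrder G) {M X S : Subgroup G} (hM : IsCoatom M)
    (hps : p ∉ Cfsg.sigma M) (hp1 : PRankLE p 1 M) (hXM : X ≤ M) (hX : Nat.card X = p) {t : ℕ}
    [ht : Fact t.Prime] (hS : IsPGroup t S) (hSX : S ≤ Subgroup.centralizer (X : Set G)) {x : G}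
    (hxS : x ∈ S) (hxM : x ∈ Cfsg.sigmaCore M) (hxo : orderOf x = t) :
    S ≤ M ∧ ∀ U : Subgroup G, U ≤ S → U ≠ ⊥ → Subgroup.normalizer (U : Set G) ≤ M := by
  have htM : t ∈ Cfsg.sigma M :=
    piCoreOf_primes _ M ht.out (hxo ▸ Subgroup.orderOf_dvd_natCard _ hxM)
  have hnorm : ∀ z : G, z ∈ Cfsg.sigmaCore M → z ∈ S → orderOf z = t →
      Subgroup.normalizer ((Subgroup.zpowers z : Subgroup G) : Set G) ≤ M := fun z hzM hzS hzo =>
    normalizer_le_of_fixed hG hM hps hp1 hXM hX (by rw [Nat.card_zpowers, hzo])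
      (Subgroup.zpowers_le.mpr ⟨hzM, hSX hzS⟩)
  have hx1 : x ≠ 1 := fun e => by rw [e, orderOf_one] at hxo; exact ht.out.one_lt.ne hxo
  have hcen : ∀ z : G, Subgroup.centralizer ({z} : Set G) ≤
      Subgroup.normalizer ((Subgroup.zpowers z : Subgroup G) : Set G) := fun z => by
    rw [← Subgroup.centralizer_closure, ← Subgroup.zpowers_eq_closure]
    exact Subgroup.centralizer_le_normalizer _
  obtain ⟨z, hz, hzo, hzc⟩ := exists_central_mem hS le_rfl Subgroup.le_normalizer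
    (fun e => hx1 (Subgroup.mem_bot.mp (e ▸ hxS)))
  have hzM : z ∈ M := hnorm x hxM hxS hxo (hcen x (Subgroup.mem_centralizer_singleton_iff.mpr
    (Subgroup.mem_centralizer_singleton_iff.mp (hzc hxS)).symm))
  have hzσ : z ∈ Cfsg.sigmaCore M :=
    pGroup_le_sigmaCore hG hM htM (IsPGroup.of_card (n := 1) (by rw [Nat.card_zpowers, hzo, pow_one]))
      (Subgroup.zpowers_le.mpr hzM) (Subgroup.mem_zpowers z)
  have hSM : S ≤ M := hzc.trans ((hcen z).trans (hnorm z hzσ hz hzo))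
  refine ⟨hSM, fun U hU hU1 => ?_⟩
  obtain ⟨u, hu, huo⟩ := exists_orderOf_eq (hS.to_le hU) hU1
  have hSσ : S ≤ Cfsg.sigmaCore M := pGroup_le_sigmaCore hG hM htM hS hSM
  have hUc : IsCyclic U :=
    cyclic_fixed hG hM hps hp1 hXM hX htM (hS.to_le hU) (hU.trans hSM) (hU.trans hSX)
  refine le_trans (fun g hg => ?_) (hnorm u (hSσ (hU hu)) (hU hu) huo)
  exact Subgroup.mem_normalizer_iff_map_conj_eq.mpr (eq_of_le_cyclic hUc
    ((Subgroup.map_mono (Subgroup.zpowers_le.mpr hu)).trans (Subgroup.mem_normalizer_iff_map_conj_eq.mp hg).le)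
    (Subgroup.zpowers_le.mpr hu) (Subgroup.card_map_of_injective (MulAut.conj g).injective))

/-- Fixed elements of `M_σ` and `N_σ` give a fixed element of one prime in the other subgroup. -/
theorem exists_crossed_fixed (hG : IsMinSimpleOddOrder G) {M N X : Subgroup G} (hM : IsCoatom M) (hN : IsCoatom N)
    (hpM : p ∉ Cfsg.sigma M) (hp1M : PRankLE p 1 M) (hXM : X ≤ M)
    (hpN : p ∉ Cfsg.sigma N) (hp1N : PRankLE p 1 N) (hXN : X ≤ N) (hX : Nat.card X = p)
    {t s : ℕ} [ht : Fact t.Prime] [hs : Fact s.Prime] {x y : G}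
    (hx : x ∈ Cfsg.sigmaCore M ⊓ Subgroup.centralizer (X : Set G)) (hxo : orderOf x = t)
    (hy : y ∈ Cfsg.sigmaCore N ⊓ Subgroup.centralizer (X : Set G)) (hyo : orderOf y = s) :
    (∃ y' ∈ M ⊓ Subgroup.centralizer (X : Set G), orderOf y' = s) ∨
      ∃ x' ∈ N ⊓ Subgroup.centralizer (X : Set G), orderOf x' = t := by
  set Z := Subgroup.centralizer (X : Set G) with hZdef
  have hZ : Z ≠ ⊤ := fun e => normalizer_ne_top hG
    (fun e' => by rw [e', Subgroup.card_bot] at hX; exact hp.out.one_lt.ne hX)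
    (fun e' => hM.1 (top_le_iff.mp (e' ▸ hXM))) (top_le_iff.mp (e ▸ Subgroup.centralizer_le_normalizer _))
  obtain ⟨F, hFZ, hFπ, hFf⟩ := exists_hall_in hG hZ {t, s}
  have hsy : ∀ (W : Subgroup G) (r : ℕ) (_ : Fact r.Prime), IsCoatom W → p ∉ Cfsg.sigma W → PRankLE p 1 W →
      X ≤ W → r ∈ ({t, s} : Set ℕ) → ∀ z : G, z ∈ Cfsg.sigmaCore W ⊓ Z → orderOf z = r →
      ∃ c ∈ Z, ∃ S : Subgroup G, IsSylowIn r F S ∧ c * z * c⁻¹ ∈ S ∧
        ∀ U : Subgroup G, U ≤ S → U ≠ ⊥ → Subgroup.normalizer (U : Set G) ≤ MulAut.conj c • W := by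
    intro W r hr hW hpW hp1W hXW hrπ z hz hzo
    obtain ⟨S₁, hS₁, hzS⟩ := exists_sylowIn_ge (isPGroup_zpowers_of_pow (r := r) (n := 1)
      (by rw [pow_one, ← hzo, pow_orderOf_eq_one])) (Subgroup.zpowers_le.mpr hz.2)
    obtain ⟨S, hS⟩ := exists_sylowIn (q := r) F
    obtain ⟨c, hc, ec⟩ := hS₁.exists_conj (sylowIn_of_hall_in hFZ (hFf r hr.out hrπ) hS)
    obtain ⟨-, hN'⟩ := fixed_pGroup_facts hG hW hpW hp1W hXW hX hS₁.isPGroup hS₁.1
      (hzS (Subgroup.mem_zpowers z)) hz.1 hzo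
    refine ⟨c, hc, S, hS, ec ▸ Basics.conj_mem_conj_smul (hzS (Subgroup.mem_zpowers z)), fun U hU hU1 => ?_⟩
    have h1 : (MulAut.conj c)⁻¹ • U ≤ S₁ := by
      rw [← ec] at hU
      have h := Subgroup.pointwise_smul_le_pointwise_smul_iff (a := (MulAut.conj c)⁻¹).mpr hU
      rwa [inv_smul_smul] at h
    have h2 : (MulAut.conj c)⁻¹ • U ≠ ⊥ := fun e => hU1 (by
      have h := congrArg (MulAut.conj c • ·) e
      simpa using h)
    have h3 := Subgroup.pointwise_smul_le_pointwise_smul_iff (a := MulAut.conj c).mpr (hN' _ h1 h2)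
    rwa [← Basics.normalizer_conj_smul, smul_inv_smul] at h3
  obtain ⟨d, hd, S, hS, hxS, hSM⟩ := hsy M t inferInstance hM hpM hp1M hXM (by simp) x hx hxo
  obtain ⟨e, he, S', hS', hyS, hSN⟩ := hsy N s inferInstance hN hpN hp1N hXN (by simp) y hy hyo
  haveI : Group.IsSolvable F := isSolvable_of_ne_top hG fun e' => hZ (top_le_iff.mp (e' ▸ hFZ))
  haveI : Nontrivial F := (Subgroup.nontrivial_iff_ne_bot F).mpr fun e' => by
    have h1 := hS.1 hxS
    rw [e', Subgroup.mem_bot, conj_eq_one_iff] at h1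
    rw [h1, orderOf_one] at hxo
    exact ht.out.one_lt.ne hxo
  obtain ⟨r, hr1⟩ : ∃ r : Nat.Primes, coreP (r : ℕ) F ≠ ⊥ := by
    by_contra h
    push Not at h
    refine Basics.fittingSubgroup_ne_bot (G := F) ((Subgroup.map_eq_bot_iff_of_injective _ F.subtype_injective).mp ?_)
    change Cfsg.fittingOf F = ⊥
    rw [fittingOf_eq_iSup]
    exact iSup_eq_bot.mpr h
  haveI := Fact.mk r.2
  have hrd : (r : ℕ) ∣ Nat.card F :=
    ((isPGroup_coreP (r : ℕ) F).card_eq_or_dvd.resolve_left fun e' => hr1 (Subgroup.card_eq_one.mp e')).trans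
      (Subgroup.card_dvd_of_le (coreP_le _ F))
  rcases hFπ r r.2 hrd with h | h
  · left
    subst h
    have hU := le_sylowIn_of_normalized (isPGroup_coreP _ F) (coreP_le _ F) (le_normalizer_coreP _ F) hS
    have hFM : F ≤ MulAut.conj d • M := (le_normalizer_coreP _ F).trans (hSM _ hU hr1)
    have h2 := Basics.mem_conj_smul.mp (hFM (hS'.1 hyS))
    refine ⟨_, Subgroup.mem_inf.mpr ⟨h2, mul_mem (mul_mem (inv_mem hd) (mul_mem (mul_mem he hy.2) (inv_mem he))) hd⟩, ?_⟩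
    rw [show d⁻¹ * (e * y * e⁻¹) * d = (d⁻¹ * e) * y * (d⁻¹ * e)⁻¹ by group, orderOf_conj_elt, hyo]
  · right
    subst h
    have hU := le_sylowIn_of_normalized (isPGroup_coreP _ F) (coreP_le _ F) (le_normalizer_coreP _ F) hS'
    have hFN : F ≤ MulAut.conj e • N := (le_normalizer_coreP _ F).trans (hSN _ hU hr1)
    have h2 := Basics.mem_conj_smul.mp (hFN (hS.1 hxS))
    refine ⟨_, Subgroup.mem_inf.mpr ⟨h2, mul_mem (mul_mem (inv_mem he) (mul_mem (mul_mem hd hx.2) (inv_mem hd))) he⟩, ?_⟩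
    rw [show e⁻¹ * (d * x * d⁻¹) * e = (e⁻¹ * d) * x * (e⁻¹ * d)⁻¹ by group, orderOf_conj_elt, hxo]

end Cfsg.Agent.OddLocal
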