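import Cfsg.Agent.Lib.OddLocal.KappaP1
import Cfsg.Agent.Lib.OddLocal.HallFusion
import Cfsg.Agent.Lib.OddLocal.KappaHat
import Cfsg.Agent.Lib.OddLocal.FitFacts
import Cfsg.Agent.Lib.OddLocal.Decomp
import Cfsg.Agent.S1355
import Cfsg.Agent.S1356
import Cfsg.Agent.S1364
import Cfsg.Agent.S1365

/-! Maximal subgroups of type `P` (BG Theorem I). -/

set_option autoImplicit false
set_option linter.unusedSectionVars false
set_option linter.style.haveILetI false

namespace Cfsg.Agent.OddLocal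

open scoped commutatorElement Pointwise
open Cfsg
open Basics (IsSylowIn)

universe u

variable {G : Type u} [Group G] [Finite G]

theorem fittingHallOf_le_fittingOf (M : Subgroup G) : Cfsg.fittingHallOf M ≤ Cfsg.fittingOf M :=
  Subgroup.map_mono (sSup_le fun N hN => haveI := hN.1; Basics.le_fittingSubgroup hN.2.1)

theorem isNilpotent_fittingHallOf (M : Subgroup G) : Group.IsNilpotent (Cfsg.fittingHallOf M) := by
  haveI := isNilpotent_fittingOf M
  exact Group.nilpotent_of_mulEquiv (Subgroup.subgroupOfEquivOfLe (fittingHallOf_le_fittingOf M))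

/-- `M_F` is characteristic. -/
theorem fittingHall_characteristic (M : Type u) [Group M] [Finite M] : (Cfsg.fittingHall M).Characteristic := by
  rw [Subgroup.characteristic_iff_map_le]
  intro φ
  rw [Cfsg.fittingHall, Subgroup.map_le_iff_le_comap]
  refine sSup_le fun N hN => ?_
  rw [← Subgroup.map_le_iff_le_comap]
  refine le_sSup ⟨hN.1.map _ φ.surjective, ?_, ?_⟩
  · haveI := hN.2.1
    exact Group.nilpotent_of_mulEquiv (N.equivMapOfInjective φ.toMonoidHom φ.injective)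
  · rw [Subgroup.card_map_of_injective φ.injective]
    rw [Subgroup.index_map_of_bijective φ.bijective]
    exact hN.2.2

/-- A normal nilpotent Hall subgroup lies in `M_F`. -/
theorem le_fittingHallOf_of_hall {M N : Subgroup G} (hNM : N ≤ M) (hn : M ≤ Subgroup.normalizer (N : Set G))
    (hN : Group.IsNilpotent N) (hc : (Nat.card N).Coprime (N.relIndex M)) : N ≤ Cfsg.fittingHallOf M := by
  rw [← Subgroup.map_subgroupOf_eq_of_le hNM]
  refine Subgroup.map_mono (le_sSup ⟨(Subgroup.normal_subgroupOf_iff_le_normalizer hNM).mpr hn,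
    Group.nilpotent_of_mulEquiv (Subgroup.subgroupOfEquivOfLe hNM).symm, ?_⟩)
  rw [Basics.card_subgroupOf hNM]
  exact hc

/-- The elements of `M'` fixed by an element of `K#`. -/
theorem derived_inf_centralizer (hG : IsMinSimpleOddOrder G) {M K U : Subgroup G} (hM : IsCoatom M)
    (hKU : IsSigmaDecomposition M K U) (hK1 : K ≠ ⊥) {x : G} (hx : x ∈ K) (hx1 : x ≠ 1) :
    ⁅M, M⁆ ⊓ Subgroup.centralizer ({x} : Set G) = Cfsg.sigmaCore M ⊓ Subgroup.centralizer (K : Set G) := by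
  obtain ⟨hder, -⟩ := S1365.result hG M hM K U hKU hK1
  obtain ⟨-, hfree, -, -⟩ := decomp_free hG hM hKU hK1
  have hUM : U ≤ M := hKU.compl.1
  refine le_antisymm (fun v hv => ?_) (le_inf ((inf_le_left.trans le_sup_right).trans hder.ge)
    (inf_le_right.trans (Subgroup.centralizer_le (by simpa using hx))))
  obtain ⟨hvD, hvC⟩ := Subgroup.mem_inf.mp hv
  rw [hder, sup_comm] at hvD
  obtain ⟨s, hs, u, hu, rfl⟩ := (Basics.mem_sup_of_le_normalizer (hUM.trans (le_normalizer_sigmaCore M))).mp hvD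
  have e : x * s * x⁻¹ * (x * u * x⁻¹) = s * u := by
    calc x * s * x⁻¹ * (x * u * x⁻¹) = x * (s * u) * x⁻¹ := by group
      _ = s * u * x * x⁻¹ := by rw [Subgroup.mem_centralizer_singleton_iff.mp hvC]
      _ = s * u := by group
  have hdis : Disjoint (Cfsg.sigmaCore M) U := Subgroup.disjoint_of_coprime_natCard
    (Nat.coprime_of_dvd fun q hq h1 h2 => (decomp_primes hG hM hKU hq h2).1 (piCoreOf_primes _ M hq h1))
  have h1 : s⁻¹ * (x * s * x⁻¹) = u * (x * u * x⁻¹)⁻¹ := by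
    calc s⁻¹ * (x * s * x⁻¹) = s⁻¹ * (x * s * x⁻¹ * (x * u * x⁻¹)) * (x * u * x⁻¹)⁻¹ := by group
      _ = _ := by rw [e]; group
  have h2 : s⁻¹ * (x * s * x⁻¹) = 1 := Subgroup.disjoint_def.mp hdis
    (mul_mem (inv_mem hs) ((Subgroup.mem_normalizer_iff.mp (le_normalizer_sigmaCore M (hKU.hall.1 hx)) s).mp hs))
    (h1 ▸ mul_mem hu (inv_mem ((Subgroup.mem_normalizer_iff.mp (hKU.normal hx) u).mp hu)))
  have hu1 : u ∈ U ⊓ Subgroup.centralizer ({x} : Set G) := Subgroup.mem_inf.mpr ⟨hu,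
    Subgroup.mem_centralizer_singleton_iff.mpr (mul_inv_eq_iff_eq_mul.mp (by
      rw [h2] at h1
      exact (mul_inv_eq_one.mp h1.symm).symm)).symm⟩
  rw [hfree x hx hx1, Subgroup.mem_bot] at hu1
  have hs1 : s ∈ Cfsg.sigmaCore M ⊓ Subgroup.centralizer ({x} : Set G) := Subgroup.mem_inf.mpr ⟨hs,
    Subgroup.mem_centralizer_singleton_iff.mpr (mul_inv_eq_iff_eq_mul.mp (inv_mul_eq_one.mp h2).symm).symm⟩
  rw [kappa_semiprime hG hM hKU.hall hx hx1] at hs1
  rwa [hu1, mul_one]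

/-- `K` and `K*` form a self-normalizing cyclic pair. -/
theorem DualPair.selfNormalizing {M K L : Subgroup G} (h : DualPair M K L) (hG : IsMinSimpleOddOrder G) :
    IsSelfNormalizingCyclic K (Cfsg.sigmaCore M ⊓ Subgroup.centralizer (K : Set G)) := by
  refine ⟨h.hK1, kappa_fixed_ne_bot hG h.hM h.hK h.hK1,
    (Subgroup.disjoint_of_coprime_natCard (kappa_coprime_kstar h.hK)).eq_bot,
    fun a ha b hb => Subgroup.mem_centralizer_iff.mp hb.2 a ha, (h.facts hG).2.2, fun X hX hne => ?_⟩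
  refine le_antisymm (fun g hg => ?_) fun g hg => Subgroup.mem_set_normalizer_iff.mpr fun x => ⟨fun hx => ?_, fun hx => ?_⟩
  · obtain ⟨x, hx⟩ := hne
    exact h.hat_rigid hG (hX hx) (hX ((Subgroup.mem_set_normalizer_iff.mp hg x).mp hx))
  · rwa [h.hat_conj hG hg (hX hx).1]
  · have e := h.hat_conj hG (inv_mem hg) (hX hx).1
    rw [show g⁻¹ * (g * x * g⁻¹) * g⁻¹⁻¹ = x by group] at e
    rwa [← e] at hx

/-- The data of type `P`. -/
theorem typeP_data (hG : IsMinSimpleOddOrder G) {M K U V : Subgroup G} (hM : IsCoatom M)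
    (hKU : IsSigmaDecomposition M K U) (hK1 : K ≠ ⊥) (hV : IsComplIn (Cfsg.fittingHallOf M) V ⁅M, M⁆)
    (hVn : Group.IsNilpotent V) (hKV : K ≤ Subgroup.normalizer (V : Set G)) :
    IsTypePWith M K V (Cfsg.sigmaCore M ⊓ Subgroup.centralizer (K : Set G)) := by
  obtain ⟨hder, hA2⟩ := S1365.result hG M hM K U hKU hK1
  obtain ⟨h2, hF, hFM⟩ := S1356.result hG M hM
  obtain ⟨-, -, hAF, hnc⟩ := S1364.result hG M hM K U hKU hK1
  obtain ⟨L, hL, -, hKL, hs, -⟩ := exists_dual hG hM hKU.hall hK1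
  have hd : DualPair M K L := ⟨hM, hL, hKU.hall, hK1, hKL, hs⟩
  have hκ : (Cfsg.kappa M).Nonempty := by
    obtain ⟨r, hr, hrd⟩ := Nat.exists_prime_and_dvd fun e => hK1 (Subgroup.card_eq_one.mp e)
    exact ⟨r, hKU.hall.2.1 r hr hrd⟩
  have hUM : U ≤ M := hKU.compl.1
  have hWM : Cfsg.sigmaCore M ≤ M := sigmaCore_le M
  refine ⟨hK1, hKU.cyclic, Nat.coprime_of_dvd fun q hq h1 h2' => hKU.hall.2.2 q hq (hKU.hall.2.1 q hq h1) h2',
    ⟨Subgroup.commutator_le_self M, hKU.hall.1, ?_, fun m hm => ?_⟩, hVn, hKV, hV, hnc, ?_, by rw [hF, sup_comm],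
    hFM hκ, le_inf hAF hA2, fun x hx hx1 => derived_inf_centralizer hG hM hKU hK1 hx hx1, hd.selfNormalizing hG⟩
  · refine (Subgroup.disjoint_of_coprime_natCard (Nat.coprime_of_dvd fun q hq h1 h2 => ?_)).eq_bot
    have hk := hKU.hall.2.1 q hq h2
    rw [kappa_eq_tau1 hG hM hKU.hall hK1] at hk
    exact hk.2.2.2.1 h1
  · obtain ⟨a, ha, v, hv, rfl⟩ := hKU.compl.2.2.2 m hm
    rw [sup_comm] at hv
    obtain ⟨s, hs, c, hc, rfl⟩ := (Basics.mem_sup_of_le_normalizer (hKU.hall.1.trans (le_normalizer_sigmaCore M))).mp hv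
    exact ⟨a * s, hder ▸ mul_mem (Subgroup.mem_sup_left ha) (Subgroup.mem_sup_right hs), c, hc, (mul_assoc _ _ _).symm⟩
  · rw [sup_comm, ← hF]
    exact h2

/-- Type `P` data force `κ(M) ≠ ∅`. -/
theorem kappa_of_typeP (hG : IsMinSimpleOddOrder G) {M W₁ V W₂ : Subgroup G} (hM : IsCoatom M)
    (h : IsTypePWith M W₁ V W₂) : (Cfsg.kappa M).Nonempty := by
  obtain ⟨r, hr, hrd⟩ := Nat.exists_prime_and_dvd fun e => h.W₁_ne (Subgroup.card_eq_one.mp e)
  haveI := Fact.mk hr
  obtain ⟨x₀, hx⟩ := exists_prime_orderOf_dvd_card' r hrd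
  rw [← Subgroup.orderOf_coe] at hx
  set x : G := (x₀ : G) with hxdef
  have hx1 : x ≠ 1 := fun e => hr.one_lt.ne (by rw [← hx, e, orderOf_one])
  obtain ⟨y, hy, hy1⟩ := (Subgroup.bot_or_exists_ne_one W₂).resolve_left h.selfNormalizing.2.1
  have hyσ : y ∈ Cfsg.sigmaCore M := fittingHallOf_le_sigmaCore hG hM (h.W₂_le hy).1
  have hxM : x ∈ M := h.W₁_compl.2.1 x₀.2
  have hxy : Commute x y := h.selfNormalizing.2.2.2.1 x x₀.2 y hy
  have hWd : W₁.relIndex M = Nat.card ↥⁅M, M⁆ := relIndex_right_of_isComplIn h.W₁_compl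
  have hrD : ¬ r ∣ Nat.card ↥⁅M, M⁆ := fun hd => hr.one_lt.ne'
    (Nat.eq_one_of_dvd_coprimes h.W₁_hall hrd (hWd.symm ▸ hd))
  have hrσ : r ∉ Cfsg.sigma M := fun hs => hrD ((hx ▸ Subgroup.orderOf_dvd_natCard _
    (sigma_le_core hG hM (Subgroup.zpowers_le.mpr hxM) (fun q hq hd => by
      rw [Nat.card_zpowers, hx] at hd; rwa [(Nat.prime_dvd_prime_iff_eq hq hr).mp hd])
      (Subgroup.mem_zpowers x))).trans (Subgroup.card_dvd_of_le (S1355.result hG M hM).2.2.1))
  rcases fixed_dichotomy hG hM hyσ hy1 hxM hxy hx1 (fun q hq hd => by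
    rw [hx] at hd; rwa [(Nat.prime_dvd_prime_iff_eq hq hr).mp hd]) with ⟨h1, -⟩ | ⟨h1, -⟩
  · exact ⟨r, h1 r hr hx.symm.dvd⟩
  exfalso
  obtain ⟨-, -, -, hnr⟩ := h1 r hr hx.symm.dvd
  obtain ⟨S, hS⟩ := exists_sylowIn (q := r) W₁
  have hSM : IsSylowIn r M S := ⟨hS.1.trans h.W₁_compl.2.1, by
    rw [hS.2, card_of_isComplIn h.W₁_compl, Nat.factorization_mul Nat.card_pos.ne' Nat.card_pos.ne', Finsupp.add_apply,
      Nat.factorization_eq_zero_of_not_dvd hrD, zero_add]⟩
  exact hnr (pRankLE_one_of_cyclic_sylow hSM (haveI := h.W₁_cyclic; Subgroup.isCyclic_of_le hS.1))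

/-- The complement of `M_F` in `M_σ` when `M_σ` is not nilpotent. -/
theorem exists_fittingHall_compl (hG : IsMinSimpleOddOrder G) {M K : Subgroup G} (hM : IsCoatom M)
    (hK : IsPiHallOf (Cfsg.kappa M) K M) (hn : ¬ Group.IsNilpotent (Cfsg.sigmaCore M)) :
    ∃ V : Subgroup G, V ≠ ⊥ ∧ IsComplIn (Cfsg.fittingHallOf M) V (Cfsg.sigmaCore M) ∧ Group.IsNilpotent V ∧
      K ≤ Subgroup.normalizer (V : Set G) ∧ Subgroup.normalizer (V : Set G) ≤ M := by
  classical
  obtain ⟨q, hq, -, -, -, -, -, Q, D, hQ, hQn, hQW, -, hDW, hKD, hqD, hWeq, -, hDnil, -⟩ := p1_full hG hM hK hn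
  haveI := Fact.mk hq
  set W := Cfsg.sigmaCore M with hW
  set H := Cfsg.fittingHallOf M with hHdef
  have hWM : W ≤ M := sigmaCore_le M
  have hHW : H ≤ W := fittingHallOf_le_sigmaCore hG hM
  have hQH : Q ≤ H := sylow_le_fittingHallOf hQ hQn
  have hHM : H ≤ M := hHW.trans hWM
  have hHall : ∀ s : ℕ, s.Prime → s ∣ Nat.card H → ¬ s ∣ H.relIndex M := fun s hs h1 h2 =>
    hs.one_lt.ne' (Nat.eq_one_of_dvd_coprimes (fittingHallOf_hall M) h1 h2)
  haveI := hDnil
  haveI : Group.IsSolvable D := Basics.isSolvable_of_le (hDW.trans hWM) (isSolvable_of_ne_top hG hM.1)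
  obtain ⟨B₀, hB₀, hB₀π⟩ := Basics.exists_hall_pi (G := D) {s : ℕ | ¬ s ∣ Nat.card H}
  set B := B₀.map D.subtype with hBdef
  have hBD : B ≤ D := Subgroup.map_subtype_le _
  have hBc : Nat.card B = Nat.card B₀ := Subgroup.card_map_of_injective D.subtype_injective
  have hBi : B.relIndex D = B₀.index := by
    rw [Subgroup.relIndex, hBdef, ← Subgroup.comap_subtype,
      Subgroup.comap_map_eq_self_of_injective D.subtype_injective]
  have hBidx : ∀ s : ℕ, s.Prime → s ∣ Nat.card B → ¬ s ∣ B.relIndex D := fun s hs h1 h2 =>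
    hs.one_lt.ne' (Nat.eq_one_of_dvd_coprimes hB₀ (hBc ▸ h1) (hBi ▸ h2))
  have hDB : D ≤ Subgroup.normalizer (B : Set G) := hall_normal_of_nilpotent hDnil hBD hBidx
  have hmemB : ∀ {Z : Subgroup G}, Z ≤ D → (∀ s : ℕ, s.Prime → s ∣ Nat.card Z → ¬ s ∣ Nat.card H) → Z ≤ B := by
    intro Z hZ h
    refine le_of_coprime_index hBD hDB hBidx hZ fun s hs hd => ?_
    rw [hBc]
    exact ((hB₀π s hs (hd.trans (Subgroup.card_dvd_of_le hZ))).1).mpr (h s hs hd)
  have hBπ : ∀ s : ℕ, s.Prime → s ∣ Nat.card B → ¬ s ∣ Nat.card H := fun s hs hd =>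
    ((hB₀π s hs (hd.trans (Subgroup.card_dvd_of_le hBD))).1).mp (hBc ▸ hd)
  have hKB : K ≤ Subgroup.normalizer (B : Set G) := by
    intro k hk
    rw [Subgroup.mem_normalizer_iff_map_conj_eq]
    refine Subgroup.eq_of_le_of_card_ge (hmemB ?_ fun s hs hd => hBπ s hs ?_)
      (Subgroup.card_map_of_injective (MulAut.conj k).injective).ge
    · exact (Subgroup.map_mono hBD).trans (Subgroup.mem_normalizer_iff_map_conj_eq.mp (hKD hk)).le
    · rwa [Subgroup.card_map_of_injective (MulAut.conj k).injective] at hd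
  have hDHB : D ≤ H ⊔ B := le_of_sylows fun s hs hsd => by
    haveI := Fact.mk hs
    obtain ⟨S, hS⟩ := exists_sylowIn (q := s) D
    refine ⟨S, hS, ?_⟩
    have hSs : ∀ t : ℕ, t.Prime → t ∣ Nat.card S → t = s := fun t ht hd => by
      obtain ⟨j, hj⟩ := IsPGroup.iff_card.mp hS.isPGroup
      rw [hj] at hd
      exact (Nat.prime_dvd_prime_iff_eq ht hs).mp (ht.dvd_of_dvd_pow hd)
    by_cases hsH : s ∣ Nat.card H
    · exact (le_of_coprime_index hHM (le_normalizer_fittingHallOf M) hHall ((hS.1.trans hDW).trans hWM)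
        fun t ht hd => (hSs t ht hd).symm ▸ hsH).trans le_sup_left
    · exact (hmemB hS.1 fun t ht hd => (hSs t ht hd).symm ▸ hsH).trans le_sup_right
  have hBN : B ≤ Subgroup.normalizer (H : Set G) :=
    ((hBD.trans hDW).trans hWM).trans (le_normalizer_fittingHallOf M)
  have hcompl : IsComplIn H B W := by
    refine ⟨hHW, hBD.trans hDW, (Subgroup.disjoint_of_coprime_natCard
      (Nat.coprime_of_dvd fun s hs h1 h2 => hBπ s hs h2 h1)).eq_bot, fun m hm => ?_⟩
    rw [hWeq] at hm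
    exact (Basics.mem_sup_of_le_normalizer hBN).mp (sup_le (hQH.trans le_sup_left) hDHB hm)
  have hB1 : B ≠ ⊥ := fun e => hn (by
    rw [show W = H from le_antisymm (hWeq.le.trans (sup_le hQH (hDHB.trans (by rw [e, sup_bot_eq])))) hHW]
    exact isNilpotent_fittingHallOf M)
  haveI hBnil : Group.IsNilpotent B := Group.nilpotent_of_mulEquiv (Subgroup.subgroupOfEquivOfLe hBD)
  refine ⟨B, hB1, hcompl, hBnil, hKB, ?_⟩
  obtain ⟨s, hs, hsd⟩ := Nat.exists_prime_and_dvd fun e => hB1 (Subgroup.card_eq_one.mp e)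
  haveI := Fact.mk hs
  obtain ⟨S, hS⟩ := exists_sylowIn (q := s) B
  obtain ⟨P, hP⟩ := hS.exists_sylow
  haveI hPn : (P : Subgroup B).Normal :=
    Sylow.normal_of_normalizerCondition Group.normalizerCondition_of_isNilpotent P
  haveI hPc : (P : Subgroup B).Characteristic := P.characteristic_of_normal hPn
  have hsσ : s ∈ Cfsg.sigma M := piCoreOf_primes _ M hs (hsd.trans (Subgroup.card_dvd_of_le (hBD.trans hDW)))
  have hSM : IsSylowIn s M S := by
    refine ⟨hS.1.trans ((hBD.trans hDW).trans hWM), ?_⟩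
    rw [hS.2, ← hallOf_factorization (sigmaCore_hall hG hM).1 hs hsσ, card_of_isComplIn hcompl,
      Nat.factorization_mul Nat.card_pos.ne' Nat.card_pos.ne', Finsupp.add_apply,
      Nat.factorization_eq_zero_of_not_dvd (hBπ s hs hsd), zero_add]
  obtain ⟨P', hP'⟩ := hSM.exists_sylow
  refine le_trans ?_ (hP' ▸ sigma_normalizer_le hG hM hsσ P' : Subgroup.normalizer (S : Set G) ≤ M)
  rw [← hP]
  exact normalizer_le_normalizer_map_char B _

end Cfsg.Agent.OddLocal

namespace Cfsg.Agent.OddLocal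

open scoped commutatorElement Pointwise
open Cfsg

universe v

variable {G : Type v} [Group G] [Finite G]

/-- Complements of a normal Hall subgroup are conjugate. -/
theorem compl_conj {H V B W : Subgroup G} (hW : Group.IsSolvable W) (hc : (Nat.card H).Coprime (H.relIndex W))
    (hV : IsComplIn H V W) (hB : IsComplIn H B W) :
    ∃ w ∈ W, V = B.map (MulAut.conj w).toMonoidHom := by
  haveI := hW
  have hcV : Nat.card V = H.relIndex W := (relIndex_left_of_isComplIn hV).symm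
  have hcB : Nat.card B = H.relIndex W := (relIndex_left_of_isComplIn hB).symm
  have hidx : (B.subgroupOf W).index = Nat.card H := relIndex_right_of_isComplIn hB
  obtain ⟨w, hw⟩ := Basics.exists_le_conj_hall (H := B.subgroupOf W) (K := V.subgroupOf W)
    (by rw [hidx, Basics.card_subgroupOf hB.2.1, hcB]; exact hc.symm)
    (by rw [hidx, Basics.card_subgroupOf hV.2.1, hcV]; exact hc.symm)
  refine ⟨w, w.2, Subgroup.eq_of_le_of_card_ge (fun d hd => ?_) ?_⟩
  · obtain ⟨e, he, ee⟩ := hw (show (⟨d, hV.2.1 hd⟩ : W) ∈ V.subgroupOf W from hd)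
    exact ⟨e, he, congrArg Subtype.val ee⟩
  · rw [Subgroup.card_map_of_injective (MulAut.conj (w : G)).injective, hcV, hcB]

/-- Conjugation transports `N(V) ≤ M`. -/
theorem normalizer_le_conj {V M : Subgroup G} {w : G} (hw : w ∈ M) (h : Subgroup.normalizer (V : Set G) ≤ M) :
    Subgroup.normalizer ((V.map (MulAut.conj w).toMonoidHom : Subgroup G) : Set G) ≤ M := fun v hv => by
  have h2 := conj_le_normalizer_conj (le_refl (Subgroup.normalizer
    ((V.map (MulAut.conj w).toMonoidHom : Subgroup G) : Set G))) w⁻¹ (Subgroup.mem_map_of_mem _ hv)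
  rw [map_conj_map_conj, inv_mul_cancel, map_conj_one] at h2
  have h3 := h h2
  simp only [MulEquiv.coe_toMonoidHom, MulAut.conj_apply, inv_inv] at h3
  rw [show v = w * (w⁻¹ * v * w) * w⁻¹ by group]
  exact mul_mem (mul_mem hw h3) (inv_mem hw)

end Cfsg.Agent.OddLocal
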