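import Cfsg.Agent.Lib.OddLocal.KappaDual

/-! The subgroup `Z = K K*`. -/

set_option autoImplicit false
set_option linter.unusedSectionVars false
set_option linter.style.haveILetI false

namespace Cfsg.Agent.OddLocal

open scoped commutatorElement Pointwise
open Cfsg
open Basics (IsSylowIn)

universe u

variable {G : Type u} [Group G] [Finite G]

/-- `K*` is centralized, so normalized, by `K`. -/
theorem kappa_le_normalizer_kstar (M K : Subgroup G) :
    K ≤ Subgroup.normalizer ((Cfsg.sigmaCore M ⊓ Subgroup.centralizer (K : Set G) : Subgroup G) : Set G) := fun _ hk =>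
  Subgroup.centralizer_le_normalizer _ (Subgroup.mem_centralizer_iff.mpr fun _ hb =>
    (Subgroup.mem_centralizer_iff.mp hb.2 _ hk).symm)

theorem kappa_coprime_kstar {M K : Subgroup G} (hK : IsPiHallOf (Cfsg.kappa M) K M) :
    (Nat.card K).Coprime (Nat.card ↥(Cfsg.sigmaCore M ⊓ Subgroup.centralizer (K : Set G))) :=
  Nat.coprime_of_dvd fun q hq h1 h2 => (hK.2.1 q hq h1).2.2.1
    (piCoreOf_primes _ M hq (h2.trans (Subgroup.card_dvd_of_le inf_le_left)))

/-- Elements of `Z` factor as commuting products. -/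
theorem mem_Z {M K : Subgroup G} {z : G} (hz : z ∈ K ⊔ (Cfsg.sigmaCore M ⊓ Subgroup.centralizer (K : Set G))) :
    ∃ k ∈ K, ∃ a ∈ Cfsg.sigmaCore M ⊓ Subgroup.centralizer (K : Set G), z = k * a ∧ Commute k a := by
  rw [sup_comm] at hz
  obtain ⟨a, ha, k, hk, rfl⟩ := (Basics.mem_sup_of_le_normalizer (kappa_le_normalizer_kstar M K)).mp hz
  exact ⟨k, hk, a, ha, (Subgroup.mem_centralizer_iff.mp ha.2 k hk).symm, Subgroup.mem_centralizer_iff.mp ha.2 k hk⟩

theorem card_Z {M K : Subgroup G} (hK : IsPiHallOf (Cfsg.kappa M) K M) :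
    Nat.card ↥(K ⊔ (Cfsg.sigmaCore M ⊓ Subgroup.centralizer (K : Set G))) =
      Nat.card K * Nat.card ↥(Cfsg.sigmaCore M ⊓ Subgroup.centralizer (K : Set G)) := by
  rw [sup_comm, Basics.card_sup_of_coprime (kappa_le_normalizer_kstar M K) (kappa_coprime_kstar hK).symm, mul_comm]

theorem orderOf_kappa {M K : Subgroup G} (hK : IsPiHallOf (Cfsg.kappa M) K M) {k : G} (hk : k ∈ K) :
    ∀ q : ℕ, q.Prime → q ∣ orderOf k → q ∈ Cfsg.kappa M ∧ q ∉ Cfsg.sigma M := fun q hq hd =>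
  have h := hK.2.1 q hq (hd.trans (Subgroup.orderOf_dvd_natCard _ hk))
  ⟨h, h.2.2.1⟩

theorem orderOf_core {M : Subgroup G} {a : G} (ha : a ∈ Cfsg.sigmaCore M) :
    ∀ q : ℕ, q.Prime → q ∣ orderOf a → q ∈ Cfsg.sigma M := fun _ hq hd =>
  piCoreOf_primes _ M hq (hd.trans (Subgroup.orderOf_dvd_natCard _ ha))

theorem coprime_of_sets {a b : G} {π : Set ℕ} (ha : ∀ q : ℕ, q.Prime → q ∣ orderOf a → q ∈ π)
    (hb : ∀ q : ℕ, q.Prime → q ∣ orderOf b → q ∉ π) : (orderOf a).Coprime (orderOf b) :=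
  Nat.coprime_of_dvd fun q hq h1 h2 => hb q hq h2 (ha q hq h1)

/-- The `σ(M)`-part of `Z`. -/
theorem Z_inf_core (hG : IsMinSimpleOddOrder G) {M K : Subgroup G} (hM : IsCoatom M)
    (hK : IsPiHallOf (Cfsg.kappa M) K M) :
    (K ⊔ (Cfsg.sigmaCore M ⊓ Subgroup.centralizer (K : Set G))) ⊓ Cfsg.sigmaCore M =
      Cfsg.sigmaCore M ⊓ Subgroup.centralizer (K : Set G) := by
  refine le_antisymm (fun z hz => ?_) (le_inf le_sup_right inf_le_left)
  obtain ⟨k, hk, a, ha, rfl, -⟩ := mem_Z hz.1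
  have hkσ : k ∈ Cfsg.sigmaCore M := ((Cfsg.sigmaCore M).mul_mem_cancel_right ha.1).mp hz.2
  have hk1 : k = 1 := orderOf_eq_one_iff.mp (Nat.eq_one_iff_not_exists_prime_dvd.mpr fun q hq hd =>
    (orderOf_kappa hK hk q hq hd).2 (orderOf_core hkσ q hq hd))
  rwa [hk1, one_mul]

end Cfsg.Agent.OddLocal
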