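import Cfsg.Agent.Lib.OddLocal.PuigIn
import Cfsg.Agent.Lib.OddLocal.Rank
import Cfsg.Agent.Lib.OddLocal.Invariant
import Cfsg.Agent.Lib.Components.PConstrained

/-! Maximal `p`-subgroups of a solvable subgroup. -/

set_option autoImplicit false

namespace Cfsg.Agent.OddLocal

variable {G : Type*} [Group G] {p : ℕ}

/-- `R` is a Sylow `p`-subgroup of `X`, phrased by maximality. -/
def IsMaxPIn (p : ℕ) (R X : Subgroup G) : Prop :=
  IsPGroup p R ∧ R ≤ X ∧ ∀ Q : Subgroup G, IsPGroup p Q → R ≤ Q → Q ≤ X → Q = R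

/-- The associated Sylow subgroup. -/
def IsMaxPIn.toSylow {R X : Subgroup G} (h : IsMaxPIn p R X) : Sylow p X where
  toSubgroup := R.subgroupOf X
  isPGroup' := h.1.comap_subtype
  is_maximal' := by
    intro Q hQ hle
    refine le_antisymm (fun x hx => ?_) hle
    have := h.2.2 (Q.map X.subtype) (hQ.map _)
      ((Subgroup.map_subgroupOf_eq_of_le h.2.1).ge.trans (Subgroup.map_mono hle)) (Subgroup.map_subtype_le _)
    exact this ▸ Subgroup.mem_map_of_mem X.subtype hx

theorem IsMaxPIn.coe_toSylow {R X : Subgroup G} (h : IsMaxPIn p R X) :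
    ((h.toSylow : Sylow p X) : Subgroup X) = R.subgroupOf X := rfl

/-- `O_{p'}(X)` for a subgroup `X`, in the ambient group. -/
def pPrimeCoreIn (p : ℕ) (X : Subgroup G) : Subgroup G := (Cfsg.pPrimeCore p X).map X.subtype

theorem pPrimeCoreIn_le (p : ℕ) (X : Subgroup G) : pPrimeCoreIn p X ≤ X := Subgroup.map_subtype_le _

theorem not_dvd_card_pPrimeCoreIn [Finite G] [hp : Fact p.Prime] (X : Subgroup G) :
    ¬ p ∣ Nat.card (pPrimeCoreIn p X) := by
  rw [pPrimeCoreIn, Subgroup.card_map_of_injective X.subtype_injective]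
  exact Basics.not_dvd_card_pPrimeCore p

theorem le_normalizer_pPrimeCoreIn [Finite G] (X : Subgroup G) :
    X ≤ Subgroup.normalizer (pPrimeCoreIn p X : Set G) := by
  have h := Subgroup.le_normalizer_map (H := Cfsg.pPrimeCore p X) X.subtype
  have hn : (Cfsg.pPrimeCore p X).Normal := inferInstance
  rwa [Subgroup.normalizer_eq_top, ← MonoidHom.range_eq_map, Subgroup.range_subtype] at h

/-- Invariant `p'`-subgroups of a subgroup holding the central `p`-elements lie in the core. -/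
theorem invariant_le_pPrimeCoreIn [Finite G] [hp : Fact p.Prime] (hp2 : p ≠ 2) {X A Y : Subgroup G}
    (hX : Group.IsSolvable X) (hA : IsPGroup p A) (hAX : A ≤ X)
    (hΩ : ∀ x ∈ X, x ∈ Subgroup.centralizer (A : Set G) → orderOf x = p → x ∈ A)
    (hYX : Y ≤ X) (hYp : ¬ p ∣ Nat.card Y) (hAY : A ≤ Subgroup.normalizer (Y : Set G)) :
    Y ≤ pPrimeCoreIn p X := by
  have key := le_pPrimeCore_of_invariant (G := X) Components.isPConstrained_of_isSolvable
    (hA.comap_subtype (K := X)) (A := A.subgroupOf X) (Q := Y.subgroupOf X)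
    (Or.inl ⟨hp2, fun x hx hxo => hΩ x x.2 (Subgroup.mem_centralizer_iff.mpr fun a ha =>
      congrArg Subtype.val (Subgroup.mem_centralizer_iff.mp hx ⟨a, hAX ha⟩ ha))
      ((Subgroup.orderOf_coe x).trans hxo)⟩)
    (by rwa [Basics.card_subgroupOf hYX])
    (fun a ha => Subgroup.mem_normalizer_iff.mpr fun n => Subgroup.mem_normalizer_iff.mp (hAY ha) n)
  rw [← Subgroup.map_subgroupOf_eq_of_le hYX]
  exact Subgroup.map_mono key

theorem IsMaxPIn.mem_of_centralizes [Finite G] [hp : Fact p.Prime] {R X : Subgroup G} (h : IsMaxPIn p R X) {x : G}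
    (hx : x ∈ X) (hxC : x ∈ Subgroup.centralizer (R : Set G)) (hxp : orderOf x = p) : x ∈ R := by
  have hxpow : IsPGroup p (Subgroup.zpowers x) := IsPGroup.of_card (n := 1) (by rw [pow_one, Nat.card_zpowers, hxp])
  have hn : Subgroup.zpowers x ≤ Subgroup.normalizer (R : Set G) :=
    (Subgroup.zpowers_le.mpr hxC).trans (Subgroup.centralizer_le_normalizer (R : Set G))
  have := h.2.2 (R ⊔ Subgroup.zpowers x) (h.1.to_sup_of_normal_left' hxpow hn) le_sup_left
    (sup_le h.2.1 (Subgroup.zpowers_le.mpr hx))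
  exact this ▸ Subgroup.mem_sup_right (Subgroup.mem_zpowers x)

theorem IsMaxPIn.invariant_le [Finite G] [hp : Fact p.Prime] (hp2 : p ≠ 2) {R X Y : Subgroup G}
    (h : IsMaxPIn p R X) (hX : Group.IsSolvable X) (hYX : Y ≤ X) (hYp : ¬ p ∣ Nat.card Y)
    (hRY : R ≤ Subgroup.normalizer (Y : Set G)) : Y ≤ pPrimeCoreIn p X :=
  invariant_le_pPrimeCoreIn hp2 hX h.1 h.2.1 (fun _ hx hxC hxo => h.mem_of_centralizes hx hxC hxo) hYX hYp hRY

theorem le_sup_sylow_inf [Finite G] [hp : Fact p.Prime] (S : Sylow p G) {K O : Subgroup G} [O.Normal] (hKO : K ≤ O)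
    {n : ℕ} (hn : K.relIndex O = p ^ n) : O ≤ K ⊔ ((S : Subgroup G) ⊓ O) := by
  obtain ⟨P, hP⟩ := LocalEvenA.exists_sylow_subgroupOf_normal S O
  rw [← Subgroup.relIndex_eq_one]
  by_contra hne
  obtain ⟨r, hr, hrd⟩ := Nat.exists_prime_and_dvd hne
  have hrp : r = p := (Nat.prime_dvd_prime_iff_eq hr hp.out).mp
    (hr.dvd_of_dvd_pow (hn ▸ hrd.trans (Subgroup.relIndex_dvd_of_le_left O le_sup_left)))
  have h2 : r ∣ ((S : Subgroup G) ⊓ O).relIndex O :=
    hrd.trans (Subgroup.relIndex_dvd_of_le_left O le_sup_right)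
  refine P.not_dvd_index ?_
  rw [hrp, Subgroup.inf_relIndex_right] at h2
  rw [hP]
  exact h2

theorem sup_normalizer_sylow_inf [Finite G] [hp : Fact p.Prime] (S : Sylow p G) {K O : Subgroup G} [O.Normal]
    (hKO : K ≤ O) {n : ℕ} (hn : K.relIndex O = p ^ n) :
    K ⊔ Subgroup.normalizer (((S : Subgroup G) ⊓ O : Subgroup G) : Set G) = ⊤ := by
  obtain ⟨P, hP⟩ := LocalEvenA.exists_sylow_subgroupOf_normal S O
  have hPU : (P : Subgroup O).map O.subtype = (S : Subgroup G) ⊓ O := by rw [hP, Subgroup.subgroupOf_map_subtype]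
  have hfr := Sylow.normalizer_sup_eq_top P
  rw [hPU] at hfr
  refine top_le_iff.mp ?_
  rw [← hfr]
  exact sup_le le_sup_right ((le_sup_sylow_inf S hKO hn).trans (sup_le_sup_left Subgroup.le_normalizer _))

theorem le_pPrimePCore_iff_relIndex [Finite G] [hp : Fact p.Prime] :
    Cfsg.pPrimeCore p G ≤ Cfsg.pPrimePCore p G ∧
      ∃ n, (Cfsg.pPrimeCore p G).relIndex (Cfsg.pPrimePCore p G) = p ^ n := by
  set K := Cfsg.pPrimeCore p G
  set π := QuotientGroup.mk' K
  have hKO : K ≤ Cfsg.pPrimePCore p G := fun x hx => by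
    rw [Cfsg.pPrimePCore, Subgroup.mem_comap, QuotientGroup.mk'_apply, (QuotientGroup.eq_one_iff x).mpr hx]
    exact one_mem _
  obtain ⟨n, hn⟩ := IsPGroup.iff_card.mp (Basics.pCore_isPGroup (G := G ⧸ K) p)
  refine ⟨hKO, n, ?_⟩
  rw [← hn]
  have h := Subgroup.relIndex_map_map π K (Cfsg.pPrimePCore p G)
  rw [QuotientGroup.map_mk'_self, QuotientGroup.ker_mk', sup_idem, sup_eq_left.mpr hKO, Subgroup.relIndex_bot_left,
    Cfsg.pPrimePCore, Subgroup.map_comap_eq_self_of_surjective (QuotientGroup.mk'_surjective K)] at h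
  exact h.symm

/-- Local form of Puig's theorem. -/
theorem IsMaxPIn.le_core_sup_normalizer_zPuig [Finite G] [hp : Fact p.Prime] (hp2 : p ≠ 2) {R X : Subgroup G}
    (h : IsMaxPIn p R X) (hX : Group.IsSolvable X) (hodd : Odd (Nat.card X)) :
    X ≤ pPrimeCoreIn p X ⊔ (X ⊓ Subgroup.normalizer (zPuig R : Set G)) := by
  have key := pPrimeCore_sup_normalizer_zPuig (G := X) hodd hp2 h.toSylow
  have hinj : Set.InjOn X.subtype (R.subgroupOf X) := X.subtype_injective.injOn
  have hup : (upperIn (R.subgroupOf X)).map X.subtype = upperIn R := by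
    rw [map_upperIn _ hinj, Subgroup.map_subgroupOf_eq_of_le h.2.1]
  have hz : zPuig (R.subgroupOf X) = (zPuig R).subgroupOf X := by
    ext x
    constructor
    · intro hx
      refine ⟨hup ▸ Subgroup.mem_map_of_mem X.subtype hx.1, ?_⟩
      change (x : G) ∈ Subgroup.centralizer _
      rw [Subgroup.mem_centralizer_iff]
      intro y hy
      obtain ⟨y', hy', rfl⟩ := (hup.symm ▸ hy : y ∈ (upperIn (R.subgroupOf X)).map X.subtype)
      exact congrArg Subtype.val (Subgroup.mem_centralizer_iff.mp hx.2 y' hy')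
    · rintro ⟨hx1, hx2⟩
      obtain ⟨y', hy', e⟩ := (hup.symm ▸ hx1 : (x : G) ∈ (upperIn (R.subgroupOf X)).map X.subtype)
      refine ⟨(Subtype.ext e : y' = x) ▸ hy', ?_⟩
      change x ∈ Subgroup.centralizer _
      rw [Subgroup.mem_centralizer_iff]
      intro y hy
      exact Subtype.ext (Subgroup.mem_centralizer_iff.mp hx2 y (hup ▸ Subgroup.mem_map_of_mem X.subtype hy))
  rw [h.coe_toSylow, hz] at key
  have hm := congrArg (Subgroup.map X.subtype) key
  rw [Subgroup.map_sup, ← MonoidHom.range_eq_map, Subgroup.range_subtype] at hm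
  refine hm.ge.trans (sup_le_sup_left ?_ _)
  refine le_inf (Subgroup.map_subtype_le _) ((Subgroup.le_normalizer_map _).trans ?_)
  rw [Subgroup.map_subgroupOf_eq_of_le ((zPuig_le R).trans h.2.1)]

/-- `X = O_{p'}(X) N_X(R ∩ O_{p',p}(X))`. -/
theorem IsMaxPIn.le_core_sup_normalizer_inf [Finite G] [hp : Fact p.Prime] {R X : Subgroup G}
    (h : IsMaxPIn p R X) :
    X ≤ pPrimeCoreIn p X ⊔
      (X ⊓ Subgroup.normalizer ((R ⊓ (Cfsg.pPrimePCore p X).map X.subtype : Subgroup G) : Set G)) := by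
  obtain ⟨hKO, n, hn⟩ := le_pPrimePCore_iff_relIndex (G := X) (p := p)
  have : (Cfsg.pPrimePCore p X).Normal := Subgroup.Normal.comap inferInstance _
  have key := sup_normalizer_sylow_inf h.toSylow hKO hn
  have hm := congrArg (Subgroup.map X.subtype) key
  rw [Subgroup.map_sup, ← MonoidHom.range_eq_map, Subgroup.range_subtype] at hm
  refine hm.ge.trans (sup_le_sup_left ?_ _)
  refine le_inf (Subgroup.map_subtype_le _) ((Subgroup.le_normalizer_map _).trans ?_)
  rw [Subgroup.map_inf _ _ _ X.subtype_injective, h.coe_toSylow, Subgroup.map_subgroupOf_eq_of_le h.2.1]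

theorem zPuig_ne_bot [Finite G] [hp : Fact p.Prime] {R : Subgroup G} (hR : IsPGroup p R) (h1 : R ≠ ⊥) :
    zPuig R ≠ ⊥ := by
  intro h
  obtain ⟨A, hAn, hAc, hAC⟩ := exists_normal_abelian_selfCentralizing hR
  have hA1 : A ≠ ⊥ := by
    intro e
    have : Nontrivial R := (Subgroup.nontrivial_iff_ne_bot R).mpr h1
    rw [e, Subgroup.coe_bot, Subgroup.centralizer_eq_top_iff_subset.mpr (by simp)] at hAC
    exact bot_ne_top hAC.symm
  have hAL : A ≤ puigSubgroup R := by
    rw [← puigStep_puigLower]; exact le_puigStep_of_normal_abelian hAc _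
  have hLp : IsPGroup p (puigSubgroup R) := hR.to_subgroup _
  have : Nontrivial (puigSubgroup R) := (Subgroup.nontrivial_iff_ne_bot _).mpr fun e => hA1 (le_bot_iff.mp (e ▸ hAL))
  have := hLp.center_nontrivial
  obtain ⟨z, hz⟩ := exists_ne (1 : Subgroup.center (puigSubgroup R))
  refine hz (Subtype.ext (Subtype.ext (Subtype.ext ?_)))
  have : ((((z : puigSubgroup R) : R)) : G) ∈ zPuig R := by
    rw [← zPuig_eq_map]; exact ⟨_, ⟨_, z.2, rfl⟩, rfl⟩
  rw [h, Subgroup.mem_bot] at this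
  exact this

end Cfsg.Agent.OddLocal
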