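import Cfsg.Agent.Lib.OddLocal.MetacyclicAction
import Cfsg.Agent.Lib.Metacyclic.Theory

/-! The decomposition `R = [R, A] C_R(A)` of a metacyclic group. -/

set_option autoImplicit false
set_option maxHeartbeats 1000000

namespace Cfsg.Agent.OddLocal

open scoped commutatorElement
open Cfsg

universe u

variable {G : Type u} [Group G] [Finite G] {p : ℕ} [hp : Fact p.Prime]

omit [Finite G] in
/-- A normal subgroup of exponent `p` and a disjoint one together give at most `p ^ 2`. -/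
theorem card_mul_le_of_metacyclic {R : Type u} [Group R] [Finite R] (hp2 : p ≠ 2) (hR : IsPGroup p R)
    (hm : IsMetacyclic R) (E F : Subgroup R) [E.Normal] (hEc : ∀ a ∈ E, ∀ b ∈ E, Commute a b)
    (hE : ∀ e ∈ E, e ^ p = 1) (hF : ∀ f ∈ F, f ^ p = 1) (hEF : E ⊓ F = ⊥) :
    Nat.card E * Nat.card F ≤ p ^ 2 := by
  have hFN : F ≤ Subgroup.normalizer (E : Set R) := by rw [Subgroup.normalizer_eq_top]; exact le_top
  have h := Basics.card_mul_card_eq_card_sup_mul_card_inf (N := E) (H := F) hFN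
  rw [hEF, Subgroup.card_bot, mul_one] at h
  rw [h]
  refine card_le_sq_of_metacyclic hm _ fun w hw => ?_
  obtain ⟨e, he, f, hf, rfl⟩ := (Basics.mem_sup_of_le_normalizer hFN).mp hw
  have hc : ⁅f, e⁆ ∈ E ⊓ Subgroup.center R := by
    refine commutator_top_le_center hR E (card_le_sq_of_metacyclic hm E hE) ?_
    rw [Subgroup.commutator_comm]
    exact Subgroup.commutator_mem_commutator (Subgroup.mem_top f) he
  rw [Transfer.mul_pow_of_commute (hEc _ hc.1 e he) (Subgroup.mem_center_iff.mp hc.2 f).symm, hE e he, hF f hf,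
    one_mul, one_mul]
  obtain ⟨m, hm'⟩ : p ∣ p.choose 2 :=
    hp.out.dvd_choose_self two_ne_zero (lt_of_le_of_ne hp.out.two_le (Ne.symm hp2))
  rw [hm', pow_mul, hE _ hc.1, one_pow]

theorem metacyclic_split (hp2 : p ≠ 2) {R A : Subgroup G} (hR : IsPGroup p R) (hm : IsMetacyclic R)
    (hA : A ≤ Subgroup.normalizer (R : Set G)) (hcop : (Nat.card A).Coprime p) :
    IsMulCommutative ↥⁅R, A⁆ ∧ ⁅R, A⁆ ⊔ (R ⊓ Subgroup.centralizer (A : Set G)) = R ∧
      ⁅R, A⁆ ⊓ (R ⊓ Subgroup.centralizer (A : Set G)) = ⊥ ∧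
      (¬ IsMulCommutative R → ¬ A ≤ Subgroup.centralizer (R : Set G) →
        ⁅R, A⁆ ≠ ⊥ ∧ IsCyclic ↥⁅R, A⁆ ∧ (R ⊓ Subgroup.centralizer (A : Set G)) ≠ ⊥ ∧
          IsCyclic ↥(R ⊓ Subgroup.centralizer (A : Set G)) ∧ ⁅R, R⁆ ≤ ⁅R, A⁆) := by
  set S := ⁅R, A⁆ with hS
  set C := R ⊓ Subgroup.centralizer (A : Set G) with hC
  have hSR : S ≤ R := Subgroup.le_normalizer_iff_commutator_le_left.mp hA
  have hCR : C ≤ R := inf_le_left
  have hRs : Group.IsSolvable R := by have := hR.isNilpotent; infer_instance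
  have hcopR : (Nat.card A).Coprime (Nat.card R) := by
    obtain ⟨n, hn⟩ := hR.exists_card_eq
    rw [hn]; exact hcop.pow_right n
  have hsup : S ⊔ C = R := Basics.commutator_sup_inf_centralizer A R hA hcopR (Or.inr hRs)
  have hAS : A ≤ Subgroup.normalizer (S : Set G) := Subgroup.normalizer_commutator_ge_right _ _
  have hRS : R ≤ Subgroup.normalizer (S : Set G) := Subgroup.normalizer_commutator_ge_left _ _
  have hSA : ⁅S, A⁆ = S := Basics.commutator_commutator_eq A R hA hcopR (Or.inr hRs)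
  have hSm : IsMetacyclic S :=
    isMetacyclic_of_surjective (Subgroup.subgroupOfEquivOfLe hSR).toMonoidHom (MulEquiv.surjective _)
      (Metacyclic.isMetacyclic_subgroup hm (S.subgroupOf R))
  have hSab : IsMulCommutative S := Subgroup.commutator_self_eq_bot_iff.mp
    (commutative_of_metacyclic hp2 (hR.to_le hSR) hSm hAS hcop hSA)
  have hdisj : S ⊓ C = ⊥ := by
    haveI := hSab
    obtain ⟨n, hn⟩ := (hR.to_le hSR).exists_card_eq
    have h := Basics.inf_centralizer_inf_commutator_eq_bot A S hAS (hn ▸ hcop.pow_right n)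
    rw [hSA] at h
    rw [eq_bot_iff, ← h]
    exact le_inf (le_inf inf_le_left (inf_le_right.trans inf_le_right)) inf_le_left
  refine ⟨hSab, hsup, hdisj, fun hnab hnc => ?_⟩
  have hS1 : S ≠ ⊥ := fun h => hnc (Subgroup.le_centralizer_iff.mp (Subgroup.commutator_eq_bot_iff_le_centralizer.mp h))
  have hC1 : C ≠ ⊥ := fun h => hnab (by rw [← hsup, h, sup_bot_eq]; exact hSab)
  set S' := S.subgroupOf R with hS'
  haveI hS'n : S'.Normal := (Subgroup.normal_subgroupOf_iff_le_normalizer hSR).mpr hRS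
  set C' := C.subgroupOf R with hC'
  have hS'c : ∀ a ∈ S', ∀ b ∈ S', Commute a b := fun a ha b hb =>
    Subtype.ext (congrArg Subtype.val (hSab.is_comm.comm ⟨_, ha⟩ ⟨_, hb⟩) :)
  have hdisj' : S' ⊓ C' = ⊥ := by
    rw [eq_bot_iff]
    intro v hv
    have h : (v : G) ∈ S ⊓ C := hv
    rw [hdisj, Subgroup.mem_bot] at h
    exact Subgroup.mem_bot.mpr (Subtype.ext h)
  -- elements of order dividing `p` of `S`
  let E : Subgroup R :=
    { carrier := {x | x ∈ S' ∧ x ^ p = 1}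
      one_mem' := ⟨one_mem _, one_pow p⟩
      mul_mem' := fun {a b} ha hb => ⟨mul_mem ha.1 hb.1, by
        rw [(hS'c a ha.1 b hb.1).mul_pow, ha.2, hb.2, one_mul]⟩
      inv_mem' := fun {a} ha => ⟨inv_mem ha.1, by rw [inv_pow, ha.2, inv_one]⟩ }
  haveI : E.Normal := ⟨fun x hx g => ⟨hS'n.conj_mem x hx.1 g, by rw [conj_pow, hx.2, mul_one, mul_inv_cancel]⟩⟩
  have hEc : ∀ a ∈ E, ∀ b ∈ E, Commute a b := fun a ha b hb => hS'c a ha.1 b hb.1
  have hexists : ∀ X : Subgroup R, X ≠ ⊥ → ∃ x ∈ X, x ≠ 1 ∧ x ^ p = 1 := by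
    intro X hX
    obtain ⟨n, hn⟩ := (hR.to_subgroup X).exists_card_eq
    have hn0 : n ≠ 0 := by
      rintro rfl
      exact hX (Subgroup.card_eq_one.mp (hn.trans (pow_zero p)))
    obtain ⟨x, hx⟩ := exists_prime_orderOf_dvd_card' (G := X) p (hn ▸ dvd_pow_self p hn0)
    rw [← Subgroup.orderOf_coe] at hx
    exact ⟨x, x.2, fun h => hp.out.one_lt.ne (by rw [← hx, h, orderOf_one]), orderOf_dvd_iff_pow_eq_one.mp hx.dvd⟩
  have hne' : ∀ {X : Subgroup G}, X ≤ R → X ≠ ⊥ → X.subgroupOf R ≠ ⊥ := by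
    intro X hXR hX h
    rw [Subgroup.subgroupOf_eq_bot, disjoint_iff, inf_eq_left.mpr hXR] at h
    exact hX h
  have hcyc : ∀ {X : Subgroup G}, X ≤ R → IsCyclic (X.subgroupOf R) → IsCyclic X := fun hXR h => by
    haveI := h
    exact isCyclic_of_surjective (Subgroup.subgroupOfEquivOfLe hXR).toMonoidHom (MulEquiv.surjective _)
  refine ⟨hS1, hcyc hSR ?_, hC1, hcyc hCR ?_, ?_⟩
  · by_contra h
    obtain ⟨Q, -, hQ, -, hQp⟩ := PGroup23.exists_normal_elementary_sq hp2 (hR.to_subgroup S') h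
    have hQE : Q.map S'.subtype ≤ E := by
      rintro _ ⟨q, hq, rfl⟩
      exact ⟨q.2, congrArg Subtype.val (hQp q hq)⟩
    have h1 := Subgroup.card_le_of_le hQE
    rw [Subgroup.card_map_of_injective S'.subtype_injective, hQ] at h1
    obtain ⟨c, hc, hc1, hcp⟩ := hexists C' (hne' hCR hC1)
    have hzc : ∀ f ∈ Subgroup.zpowers c, f ^ p = 1 := by
      rintro _ ⟨i, rfl⟩
      change (c ^ i) ^ p = 1
      rw [← zpow_natCast, ← zpow_mul, mul_comm, zpow_mul, zpow_natCast, hcp, one_zpow]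
    have h2 := card_mul_le_of_metacyclic hp2 hR hm E (Subgroup.zpowers c) hEc (fun e he => he.2) hzc (by
      rw [eq_bot_iff, ← hdisj']
      exact le_inf (fun v hv => hv.1.1) ((inf_le_right).trans (Subgroup.zpowers_le.mpr hc)))
    rw [Nat.card_zpowers, orderOf_eq_prime hcp hc1] at h2
    nlinarith [hp.out.two_le]
  · by_contra h
    obtain ⟨Q, -, hQ, -, hQp⟩ := PGroup23.exists_normal_elementary_sq hp2 (hR.to_subgroup C') h
    obtain ⟨s, hs, hs1, hsp⟩ := hexists S' (hne' hSR hS1)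
    have hE2 : 2 ≤ Nat.card E := Finite.one_lt_card_iff_nontrivial.mpr
      ⟨⟨⟨s, hs, hsp⟩, 1, fun e => hs1 (congrArg Subtype.val e)⟩⟩
    have h2 := card_mul_le_of_metacyclic hp2 hR hm E (Q.map C'.subtype) hEc (fun e he => he.2) (by
      rintro _ ⟨q, hq, rfl⟩
      exact congrArg Subtype.val (hQp q hq)) (by
      rw [eq_bot_iff, ← hdisj']
      exact le_inf (fun v hv => hv.1.1) ((inf_le_right).trans (Subgroup.map_subtype_le Q)))
    rw [Subgroup.card_map_of_injective C'.subtype_injective, hQ] at h2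
    nlinarith [hp.out.two_le]
  · haveI hC'c : IsCyclic C' := by
      by_contra h
      obtain ⟨Q, -, hQ, -, hQp⟩ := PGroup23.exists_normal_elementary_sq hp2 (hR.to_subgroup C') h
      obtain ⟨s, hs, hs1, hsp⟩ := hexists S' (hne' hSR hS1)
      have hE2 : 2 ≤ Nat.card E := Finite.one_lt_card_iff_nontrivial.mpr
        ⟨⟨⟨s, hs, hsp⟩, 1, fun e => hs1 (congrArg Subtype.val e)⟩⟩
      have h2 := card_mul_le_of_metacyclic hp2 hR hm E (Q.map C'.subtype) hEc (fun e he => he.2) (by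
        rintro _ ⟨q, hq, rfl⟩
        exact congrArg Subtype.val (hQp q hq)) (by
        rw [eq_bot_iff, ← hdisj']
        exact le_inf (fun v hv => hv.1.1) ((inf_le_right).trans (Subgroup.map_subtype_le Q)))
      rw [Subgroup.card_map_of_injective C'.subtype_injective, hQ] at h2
      nlinarith [hp.out.two_le]
    refine Subgroup.commutator_le.mpr fun a ha b hb => ?_
    have hdec : ∀ r : R, ∃ c ∈ C', QuotientGroup.mk' S' r = QuotientGroup.mk' S' c := by
      intro r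
      obtain ⟨s, hs, c, hc, e⟩ := (Basics.mem_sup_of_le_normalizer (hCR.trans hRS)).mp
        (hsup.symm ▸ r.2 : (r : G) ∈ S ⊔ C)
      refine ⟨⟨c, hCR hc⟩, hc, ?_⟩
      rw [show r = (⟨s, hSR hs⟩ : R) * ⟨c, hCR hc⟩ from Subtype.ext e, map_mul,
        show QuotientGroup.mk' S' ⟨s, hSR hs⟩ = 1 from (QuotientGroup.eq_one_iff _).mpr hs, one_mul]
    obtain ⟨c, hc, hca⟩ := hdec ⟨a, ha⟩
    obtain ⟨d, hd, hdb⟩ := hdec ⟨b, hb⟩
    have h : QuotientGroup.mk' S' ⁅(⟨a, ha⟩ : R), ⟨b, hb⟩⁆ = 1 := by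
      rw [map_commutatorElement, hca, hdb, ← map_commutatorElement,
        commutatorElement_eq_one_iff_mul_comm.mpr (congrArg Subtype.val
          (IsCyclic.isMulCommutative.is_comm.comm (⟨c, hc⟩ : C') ⟨d, hd⟩)), map_one]
    exact (QuotientGroup.eq_one_iff (N := S') _).mp h

end Cfsg.Agent.OddLocal
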