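import Cfsg.Prelude.Def_OddOrderLocal
import Cfsg.Agent.Lib.Basics.Cores
import Mathlib.GroupTheory.Subgroup.Simple

/-! First consequences of `IsMinSimpleOddOrder`. -/

set_option autoImplicit false

namespace Cfsg.Agent.OddLocal

variable {G : Type*} [Group G]

theorem isSolvable_of_ne_top (hG : IsMinSimpleOddOrder G) {H : Subgroup G} (h : H ≠ ⊤) :
    Group.IsSolvable H := hG.2.2.2 H h

theorem prime_ne_two (hG : IsMinSimpleOddOrder G) {p : ℕ} (hp : p ∣ Nat.card G) : p ≠ 2 := by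
  rintro rfl
  exact Nat.not_even_iff_odd.mpr hG.1 (even_iff_two_dvd.mpr hp)

theorem odd_card_subgroup [Finite G] (hG : IsMinSimpleOddOrder G) (H : Subgroup G) : Odd (Nat.card H) :=
  Odd.of_dvd_nat hG.1 H.card_subgroup_dvd_card

theorem ne_top_of_isMulCommutative (hG : IsMinSimpleOddOrder G) {A : Subgroup G} (hA : IsMulCommutative A) :
    A ≠ ⊤ := by
  rintro rfl
  exact hG.2.2.1 ⟨⟨fun a b => congrArg Subtype.val (hA.is_comm.comm ⟨a, trivial⟩ ⟨b, trivial⟩)⟩⟩

theorem center_eq_bot (hG : IsMinSimpleOddOrder G) : Subgroup.center G = ⊥ := by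
  have := hG.2.1
  rcases IsSimpleGroup.eq_bot_or_eq_top_of_normal (Subgroup.center G) inferInstance with h | h
  · exact h
  · exact absurd h (ne_top_of_isMulCommutative hG inferInstance)

theorem centralizer_ne_top (hG : IsMinSimpleOddOrder G) {s : Set G} {x : G} (hxs : x ∈ s) (hx : x ≠ 1) :
    Subgroup.centralizer s ≠ ⊤ := by
  intro h
  have h' := Subgroup.centralizer_eq_top_iff_subset.mp h hxs
  rw [center_eq_bot hG] at h'
  exact hx h'

theorem normalizer_ne_top (hG : IsMinSimpleOddOrder G) {H : Subgroup G} (h1 : H ≠ ⊥) (h2 : H ≠ ⊤) :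
    Subgroup.normalizer (H : Set G) ≠ ⊤ := by
  intro h
  have := hG.2.1
  rcases IsSimpleGroup.eq_bot_or_eq_top_of_normal H (Subgroup.normalizer_eq_top_iff.mp h) with e | e
  · exact h1 e
  · exact h2 e

theorem pGroup_ne_top [Finite G] (hG : IsMinSimpleOddOrder G) {p : ℕ} [Fact p.Prime] {P : Subgroup G}
    (hP : IsPGroup p P) : P ≠ ⊤ := by
  rintro rfl
  have hG' : IsPGroup p G := hP.of_equiv Subgroup.topEquiv
  have := hG.2.1
  have : Nontrivial G := IsSimpleGroup.toNontrivial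
  exact hG'.bot_lt_center.ne' (center_eq_bot hG)

theorem exists_maximal_ge [Finite G] {H : Subgroup G} (h : H ≠ ⊤) : ∃ M : Subgroup G, IsCoatom M ∧ H ≤ M := by
  rcases eq_top_or_exists_le_coatom H with e | ⟨M, hM, hle⟩
  · exact absurd e h
  · exact ⟨M, hM, hle⟩

end Cfsg.Agent.OddLocal
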