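import Cfsg.Agent.Lib.OddLocal.DerivedFitting
import Cfsg.Agent.Lib.Fusion.OmegaDetect

/-! The derived subgroup of an odd solvable group acting on a narrow normal `p`-subgroup. -/

set_option autoImplicit false
set_option maxHeartbeats 800000

namespace Cfsg.Agent.OddLocal

open scoped commutatorElement

variable {G : Type*} [Group G] [Finite G] {p : ℕ} [hp : Fact p.Prime]

omit hp in
theorem ea_sup_of_commute {A B : Subgroup G} (hA : IsElementaryAbelian p A) (hB : IsElementaryAbelian p B)
    (h : A ≤ Subgroup.centralizer (B : Set G)) : IsElementaryAbelian p (A ⊔ B : Subgroup G) := by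
  have hcomm : ∀ a ∈ A, ∀ b ∈ B, Commute a b := fun a ha b hb => (Subgroup.mem_centralizer_iff.mp (h ha) b hb).symm
  have hAc : A ≤ Subgroup.centralizer ((A ⊔ B : Subgroup G) : Set G) := by
    rw [Subgroup.le_centralizer_iff]
    refine sup_le (Subgroup.le_centralizer_iff_isMulCommutative.mpr hA.1) ?_
    exact fun b hb => Subgroup.mem_centralizer_iff.mpr fun a ha => (hcomm a ha b hb).eq
  have hBc : B ≤ Subgroup.centralizer ((A ⊔ B : Subgroup G) : Set G) := by
    rw [Subgroup.le_centralizer_iff]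
    refine sup_le ?_ (Subgroup.le_centralizer_iff_isMulCommutative.mpr hB.1)
    exact h
  refine ⟨Subgroup.le_centralizer_iff_isMulCommutative.mp (sup_le hAc hBc), fun x hx => ?_⟩
  have hBN : B ≤ Subgroup.normalizer (A : Set G) :=
    (Subgroup.le_centralizer_iff.mp h).trans (Subgroup.centralizer_le_normalizer _)
  rw [← SetLike.mem_coe, Subgroup.coe_mul_of_right_le_normalizer_left _ _ hBN, Set.mem_mul] at hx
  obtain ⟨a, ha, b, hb, rfl⟩ := hx
  rw [(hcomm a ha b hb).mul_pow, hA.2 a ha, hB.2 b hb, one_mul]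

/-- In an odd solvable group the elements of order prime to `p` of the derived subgroup centralize every normal
`p`-subgroup with an elementary abelian subgroup whose centralizer has rank at most two. -/
theorem derived_centralizes_narrow [Group.IsSolvable G] (hodd : Odd (Nat.card G)) (hp2 : p ≠ 2) {P : Subgroup G}
    [hPn : P.Normal] (hP : IsPGroup p P) {E : Subgroup G} (hEP : E ≤ P) (hE : IsElementaryAbelian p E)
    (hr : ∀ X : Subgroup G, X ≤ P ⊓ Subgroup.centralizer (E : Set G) → IsElementaryAbelian p X → Nat.card X ≤ p ^ 2)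
    {x : G} (hx : x ∈ commutator G) (hxo : (orderOf x).Coprime p) : x ∈ Subgroup.centralizer (P : Set G) := by
  classical
  by_cases hrank : ∀ X : Subgroup P, IsElementaryAbelian p X → Nat.card X ≤ p ^ 2
  · exact derived_pPower_centralizes hodd hp2 hP hrank hx hxo
  push Not at hrank
  obtain ⟨X, hX, hXbig⟩ := hrank
  -- `E` enlarged by the central elements of order `p`
  have hEc : E ≤ Subgroup.centralizer (E : Set G) := Subgroup.le_centralizer_iff_isMulCommutative.mpr hE.1
  have hZex : ∃ z ∈ P, z ≠ 1 ∧ z ^ p = 1 ∧ ∀ u ∈ P, Commute z u := by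
    have hPne : Nontrivial P := (Subgroup.nontrivial_iff_ne_bot _).mpr (by
      rintro rfl
      rw [Nat.card_of_subsingleton (1 : X)] at hXbig
      exact absurd hXbig (not_lt.mpr (Nat.one_le_pow _ _ hp.out.pos)))
    haveI : Nontrivial (Subgroup.center P) := hP.center_nontrivial
    obtain ⟨n, hn⟩ := (hP.to_subgroup (Subgroup.center P)).exists_card_eq
    have hn0 : n ≠ 0 := by
      rintro rfl
      exact absurd hn (by simpa using (Finite.one_lt_card (α := Subgroup.center P)).ne')
    obtain ⟨z, hz⟩ := exists_prime_orderOf_dvd_card' (G := Subgroup.center P) p (hn ▸ dvd_pow_self p hn0)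
    have hzp : ((z : P) : G) ^ p = 1 := congrArg (fun t : Subgroup.center P => ((t : P) : G)) (hz ▸ pow_orderOf_eq_one z)
    refine ⟨((z : P) : G), (z : P).2, fun h => hp.out.one_lt.ne ?_, hzp, fun u hu =>
      (congrArg Subtype.val (Subgroup.mem_center_iff.mp z.2 ⟨u, hu⟩)).symm⟩
    rw [← hz, orderOf_eq_one_iff.mpr (Subtype.ext (Subtype.ext h))]
  obtain ⟨z, hzP, hz1, hzp, hzc⟩ := hZex
  have hzE : IsElementaryAbelian p (Subgroup.zpowers z) := by
    refine ⟨⟨⟨fun a b => ?_⟩⟩, ?_⟩
    · obtain ⟨i, hi⟩ := a.2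
      obtain ⟨j, hj⟩ := b.2
      exact Subtype.ext (by simp only [Subgroup.coe_mul, ← hi, ← hj, ← zpow_add, add_comm])
    · rintro _ ⟨i, rfl⟩
      change (z ^ i) ^ p = 1
      rw [← zpow_natCast, ← zpow_mul, mul_comm, zpow_mul, zpow_natCast, hzp, one_zpow]
  set E₁ := Subgroup.zpowers z ⊔ E with hE₁
  have hzEc : Subgroup.zpowers z ≤ Subgroup.centralizer (E : Set G) := Subgroup.zpowers_le.mpr
    (Subgroup.mem_centralizer_iff.mpr fun u hu => (hzc u (hEP hu)).eq.symm)
  have hE₁ea : IsElementaryAbelian p E₁ := ea_sup_of_commute hzE hE hzEc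
  have hE₁P : E₁ ≤ P := sup_le (Subgroup.zpowers_le.mpr hzP) hEP
  have hE₁C : E₁ ≤ P ⊓ Subgroup.centralizer (E : Set G) := le_inf hE₁P (sup_le hzEc hEc)
  have hE₁card := hr E₁ hE₁C hE₁ea
  -- some element of `E` is not central in `P`
  obtain ⟨e, heE, hec⟩ : ∃ e ∈ E, ¬ ∀ u ∈ P, Commute e u := by
    by_contra hall
    push Not at hall
    have hXC : X.map P.subtype ≤ P ⊓ Subgroup.centralizer (E : Set G) := by
      refine le_inf (Subgroup.map_subtype_le X) ?_
      rintro _ ⟨y, -, rfl⟩
      exact Subgroup.mem_centralizer_iff.mpr fun u hu => (hall u hu y y.2).eq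
    have h := hr _ hXC (ea_map hX P.subtype)
    rw [Subgroup.card_map_of_injective P.subtype_injective] at h
    omega
  have he1 : e ≠ 1 := fun h => hec fun u _ => h ▸ Commute.one_left u
  have hzo : orderOf z = p := orderOf_eq_prime hzp hz1
  have heo : orderOf e = p := orderOf_eq_prime (hE.2 e heE) he1
  have hcop : e ∉ Subgroup.zpowers z := by
    rintro ⟨i, rfl⟩
    exact hec fun u hu => (hzc u hu).zpow_left i
  have hbot : Subgroup.zpowers z ⊓ Subgroup.zpowers e = ⊥ := by
    by_contra hb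
    have hc : Nat.card ↥(Subgroup.zpowers z ⊓ Subgroup.zpowers e) = p := by
      refine ((Nat.dvd_prime hp.out).mp ?_).resolve_left (fun h => hb (Subgroup.card_eq_one.mp h))
      exact (Subgroup.card_dvd_of_le inf_le_left).trans (by rw [Nat.card_zpowers, hzo])
    have h2 : Subgroup.zpowers z ⊓ Subgroup.zpowers e = Subgroup.zpowers e :=
      Subgroup.eq_of_le_of_card_ge inf_le_right (by rw [hc, Nat.card_zpowers, heo])
    have h3 : e ∈ Subgroup.zpowers z ⊓ Subgroup.zpowers e := by rw [h2]; exact Subgroup.mem_zpowers e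
    exact hcop h3.1
  have hcard₂ : Nat.card ↥(Subgroup.zpowers z ⊔ Subgroup.zpowers e) = p ^ 2 := by
    have hze : Commute z e := hzc e (hEP heE)
    have h1 := Basics.card_mul_card_eq_card_sup_mul_card_inf (N := Subgroup.zpowers z) (H := Subgroup.zpowers e)
      (Subgroup.zpowers_le.mpr (Subgroup.centralizer_le_normalizer _ (Subgroup.mem_centralizer_iff.mpr (by
        rintro _ ⟨i, rfl⟩
        exact (hze.zpow_left i).eq))))
    rw [hbot, Subgroup.card_bot, mul_one, Nat.card_zpowers, Nat.card_zpowers, hzo, heo] at h1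
    rw [← h1, sq]
  have hE₂ : E₁ = Subgroup.zpowers z ⊔ Subgroup.zpowers e :=
    (Subgroup.eq_of_le_of_card_ge (sup_le le_sup_left (Subgroup.zpowers_le.mpr (Subgroup.mem_sup_right heE)))
      (hE₁card.trans hcard₂.ge)).symm
  -- elements of order `p` commuting with `e` lie in `E₁`
  have hCe : ∀ y ∈ P, y ^ p = 1 → Commute y e → y ∈ E₁ := by
    intro y hy hyp hye
    have hyE₁ : Subgroup.zpowers y ≤ Subgroup.centralizer (E₁ : Set G) := by
      rw [Subgroup.le_centralizer_iff, hE₂]
      refine sup_le (Subgroup.zpowers_le.mpr ?_) (Subgroup.zpowers_le.mpr ?_) <;>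
        refine Subgroup.mem_centralizer_iff.mpr ?_ <;> rintro _ ⟨i, rfl⟩
      · exact ((hzc y hy).symm.zpow_left i).eq
      · exact (hye.zpow_left i).eq
    have hyea : IsElementaryAbelian p (Subgroup.zpowers y) := by
      refine ⟨⟨⟨fun a b => ?_⟩⟩, ?_⟩
      · obtain ⟨i, hi⟩ := a.2
        obtain ⟨j, hj⟩ := b.2
        exact Subtype.ext (by simp only [Subgroup.coe_mul, ← hi, ← hj, ← zpow_add, add_comm])
      · rintro _ ⟨i, rfl⟩
        change (y ^ i) ^ p = 1
        rw [← zpow_natCast, ← zpow_mul, mul_comm, zpow_mul, zpow_natCast, hyp, one_zpow]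
    have hle : Subgroup.zpowers y ⊔ E₁ ≤ P ⊓ Subgroup.centralizer (E : Set G) :=
      sup_le (le_inf (Subgroup.zpowers_le.mpr hy) (hyE₁.trans (Subgroup.centralizer_le (SetLike.coe_subset_coe.mpr le_sup_right)))) hE₁C
    have hc := hr _ hle (ea_sup_of_commute hyea hE₁ea hyE₁)
    have heq : E₁ = Subgroup.zpowers y ⊔ E₁ :=
      Subgroup.eq_of_le_of_card_ge le_sup_right (hc.trans (by rw [hE₂, hcard₂]))
    rw [heq]
    exact Subgroup.mem_sup_left (Subgroup.mem_zpowers y)
  -- a characteristic subgroup of exponent `p` detecting elements of order prime to `p`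
  obtain ⟨C, hCc, hCexp, hdet⟩ := Fusion.exists_omega_detect hP
  set D := C.map P.subtype with hD
  haveI hDn : D.Normal := ConjAct.normal_of_characteristic_of_normal
  have hDP : D ≤ P := Subgroup.map_subtype_le C
  have hDexp : ∀ d ∈ D, d ^ p = 1 := by
    rintro _ ⟨c, hc, rfl⟩
    rcases hCexp c hc with h | ⟨h, -⟩
    · rw [← map_pow, h, map_one]
    · exact absurd h hp2
  obtain ⟨L, hL0, hLs⟩ : ∃ L : ℕ → Subgroup G, L 0 = D ∧ ∀ n, L (n + 1) = ⁅L n, P⁆ :=
    ⟨fun n => (fun S => ⁅S, P⁆)^[n] D, rfl, fun n => Function.iterate_succ_apply' _ n D⟩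
  have hLn : ∀ n, (L n).Normal := by
    intro n
    induction n with
    | zero => rw [hL0]; exact hDn
    | succ n ih => haveI := ih; rw [hLs]; exact Subgroup.commutator_normal (L n) P
  have hLle : ∀ n, L (n + 1) ≤ L n := fun n => by
    haveI := hLn n; rw [hLs]; exact Subgroup.commutator_le_left (L n) P
  have hLD : ∀ n, L n ≤ D := by
    intro n
    induction n with
    | zero => rw [hL0]
    | succ n ih => exact (hLle n).trans ih
  have hLlcs : ∀ n, L n ≤ P.lowerCentralSeries n := by
    intro n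
    induction n with
    | zero => rw [hL0]; exact hDP
    | succ n ih => rw [hLs]; exact Subgroup.commutator_mono ih le_rfl
  -- each factor has order at most `p ^ 2`
  have hfac : ∀ n, Nat.card (L n) ≤ p ^ 2 * Nat.card (L (n + 1)) := by
    intro n
    set K := (Subgroup.centralizer ({e} : Set G)).subgroupOf (L n) with hK
    have hKcard : Nat.card K ≤ p ^ 2 := by
      refine le_trans ?_ hE₁card
      refine Nat.card_le_card_of_injective (fun k : K => (⟨((k : ↥(L n)) : G), hCe _ (hDP (hLD n (k : ↥(L n)).2))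
        (hDexp _ (hLD n (k : ↥(L n)).2)) (Subgroup.mem_centralizer_singleton_iff.mp k.2)⟩ : E₁)) ?_
      intro a b h
      exact Subtype.ext (Subtype.ext (congrArg (fun t : E₁ => (t : G)) h))
    have hidx : K.index ≤ Nat.card (L (n + 1)) := by
      let f : ↥(L n) → ↥(L (n + 1)) :=
        fun d => ⟨⁅(d : G), e⁆, (hLs n).symm ▸ Subgroup.commutator_mem_commutator d.2 (hEP heE)⟩
      refine Nat.card_le_card_of_injective (α := ↥(L n) ⧸ K) (fun q => f q.out) ?_
      intro q₁ q₂ hq
      rw [← q₁.out_eq', ← q₂.out_eq', QuotientGroup.eq]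
      refine Subgroup.mem_subgroupOf.mpr (Subgroup.mem_centralizer_singleton_iff.mpr ?_)
      have h := congrArg Subtype.val hq
      simp only [f, commutatorElement_def] at h
      have h' : ((q₁.out : ↥(L n)) : G) * e * ((q₁.out : ↥(L n)) : G)⁻¹ = ((q₂.out : ↥(L n)) : G) * e * ((q₂.out : ↥(L n)) : G)⁻¹ :=
        mul_right_cancel h
      simp only [Subgroup.coe_mul, Subgroup.coe_inv]
      calc ((q₁.out : ↥(L n)) : G)⁻¹ * (q₂.out : ↥(L n)) * e
          = ((q₁.out : ↥(L n)) : G)⁻¹ * (((q₂.out : ↥(L n)) : G) * e * ((q₂.out : ↥(L n)) : G)⁻¹) * (q₂.out : ↥(L n)) := by group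
        _ = ((q₁.out : ↥(L n)) : G)⁻¹ * (((q₁.out : ↥(L n)) : G) * e * ((q₁.out : ↥(L n)) : G)⁻¹) * (q₂.out : ↥(L n)) := by rw [h']
        _ = e * (((q₁.out : ↥(L n)) : G)⁻¹ * (q₂.out : ↥(L n))) := by group
    rw [← Subgroup.card_mul_index K]
    exact Nat.mul_le_mul hKcard hidx
  -- so `x` centralizes each factor
  have hstep : ∀ n, ∀ d ∈ L n, d⁻¹ * (x * d * x⁻¹) ∈ L (n + 1) := by
    intro n d hd
    haveI := hLn (n + 1)
    haveI := hLn n
    set π := QuotientGroup.mk' (L (n + 1)) with hπ
    haveI : ((L n).map π).Normal := (hLn n).map π (QuotientGroup.mk'_surjective _)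
    have hTp : IsPGroup p ((L n).map π) := (hP.to_le ((hLD n).trans hDP)).map π
    have hTcard : Nat.card ((L n).map π) ≤ p ^ 2 := by
      have h := Basics.card_map_mul_card_inf_ker π (L n)
      rw [hπ, QuotientGroup.ker_mk', inf_eq_right.mpr (hLle n), ← hπ] at h
      exact Nat.le_of_mul_le_mul_right (h.trans_le (hfac n)) Nat.card_pos
    have hxT := derived_pPower_centralizes (G := G ⧸ L (n + 1)) (T := (L n).map π) (x := π x)
      (hodd.of_dvd_nat (Subgroup.card_quotient_dvd_card _)) hp2 hTp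
      (fun Y _ => (Subgroup.card_le_card_group Y).trans hTcard)
      (by
        have h : (commutator G).map π ≤ commutator (G ⧸ L (n + 1)) := by
          rw [commutator_def, Subgroup.map_commutator, commutator_def]
          exact Subgroup.commutator_mono le_top le_top
        exact h ⟨x, hx, rfl⟩)
      (hxo.coprime_dvd_left (orderOf_map_dvd π x))
    have h := Subgroup.mem_centralizer_iff.mp hxT (π d) ⟨d, hd, rfl⟩
    rw [← QuotientGroup.eq_one_iff, ← QuotientGroup.mk'_apply, ← hπ, map_mul, map_mul, map_mul, map_inv,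
      map_inv, ← h]
    group
  obtain ⟨c, hc⟩ := (Subgroup.isNilpotent_iff_lowerCentralSeries P).mp hP.isNilpotent
  have hfix : ∀ m n, n + m = c → ∀ d ∈ L n, Commute x d := by
    intro m
    induction m with
    | zero =>
      intro n hn d hd
      have : d ∈ (⊥ : Subgroup G) := by
        rw [← hc, ← hn]
        exact hLlcs n hd
      rw [Subgroup.mem_bot.mp this]
      exact Commute.one_right x
    | succ m ih =>
      intro n hn d hd
      obtain ⟨j, hj⟩ := hP ⟨_, hDP (hLD _ (hstep n d hd))⟩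
      exact LocalEvenA.comm_of_coprime_chain hxo ⟨j, congrArg Subtype.val hj⟩
        (ih (n + 1) (by omega) _ (hstep n d hd))
  have hfixD : ∀ d ∈ D, Commute x d := fun d hd => hfix c 0 (by omega) d (hL0.symm ▸ hd)
  set φ : MulAut P := MulAut.conjNormal x with hφdef
  have hφ : φ = 1 := hdet φ (hxo.coprime_dvd_left (orderOf_map_dvd _ x)) fun u hu => Subtype.ext (by
    rw [hφdef, MulAut.conjNormal_apply]
    exact mul_inv_eq_iff_eq_mul.mpr (hfixD u ⟨u, hu, rfl⟩).eq)
  refine Subgroup.mem_centralizer_iff.mpr fun u hu => ?_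
  have h := congrArg Subtype.val (DFunLike.congr_fun hφ (⟨u, hu⟩ : P))
  rw [hφdef, MulAut.conjNormal_apply] at h
  exact (mul_inv_eq_iff_eq_mul.mp h).symm

end Cfsg.Agent.OddLocal
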