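import Cfsg.Agent.Lib.OddLocal.RankTwo
import Cfsg.Agent.Lib.OddLocal.Narrow

/-! The second centre of a `p`-group with a maximal elementary abelian subgroup of order `p ^ 2`. -/

set_option autoImplicit false

namespace Cfsg.Agent.OddLocal

open scoped commutatorElement

variable {R : Type*} [Group R] [Finite R] {p : ℕ} [hp : Fact p.Prime]

/-- The elements of order dividing `p` of the centre. -/
def omegaCentre (p : ℕ) (R : Type*) [Group R] : Subgroup R where
  carrier := {x | x ∈ Subgroup.center R ∧ x ^ p = 1}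
  one_mem' := ⟨one_mem _, one_pow p⟩
  mul_mem' := fun {a b} ha hb => ⟨mul_mem ha.1 hb.1, by
    rw [Commute.mul_pow (Subgroup.mem_center_iff.mp ha.1 b).symm, ha.2, hb.2, one_mul]⟩
  inv_mem' := fun {a} ha => ⟨inv_mem ha.1, by rw [inv_pow, ha.2, inv_one]⟩

omit hp [Finite R] in
theorem closure_omegaCentre :
    Subgroup.closure {x : R | x ∈ Subgroup.center R ∧ x ^ p = 1} = omegaCentre p R :=
  (omegaCentre p R).closure_eq

omit hp [Finite R] in
theorem isElementaryAbelian_omegaCentre : IsElementaryAbelian p (omegaCentre p R) :=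
  ⟨⟨⟨fun a b => Subtype.ext (Subgroup.mem_center_iff.mp b.2.1 a.1)⟩⟩, fun _ ha => ha.2⟩

omit hp [Finite R] in
theorem mem_upperCentralSeries_two {x : R} :
    x ∈ Subgroup.upperCentralSeries R 2 ↔ ∀ y : R, ⁅x, y⁆ ∈ Subgroup.center R := by
  rw [Subgroup.mem_upperCentralSeries_succ_iff (n := 1)]
  refine forall_congr' fun y => ?_
  rw [Subgroup.upperCentralSeries_one, commutatorElement_def]

/-- The elements of order dividing `p` of the second centre, `p` odd. -/
def omegaSecond (hp2 : p ≠ 2) : Subgroup R where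
  carrier := {x | x ∈ Subgroup.upperCentralSeries R 2 ∧ x ^ p = 1}
  one_mem' := ⟨one_mem _, one_pow p⟩
  mul_mem' := fun {a b} ha hb => ⟨mul_mem ha.1 hb.1, by
    have hc : ∀ z : R, Commute ⁅b, a⁆ z := fun z =>
      (Subgroup.mem_center_iff.mp (mem_upperCentralSeries_two.mp hb.1 a) z).symm
    have hcp : ⁅b, a⁆ ^ p = 1 := by
      rw [← Transfer.commutator_pow_left (hc b).symm p, hb.2, commutatorElement_one_left]
    rw [Transfer.mul_pow_of_commute (hc a) (hc b), ha.2, hb.2, one_mul, one_mul]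
    obtain ⟨m, hm⟩ : p ∣ p.choose 2 :=
      hp.out.dvd_choose_self two_ne_zero (lt_of_le_of_ne hp.out.two_le (Ne.symm hp2))
    rw [hm, pow_mul, hcp, one_pow]⟩
  inv_mem' := fun {a} ha => ⟨inv_mem ha.1, by rw [inv_pow, ha.2, inv_one]⟩

omit [Finite R] in
theorem closure_omegaSecond (hp2 : p ≠ 2) :
    Subgroup.closure {x : R | x ∈ Subgroup.upperCentralSeries R 2 ∧ x ^ p = 1} = omegaSecond hp2 :=
  (omegaSecond hp2).closure_eq

omit [Finite R] in
theorem omegaSecond_characteristic (hp2 : p ≠ 2) : (omegaSecond (R := R) hp2).Characteristic := by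
  rw [Subgroup.characteristic_iff_comap_eq]
  intro φ
  ext x
  change φ x ∈ Subgroup.upperCentralSeries R 2 ∧ φ x ^ p = 1 ↔ x ∈ Subgroup.upperCentralSeries R 2 ∧ x ^ p = 1
  rw [← map_pow, map_eq_one_iff φ φ.injective]
  refine and_congr_left fun _ => ?_
  conv_rhs => rw [← Subgroup.characteristic_iff_comap_eq.mp (inferInstance : (Subgroup.upperCentralSeries R 2).Characteristic) φ]
  rfl

/-- A subgroup of order `p ^ 2` which is maximal elementary abelian. -/
structure MaxEATwo (p : ℕ) (E : Subgroup R) : Prop where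
  ea : IsElementaryAbelian p E
  card : Nat.card E = p ^ 2
  mem : ∀ x : R, x ^ p = 1 → x ∈ Subgroup.centralizer (E : Set R) → x ∈ E

theorem MaxEATwo.of_maximal {E : Subgroup R} (hE : IsElementaryAbelian p E) (hE2 : Nat.card E = p ^ 2)
    (hmax : ∀ B : Subgroup R, IsElementaryAbelian p B → E ≤ B → B = E) : MaxEATwo p E := by
  refine ⟨hE, hE2, fun x hx hxC => ?_⟩
  have hxea : IsElementaryAbelian p (Subgroup.zpowers x) := by
    refine ⟨⟨⟨fun a b => ?_⟩⟩, ?_⟩
    · obtain ⟨i, hi⟩ := a.2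
      obtain ⟨j, hj⟩ := b.2
      exact Subtype.ext (by simp only [Subgroup.coe_mul, ← hi, ← hj, ← zpow_add, add_comm])
    · rintro _ ⟨i, rfl⟩
      change (x ^ i) ^ p = 1
      rw [← zpow_natCast, ← zpow_mul, mul_comm, zpow_mul, zpow_natCast, hx, one_zpow]
  have hB := ea_sup_of_commute hE hxea (Subgroup.le_centralizer_iff.mp (Subgroup.zpowers_le.mpr hxC))
  exact (hmax _ hB le_sup_left).le (Subgroup.mem_sup_right (Subgroup.mem_zpowers x))

variable {E : Subgroup R}

theorem MaxEATwo.not_normal (hp2 : p ≠ 2) (hR : IsPGroup p R) (hr : ¬ PRankLE p 2 R) (h : MaxEATwo p E) :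
    ¬ E.Normal := by
  intro hn
  haveI := hn
  obtain ⟨B, hEB, hB⟩ := exists_isMaxNormalEA p h.ea
  obtain rfl : B = E := le_antisymm (fun x hx => h.mem x (hB.2.1.2 x hx)
    (Subgroup.mem_centralizer_iff.mpr fun e he => (ea_commute hB.2.1 (hEB he) hx).eq)) hEB
  refine hr fun F hFc hFe => ?_
  by_contra hF
  push Not at hF
  have hidx := index_centralizer_le hR B h.ea h.card.le
  have hsub : F ⊓ Subgroup.centralizer (B : Set R) ≤ B := fun x hx => h.mem x (hFe x hx.1) hx.2
  by_cases hBF : B ≤ F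
  · have : Nat.card F ≤ p ^ 2 := h.card ▸ Subgroup.card_le_of_le fun x hx => h.mem x (hFe x hx)
      (Subgroup.mem_centralizer_iff.mpr fun e he => congrArg Subtype.val (hFc.is_comm.comm ⟨e, hBF he⟩ ⟨x, hx⟩))
    omega
  have hlt : Nat.card ↥(F ⊓ Subgroup.centralizer (B : Set R)) ≤ p := by
    obtain ⟨n, hn'⟩ := (hR.to_subgroup (F ⊓ Subgroup.centralizer (B : Set R))).exists_card_eq
    have h1 := Basics.card_lt_of_lt (lt_of_le_of_ne hsub (fun e => hBF (e.ge.trans inf_le_left)))
    rw [hn', h.card, Nat.pow_lt_pow_iff_right hp.out.one_lt] at h1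
    rw [hn']
    exact (Nat.pow_le_pow_right hp.out.pos (by omega : n ≤ 1)).trans (pow_one p).le
  have h2 : Nat.card ↥(F ⊓ Subgroup.centralizer (B : Set R)) * (Subgroup.centralizer (B : Set R)).relIndex F = Nat.card F := by
    rw [← Subgroup.inf_relIndex_left, Subgroup.relIndex,
      ← Basics.card_subgroupOf (inf_le_left : F ⊓ Subgroup.centralizer (B : Set R) ≤ F), Subgroup.card_mul_index]
  have h3 : Nat.card F ≤ p * p := h2 ▸ Nat.mul_le_mul hlt ((Nat.le_of_dvd
    (Nat.pos_of_ne_zero Subgroup.index_ne_zero_of_finite) (Subgroup.relIndex_dvd_index_of_normal _ F)).trans hidx)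
  rw [← sq] at h3
  omega

theorem MaxEATwo.omegaCentre_lt (hp2 : p ≠ 2) (hR : IsPGroup p R) (hr : ¬ PRankLE p 2 R) (h : MaxEATwo p E) :
    omegaCentre p R < E := by
  refine lt_of_le_of_ne (fun x hx => h.mem x hx.2 (Subgroup.mem_centralizer_iff.mpr fun e _ =>
    Subgroup.mem_center_iff.mp hx.1 e)) fun e => h.not_normal hp2 hR hr ?_
  rw [← e]
  refine ⟨fun x hx g => ?_⟩
  rw [Subgroup.mem_center_iff.mp hx.1 g, mul_inv_cancel_right]
  exact hx

theorem MaxEATwo.card_omegaCentre (hp2 : p ≠ 2) (hR : IsPGroup p R) (hr : ¬ PRankLE p 2 R) (h : MaxEATwo p E) :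
    Nat.card (omegaCentre p R) = p := by
  haveI : Nontrivial R := by
    by_contra hn
    rw [not_nontrivial_iff_subsingleton] at hn
    exact hr fun X _ _ => (by rw [Nat.card_of_subsingleton (1 : X)]; exact Nat.one_le_pow _ _ hp.out.pos)
  haveI : Nontrivial (Subgroup.center R) := hR.center_nontrivial
  obtain ⟨n, hn⟩ := (hR.to_subgroup (omegaCentre p R)).exists_card_eq
  have h1 := Basics.card_lt_of_lt (h.omegaCentre_lt hp2 hR hr)
  rw [hn, h.card, Nat.pow_lt_pow_iff_right hp.out.one_lt] at h1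
  obtain ⟨m, hm⟩ := (hR.to_subgroup (Subgroup.center R)).exists_card_eq
  have hm0 : m ≠ 0 := by
    rintro rfl
    exact absurd hm (by simpa using (Finite.one_lt_card (α := Subgroup.center R)).ne')
  obtain ⟨z, hz⟩ := exists_prime_orderOf_dvd_card' (G := Subgroup.center R) p (hm ▸ dvd_pow_self p hm0)
  have hzm : (z : R) ∈ omegaCentre p R :=
    ⟨z.2, congrArg Subtype.val (hz ▸ pow_orderOf_eq_one z : z ^ p = 1)⟩
  have hn0 : n ≠ 0 := by
    rintro rfl
    rw [pow_zero, Subgroup.card_eq_one] at hn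
    rw [hn, Subgroup.mem_bot] at hzm
    exact hp.out.one_lt.ne (by rw [← hz, orderOf_eq_one_iff.mpr (Subtype.ext hzm : z = 1)])
  rw [hn, show n = 1 by omega, pow_one]

/-- The structure theorem. -/
theorem MaxEATwo.second (hp2 : p ≠ 2) (hR : IsPGroup p R) (hr : ¬ PRankLE p 2 R) (h : MaxEATwo p E) :
    IsElementaryAbelian p (omegaSecond (R := R) hp2) ∧ Nat.card (omegaSecond (R := R) hp2) = p ^ 2 ∧
      ¬ E ≤ Subgroup.centralizer (omegaSecond (R := R) hp2 : Set R) ∧
      (Subgroup.centralizer (omegaSecond (R := R) hp2 : Set R)).index = p ∧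
      omegaCentre p R < omegaSecond hp2 ∧ omegaSecond hp2 ⊓ E = omegaCentre p R := by
  set W := omegaSecond (R := R) hp2
  set Z := omegaCentre p R
  have hZc : Nat.card Z = p := h.card_omegaCentre hp2 hR hr
  have hZW : Z ≤ W := fun x hx => ⟨mem_upperCentralSeries_two.mpr fun y => by
    have : ⁅x, y⁆ = 1 := commutatorElement_eq_one_iff_mul_comm.mpr (Subgroup.mem_center_iff.mp hx.1 y).symm
    rw [this]; exact one_mem _, hx.2⟩
  have hZE : Z < E := h.omegaCentre_lt hp2 hR hr
  -- commutators of `W` lie in `Z`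
  have hcomm : ∀ w ∈ W, ∀ y : R, ⁅w, y⁆ ∈ Z := by
    intro w hw y
    refine ⟨mem_upperCentralSeries_two.mp hw.1 y, ?_⟩
    rw [← Transfer.commutator_pow_left (Subgroup.mem_center_iff.mp (mem_upperCentralSeries_two.mp hw.1 y) w) p,
      hw.2, commutatorElement_one_left]
  have hZn : Z.Normal := ⟨fun x hx g => by
    rw [Subgroup.mem_center_iff.mp hx.1 g, mul_inv_cancel_right]; exact hx⟩
  haveI := hZn
  have hWE : W ⊓ E = Z := by
    refine le_antisymm ?_ (le_inf hZW hZE.le)
    by_contra hnot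
    obtain ⟨e, he, heZ⟩ := SetLike.not_le_iff_exists.mp hnot
    refine h.not_normal hp2 hR hr ?_
    have hsup : Z ⊔ Subgroup.zpowers e = E := by
      refine Subgroup.eq_of_le_of_card_ge (sup_le hZE.le (Subgroup.zpowers_le.mpr he.2)) ?_
      obtain ⟨n, hn⟩ := (hR.to_subgroup (Z ⊔ Subgroup.zpowers e : Subgroup R)).exists_card_eq
      have h1 : Z < Z ⊔ Subgroup.zpowers e :=
        lt_of_le_of_ne le_sup_left fun e' => heZ (e'.ge (Subgroup.mem_sup_right (Subgroup.mem_zpowers e)))
      have h2 := Basics.card_lt_of_lt h1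
      rw [hn, hZc] at h2
      rw [hn, h.card]
      refine Nat.pow_le_pow_right hp.out.pos ?_
      by_contra hlt
      exact absurd h2 (not_lt.mpr ((Nat.pow_le_pow_right hp.out.pos (by omega : n ≤ 1)).trans (pow_one p).le))
    have hEW : E ≤ W := hsup ▸ sup_le hZW (Subgroup.zpowers_le.mpr he.1)
    refine ⟨fun x hx g => ?_⟩
    have e : g * x * g⁻¹ = (⁅x, g⁆)⁻¹ * x := by rw [commutatorElement_def]; group
    rw [e]
    exact mul_mem (inv_mem (hZE.le (hcomm x (hEW hx) g))) hx
  -- a noncentral element of order `p` in the second centre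
  have hnot : ¬ W ≤ Z := by
    obtain ⟨B, hZB, hB⟩ := exists_isMaxNormalEA p (isElementaryAbelian_omegaCentre (R := R) (p := p))
    haveI := hB.1
    have hne : (B.map (QuotientGroup.mk' Z)) ≠ ⊥ := by
      rw [Ne, Subgroup.map_eq_bot_iff, QuotientGroup.ker_mk']
      intro hBZ
      obtain ⟨e, he, heZ⟩ := SetLike.not_le_iff_exists.mp hZE.not_ge
      exact heZ (hBZ (mem_of_isMaxNormalEA hp2 hR hB (Subgroup.mem_centralizer_iff.mpr fun b hb =>
        (Subgroup.mem_center_iff.mp (hBZ hb).1 e).symm) (h.ea.2 e he)))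
    haveI : (B.map (QuotientGroup.mk' Z)).Normal := hB.1.map _ (QuotientGroup.mk'_surjective Z)
    obtain ⟨_, ⟨x, hx, rfl⟩, hxc, hx1⟩ := exists_mem_center_ne_one_of_normal (hR.to_quotient Z) _ hne
    intro hWZ
    refine hx1 ((QuotientGroup.eq_one_iff x).mpr (hWZ ⟨mem_upperCentralSeries_two.mpr fun y => ?_, hB.2.1.2 x hx⟩))
    have h1 : QuotientGroup.mk' Z ⁅x, y⁆ = 1 := by
      rw [map_commutatorElement, commutatorElement_eq_one_iff_mul_comm]
      exact (Subgroup.mem_center_iff.mp hxc _).symm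
    exact ((QuotientGroup.eq_one_iff _).mp h1).1
  -- `W ∩ C(E) = Z`, so `|W| ≤ p |Z|`
  obtain ⟨e, he, heZ⟩ := SetLike.not_le_iff_exists.mp hZE.not_ge
  have hCe : ∀ w ∈ W, Commute w e → w ∈ Z := by
    intro w hw hwe
    have hsup : E = Z ⊔ Subgroup.zpowers e := by
      refine (Subgroup.eq_of_le_of_card_ge (sup_le hZE.le (Subgroup.zpowers_le.mpr he)) ?_).symm
      obtain ⟨n, hn⟩ := (hR.to_subgroup (Z ⊔ Subgroup.zpowers e : Subgroup R)).exists_card_eq
      have h2 := Basics.card_lt_of_lt (lt_of_le_of_ne (le_sup_left (a := Z) (b := Subgroup.zpowers e))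
        fun e' => heZ (e'.ge (Subgroup.mem_sup_right (Subgroup.mem_zpowers e))))
      rw [hn, hZc] at h2
      rw [hn, h.card]
      refine Nat.pow_le_pow_right hp.out.pos ?_
      by_contra hlt
      exact absurd h2 (not_lt.mpr ((Nat.pow_le_pow_right hp.out.pos (by omega : n ≤ 1)).trans (pow_one p).le))
    rw [← hWE]
    refine ⟨hw, h.mem w hw.2 ?_⟩
    have : E ≤ Subgroup.centralizer ({w} : Set R) := by
      rw [hsup]
      refine sup_le (fun z hz => Subgroup.mem_centralizer_singleton_iff.mpr (Subgroup.mem_center_iff.mp hz.1 w).symm)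
        (Subgroup.zpowers_le.mpr (Subgroup.mem_centralizer_singleton_iff.mpr hwe.eq.symm))
    exact Subgroup.mem_centralizer_iff.mpr fun z hz => Subgroup.mem_centralizer_singleton_iff.mp (this hz)
  have hWcard : Nat.card W = p ^ 2 := by
    let f : W →* Z :=
      { toFun := fun w => ⟨⁅(w : R), e⁆, hcomm w w.2 e⟩
        map_one' := Subtype.ext (commutatorElement_one_left e)
        map_mul' := fun a b => Subtype.ext (by
          have hb := (hcomm b b.2 e).1
          change ⁅(a : R) * b, e⁆ = ⁅(a : R), e⁆ * ⁅(b : R), e⁆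
          calc ⁅(a : R) * b, e⁆ = (a : R) * ⁅(b : R), e⁆ * (a : R)⁻¹ * ⁅(a : R), e⁆ := by
                simp only [commutatorElement_def]; group
            _ = ⁅(b : R), e⁆ * ⁅(a : R), e⁆ := by rw [Subgroup.mem_center_iff.mp hb a, mul_inv_cancel_right]
            _ = ⁅(a : R), e⁆ * ⁅(b : R), e⁆ := (Subgroup.mem_center_iff.mp hb _).symm) }
    have hker : Nat.card f.ker ≤ p := by
      rw [← hZc]
      refine Nat.card_le_card_of_injective (fun k : f.ker => (⟨((k : W) : R), hCe _ (k : W).2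
        (commutatorElement_eq_one_iff_mul_comm.mp (congrArg Subtype.val k.2))⟩ : Z)) ?_
      intro a b hab
      exact Subtype.ext (Subtype.ext (congrArg (fun t : Z => (t : R)) hab))
    have hle : Nat.card W ≤ p ^ 2 := by
      rw [← Subgroup.card_mul_index f.ker, sq]
      refine Nat.mul_le_mul hker ?_
      rw [Subgroup.index_ker, ← hZc]
      exact Nat.card_le_card_of_injective _ f.range.subtype_injective
    obtain ⟨n, hn⟩ := (hR.to_subgroup W).exists_card_eq
    have h1 := Basics.card_lt_of_lt (lt_of_le_not_ge hZW hnot)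
    rw [hn, hZc] at h1
    refine le_antisymm hle ?_
    rw [hn]
    refine Nat.pow_le_pow_right hp.out.pos ?_
    by_contra hlt
    exact absurd h1 (not_lt.mpr ((Nat.pow_le_pow_right hp.out.pos (by omega : n ≤ 1)).trans (pow_one p).le))
  haveI hWn : W.Normal := by haveI := omegaSecond_characteristic (R := R) hp2; infer_instance
  have hWea : IsElementaryAbelian p W :=
    ⟨⟨⟨IsPGroup.commutative_of_card_eq_prime_sq hWcard⟩⟩, fun a ha => ha.2⟩
  have hEnle : ¬ E ≤ Subgroup.centralizer (W : Set R) := fun hle => hnot fun w hw =>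
    hCe w hw (Subgroup.mem_centralizer_iff.mp (hle he) w hw)
  refine ⟨hWea, hWcard, hEnle, ?_, lt_of_le_not_ge hZW hnot, hWE⟩
  have h1 := index_centralizer_le hR W hWea hWcard.le
  obtain ⟨n, hn⟩ := hR.index (Subgroup.centralizer (W : Set R))
  rw [hn] at h1 ⊢
  rcases Nat.eq_zero_or_pos n with rfl | hn0
  · exact absurd (Subgroup.index_eq_one.mp (hn.trans (pow_zero p))) (fun e' => hEnle (by rw [e']; exact le_top))
  · exact le_antisymm h1 (by simpa using Nat.pow_le_pow_right hp.out.pos hn0)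

end Cfsg.Agent.OddLocal
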