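import Cfsg.Agent.Lib.OddLocal.ExceptionalC
import Cfsg.Agent.S1451

/-! Elementary abelian subgroups of order `p ^ 2` of a maximal subgroup (BG 12.3). -/

set_option autoImplicit false
set_option linter.unusedSectionVars false
set_option linter.style.haveILetI false

namespace Cfsg.Agent.OddLocal

open scoped commutatorElement Pointwise
open Cfsg
open Basics (IsSylowIn)

universe u

variable {G : Type u} [Group G] [Finite G] {p : ℕ} [hp : Fact p.Prime]

theorem sigma_of_conj {M : Subgroup G} {q : ℕ} {g : G} (h : q ∈ Cfsg.sigma (M.map (MulAut.conj g).toMonoidHom)) :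
    q ∈ Cfsg.sigma M := by
  set M' := M.map (MulAut.conj g).toMonoidHom with hM'
  obtain ⟨hq, hd, P, hP⟩ := h
  haveI := Fact.mk hq
  have hcard : Nat.card M' = Nat.card M := Subgroup.card_map_of_injective (MulAut.conj g).injective
  set PG := (P : Subgroup M').map M'.subtype with hPG
  set Q := PG.map (MulAut.conj g⁻¹).toMonoidHom with hQdef
  have hQ : IsSylowIn q M Q := by
    refine ⟨(Subgroup.map_mono (Subgroup.map_subtype_le _)).trans ?_, ?_⟩
    · rw [hM', map_conj_map_conj, inv_mul_cancel, map_conj_one]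
    · rw [Subgroup.card_map_of_injective (MulAut.conj g⁻¹).injective, (Basics.isSylowIn_map P).2, hcard]
  obtain ⟨S, hS⟩ := hQ.exists_sylow
  refine ⟨hq, hcard ▸ hd, S, ?_⟩
  rw [hS]
  intro x hx
  have hx' : g * x * g⁻¹ ∈ Subgroup.normalizer (PG : Set G) := by
    have hback : Q.map (MulAut.conj g).toMonoidHom = PG := by
      rw [hQdef, map_conj_map_conj, mul_inv_cancel, map_conj_one]
    rw [← hback]
    exact Subgroup.le_normalizer_map _ ⟨x, hx, rfl⟩
  obtain ⟨m, hm, e⟩ := hP hx'
  exact ((MulAut.conj g).injective e) ▸ hm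

/-- Two maximal subgroups with a common prime of rank three in their `σ`-sets are conjugate. -/
theorem exists_conj_of_rank_three (hG : IsMinSimpleOddOrder G) {M L : Subgroup G} (hM : IsCoatom M) (hL : IsCoatom L)
    {r : ℕ} [hr : Fact r.Prime] (hrM : r ∈ Cfsg.sigma M) (hrL : r ∈ Cfsg.sigma L) (h3 : ¬ PRankLE r 2 L) :
    ∃ g : G, L = M.map (MulAut.conj g).toMonoidHom := by
  obtain ⟨X, hXL, hX, hX3⟩ := exists_ea_three h3
  obtain ⟨g, hg⟩ := exists_conj_ge hG hM hrM (isPGroup_of_exponent hX.2)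
  exact ⟨g, eq_of_rank_three hG (isCoatom_map_conj hM g) hL hX hX3 hg hXL⟩

/-- The normalizer of a line, uniquely contained in `M`. -/
def LineUnique (M X : Subgroup G) : Prop :=
  Subgroup.normalizer (X : Set G) ≤ M ∧
    ∀ L : Subgroup G, IsCoatom L → Subgroup.normalizer (X : Set G) ≤ L → L = M

theorem centralizer_le_of_lineUnique {M A X : Subgroup G} (hXA : X ≤ A) (hu : LineUnique M X) :
    Subgroup.centralizer (A : Set G) ≤ M :=
  ((Subgroup.centralizer_le hXA).trans (Subgroup.centralizer_le_normalizer _)).trans hu.1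

theorem line_ne_top (hG : IsMinSimpleOddOrder G) {X : Subgroup G} (hX : Nat.card X = p) :
    X ≠ ⊥ ∧ X ≠ ⊤ := by
  refine ⟨fun e => ?_, pGroup_ne_top hG (IsPGroup.of_card (n := 1) (hX.trans (pow_one p).symm))⟩
  rw [e, Subgroup.card_bot] at hX
  exact hp.out.one_lt.ne hX

theorem exists_other_of_not_lineUnique (hG : IsMinSimpleOddOrder G) {M X : Subgroup G} (hX : Nat.card X = p)
    (hu : ¬ LineUnique M X) : ∃ L : Subgroup G, IsCoatom L ∧ L ≠ M ∧ Subgroup.normalizer (X : Set G) ≤ L := by
  obtain ⟨L, hL, hle⟩ := exists_maximal_ge (normalizer_ne_top hG (line_ne_top hG hX).1 (line_ne_top hG hX).2)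
  by_cases hne : L = M
  · subst hne
    by_contra hc
    push Not at hc
    exact hu ⟨hle, fun L' hL' hle' => by_contra fun h => hc L' hL' h hle'⟩
  · exact ⟨L, hL, hne, hle⟩

theorem lineUnique_of_rank_three (hG : IsMinSimpleOddOrder G) {M X B : Subgroup G} (hM : IsCoatom M)
    {r : ℕ} [hr : Fact r.Prime] (hX : Nat.card X = p)
    (hB : IsElementaryAbelian r B) (hB3 : r ^ 2 < Nat.card B) (hBM : B ≤ M)
    (hBX : B ≤ Subgroup.centralizer (X : Set G)) : LineUnique M X :=
  le_of_rank_three hG hM hB hB3 hBM (normalizer_ne_top hG (line_ne_top hG hX).1 (line_ne_top hG hX).2)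
    (hBX.trans (Subgroup.centralizer_le_normalizer _))

section

variable {M A : Subgroup G}

/-- If `p ∈ α(M)` some line has its normalizer uniquely in `M`. -/
theorem exists_lineUnique_of_alpha (hG : IsMinSimpleOddOrder G) (hM : IsCoatom M) (hAM : A ≤ M)
    (hA : IsElementaryAbelian p A) (hA2 : Nat.card A = p ^ 2) (h3 : ¬ PRankLE p 2 M) :
    ∃ X : Subgroup G, X ≤ A ∧ Nat.card X = p ∧ LineUnique M X := by
  have hAp : IsPGroup p A := isPGroup_of_exponent hA.2
  have hA1 : A ≠ ⊥ := fun e => by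
    rw [e, Subgroup.card_bot] at hA2
    exact (Nat.one_lt_pow two_ne_zero hp.out.one_lt).ne hA2
  obtain ⟨P, hP, hAP⟩ := exists_sylowIn_ge hAp hAM
  obtain ⟨B, hBM, hB, hB3⟩ := exists_ea_three h3
  obtain ⟨S₀, hS₀, hBS₀⟩ := exists_sylowIn_ge (isPGroup_of_exponent hB.2) hBM
  obtain ⟨k, hk, e⟩ := hS₀.exists_conj hP
  set B' := MulAut.conj k • B with hB'
  have hB'P : B' ≤ P := e ▸ Subgroup.pointwise_smul_le_pointwise_smul_iff.mpr hBS₀
  have hB'3 : p ^ 2 < Nat.card B' := by rwa [hB', Basics.card_conj_smul]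
  obtain ⟨z, hzP, hzo, hzc⟩ := exists_central_mem hP.isPGroup le_rfl Subgroup.le_normalizer
    (fun e' => hA1 (le_bot_iff.mp (e' ▸ hAP)))
  have hz1 : z ≠ 1 := fun e' => by rw [e', orderOf_one] at hzo; exact hp.out.one_lt.ne hzo
  by_cases hzA : z ∈ A
  · refine ⟨Subgroup.zpowers z, Subgroup.zpowers_le.mpr hzA, card_zpowers_of_ea hA hzA hz1,
      lineUnique_of_rank_three hG hM (card_zpowers_of_ea hA hzA hz1) (ea_map hB _) hB'3 (hB'P.trans hP.1)
        (hB'P.trans (hzc.trans ?_))⟩
    rw [Subgroup.zpowers_eq_closure, Subgroup.centralizer_closure]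
  · obtain ⟨a, ha, hao⟩ := exists_orderOf_eq hAp hA1
    have ha1 : a ≠ 1 := fun e' => by rw [e', orderOf_one] at hao; exact hp.out.one_lt.ne hao
    have hzC : z ∈ Subgroup.centralizer (A : Set G) := Subgroup.mem_centralizer_iff.mpr fun x hx =>
      Subgroup.mem_centralizer_singleton_iff.mp (hzc (hAP hx))
    have hE := ea_sup_zpowers hA hzC (hzo ▸ pow_orderOf_eq_one z)
    refine ⟨Subgroup.zpowers a, Subgroup.zpowers_le.mpr ha, card_zpowers_of_ea hA ha ha1,
      lineUnique_of_rank_three hG hM (card_zpowers_of_ea hA ha ha1) hE ?_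
        (sup_le hAM (Subgroup.zpowers_le.mpr (hP.1 hzP))) ?_⟩
    · rw [← hA2]
      refine lt_of_le_of_ne (Subgroup.card_le_of_le le_sup_left) fun e' => hzA ?_
      exact (Subgroup.eq_of_le_of_card_ge le_sup_left e'.ge).ge (Subgroup.mem_sup_right (Subgroup.mem_zpowers z))
    · exact (Subgroup.le_centralizer_iff_isMulCommutative.mpr hE.1).trans
        (Subgroup.centralizer_le ((Subgroup.zpowers_le.mpr ha).trans le_sup_left))

/-- All lines having another maximal subgroup above their normalizer forces `p ∈ σ(M)`. -/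
theorem mem_sigma_of_all_lines (hG : IsMinSimpleOddOrder G) (hM : IsCoatom M) (hAM : A ≤ M)
    (hA : IsElementaryAbelian p A) (hA2 : Nat.card A = p ^ 2)
    (hnu : ∀ X : Subgroup G, X ≤ A → Nat.card X = p → ¬ LineUnique M X) : p ∈ Cfsg.sigma M := by
  by_contra hps
  have hAp : IsPGroup p A := isPGroup_of_exponent hA.2
  have hAN : A ≤ Subgroup.normalizer (Cfsg.sigmaCore M : Set G) := hAM.trans (le_normalizer_sigmaCore M)
  have hp2 : p ≠ 2 := prime_ne_two hG
    ((hA2 ▸ dvd_pow_self p two_ne_zero).trans (Subgroup.card_subgroup_dvd_card A))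
  haveI := hAp.isNilpotent
  have hsolA : Group.IsSolvable A := inferInstance
  -- `A` centralizes the invariant `r`-subgroups unless `r ∈ β(L)`
  have hkey : ∀ (r : ℕ) [Fact r.Prime], r ≠ p → ∀ S : Subgroup G, S ≤ M → IsPGroup r S →
      A ≤ Subgroup.normalizer (S : Set G) → A ≤ Subgroup.centralizer (S : Set G) ∨
      ∃ L : Subgroup G, IsCoatom L ∧ p ∈ Cfsg.sigma L ∧ r ∈ Cfsg.beta L ∧
        ∃ y ∈ S, orderOf y = r ∧ y ∈ ⁅M, M⁆ := by
    intro r hrF hrp S hSM hS hAS
    by_contra hcon
    push Not at hcon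
    obtain ⟨hnc, hcon⟩ := hcon
    refine hnc (Subgroup.le_centralizer_iff.mp ?_)
    have hpS : ¬ p ∣ Nat.card S := fun e => by
      obtain ⟨k, hk⟩ := IsPGroup.iff_card.mp hS
      exact hrp.symm ((Nat.prime_dvd_prime_iff_eq hp.out hrF.out).mp (hp.out.dvd_of_dvd_pow (hk ▸ e)))
    refine le_of_lines hA hA2 hAS hpS fun X hXA hX => ?_
    obtain ⟨L, hL, hLM, hNL⟩ := exists_other_of_not_lineUnique hG hX (hnu X hXA hX)
    set U := S ⊓ Subgroup.centralizer (X : Set G) with hU
    have hAX : A ≤ Subgroup.centralizer (X : Set G) :=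
      (Subgroup.le_centralizer_iff_isMulCommutative.mpr hA.1).trans (Subgroup.centralizer_le hXA)
    have hAL : A ≤ L := (hAX.trans (Subgroup.centralizer_le_normalizer _)).trans hNL
    have hUL : U ≤ L := (inf_le_right.trans (Subgroup.centralizer_le_normalizer _)).trans hNL
    have hAU : A ≤ Subgroup.normalizer (U : Set G) :=
      (le_inf hAS (hAX.trans Subgroup.le_normalizer)).trans le_normalizer_inf'
    have hUp : IsPGroup r U := hS.to_le inf_le_left
    have hcopU : (Nat.card A).Coprime (Nat.card U) :=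
      (coprime_of_pGroup hAp hpS).coprime_dvd_right (Subgroup.card_dvd_of_le inf_le_left)
    suffices hc : A ≤ Subgroup.centralizer (U : Set G) from Subgroup.le_centralizer_iff.mp hc
    by_cases hpL : p ∈ Cfsg.sigma L
    · by_cases hrb : r ∈ Cfsg.beta L
      · by_contra hnc'
        have hne : ⁅U, A⁆ ≠ ⊥ := fun e => hnc' <| by
          rw [Subgroup.commutator_comm] at e
          exact Subgroup.commutator_eq_bot_iff_le_centralizer.mp e
        have hle : ⁅U, A⁆ ≤ U := Subgroup.le_normalizer_iff_commutator_le_left.mp hAU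
        obtain ⟨y, hy, hyo⟩ := exists_orderOf_eq (hUp.to_le hle) hne
        exact hcon L hL hpL hrb y (hle hy).1 hyo (Subgroup.commutator_mono (inf_le_left.trans hSM) hAM hy)
      · haveI := hUp.isNilpotent
        exact le_centralizer_of_commutator_le hG hL hrb hUp (Subgroup.commutator_mono hUL hAL)
          ((pGroup_le_sigmaCore hG hL hpL hAp hAL).trans (sigmaCore_le_derived hG hL))
          (fun e => by
            rw [hA2] at e
            exact hrp ((Nat.prime_dvd_prime_iff_eq hrF.out hp.out).mp (hrF.out.dvd_of_dvd_pow e)))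
          hAU inferInstance
    · have e : Exc p L A X := ⟨hL, hpL, hAL, hA, hA2, hXA, hX, hNL⟩
      refine Basics.le_centralizer_of_commutator_commutator_eq_bot A U hAU hcopU (Or.inl hsolA) ?_
      have hb : ⁅U, A⁆ = ⊥ := by
        refine le_bot_iff.mp fun x hx => ?_
        have hxU : x ∈ U := Subgroup.le_normalizer_iff_commutator_le_left.mp hAU hx
        have hsup : ⁅U, A⁆ ≤ Cfsg.sigmaCore L ⊔ A :=
          (Subgroup.commutator_mono le_rfl le_sup_right).trans
            (Subgroup.le_normalizer_iff_commutator_le_right.mp (hUL.trans (e.le_normalizer_sup hG)))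
        obtain ⟨s, hs, a, ha, rfl⟩ := (Basics.mem_sup_of_le_normalizer (hAL.trans (le_normalizer_sigmaCore L))).mp
          (hsup hx)
        have hsM : s ∈ M := by
          have h1 := mul_mem (hSM hxU.1) (inv_mem (hAM ha))
          rwa [mul_inv_cancel_right] at h1
        have hs1 : s = 1 := by
          have h1 : s ∈ Cfsg.sigmaCore L ⊓ M := ⟨hs, hsM⟩
          rwa [e.inf_maximal hG hM hLM.symm hAM, Subgroup.mem_bot] at h1
        rw [hs1, one_mul] at hxU ⊢
        have h2 : a ∈ A ⊓ U := ⟨ha, hxU⟩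
        rwa [(Subgroup.disjoint_of_coprime_natCard hcopU).eq_bot] at h2
      rw [hb, Subgroup.commutator_bot_left]
  -- `A` centralizes `M_σ`
  have hAσ : A ≤ Subgroup.centralizer (Cfsg.sigmaCore M : Set G) := by
    have hdvd : Nat.card (Cfsg.sigmaCore M) ∣
        Nat.card (Cfsg.sigmaCore M ⊓ Subgroup.centralizer (A : Set G) : Subgroup G) := by
      rw [Nat.dvd_iff_prime_pow_dvd_dvd]
      intro q i hq hqi
      rcases Nat.eq_zero_or_pos i with rfl | hi
      · simp
      haveI := Fact.mk hq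
      have hqσ : q ∈ Cfsg.sigma M := piCoreOf_primes _ M hq ((dvd_pow_self q hi.ne').trans hqi)
      have hqp : q ≠ p := fun e => hps (e ▸ hqσ)
      obtain ⟨S, hS, hAS⟩ := Basics.exists_invariant_isSylowIn A (Cfsg.sigmaCore M) hAN
        (coprime_of_pGroup hAp (not_dvd_sigmaCore hp.out hps)) (Or.inl hsolA) q
      have hSM : S ≤ M := hS.1.trans (sigmaCore_le M)
      rcases hkey q hqp S hSM hS.isPGroup hAS with hc | ⟨L, hL, hpL, hqL, -⟩
      · refine dvd_trans ?_ (Subgroup.card_dvd_of_le (le_inf hS.1 (Subgroup.le_centralizer_iff.mp hc)))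
        rw [hS.2]
        exact pow_dvd_pow q ((hq.pow_dvd_iff_le_factorization Nat.card_pos.ne').mp hqi)
      · obtain ⟨g, rfl⟩ := exists_conj_of_rank_three hG hM hL hqσ (alpha_subset_sigma hG hL hqL.1) hqL.1.2
        exact absurd (sigma_of_conj hpL) hps
    exact Subgroup.le_centralizer_iff.mp
      ((Subgroup.eq_of_le_of_card_ge inf_le_left (Nat.le_of_dvd Nat.card_pos hdvd)).ge.trans inf_le_right)
  -- `α(M)` is empty
  obtain ⟨a, ha, hao⟩ := exists_orderOf_eq hAp (fun e => by
    rw [e, Subgroup.card_bot] at hA2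
    exact (Nat.one_lt_pow two_ne_zero hp.out.one_lt).ne hA2)
  have hX0 : Nat.card (Subgroup.zpowers a) = p := by rw [Nat.card_zpowers, hao]
  have hα : ∀ r : ℕ, r.Prime → PRankLE r 2 M := by
    intro r hr
    by_contra h3
    haveI := Fact.mk hr
    obtain ⟨B, hBM, hB, hB3⟩ := exists_ea_three h3
    have hBσ : B ≤ Cfsg.sigmaCore M :=
      pGroup_le_sigmaCore hG hM (alpha_subset_sigma hG hM ⟨hr, h3⟩) (isPGroup_of_exponent hB.2) hBM
    exact hnu _ (Subgroup.zpowers_le.mpr ha) hX0 (lineUnique_of_rank_three hG hM hX0 hB hB3 hBM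
      ((hBσ.trans (Subgroup.le_centralizer_iff.mp hAσ)).trans (Subgroup.centralizer_le (Subgroup.zpowers_le.mpr ha))))
  haveI : Group.IsSolvable M := isSolvable_of_ne_top hG hM.1
  have hder : ⁅M, M⁆ ≤ Cfsg.fittingOf M :=
    M.map_subtype_commutator ▸ Subgroup.map_mono (commutator_le_fitting_of_alpha hG hM hα)
  -- `A` centralizes the Sylow subgroups of the Fitting subgroup
  have hcore : ∀ r : ℕ, r.Prime → r ≠ p → A ≤ Subgroup.centralizer (coreP r M : Set G) := by
    intro r hr hrp
    haveI := Fact.mk hr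
    by_cases hrs : r ∈ Cfsg.sigma M
    · exact hAσ.trans (Subgroup.centralizer_le
        (pGroup_le_sigmaCore hG hM hrs (isPGroup_coreP r M) (coreP_le r M)))
    rcases hkey r hrp (coreP r M) (coreP_le r M) (isPGroup_coreP r M)
      (hAM.trans (le_normalizer_coreP r M)) with hc | ⟨L, hL, -, hrL, y, hy, hyo, hyM⟩
    · exact hc
    exfalso
    have hr1 : PRankLE r 1 M := by
      by_contra hn
      exact not_isIdealPrime_of_not_sigma hG hM hrs hn hrL.2
    have hr2 : r ≠ 2 := prime_ne_two hG (hyo ▸ orderOf_dvd_natCard y)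
    have hcyc := isCyclic_of_pRankLE_one hr2 hr1 (coreP_le r M) (isPGroup_coreP r M)
    have hy1 : y ≠ 1 := fun e => by rw [e, orderOf_one] at hyo; exact hr.one_lt.ne hyo
    have hZ : Nat.card (Subgroup.zpowers y) = r := by rw [Nat.card_zpowers, hyo]
    have hn : M ≤ Subgroup.normalizer (Subgroup.zpowers y : Set G) := by
      intro m hm
      rw [Subgroup.mem_normalizer_iff_map_conj_eq]
      refine eq_of_le_cyclic hcyc ?_ (Subgroup.zpowers_le.mpr hy)
        (Subgroup.card_map_of_injective (MulAut.conj m).injective)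
      exact (Subgroup.map_mono (Subgroup.zpowers_le.mpr hy)).trans
        (Subgroup.mem_normalizer_iff_map_conj_eq.mp (le_normalizer_coreP r M hm)).le
    exact (rank_two_of_normalizer_le hG hM hrs hZ
      (normalizer_eq_of_le hG hM (fun e => hy1 (Subgroup.zpowers_eq_bot.mp e))
        (Subgroup.zpowers_le.mpr (coreP_le r M hy)) hn).le).1 hr1
  -- the Sylow `p`-subgroups are abelian
  have hpM : p ∣ Nat.card M := (hA2 ▸ dvd_pow_self p two_ne_zero).trans (Subgroup.card_dvd_of_le hAM)
  obtain ⟨PM, hAPM⟩ := (hAp.comap_subtype (K := M)).exists_le_sylow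
  set P := (PM : Subgroup M).map M.subtype with hP
  have hAP : A ≤ P := fun x hx => ⟨⟨x, hAM hx⟩, hAPM hx, rfl⟩
  have hNP : ¬ Subgroup.normalizer (P : Set G) ≤ M := not_normalizer_le hps hpM PM
  have hPM : P ≤ M := Subgroup.map_subtype_le _
  have hPc : IsMulCommutative P := by
    set D := ⁅P, P⁆ with hD
    by_cases hD1 : D = ⊥
    · refine ⟨⟨fun u v => Subtype.ext ?_⟩⟩
      exact commutatorElement_eq_one_iff_mul_comm.mp
        (Subgroup.mem_bot.mp (hD1 ▸ Subgroup.commutator_mem_commutator u.2 v.2))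
    exfalso
    have hnorm := (Cfsg.Agent.S1451.result (odd_card_subgroup hG M)
      (Or.inl fun r hr => hα r hr)).2.1 p PM (commutator (PM : Subgroup M)) inferInstance
      ((PM : Subgroup M).map_subtype_commutator.le)
    have hDn : M ≤ Subgroup.normalizer (D : Set G) := by
      haveI := hnorm
      have h1 := le_normalizer_map_subtype (M := M)
        ((commutator (PM : Subgroup M)).map (PM : Subgroup M).subtype)
      rwa [(PM : Subgroup M).map_subtype_commutator, Subgroup.map_commutator] at h1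
    have hDP : D ≤ P := Subgroup.commutator_le_self P
    refine hNP ((?_ : Subgroup.normalizer (P : Set G) ≤ Subgroup.normalizer (D : Set G)).trans
      (normalizer_eq_of_le hG hM hD1 (hDP.trans hPM) hDn).le)
    intro g hg
    rw [Subgroup.mem_normalizer_iff_map_conj_eq]
    change (⁅P, P⁆).map (MulAut.conj g).toMonoidHom = ⁅P, P⁆
    rw [Subgroup.map_commutator]
    have := Subgroup.mem_normalizer_iff_map_conj_eq.mp hg
    change P.map (MulAut.conj g).toMonoidHom = P at this
    rw [this]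
  set K := coreP p M with hK
  have hKP : K ≤ P := Subgroup.map_mono ((sSup_le fun N ⟨hN, hNp⟩ => by
    obtain ⟨S, hS⟩ := hNp.exists_le_sylow
    haveI := hN
    obtain ⟨g, hg⟩ := MulAction.exists_smul_eq M S PM
    rw [← hg]
    intro x hx
    rw [Sylow.coe_subgroup_smul]
    refine ⟨g⁻¹ * x * g, hS ?_, by simp [mul_assoc]⟩
    have := hN.conj_mem x hx g⁻¹
    rwa [inv_inv] at this) : Cfsg.pCore p M ≤ (PM : Subgroup M))
  have hcomm : ∀ u ∈ P, ∀ v ∈ P, Commute u v := fun u hu v hv =>
    congrArg Subtype.val (hPc.is_comm.comm ⟨u, hu⟩ ⟨v, hv⟩)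
  have hAF : A ≤ Cfsg.fittingOf M := fun x hx => centralizer_fittingOf_le (isSolvable_of_ne_top hG hM.1)
    ⟨hAM hx, mem_centralizer_fittingOf fun r hr f hf => by
      by_cases hrp : r = p
      · subst hrp
        exact hcomm x (hAP hx) f (hKP hf)
      · exact (Subgroup.mem_centralizer_iff.mp (hcore r hr hrp hx) f hf).symm⟩
  have hAK : A ≤ K := fun x hx => mem_coreP_of_mem_fittingOf (hAF hx) ⟨1, by rw [pow_one]; exact hA.2 x hx⟩
  have hfix : ∀ x ∈ P, x ^ p = 1 → x ∈ A := fun x hx hxp => mem_of_centralizes_ea hG hM hps hAM hA hA2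
    (Subgroup.mem_centralizer_iff.mpr fun v hv => hcomm v (hAP hv) x hx) hxp
  have hMA : M ≤ Subgroup.normalizer (A : Set G) := fun m hm => mem_normalizer_of_conj_mem fun x hx =>
    hfix _ (hKP ((Subgroup.mem_normalizer_iff.mp (le_normalizer_coreP p M hm) x).mp (hAK hx)))
      (by rw [conj_pow, hA.2 x hx, mul_one, mul_inv_cancel])
  refine hNP ((?_ : Subgroup.normalizer (P : Set G) ≤ Subgroup.normalizer (A : Set G)).trans
    (normalizer_eq_of_le hG hM (fun e => by
      rw [e, Subgroup.card_bot] at hA2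
      exact (Nat.one_lt_pow two_ne_zero hp.out.one_lt).ne hA2) hAM hMA).le)
  exact fun g hg => mem_normalizer_of_conj_mem fun x hx => hfix _ ((Subgroup.mem_normalizer_iff.mp hg x).mp (hAP hx))
    (by rw [conj_pow, hA.2 x hx, mul_one, mul_inv_cancel])

/-- BG 12.3. -/
theorem two_elementary (hG : IsMinSimpleOddOrder G) (hM : IsCoatom M) (hAM : A ≤ M)
    (hA : IsElementaryAbelian p A) (hA2 : Nat.card A = p ^ 2) :
    Subgroup.centralizer (A : Set G) ≤ M ∧
      ((∀ X : Subgroup G, X ≤ A → Nat.card X = p → ¬ LineUnique M X) →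
        p ∈ Cfsg.sigma M ∧ Cfsg.alphaCore M = ⊥ ∧ Group.IsNilpotent (Cfsg.sigmaCore M)) := by
  by_cases hex : ∃ X : Subgroup G, X ≤ A ∧ Nat.card X = p ∧ LineUnique M X
  · obtain ⟨X, hXA, hX, hu⟩ := hex
    exact ⟨centralizer_le_of_lineUnique hXA hu, fun h => absurd hu (h X hXA hX)⟩
  push Not at hex
  have hnu : ∀ X : Subgroup G, X ≤ A → Nat.card X = p → ¬ LineUnique M X := hex
  have hpσ := mem_sigma_of_all_lines hG hM hAM hA hA2 hnu
  have hp3 : PRankLE p 2 M := by
    by_contra h3
    obtain ⟨X, hXA, hX, hu⟩ := exists_lineUnique_of_alpha hG hM hAM hA hA2 h3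
    exact hnu X hXA hX hu
  have hAp : IsPGroup p A := isPGroup_of_exponent hA.2
  haveI := hAp.isNilpotent
  have hsolA : Group.IsSolvable A := inferInstance
  have hα : ∀ r : ℕ, r.Prime → PRankLE r 2 M := by
    intro r hr
    by_contra h3
    haveI := Fact.mk hr
    have hrp : r ≠ p := fun e => h3 (by subst e; exact hp3)
    have hrσ := alpha_subset_sigma hG hM ⟨hr, h3⟩
    obtain ⟨B, hBM, hB, hB3⟩ := exists_ea_three h3
    have hAα : A ≤ Subgroup.normalizer (Cfsg.alphaCore M : Set G) := hAM.trans (le_normalizer_alphaCore M)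
    have hpα : ¬ p ∣ Nat.card (Cfsg.alphaCore M) := fun e => (piCoreOf_primes _ M hp.out e).2 hp3
    have hBα : B ≤ Cfsg.alphaCore M := le_of_pGroup_hall (alphaCore_hall hG hM).1 (le_normalizer_alphaCore M) hBM
      (isPGroup_of_exponent hB.2) ⟨hr, h3⟩
    obtain ⟨S, hS, hAS⟩ := Basics.exists_invariant_isSylowIn A (Cfsg.alphaCore M) hAα
      (coprime_of_pGroup hAp hpα) (Or.inl hsolA) r
    have hSM : S ≤ M := hS.1.trans (alphaCore_le M)
    have hSc : S ≤ Subgroup.centralizer (A : Set G) := by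
      have hpS : ¬ p ∣ Nat.card S := fun e => hpα (e.trans (Subgroup.card_dvd_of_le hS.1))
      refine le_of_lines hA hA2 hAS hpS fun X hXA hX => ?_
      obtain ⟨L, hL, hLM, hNL⟩ := exists_other_of_not_lineUnique hG hX (hnu X hXA hX)
      set U := S ⊓ Subgroup.centralizer (X : Set G) with hU
      have hAX : A ≤ Subgroup.centralizer (X : Set G) :=
        (Subgroup.le_centralizer_iff_isMulCommutative.mpr hA.1).trans (Subgroup.centralizer_le hXA)
      have hAL : A ≤ L := (hAX.trans (Subgroup.centralizer_le_normalizer _)).trans hNL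
      have hUL : U ≤ L := (inf_le_right.trans (Subgroup.centralizer_le_normalizer _)).trans hNL
      have hAU : A ≤ Subgroup.normalizer (U : Set G) :=
        (le_inf hAS (hAX.trans Subgroup.le_normalizer)).trans le_normalizer_inf'
      have hUp : IsPGroup r U := hS.isPGroup.to_le inf_le_left
      have hcopU : (Nat.card A).Coprime (Nat.card U) :=
        (coprime_of_pGroup hAp hpS).coprime_dvd_right (Subgroup.card_dvd_of_le inf_le_left)
      have hrL : r ∉ Cfsg.sigma L := by
        intro hrL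
        have h3L : ¬ PRankLE r 2 L := by
          obtain ⟨g, hg⟩ := exists_conj_ge hG hL hrL (isPGroup_of_exponent hB.2)
          intro h'
          have h1 : B.map (MulAut.conj g⁻¹).toMonoidHom ≤ L := by
            refine (Subgroup.map_mono hg).trans ?_
            rw [map_conj_map_conj, inv_mul_cancel, map_conj_one]
          have h2 := card_le_of_pRankLE h' h1 (ea_map hB _)
          rw [Subgroup.card_map_of_injective (MulAut.conj g⁻¹).injective] at h2
          omega
        obtain ⟨g, hg⟩ := exists_conj_of_rank_three hG hM hL hrσ hrL h3L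
        exact hLM (conj_eq_of_centralizer_le hG hM hpσ (IsPGroup.of_card (n := 1) (hX.trans (pow_one p).symm))
          (line_ne_top hG hX).1 (hXA.trans hAM) hg (hXA.trans hAL)
          ((Subgroup.centralizer_le_normalizer _).trans hNL))
      refine Subgroup.le_centralizer_iff.mp (Basics.le_centralizer_of_commutator_commutator_eq_bot A U hAU hcopU
        (Or.inl hsolA) ?_)
      have hb : ⁅U, A⁆ = ⊥ := by
        refine le_bot_iff.mp ?_
        rw [← inf_sigmaCore_eq_bot hrL hUp]
        refine le_inf (Subgroup.le_normalizer_iff_commutator_le_left.mp hAU) ?_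
        by_cases hpL : p ∈ Cfsg.sigma L
        · exact (Subgroup.commutator_mono le_rfl (pGroup_le_sigmaCore hG hL hpL hAp hAL)).trans
            (Subgroup.le_normalizer_iff_commutator_le_right.mp (hUL.trans (le_normalizer_sigmaCore L)))
        · intro x hx
          have e : Exc p L A X := ⟨hL, hpL, hAL, hA, hA2, hXA, hX, hNL⟩
          have hsup : ⁅U, A⁆ ≤ Cfsg.sigmaCore L ⊔ A := (Subgroup.commutator_mono le_rfl le_sup_right).trans
            (Subgroup.le_normalizer_iff_commutator_le_right.mp (hUL.trans (e.le_normalizer_sup hG)))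
          obtain ⟨s, hs, a, ha, rfl⟩ := (Basics.mem_sup_of_le_normalizer
            (hAL.trans (le_normalizer_sigmaCore L))).mp (hsup hx)
          -- modulo the core the order is a power of both `r` and `p`
          set x' : L := ⟨s * a, mul_mem (sigmaCore_le L hs) (hAL ha)⟩ with hx'
          set ψ := QuotientGroup.mk' (Cfsg.piCore (Cfsg.sigma L) ↥L)
          have hsψ : ψ ⟨s, sigmaCore_le L hs⟩ = 1 := by
            obtain ⟨w, hw, e'⟩ := hs
            exact (QuotientGroup.eq_one_iff _).mpr ((Subtype.ext e' : w = ⟨s, sigmaCore_le L ⟨w, hw, e'⟩⟩) ▸ hw)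
          have hψ : ψ x' = ψ ⟨a, hAL ha⟩ := by
            rw [show x' = ⟨s, sigmaCore_le L hs⟩ * ⟨a, hAL ha⟩ from rfl, map_mul, hsψ, one_mul]
          have hd1 : orderOf (ψ x') ∣ p := orderOf_dvd_of_pow_eq_one (by
            rw [hψ, ← map_pow, show (⟨a, hAL ha⟩ : L) ^ p = 1 from Subtype.ext (hA.2 a ha), map_one])
          have hd2 : orderOf (ψ x') ∣ Nat.card U := (orderOf_map_dvd ψ _).trans (by
            rw [← Subgroup.orderOf_coe]
            exact Subgroup.orderOf_dvd_natCard _ (Subgroup.le_normalizer_iff_commutator_le_left.mp hAU hx))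
          have h1 : ψ x' = 1 := orderOf_eq_one_iff.mp (Nat.eq_one_of_dvd_coprimes
            (hp.out.coprime_iff_not_dvd.mpr fun e' => hpS (e'.trans (Subgroup.card_dvd_of_le inf_le_left))) hd1 hd2)
          exact ⟨x', (QuotientGroup.eq_one_iff _).mp h1, rfl⟩
      rw [hb, Subgroup.commutator_bot_left]
    obtain ⟨S₀, hS₀, hBS₀⟩ := exists_sylowIn_ge (isPGroup_of_exponent hB.2) hBα
    obtain ⟨k, hk, e⟩ := hS₀.exists_conj hS
    have hBS : MulAut.conj k • B ≤ S := e ▸ Subgroup.pointwise_smul_le_pointwise_smul_iff.mpr hBS₀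
    have hA1 : A ≠ ⊥ := fun e' => by
      rw [e', Subgroup.card_bot] at hA2
      exact (Nat.one_lt_pow two_ne_zero hp.out.one_lt).ne hA2
    obtain ⟨a, ha, hao⟩ := exists_orderOf_eq hAp hA1
    have hX0 : Nat.card (Subgroup.zpowers a) = p := by rw [Nat.card_zpowers, hao]
    exact hnu _ (Subgroup.zpowers_le.mpr ha) hX0 (lineUnique_of_rank_three hG hM hX0 (B := MulAut.conj k • B)
      (ea_map hB _) (by rw [Basics.card_conj_smul]; exact hB3) (hBS.trans hSM)
      ((hBS.trans hSc).trans (Subgroup.centralizer_le (Subgroup.zpowers_le.mpr ha))))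
  have hbot : Cfsg.alphaCore M = ⊥ := by
    refine Subgroup.card_eq_one.mp (Nat.eq_one_iff_not_exists_prime_dvd.mpr fun r hr hd => ?_)
    exact (piCoreOf_primes _ M hr hd).2 (hα r hr)
  have hσF : Cfsg.sigmaCore M ≤ Cfsg.fittingOf M := (sigmaCore_le_derived hG hM).trans
    (M.map_subtype_commutator ▸ Subgroup.map_mono (commutator_le_fitting_of_alpha hG hM hα))
  have hnil : Group.IsNilpotent (Cfsg.sigmaCore M) := by
    haveI := isNilpotent_fittingOf M
    exact Group.nilpotent_of_mulEquiv (Subgroup.subgroupOfEquivOfLe hσF)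
  refine ⟨?_, fun _ => ⟨hpσ, hbot, hnil⟩⟩
  obtain ⟨P₀, hP₀, hAP⟩ := exists_sylowIn_ge hAp hAM
  have hPσ : P₀ ≤ Cfsg.sigmaCore M := pGroup_le_sigmaCore hG hM hpσ hP₀.isPGroup hP₀.1
  have hMP : M ≤ Subgroup.normalizer (P₀ : Set G) := by
    have hsame : IsSylowIn p (Cfsg.sigmaCore M) P₀ := by
      refine ⟨hPσ, le_antisymm ?_ ?_⟩
      · obtain ⟨j, hj⟩ := IsPGroup.iff_card.mp hP₀.isPGroup
        rw [hj]
        exact Nat.pow_le_pow_right hp.out.pos ((hp.out.pow_dvd_iff_le_factorization Nat.card_pos.ne').mp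
          (hj ▸ Subgroup.card_dvd_of_le hPσ))
      · rw [hP₀.2]
        exact Nat.pow_le_pow_right hp.out.pos ((Nat.factorization_le_iff_dvd Nat.card_pos.ne' Nat.card_pos.ne').mpr
          (Subgroup.card_dvd_of_le (sigmaCore_le M)) p)
    obtain ⟨S, hS⟩ := hsame.exists_sylow
    rw [← hS]
    haveI := hnil
    haveI : (S : Subgroup (Cfsg.sigmaCore M)).Normal :=
      Sylow.normal_of_normalizerCondition Group.normalizerCondition_of_isNilpotent S
    haveI : (S : Subgroup (Cfsg.sigmaCore M)).Characteristic := S.characteristic_of_normal inferInstance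
    exact (le_normalizer_sigmaCore M).trans (normalizer_le_normalizer_map_characteristic _)
  have hA1 : A ≠ ⊥ := fun e => by
    rw [e, Subgroup.card_bot] at hA2
    exact (Nat.one_lt_pow two_ne_zero hp.out.one_lt).ne hA2
  have hfix : ∀ x ∈ P₀, x ∈ Subgroup.centralizer (P₀ : Set G) → x ^ p = 1 → x ∈ A := by
    intro x hx hxc hxp
    have hE := ea_sup_zpowers hA (Subgroup.centralizer_le hAP hxc) hxp
    exact (Subgroup.eq_of_le_of_card_ge le_sup_left ((card_le_of_pRankLE hp3
      (sup_le hAM (Subgroup.zpowers_le.mpr (hP₀.1 hx))) hE).trans hA2.ge)).ge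
      (Subgroup.mem_sup_right (Subgroup.mem_zpowers x))
  set Z := A ⊓ Subgroup.centralizer (P₀ : Set G) with hZ
  have hMZ : M ≤ Subgroup.normalizer (Z : Set G) := fun m hm => mem_normalizer_of_conj_mem fun x hx => by
    have h1 := (Subgroup.mem_normalizer_iff.mp (le_normalizer_centralizer (A := P₀) (hMP) hm) x).mp hx.2
    exact ⟨hfix _ ((Subgroup.mem_normalizer_iff.mp (hMP hm) x).mp (hAP hx.1)) h1
      (by rw [conj_pow, hA.2 x hx.1, mul_one, mul_inv_cancel]), h1⟩
  obtain ⟨z, hzP, hzo, hzc⟩ := exists_central_mem hP₀.isPGroup le_rfl Subgroup.le_normalizer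
    (fun e => hA1 (le_bot_iff.mp (e ▸ hAP)))
  have hzcP : z ∈ Subgroup.centralizer (P₀ : Set G) :=
    Subgroup.mem_centralizer_iff.mpr fun v hv => Subgroup.mem_centralizer_singleton_iff.mp (hzc hv)
  have hz : z ∈ Z := ⟨hfix z hzP hzcP (hzo ▸ pow_orderOf_eq_one z), hzcP⟩
  have hz1 : z ≠ 1 := fun e => by rw [e, orderOf_one] at hzo; exact hp.out.one_lt.ne hzo
  have hNZ : Subgroup.normalizer (Z : Set G) = M := normalizer_eq_of_le hG hM
    (fun e => hz1 (Subgroup.mem_bot.mp ((e : Z = ⊥) ▸ hz))) (inf_le_left.trans hAM) hMZ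
  have hZA : Z = A := by
    obtain ⟨k, hk, e⟩ := (Nat.dvd_prime_pow hp.out).mp (hA2 ▸ Subgroup.card_dvd_of_le (inf_le_left : Z ≤ A))
    interval_cases k
    · exact absurd (Subgroup.mem_bot.mp ((Subgroup.card_eq_one.mp (e.trans (pow_zero p)) : Z = ⊥) ▸ hz)) hz1
    · exact absurd ⟨hNZ.le, fun L hL hle => ((hM.le_iff.mp (hNZ.ge.trans hle)).resolve_left hL.1)⟩
        (hnu Z inf_le_left (e.trans (pow_one p)))
    · exact Subgroup.eq_of_le_of_card_ge inf_le_left (hA2.trans e.symm).le
  rw [← hZA]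
  exact (Subgroup.centralizer_le_normalizer _).trans hNZ.le

/-- The exceptional hypothesis holds for `p ∈ τ₂(M)`. -/
theorem exists_exc (hG : IsMinSimpleOddOrder G) (hM : IsCoatom M) (hps : p ∉ Cfsg.sigma M) (hAM : A ≤ M)
    (hA : IsElementaryAbelian p A) (hA2 : Nat.card A = p ^ 2) : ∃ X : Subgroup G, Exc p M A X := by
  by_contra hc
  push Not at hc
  refine hps (((two_elementary hG hM hAM hA hA2).2 fun X hXA hX hu => ?_).1)
  exact hc X ⟨hM, hps, hAM, hA, hA2, hXA, hX, hu.1⟩

end

end Cfsg.Agent.OddLocal
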