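import Cfsg.Agent.Lib.OddLocal.KappaNeighbor
import Cfsg.Agent.S1417

/-! Numerical bound between a subgroup and its neighbours (BG 14.4). -/

set_option autoImplicit false
set_option linter.unusedSectionVars false
set_option linter.style.haveILetI false

namespace Cfsg.Agent.OddLocal

open scoped commutatorElement Pointwise
open Cfsg
open Basics (IsSylowIn)

universe u

variable {G : Type u} [Group G] [Finite G]

/-- A fixed-point-free element of order `p` on `V` gives `p ∣ |V| - 1`. -/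
theorem dvd_card_pred_of_free {V : Subgroup G} {y : G} {p : ℕ} [hp : Fact p.Prime] (hy : orderOf y = p)
    (hyV : y ∈ Subgroup.normalizer (V : Set G)) (hfree : V ⊓ Subgroup.centralizer ({y} : Set G) = ⊥) :
    p ∣ Nat.card V - 1 := by
  set P := Subgroup.zpowers y with hP
  have hPp : IsPGroup p P := IsPGroup.of_card (n := 1) (by rw [Nat.card_zpowers, hy, pow_one])
  let φ : P →* MulAut V := V.normalizerMonoidHom.comp (Subgroup.inclusion (Subgroup.zpowers_le.mpr hyV))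
  letI := MulAction.compHom V φ
  have h := hPp.card_modEq_card_fixedPoints V
  have h1 : Nat.card (MulAction.fixedPoints P V) = 1 := by
    refine Nat.card_eq_one_iff_unique.mpr ⟨⟨fun a b => ?_⟩, ⟨⟨1, fun a => map_one (φ a)⟩⟩⟩
    have key : ∀ c : MulAction.fixedPoints P V, ((c : V) : G) = 1 := fun c => by
      have hc : y * ((c : V) : G) * y⁻¹ = ((c : V) : G) := congrArg Subtype.val (c.2 ⟨y, Subgroup.mem_zpowers y⟩)
      exact Subgroup.mem_bot.mp (hfree ▸ Subgroup.mem_inf.mpr ⟨(c : V).2,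
        Subgroup.mem_centralizer_singleton_iff.mpr (mul_inv_eq_iff_eq_mul.mp hc).symm⟩)
    exact Subtype.ext (Subtype.ext ((key a).trans (key b).symm))
  rw [h1] at h
  exact (Nat.modEq_iff_dvd' Nat.card_pos).mp h.symm

/-- An element of odd prime order `p` acting without fixed points on a `q`-group of order at most `q ^ 2` has
`p < q`. -/
theorem lt_of_free_small {V : Subgroup G} {y : G} {p q : ℕ} [hp : Fact p.Prime] [hq : Fact q.Prime]
    (hp2 : p ≠ 2) (hq2 : q ≠ 2) (hy : orderOf y = p) (hyV : y ∈ Subgroup.normalizer (V : Set G))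
    (hfree : V ⊓ Subgroup.centralizer ({y} : Set G) = ⊥) (hV : IsPGroup q V) (hV1 : V ≠ ⊥)
    (hV2 : Nat.card V ≤ q ^ 2) : p < q := by
  have hd := dvd_card_pred_of_free hy hyV hfree
  obtain ⟨n, hn⟩ := IsPGroup.iff_card.mp hV
  rw [hn] at hd hV2
  have h3 : 3 ≤ q := lt_of_le_of_ne hq.out.two_le (Ne.symm hq2)
  have hn2 : n ≤ 2 := (Nat.pow_le_pow_iff_right hq.out.one_lt).mp hV2
  interval_cases n
  · exact absurd (Subgroup.card_eq_one.mp (hn.trans (pow_zero q))) hV1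
  · rw [pow_one] at hd
    exact lt_of_le_of_lt (Nat.le_of_dvd (by omega) hd) (by omega)
  · have he : q ^ 2 - 1 = (q - 1) * (q + 1) := by
      obtain ⟨m, rfl⟩ : ∃ m, q = m + 1 := ⟨q - 1, by omega⟩
      simp only [Nat.add_sub_cancel]
      ring_nf
      omega
    rw [he] at hd
    rcases hp.out.dvd_mul.mp hd with h | h
    · exact lt_of_le_of_lt (Nat.le_of_dvd (by omega) h) (by omega)
    · obtain ⟨c, hc⟩ := h
      rcases Nat.eq_zero_or_pos c with rfl | hc0
      · omega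
      rcases Nat.lt_or_ge c 2 with hc2 | hc2
      · obtain rfl : c = 1 := by omega
        obtain ⟨j, hj⟩ := hp.out.odd_of_ne_two hp2
        obtain ⟨i, hi⟩ := hq.out.odd_of_ne_two hq2
        omega
      · nlinarith [hp.out.pos]

/-- The bound: `y` acts on `Ω₁ Z` of a Sylow subgroup of a nilpotent `M_σ`. -/
theorem lt_of_small_centralizer (hG : IsMinSimpleOddOrder G) {M : Subgroup G}
    (hnil : Group.IsNilpotent (Cfsg.sigmaCore M)) {p q : ℕ} [hp : Fact p.Prime] [hq : Fact q.Prime] {a y : G}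
    (ha : a ∈ Cfsg.sigmaCore M) (hao : orderOf a = q) (hyM : y ∈ M) (hyo : orderOf y = p)
    (hrank : ∀ V : Subgroup G, V ≤ M → (∀ W : Subgroup G, W ≤ Cfsg.sigmaCore M → IsPGroup q W →
      V ≤ Subgroup.centralizer (W : Set G)) → IsElementaryAbelian q V → Nat.card V ≤ q ^ 2)
    (hfree : Cfsg.sigmaCore M ⊓ Subgroup.centralizer ({y} : Set G) = ⊥) : p < q := by
  obtain ⟨S, hS⟩ := exists_sylowIn (q := q) (Cfsg.sigmaCore M)
  obtain ⟨P, hP⟩ := hS.exists_sylow
  haveI := hnil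
  haveI hPn : (P : Subgroup (Cfsg.sigmaCore M)).Normal :=
    Sylow.normal_of_normalizerCondition Group.normalizerCondition_of_isNilpotent P
  haveI hPc : (P : Subgroup (Cfsg.sigmaCore M)).Characteristic := P.characteristic_of_normal hPn
  have hMS : M ≤ Subgroup.normalizer (S : Set G) := by
    rw [← hP]
    exact (le_normalizer_sigmaCore M).trans (normalizer_le_normalizer_map_char _ _)
  have haS : a ∈ S := by
    refine ((hS.eq_of_le (R := S ⊔ Subgroup.zpowers a) ?_ (sup_le hS.1 (Subgroup.zpowers_le.mpr ha))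
      le_sup_left).le) (Subgroup.mem_sup_right (Subgroup.mem_zpowers a))
    exact hS.isPGroup.to_sup_of_normal_left' (IsPGroup.of_card (n := 1) (by rw [Nat.card_zpowers, hao, pow_one]))
      ((Subgroup.zpowers_le.mpr (sigmaCore_le M ha)).trans hMS)
  set ZS := (Subgroup.center S).map S.subtype with hZS
  have hZc : IsMulCommutative ZS := ⟨⟨fun a b => by
    obtain ⟨⟨_, a, ha, rfl⟩, ⟨_, b, hb, rfl⟩⟩ := a, b
    exact Subtype.ext (by simpa using congrArg Subtype.val (Subgroup.mem_center_iff.mp hb a))⟩⟩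
  obtain ⟨V, hV, hVmem, hVn⟩ := exists_omega_abelian hZc q
  have hVS : V ≤ S := fun v hv => by
    obtain ⟨w, -, rfl⟩ := ((hVmem v).mp hv).1
    exact w.2
  have hMV : M ≤ Subgroup.normalizer (V : Set G) :=
    hMS.trans ((normalizer_le_normalizer_map_characteristic _).trans hVn)
  have hVW : ∀ W : Subgroup G, W ≤ Cfsg.sigmaCore M → IsPGroup q W → V ≤ Subgroup.centralizer (W : Set G) := by
    intro W hW hWp v hv
    have hWS : W ≤ S := le_sup_right.trans (hS.eq_of_le (R := S ⊔ W)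
      (hS.isPGroup.to_sup_of_normal_left' hWp ((hW.trans (sigmaCore_le M)).trans hMS)) (sup_le hS.1 hW) le_sup_left).le
    refine Subgroup.mem_centralizer_iff.mpr fun w hw => ?_
    obtain ⟨u, hu, rfl⟩ := ((hVmem v).mp hv).1
    exact congrArg Subtype.val (Subgroup.mem_center_iff.mp hu ⟨w, hWS hw⟩)
  haveI : Nontrivial S := (Subgroup.nontrivial_iff_ne_bot S).mpr fun h => hq.out.one_lt.ne (by
    have h' := haS
    rw [h, Subgroup.mem_bot] at h'
    rw [← hao, h', orderOf_one])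
  haveI := hS.isPGroup.center_nontrivial
  have hV1 : V ≠ ⊥ := by
    intro hbot
    rcases (hS.isPGroup.to_subgroup (Subgroup.center S)).card_eq_or_dvd with e' | e'
    · exact absurd e' Finite.one_lt_card.ne'
    obtain ⟨w, hw⟩ := exists_prime_orderOf_dvd_card' q e'
    have hwo : orderOf ((w : S) : G) = q := by rw [Subgroup.orderOf_coe, Subgroup.orderOf_coe, hw]
    have hwV : ((w : S) : G) ∈ V := (hVmem _).mpr ⟨⟨w, w.2, rfl⟩, hwo ▸ pow_orderOf_eq_one _⟩
    rw [hbot, Subgroup.mem_bot] at hwV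
    rw [hwV, orderOf_one] at hwo
    exact hq.out.one_lt.ne hwo
  exact lt_of_free_small (prime_ne_two hG (hyo ▸ orderOf_dvd_natCard y))
    (prime_ne_two hG (hao ▸ orderOf_dvd_natCard a)) hyo (hMV hyM)
    (le_bot_iff.mp (hfree ▸ inf_le_inf_right _ (hVS.trans hS.1))) (isPGroup_of_exponent hV.2) hV1
    (hrank V (hVS.trans (hS.1.trans (sigmaCore_le M))) hVW hV)

/-- `κ` is invariant under conjugation. -/
theorem kappa_conj (hG : IsMinSimpleOddOrder G) {L : Subgroup G} (hL : IsCoatom L) (g : G) {p : ℕ}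
    (h : p ∈ Cfsg.kappa L) : p ∈ Cfsg.kappa (L.map (MulAut.conj g).toMonoidHom) := by
  obtain ⟨hp, hpd, hpσ, hP⟩ := h
  haveI := Fact.mk hp
  refine ⟨hp, ?_, by rwa [sigma_map], fun P => ?_⟩
  · rwa [Subgroup.card_map_of_injective (MulAut.conj g).injective]
  set R := (P : Subgroup _).map (L.map (MulAut.conj g).toMonoidHom).subtype with hR
  have hRs := Basics.isSylowIn_map P
  set R' := R.map (MulAut.conj g⁻¹).toMonoidHom with hR'def
  have hR' : IsSylowIn p L R' := ⟨le_map_conj_iff.mp hRs.1, by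
    rw [Subgroup.card_map_of_injective (MulAut.conj g⁻¹).injective, hRs.2,
      Subgroup.card_map_of_injective (MulAut.conj g).injective]⟩
  obtain ⟨P', hP'⟩ := hR'.exists_sylow
  obtain ⟨hc, x, hxP, hx1, z, hz, hz1, hxz⟩ := hP P'
  haveI := hc
  have hcR' : IsCyclic R' := hP' ▸ isCyclic_of_surjective _ (L.subtype.subgroupMap_surjective (P' : Subgroup L))
  have hcR : IsCyclic R := by
    have e : R'.map (MulAut.conj g).toMonoidHom = R := by
      rw [hR'def, map_conj_map_conj, mul_inv_cancel, map_conj_one]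
    haveI := hcR'
    exact e ▸ isCyclic_of_surjective _ ((MulAut.conj g).toMonoidHom.subgroupMap_surjective R')
  refine ⟨?_, ?_⟩
  · haveI := hcR
    exact isCyclic_of_injective ((P : Subgroup _).equivMapOfInjective (L.map (MulAut.conj g).toMonoidHom).subtype
      (Subgroup.subtype_injective _)).toMonoidHom (MulEquiv.injective _)
  have hxR : g * (x : G) * g⁻¹ ∈ R := by
    have h1 : (x : G) ∈ R' := hP' ▸ ⟨x, hxP, rfl⟩
    obtain ⟨w, hw, hwe⟩ := h1
    have : (x : G) = g⁻¹ * w * g⁻¹⁻¹ := hwe.symm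
    rw [this]
    simpa [mul_assoc] using hw
  obtain ⟨w, hw, hwe⟩ := hxR
  refine ⟨w, hw, fun e => hx1 (Subtype.ext ?_), g * z * g⁻¹, ?_, ?_, ?_⟩
  · rw [e, map_one] at hwe
    have h2 := hwe.symm
    rw [mul_inv_eq_one] at h2
    exact mul_eq_left.mp h2
  · rw [sigmaCore_map hG hL]
    exact ⟨z, hz, rfl⟩
  · intro e
    exact hz1 (by rwa [mul_inv_eq_one, mul_eq_left] at e)
  · have hwe' : (w : G) = g * x * g⁻¹ := hwe
    rw [hwe']
    calc g * x * g⁻¹ * (g * z * g⁻¹) = g * (x * z) * g⁻¹ := by group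
      _ = g * (z * x) * g⁻¹ := by rw [hxz]
      _ = g * z * g⁻¹ * (g * x * g⁻¹) := by group

/-- A maximal subgroup over `N(B)` has `t` in its `σ`, for `t ∈ τ₂(M)`. -/
theorem Exc.sigma_of_normalizer_le {t : ℕ} [ht : Fact t.Prime] {M B B₁ H : Subgroup G} (h : Exc t M B B₁)
    (hG : IsMinSimpleOddOrder G) (hH : IsCoatom H) (hNB : Subgroup.normalizer (B : Set G) ≤ H) :
    t ∈ Cfsg.sigma H := by
  by_contra htH
  obtain ⟨P, hP, hBP⟩ := exists_sylowIn_ge h.isPGroup h.le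
  have hNP : Subgroup.normalizer (P : Set G) ≤ H := fun n hn => hNB (h.normalizer_le hG hP hBP hn)
  obtain ⟨R, hR, hPR⟩ := exists_sylowIn_ge hP.isPGroup (Subgroup.le_normalizer.trans hNP)
  haveI hRab := pGroup_commutative hG hH hR.isPGroup hR.1 htH
  have hRM : R ≤ M := fun v hv => h.centralizer_le (Subgroup.mem_centralizer_iff.mpr fun b hb =>
    congrArg Subtype.val (hRab.is_comm.comm ⟨b, hPR (hBP hb)⟩ ⟨v, hv⟩))
  have hRP : R = P := hP.eq_of_le hR.isPGroup hRM hPR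
  exact htH (mem_sigma_of_normalizer_le hR
    (fun e => h.ne_bot (le_bot_iff.mp (e ▸ hBP.trans hPR))) (hRP ▸ hNP))

/-- BG 14.4: a neighbour `N` with `κ(N) = ∅` shares no prime of `σ(N)` with `M` when `τ₂(M) ≠ ∅`. -/
theorem neighbor_tau2_sigma_free (hG : IsMinSimpleOddOrder G) {M N : Subgroup G} {x : G} (hM : IsCoatom M)
    (hN : IsCoatom N) (hx : x ∈ Cfsg.sigmaCore M) (hx1 : x ≠ 1) (hxM : ¬ Subgroup.centralizer ({x} : Set G) ≤ M)
    (hxN : Subgroup.centralizer ({x} : Set G) ≤ N) (hκM : Cfsg.kappa M = ∅) (hκN : Cfsg.kappa N = ∅)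
    {p t : ℕ} [hp : Fact p.Prime] [ht : Fact t.Prime] (hpN : p ∈ Cfsg.sigma N) (hpM : p ∣ Nat.card M)
    (hτ : t ∈ Cfsg.tau2 M) : False := by
  obtain ⟨N', hN', -, huniq, hconj, hnilN, -, hcompl, hτN, -, -⟩ := exists_neighbor hG hM hx hx1 hxM
  obtain rfl : N = N' := huniq N hN hxN
  have hpσ : p ∉ Cfsg.sigma M := fun hs => by
    obtain ⟨g, hg⟩ := sigma_disjoint hG hM hN hs hpN
    exact hconj g hg
  obtain ⟨q, hq, hqd⟩ := Nat.exists_prime_and_dvd fun e => hx1 (orderOf_eq_one_iff.mp e)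
  haveI := Fact.mk hq
  set a := x ^ (orderOf x / q) with hadef
  have hao : orderOf a = q := orderOf_pow_orderOf_div (orderOf_pos x).ne' hqd
  have haσ : a ∈ Cfsg.sigmaCore M := pow_mem hx _
  have ha1 : a ≠ 1 := fun h => hq.one_lt.ne (by rw [← hao, h, orderOf_one])
  have hle : Subgroup.centralizer ({x} : Set G) ≤ Subgroup.centralizer ({a} : Set G) := fun c hc =>
    Subgroup.mem_centralizer_singleton_iff.mpr
      ((show Commute c x from Subgroup.mem_centralizer_singleton_iff.mp hc).pow_right _).eq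
  obtain ⟨N', hN', hCN', -, -, -, -, -, -, -, -⟩ := exists_neighbor hG hM haσ ha1 fun h => hxM (hle.trans h)
  have e' : N' = N := huniq N' hN' (hle.trans hCN')
  rw [e'] at hCN'
  have hqN : q ∈ Cfsg.tau2 N := hτN q hq hqd
  have hqσ : q ∈ Cfsg.sigma M := orderOf_core haσ q hq hao.symm.dvd
  obtain ⟨A, hA⟩ : ∃ A : Subgroup G, A ≤ M ∧ IsElementaryAbelian t A ∧ Nat.card A = t ^ 2 := by
    obtain ⟨B, hBM, hB, hBc⟩ := exists_ea_of_not_pRankLE_one hτ.2.2.2
    exact ⟨B, hBM, hB, ea_card_eq_sq hτ.2.2.1 hB hBM hBc⟩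
  have hnil : Group.IsNilpotent (Cfsg.sigmaCore M) := (S1417.result hG M hM t hτ A hA).1
  have hrankM : ∀ V : Subgroup G, V ≤ M → (∀ W : Subgroup G, W ≤ Cfsg.sigmaCore M → IsPGroup q W →
      V ≤ Subgroup.centralizer (W : Set G)) → IsElementaryAbelian q V → Nat.card V ≤ q ^ 2 := fun V _ hVW hV => by
    have hVN : V ≤ N := (hVW (Subgroup.zpowers a) (Subgroup.zpowers_le.mpr haσ) (IsPGroup.of_card (n := 1)
      (by rw [Nat.card_zpowers, hao, pow_one]))).trans ((Subgroup.centralizer_le (by simp)).trans hCN')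
    have h := hqN.2.2.1 (V.subgroupOf N) ⟨⟨fun a b => Subtype.ext (Subtype.ext
      (congrArg (fun z : V => (z : G)) (hV.1.is_comm.comm ⟨_, a.2⟩ ⟨_, b.2⟩) :))⟩⟩
      fun a ha => Subtype.ext (hV.2 _ ha)
    rwa [Basics.card_subgroupOf hVN] at h
  -- the case `s ∈ τ₂(M) ∩ σ(N)`
  have hcaseτ : ∀ s : ℕ, [Fact s.Prime] → s ∈ Cfsg.tau2 M → s ∈ Cfsg.sigma N → False := by
    intro s hs hsτ hsN
    obtain ⟨B₀, hB₀M, hB₀, hB₀c⟩ := exists_ea_of_not_pRankLE_one hsτ.2.2.2
    have hB₀2 := ea_card_eq_sq hsτ.2.2.1 hB₀ hB₀M hB₀c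
    obtain ⟨-, -, -, -, -, A₁, hA₁, hA₁c, hA₁f⟩ := S1417.result hG M hM s hsτ B₀ ⟨hB₀M, hB₀, hB₀2⟩
    obtain ⟨X, hB⟩ := exists_exc hG hM hsτ.2.1 hB₀M hB₀ hB₀2
    obtain ⟨b, hb, hb1, hbA⟩ := exists_ne_one_of_card hA₁c
    have hbo : orderOf b = s := by rw [← Nat.card_zpowers, hbA, hA₁c]
    have h1 : s < q := lt_of_small_centralizer hG hnil haσ hao (hB₀M (hA₁ hb)) hbo hrankM (by
      rw [← centralizer_eq_of_zpowers, hbA]; exact hA₁f)
    -- `B` conjugated into `N_σ`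
    obtain ⟨g, hg⟩ := exists_conj_le_sigmaCore hG hN (Y := B₀) hB.ne_bot fun r hr hrd => by
      rw [hB₀2] at hrd
      rwa [(Nat.prime_dvd_prime_iff_eq hr hs.out).mp (hr.dvd_of_dvd_pow hrd)]
    set b' := g * b * g⁻¹ with hb'
    have hb'σ : b' ∈ Cfsg.sigmaCore N := hg ⟨b, hA₁ hb, rfl⟩
    have hb'o : orderOf b' = s := by rw [hb', orderOf_conj_elt, hbo]
    -- an element of order `q` in `N` without fixed points on `N_σ`
    obtain ⟨A₀, hA₀N, hA₀, hA₀c⟩ := exists_ea_of_not_pRankLE_one hqN.2.2.2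
    have hA₀2 := ea_card_eq_sq hqN.2.2.1 hA₀ hA₀N hA₀c
    obtain ⟨-, -, -, -, -, C₁, hC₁, hC₁c, hC₁f⟩ := S1417.result hG N hN q hqN A₀ ⟨hA₀N, hA₀, hA₀2⟩
    obtain ⟨c, hc, -, hcC⟩ := exists_ne_one_of_card hC₁c
    have hco : orderOf c = q := by rw [← Nat.card_zpowers, hcC, hC₁c]
    have h2 : q < s := lt_of_small_centralizer hG hnilN hb'σ hb'o (hA₀N (hC₁ hc)) hco (fun V _ hVW hV => ?_) (by
      rw [← centralizer_eq_of_zpowers, hcC]; exact hC₁f)
    · omega
    -- the centralizer of `B` has rank at most two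
    set B' := B₀.map (MulAut.conj g).toMonoidHom with hB'
    have hVB := hVW B' hg (hB.isPGroup.map _)
    have hVM : V.map (MulAut.conj g⁻¹).toMonoidHom ≤ M := by
      rintro _ ⟨v, hv, rfl⟩
      refine hB.centralizer_le (Subgroup.mem_centralizer_iff.mpr fun w hw => ?_)
      have e := Subgroup.mem_centralizer_iff.mp (hVB hv) (g * w * g⁻¹) ⟨w, hw, rfl⟩
      simp only [MulEquiv.coe_toMonoidHom, MulAut.conj_apply, inv_inv]
      calc w * (g⁻¹ * v * g) = g⁻¹ * (g * w * g⁻¹ * v) * g := by group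
        _ = g⁻¹ * (v * (g * w * g⁻¹)) * g := by rw [e]
        _ = g⁻¹ * v * g * w := by group
    have hV' := ea_map hV (MulAut.conj g⁻¹).toMonoidHom
    have h := hsτ.2.2.1 ((V.map (MulAut.conj g⁻¹).toMonoidHom).subgroupOf M) ⟨⟨fun a b => Subtype.ext (Subtype.ext
      (congrArg (fun z : (V.map (MulAut.conj g⁻¹).toMonoidHom : Subgroup G) => (z : G))
        (hV'.1.is_comm.comm ⟨_, a.2⟩ ⟨_, b.2⟩) :))⟩⟩ fun a ha => Subtype.ext (hV'.2 _ ha)
    rwa [Basics.card_subgroupOf hVM, Subgroup.card_map_of_injective (MulAut.conj g⁻¹).injective] at h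
  -- the general case
  by_cases hpτ : p ∈ Cfsg.tau2 M
  · exact hcaseτ p hpτ hpN
  have hp1 : PRankLE p 1 M := by
    by_contra h1
    exact hpτ ⟨hp.out, hpσ, pRankLE_two_of_not_mem_sigma hG hM hpσ, h1⟩
  obtain ⟨y₀, hy₀⟩ := exists_prime_orderOf_dvd_card' p hpM
  rw [← Subgroup.orderOf_coe] at hy₀
  set y : G := (y₀ : G) with hydef
  have hy1 : y ≠ 1 := fun e => hp.out.one_lt.ne (by rw [← hy₀, e, orderOf_one])
  have hfree : Cfsg.sigmaCore M ⊓ Subgroup.centralizer ({y} : Set G) = ⊥ := by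
    refine (Subgroup.eq_bot_iff_forall _).mpr fun v hv => ?_
    by_contra hv1
    obtain ⟨hvσ, hvy⟩ := Subgroup.mem_inf.mp hv
    rcases fixed_dichotomy hG hM hvσ hv1 y₀.2 (Subgroup.mem_centralizer_singleton_iff.mp hvy).symm hy1
      (fun r hr hd => by rw [hy₀] at hd; rwa [(Nat.prime_dvd_prime_iff_eq hr hp.out).mp hd]) with ⟨h, -⟩ | ⟨h, -⟩
    · exact (hκM ▸ h p hp.out hy₀.symm.dvd : p ∈ (∅ : Set ℕ)).elim
    · exact hpτ (h p hp.out hy₀.symm.dvd)
  have h1 : p < q := lt_of_small_centralizer hG hnil haσ hao y₀.2 hy₀ hrankM hfree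
  obtain ⟨E, hE, hyE⟩ := exists_compl_ge hG hM (Subgroup.zpowers_le.mpr y₀.2) fun r hr hd => by
    rw [Nat.card_zpowers, hy₀] at hd
    rwa [(Nat.prime_dvd_prime_iff_eq hr hp.out).mp hd]
  obtain ⟨B, hBE, hBe, hB2, B₁, hB⟩ := exists_ea_in_compl hG hM hE hτ
  have hyB : y ∈ Subgroup.normalizer (B : Set G) :=
    hB.compl_le_normalizer hG hE hBE (hyE (Subgroup.mem_zpowers y))
  obtain ⟨z, hz, hz1⟩ : ∃ z ∈ B ⊓ Subgroup.centralizer ({y} : Set G), z ≠ 1 := by
    refine (Subgroup.bot_or_exists_ne_one _).resolve_left fun hbot => ?_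
    have hle := free_action_centralizes hy₀ hyB (le_normalizer_sigmaCore M y₀.2) hB.le_normalizer_core
      (Nat.coprime_of_dvd fun r hr h1 h2 => by
        rw [hB2] at h1
        exact hτ.2.1 ((Nat.prime_dvd_prime_iff_eq hr ht.out).mp (hr.dvd_of_dvd_pow h1) ▸ piCoreOf_primes _ M hr h2))
      hbot hfree
    exact sigmaCore_ne_bot hG hM (le_bot_iff.mp (hB.centralizer_eq_bot hG ▸
      le_inf le_rfl (Subgroup.le_centralizer_iff.mp hle)))
  obtain ⟨hzB, hzy⟩ := Subgroup.mem_inf.mp hz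
  obtain ⟨H, hH, hNB⟩ := exists_maximal_ge (normalizer_ne_top hG hB.ne_bot fun e =>
    hM.1 (top_le_iff.mp (e ▸ hB.le)))
  have htH : t ∈ Cfsg.sigma H := hB.sigma_of_normalizer_le hG hH hNB
  have hzH : z ∈ Cfsg.sigmaCore H :=
    pGroup_le_sigmaCore hG hH htH hB.isPGroup (Subgroup.le_normalizer.trans hNB) hzB
  have hpH : p ∉ Cfsg.sigma H := fun hs => by
    obtain ⟨g, hg⟩ := sigma_disjoint hG hH hN hs hpN
    exact hcaseτ t hτ (by rw [hg, sigma_map]; exact htH)
  rcases fixed_dichotomy hG hH hzH hz1 (hNB hyB) (Subgroup.mem_centralizer_singleton_iff.mp hzy).symm hy1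
    (fun r hr hd => by rw [hy₀] at hd; rwa [(Nat.prime_dvd_prime_iff_eq hr hp.out).mp hd]) with ⟨h, -⟩ | ⟨h, hC, -⟩
  · have hpk := h p hp.out hy₀.symm.dvd
    obtain ⟨KH, hKH⟩ := exists_kappa_hall hG hH
    have hKH1 : KH ≠ ⊥ := fun e => hKH.2.2 p hp.out hpk (by rw [e, Subgroup.relIndex_bot_left]; exact hpk.2.1)
    obtain ⟨L, hL, -, hKL, hs, -⟩ := exists_dual hG hH hKH hKH1
    have hpL : p ∈ Cfsg.sigma L := by
      refine piCoreOf_primes _ L hp.out (dvd_trans ?_ (Subgroup.card_dvd_of_le (hs.le.trans inf_le_left)))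
      refine Nat.dvd_of_factorization_pos ?_
      rw [hallOf_factorization hKH hp.out hpk]
      exact (hp.out.factorization_pos_of_dvd Nat.card_pos.ne' hpk.2.1).ne'
    obtain ⟨g, hg⟩ := sigma_disjoint hG hL hN hpL hpN
    obtain ⟨r, hr, hrd⟩ := Nat.exists_prime_and_dvd fun e =>
      kappa_fixed_ne_bot hG hH hKH hKH1 (Subgroup.card_eq_one.mp e)
    have := kappa_conj hG hL g (hKL.2.1 r hr hrd)
    rw [← hg, hκN] at this
    exact this.elim
  · have hpτH := h p hp.out hy₀.symm.dvd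
    obtain ⟨g, hg⟩ := exists_conj_le_sigmaCore hG hN (Y := Subgroup.zpowers y)
      (fun e => hy1 (Subgroup.zpowers_eq_bot.mp e)) fun r hr hd => by
      rw [Nat.card_zpowers, hy₀] at hd
      rwa [(Nat.prime_dvd_prime_iff_eq hr hp.out).mp hd]
    set y' := g * y * g⁻¹ with hy'
    have hy'σ : y' ∈ Cfsg.sigmaCore N := hg ⟨y, Subgroup.mem_zpowers y, rfl⟩
    have hy'o : orderOf y' = p := by rw [hy', orderOf_conj_elt, hy₀]
    obtain ⟨A₀, hA₀N, hA₀, hA₀c⟩ := exists_ea_of_not_pRankLE_one hqN.2.2.2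
    have hA₀2 := ea_card_eq_sq hqN.2.2.1 hA₀ hA₀N hA₀c
    obtain ⟨-, -, -, -, -, C₁, hC₁, hC₁c, hC₁f⟩ := S1417.result hG N hN q hqN A₀ ⟨hA₀N, hA₀, hA₀2⟩
    obtain ⟨c, hc, -, hcC⟩ := exists_ne_one_of_card hC₁c
    have hco : orderOf c = q := by rw [← Nat.card_zpowers, hcC, hC₁c]
    have h2 : q < p := lt_of_small_centralizer hG hnilN hy'σ hy'o (hA₀N (hC₁ hc)) hco (fun V _ hVW hV => ?_) (by
      rw [← centralizer_eq_of_zpowers, hcC]; exact hC₁f)
    · omega
    have hVy : V ≤ Subgroup.centralizer ({y'} : Set G) := (hVW (Subgroup.zpowers y') (Subgroup.zpowers_le.mpr hy'σ)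
      (IsPGroup.of_card (n := 1) (by rw [Nat.card_zpowers, hy'o, pow_one]))).trans (Subgroup.centralizer_le (by simp))
    have hVH : V.map (MulAut.conj g⁻¹).toMonoidHom ≤ H := by
      rintro _ ⟨v, hv, rfl⟩
      have e := Subgroup.mem_centralizer_singleton_iff.mp (hVy hv)
      refine hC (Subgroup.mem_centralizer_singleton_iff.mpr ?_)
      simp only [MulEquiv.coe_toMonoidHom, MulAut.conj_apply, inv_inv]
      calc g⁻¹ * v * g * y = g⁻¹ * (v * (g * y * g⁻¹)) * g := by group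
        _ = g⁻¹ * (g * y * g⁻¹ * v) * g := by rw [← hy', e]
        _ = y * (g⁻¹ * v * g) := by group
    have hV' := ea_map hV (MulAut.conj g⁻¹).toMonoidHom
    have h := hpτH.2.2.1 ((V.map (MulAut.conj g⁻¹).toMonoidHom).subgroupOf H) ⟨⟨fun a b => Subtype.ext (Subtype.ext
      (congrArg (fun z : (V.map (MulAut.conj g⁻¹).toMonoidHom : Subgroup G) => (z : G))
        (hV'.1.is_comm.comm ⟨_, a.2⟩ ⟨_, b.2⟩) :))⟩⟩ fun a ha => Subtype.ext (hV'.2 _ ha)
    rwa [Basics.card_subgroupOf hVH, Subgroup.card_map_of_injective (MulAut.conj g⁻¹).injective] at h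

end Cfsg.Agent.OddLocal
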