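import Cfsg.Agent.Lib.OddLocal.SigmaConj
import Cfsg.Agent.Lib.OddLocal.ComplStructure
import Cfsg.Agent.Lib.OddLocal.PLen

/-! `M_σ` under a complement and the intersections with conjugates of `M` (BG 12.17). -/

set_option autoImplicit false
set_option linter.unusedSectionVars false
set_option linter.style.haveILetI false

namespace Cfsg.Agent.OddLocal

open scoped commutatorElement Pointwise
open Cfsg
open Basics (IsSylowIn)

universe u

variable {G : Type u} [Group G] [Finite G]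

theorem sigmaCore_commutator_eq (hG : IsMinSimpleOddOrder G) {M E : Subgroup G} (hM : IsCoatom M)
    (hE : IsComplIn E (Cfsg.sigmaCore M) M) :
    ⁅Cfsg.sigmaCore M, E⁆ = Cfsg.sigmaCore M ∧
      Cfsg.sigmaCore M ⊓ Subgroup.centralizer (E : Set G) ≤ ⁅Cfsg.sigmaCore M, Cfsg.sigmaCore M⁆ := by
  haveI : Group.IsSolvable M := isSolvable_of_ne_top hG hM.1
  haveI hn : (Cfsg.piCore (Cfsg.sigma M) ↥M).Normal := by infer_instance
  set N := Cfsg.piCore (Cfsg.sigma M) ↥M with hN
  set E₀ := E.subgroupOf M with hE₀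
  have hmapN : N.map M.subtype = Cfsg.sigmaCore M := rfl
  have hmapE : E₀.map M.subtype = E := Subgroup.map_subgroupOf_eq_of_le hE.1
  have hdisj : N ⊓ E₀ = ⊥ := by
    refine Subgroup.map_injective M.subtype_injective ?_
    rw [Subgroup.map_inf _ _ _ M.subtype_injective, hmapN, hmapE, Subgroup.map_bot, inf_comm, hE.2.2.1]
  have hsup : N ⊔ E₀ = ⊤ := by
    refine eq_top_iff.mpr fun m _ => ?_
    obtain ⟨e, he, s, ⟨s', hs', rfl⟩, hm⟩ := hE.2.2.2 m m.2
    rw [show m = (⟨e, hE.1 he⟩ : M) * s' from Subtype.ext hm]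
    exact mul_mem (Subgroup.mem_sup_right he) (Subgroup.mem_sup_left hs')
  have hle : N ≤ commutator M := by
    rw [← Subgroup.map_subtype_le_map_subtype, M.map_subtype_commutator, hmapN]
    exact sigmaCore_le_derived hG hM
  have hcomm : ⁅N, E₀⁆ = N :=
    eq_commutator_of_le_derived N E₀ (Basics.isSolvable_of_le le_top (Group.isSolvable_of_surjective
      (f := (Subgroup.topEquiv (G := M)).symm.toMonoidHom) (Subgroup.topEquiv (G := M)).symm.surjective)) hsup hdisj hle
  refine ⟨by rw [← hmapN, ← hmapE, ← Subgroup.map_commutator, hcomm], fun c hc => ?_⟩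
  set π := QuotientGroup.mk' ⁅N, N⁆
  set V := N.map π with hV
  set A := E₀.map π with hA
  haveI : IsMulCommutative V := by
    refine Subgroup.le_centralizer_iff_isMulCommutative.mp (Subgroup.commutator_eq_bot_iff_le_centralizer.mp ?_)
    rw [hV, ← Subgroup.map_commutator, QuotientGroup.map_mk'_self]
  have hcop : (Nat.card A).Coprime (Nat.card V) := by
    refine Nat.coprime_of_dvd fun q hq h1 h2 => ?_
    have h1' : q ∣ Nat.card E := by
      rw [← Basics.card_subgroupOf hE.1]; exact h1.trans (Subgroup.card_map_dvd _ _)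
    have h2' : q ∣ Nat.card (Cfsg.sigmaCore M) := by
      rw [← hmapN, Subgroup.card_map_of_injective M.subtype_injective]
      exact h2.trans (Subgroup.card_map_dvd _ _)
    exact compl_primes hG hM hE hq h1' (piCoreOf_primes _ M hq h2')
  have hAV : A ≤ Subgroup.normalizer (V : Set (M ⧸ ⁅N, N⁆)) :=
    (Subgroup.map_mono (Subgroup.le_normalizer_of_normal : E₀ ≤ Subgroup.normalizer (N : Set M))).trans
      (Subgroup.le_normalizer_map _)
  obtain ⟨c', hc', rfl⟩ := hc.1
  have h1 : π c' ∈ (V ⊓ Subgroup.centralizer (A : Set (M ⧸ ⁅N, N⁆))) ⊓ ⁅V, A⁆ := by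
    refine ⟨⟨⟨c', hc', rfl⟩, ?_⟩, ?_⟩
    · refine Subgroup.mem_centralizer_iff.mpr ?_
      rintro _ ⟨e, he, rfl⟩
      rw [← map_mul, ← map_mul]
      exact congrArg π (Subtype.ext (Subgroup.mem_centralizer_iff.mp hc.2 e he))
    · rw [hV, hA, ← Subgroup.map_commutator, hcomm]
      exact ⟨c', hc', rfl⟩
  rw [Basics.inf_centralizer_inf_commutator_eq_bot A V hAV hcop, Subgroup.mem_bot] at h1
  rw [← hmapN, ← Subgroup.map_commutator]
  exact ⟨c', (QuotientGroup.eq_one_iff c').mp h1, rfl⟩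

theorem sigma_inter_conj (hG : IsMinSimpleOddOrder G) {M : Subgroup G} (hM : IsCoatom M) {g : G} (hg : g ∉ M) :
    IsCyclic ↥(Cfsg.sigmaCore M ⊓ M.map (MulAut.conj g).toMonoidHom) ∧
      (∀ p : ℕ, p.Prime → p ∣ Nat.card ↥(Cfsg.sigmaCore M ⊓ M.map (MulAut.conj g).toMonoidHom) → p ∉ Cfsg.beta M) ∧
      Cfsg.sigmaCore M ⊓ M.map (MulAut.conj g).toMonoidHom ⊓ ⁅Cfsg.sigmaCore M, Cfsg.sigmaCore M⁆ = ⊥ := by
  set D := Cfsg.sigmaCore M ⊓ M.map (MulAut.conj g).toMonoidHom with hD
  have hDM : D ≤ M := inf_le_left.trans (sigmaCore_le M)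
  have hσ : ∀ q : ℕ, q.Prime → q ∣ Nat.card D → q ∈ Cfsg.sigma M := fun q hq hd =>
    piCoreOf_primes _ M hq (hd.trans (Subgroup.card_dvd_of_le inf_le_left))
  have key : ∀ (q : ℕ) [Fact q.Prime] (U : Subgroup G), IsPGroup q U → U ≠ ⊥ → U ≤ D →
      ¬ Subgroup.centralizer (U : Set G) ≤ M := by
    intro q _ U hU hU1 hUD hC
    have hqσ : q ∈ Cfsg.sigma M := hσ q Fact.out ((hU.card_eq_or_dvd.resolve_left
      fun e => hU1 (Subgroup.card_eq_one.mp e)).trans (Subgroup.card_dvd_of_le hUD))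
    have hle : U.map (MulAut.conj g⁻¹).toMonoidHom ≤ M := by
      refine (Subgroup.map_mono (hUD.trans inf_le_right)).trans ?_
      rw [map_conj_map_conj, inv_mul_cancel, map_conj_one]
    obtain ⟨m, hm, c, hc, e⟩ := sigma_fusion hG hM hqσ hU hU1 (hUD.trans hDM) hle
    exact hg (by rw [← inv_inv g, e]; exact inv_mem (mul_mem hm (hC hc)))
  have hline : ∀ (q : ℕ) [Fact q.Prime] (X : Subgroup G), Nat.card X = q → X ≤ D →
      q ∉ Cfsg.beta M ∧ ¬ X ≤ ⁅Cfsg.sigmaCore M, Cfsg.sigmaCore M⁆ := by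
    intro q hqF X hX hXD
    have hX1 : X ≠ ⊥ := fun e => by
      rw [e, Subgroup.card_bot] at hX
      exact hqF.out.one_lt.ne hX
    have hno := key q X (IsPGroup.of_card (n := 1) (hX.trans (pow_one q).symm)) hX1 hXD
    obtain ⟨P₀⟩ : Nonempty (Sylow q (Cfsg.sigmaCore M)) := inferInstance
    have hqσ : q ∈ Cfsg.sigma M := hσ q hqF.out (hX ▸ Subgroup.card_dvd_of_le hXD)
    refine ⟨fun hb => hno ?_, fun h => hno ?_⟩
    · exact (sigma_element_unique hG hM hqσ (Basics.isSylowIn_map P₀) (hXD.trans hDM) hX (Or.inl hb)).1.1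
    · exact (sigma_element_unique hG hM hqσ (Basics.isSylowIn_map P₀) (hXD.trans hDM) hX (Or.inr h)).1.1
  have hder : D ⊓ ⁅Cfsg.sigmaCore M, Cfsg.sigmaCore M⁆ = ⊥ := by
    refine Subgroup.card_eq_one.mp ?_
    by_contra hne
    obtain ⟨q, hq, hd⟩ := Nat.exists_prime_and_dvd hne
    haveI := Fact.mk hq
    obtain ⟨x, hx⟩ := exists_prime_orderOf_dvd_card' q hd
    refine (hline q (Subgroup.zpowers (x : G)) ?_ (Subgroup.zpowers_le.mpr x.2.1)).2 (Subgroup.zpowers_le.mpr x.2.2)
    rw [Nat.card_zpowers, Subgroup.orderOf_coe, hx]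
  have hab : IsMulCommutative D := by
    refine Subgroup.le_centralizer_iff_isMulCommutative.mp (Subgroup.commutator_eq_bot_iff_le_centralizer.mp ?_)
    exact le_bot_iff.mp (hder ▸ le_inf (Subgroup.commutator_le_self D) (Subgroup.commutator_mono inf_le_left inf_le_left))
  refine ⟨?_, fun p hp hd => ?_, hder⟩
  · haveI : Group.IsNilpotent D := by
      letI : CommGroup D := { (inferInstance : Group D) with mul_comm := hab.is_comm.comm }
      exact CommGroup.isNilpotent
    haveI : IsZGroup D := ⟨fun q hq S => by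
      haveI := Fact.mk hq
      set U := (S : Subgroup D).map D.subtype with hU
      have e : (S : Subgroup D) ≃* U := Subgroup.equivMapOfInjective _ D.subtype D.subtype_injective
      by_contra hnc
      have hnc' : ¬ IsCyclic U := fun h => hnc (e.isCyclic.mpr h)
      have hU1 : U ≠ ⊥ := fun h => hnc' (h ▸ (inferInstance : IsCyclic (⊥ : Subgroup G)))
      have hUD : U ≤ D := Subgroup.map_subtype_le _
      have hUp : IsPGroup q U := S.2.map _
      have hqσ : q ∈ Cfsg.sigma M := hσ q hq ((hUp.card_eq_or_dvd.resolve_left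
        fun h => hU1 (Subgroup.card_eq_one.mp h)).trans (Subgroup.card_dvd_of_le hUD))
      exact key q U hUp hU1 hUD ((Subgroup.centralizer_le_normalizer _).trans
        (normalizer_le_of_noncyclic hG hM hqσ hUp (hUD.trans hDM) hnc'))⟩
    infer_instance
  · haveI := Fact.mk hp
    obtain ⟨x, hx⟩ := exists_prime_orderOf_dvd_card' p hd
    refine (hline p (Subgroup.zpowers (x : G)) ?_ (Subgroup.zpowers_le.mpr x.2)).1
    rw [Nat.card_zpowers, Subgroup.orderOf_coe, hx]

end Cfsg.Agent.OddLocal
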