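import Cfsg.Agent.Lib.OddLocal.Tau2

/-! `τ₂(M)` when the Sylow `p`-subgroups of `G` are nonabelian (BG 12.7). -/

set_option autoImplicit false
set_option linter.unusedSectionVars false
set_option linter.style.haveILetI false

namespace Cfsg.Agent.OddLocal

open scoped commutatorElement Pointwise
open Cfsg
open Basics (IsSylowIn)

universe u

variable {G : Type u} [Group G] [Finite G] {p : ℕ} [hp : Fact p.Prime]

theorem exists_ne_one_of_card {X : Subgroup G} (hX : Nat.card X = p) : ∃ x ∈ X, x ≠ 1 ∧ Subgroup.zpowers x = X := by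
  obtain ⟨x, hx, hxo⟩ := exists_orderOf_eq (IsPGroup.of_card (n := 1) (hX.trans (pow_one p).symm))
    (fun e => by rw [e, Subgroup.card_bot] at hX; exact hp.out.one_lt.ne hX)
  exact ⟨x, hx, fun e => by rw [e, orderOf_one] at hxo; exact hp.out.one_lt.ne hxo,
    Subgroup.eq_of_le_of_card_ge (Subgroup.zpowers_le.mpr hx) (by rw [hX, Nat.card_zpowers, hxo])⟩

/-- In a nonabelian Sylow subgroup a noncentral element of a maximal elementary abelian subgroup of order
`p ^ 2` is no `p`-th power inside its centralizer. -/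
theorem pow_eq_one_of_root (hG : IsMinSimpleOddOrder G) (T : Sylow p G)
    (hT : ¬ IsMulCommutative (T : Subgroup G)) {A : Subgroup G} (hAT : A ≤ (T : Subgroup G))
    (hA : IsElementaryAbelian p A) (hA2 : Nat.card A = p ^ 2)
    (hmax : ∀ x ∈ Subgroup.centralizer (A : Set G), x ^ p = 1 → x ∈ A) {a : G} (ha : a ∈ A)
    (hnc : ¬ (T : Subgroup G) ≤ Subgroup.centralizer ({a} : Set G)) {k : G} (hk : k ∈ (T : Subgroup G))
    (hka : k * a = a * k) (hkp : k ^ p ∈ Subgroup.zpowers a) : k ^ p = 1 := by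
  have hp2 : p ≠ 2 := prime_ne_two hG ((hA2 ▸ dvd_pow_self p two_ne_zero).trans (Subgroup.card_subgroup_dvd_card A))
  have haT : a ∈ (T : Subgroup G) := hAT ha
  by_cases hr : Cfsg.PRankLE p 2 (T : Subgroup G)
  · rcases S1412.result hG p T hr with hab | ⟨P₁, P₂, hsup, hcomm, -, hc3, hexp, hcyc, hω⟩
    · exact absurd hab hT
    haveI := hcyc
    have hn1 : P₂ ≤ Subgroup.normalizer (P₁ : Set G) := fun b hb => Subgroup.centralizer_le_normalizer _
      (Subgroup.mem_centralizer_iff.mpr fun v hv => hcomm v hv b hb)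
    obtain ⟨k₁, hk₁, k₂, hk₂, e⟩ := (Basics.mem_sup_of_le_normalizer hn1).mp (hsup.symm ▸ hk)
    have h1 : k₁ ^ p = 1 := congrArg Subtype.val (hexp ▸ Monoid.pow_exponent_eq_one (⟨k₁, hk₁⟩ : P₁))
    have hkp2 : k ^ p = k₂ ^ p := by rw [e, (show Commute k₁ k₂ from hcomm k₁ hk₁ k₂ hk₂).mul_pow, h1, one_mul]
    by_contra hne
    refine hnc ?_
    rw [hkp2] at hkp hne
    have hgen : Subgroup.zpowers (k₂ ^ p) = Subgroup.zpowers a := by
      refine Subgroup.eq_of_le_of_card_ge (Subgroup.zpowers_le.mpr hkp) ?_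
      have ha1 : a ≠ 1 := by
        rintro rfl
        exact hne (by simpa using hkp)
      rw [Nat.card_zpowers, Nat.card_zpowers, orderOf_eq_prime (hA.2 a ha) ha1,
        orderOf_eq_prime (p := p) (by
          obtain ⟨i, hi⟩ := hkp
          rw [← hi, ← zpow_natCast, ← zpow_mul, mul_comm, zpow_mul, zpow_natCast, hA.2 a ha, one_zpow]) hne]
    have haP2 : a ∈ P₂ := by
      have h2 : Subgroup.zpowers a ≤ P₂ := hgen ▸ Subgroup.zpowers_le.mpr (pow_mem hk₂ p)
      exact h2 (Subgroup.mem_zpowers a)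
    rw [← hsup]
    exact sup_le (fun v hv => Subgroup.mem_centralizer_singleton_iff.mpr (hcomm v hv a haP2))
      fun v hv => Subgroup.mem_centralizer_singleton_iff.mpr
        (Subgroup.mem_centralizer_iff.mp ((Subgroup.le_centralizer_iff_isMulCommutative.mpr
          IsCyclic.isMulCommutative) haP2) v hv)
  · have hE : MaxEATwo p (A.subgroupOf (T : Subgroup G)) := by
      refine ⟨⟨⟨⟨fun u v => Subtype.ext (Subtype.ext (ea_commute hA u.2 v.2).eq)⟩⟩,
        fun u hu => Subtype.ext (hA.2 _ hu)⟩, ?_, fun x hx hxc => ?_⟩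
      · rw [Basics.card_subgroupOf hAT, hA2]
      · exact hmax _ (Subgroup.mem_centralizer_iff.mpr fun b hb => congrArg Subtype.val
          (Subgroup.mem_centralizer_iff.mp hxc ⟨b, hAT hb⟩ hb)) (congrArg Subtype.val hx)
    set r : (T : Subgroup G) := ⟨a, haT⟩ with hr'
    have hrc : r ∉ Subgroup.center (T : Subgroup G) := fun hc => hnc fun v hv =>
      Subgroup.mem_centralizer_singleton_iff.mpr
        (congrArg Subtype.val (Subgroup.mem_center_iff.mp hc ⟨v, hv⟩))
    obtain ⟨R₁, hcyc, hdisj, hcomm, hsup⟩ :=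
      hE.narrow_of_mem hp2 T.2 hr (r := r) ha (hE.notMem_of_noncentral hp2 T.2 hr (r := r) ha hrc)
    have hkc : (⟨k, hk⟩ : (T : Subgroup G)) ∈ Subgroup.zpowers r ⊔ R₁ := by
      rw [hsup, Subgroup.zpowers_eq_closure, Subgroup.centralizer_closure, Subgroup.mem_centralizer_singleton_iff]
      exact Subtype.ext hka
    have hn : R₁ ≤ Subgroup.normalizer (Subgroup.zpowers r : Set _) := fun b hb =>
      Subgroup.centralizer_le_normalizer _ (Subgroup.mem_centralizer_iff.mpr fun v hv => hcomm v hv b hb)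
    obtain ⟨u, hu, w, hw, e⟩ := (Basics.mem_sup_of_le_normalizer hn).mp hkc
    have hup : u ^ p = 1 := by
      obtain ⟨i, rfl⟩ := hu
      rw [← zpow_natCast, ← zpow_mul, mul_comm, zpow_mul, zpow_natCast,
        show r ^ p = 1 from Subtype.ext (hA.2 a ha), one_zpow]
    have h2 : (⟨k, hk⟩ : (T : Subgroup G)) ^ p ∈ Subgroup.zpowers r ⊓ R₁ := by
      refine ⟨?_, ?_⟩
      · obtain ⟨i, hi⟩ := hkp
        exact ⟨i, Subtype.ext (by push_cast; exact hi)⟩
      · rw [e, (show Commute u w from hcomm u hu w hw).mul_pow, hup, one_mul]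
        exact pow_mem hw p
    rw [hdisj, Subgroup.mem_bot] at h2
    exact congrArg Subtype.val h2

namespace Exc

variable {M A A₀ E : Subgroup G}

/-- An element of `N(A)` fixing a centralized subgroup with fixed points on `M_σ` lies in `M`. -/
theorem mem_of_fixed_centralizer (h : Exc p M A A₀) (hG : IsMinSimpleOddOrder G) {Y : Subgroup G} (hY : Y ≠ ⊥)
    (hAY : A ≤ Subgroup.centralizer (Y : Set G))
    (hne : Cfsg.sigmaCore M ⊓ Subgroup.centralizer (Y : Set G) ≠ ⊥) {g : G}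
    (hgA : g ∈ Subgroup.normalizer (A : Set G)) (hgY : g ∈ Subgroup.normalizer (Y : Set G)) : g ∈ M := by
  set K := Cfsg.sigmaCore M ⊓ Subgroup.centralizer (Y : Set G) with hK
  obtain ⟨q, hq, hqK⟩ := Nat.exists_prime_and_dvd (fun e => hne (Subgroup.card_eq_one.mp e))
  haveI := Fact.mk hq
  have hqσ : q ∈ Cfsg.sigma M := piCoreOf_primes _ M hq (hqK.trans (Subgroup.card_dvd_of_le inf_le_left))
  have hqA : ¬ q ∣ Nat.card A := fun e => by
    rw [h.card] at e
    exact h.notσ ((Nat.prime_dvd_prime_iff_eq hq hp.out).mp (hq.dvd_of_dvd_pow e) ▸ hqσ)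
  have hAK : A ≤ Subgroup.normalizer (K : Set G) :=
    (le_inf h.le_normalizer_core (hAY.trans Subgroup.le_normalizer)).trans le_normalizer_inf'
  obtain ⟨I, hI, hAI⟩ := Basics.exists_invariant_isSylowIn A K hAK (coprime_of_pGroup h.isPGroup
    fun e => h.not_dvd_sigma (e.trans (Subgroup.card_dvd_of_le inf_le_left))) (Or.inl h.solvable) q
  have hI1 : I ≠ ⊥ := fun e => by
    have h1 := hI.2
    rw [e, Subgroup.card_bot] at h1
    exact (Nat.one_lt_pow (hq.factorization_pos_of_dvd Nat.card_pos.ne' hqK).ne' hq.one_lt).ne h1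
  obtain ⟨Q, hQ, hIQ, hAQ⟩ := Basics.exists_invariant_isSylowIn_ge A (Cfsg.sigmaCore M) h.le_normalizer_core
    (coprime_of_pGroup h.isPGroup h.not_dvd_sigma) (Or.inl h.solvable) q I (hI.1.trans inf_le_left) hI.isPGroup hAI
  obtain ⟨y, hy, hy1⟩ : ∃ y ∈ Y, y ≠ 1 := by
    by_contra hc
    push Not at hc
    exact hY ((Subgroup.eq_bot_iff_forall Y).mpr hc)
  refine mem_of_common hG h.max (h.transHyp hG) h.centralizer_le hqA hqσ hQ hAQ hQ
    ((Subgroup.mem_normalizer_iff_map_conj_eq.mp hgA).ge.trans (conj_le_normalizer_conj hAQ g))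
    (H := Subgroup.centralizer (Y : Set G)) (centralizer_ne_top hG hy hy1) hAY
    (fun e => hI1 (le_bot_iff.mp (e ▸ le_inf (hI.1.trans inf_le_right) hIQ))) fun e => hI1 ?_
  refine le_bot_iff.mp fun x hx => ?_
  have h1 : g * x * g⁻¹ ∈ Subgroup.centralizer (Y : Set G) ⊓ Q.map (MulAut.conj g).toMonoidHom :=
    ⟨(Subgroup.mem_normalizer_iff.mp (le_normalizer_centralizer le_rfl hgY) x).mp (hI.1 hx).2, ⟨x, hIQ hx, rfl⟩⟩
  rw [e, Subgroup.mem_bot, conj_eq_one_iff] at h1
  exact Subgroup.mem_bot.mpr h1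

/-- The extra structure when the Sylow subgroup of `G` is bigger: the fixed line and the moving element. -/
theorem nonAb_data (h : Exc p M A A₀) (hG : IsMinSimpleOddOrder G)
    (hna : ∀ S : Sylow p G, ¬ IsMulCommutative (S : Subgroup G)) :
    ∃ (T : Sylow p G) (P Z : Subgroup G) (n : G), IsSylowIn p M P ∧ A ≤ P ∧ P ≤ (T : Subgroup G) ∧
      (T : Subgroup G) ⊓ M = P ∧ n ∈ (T : Subgroup G) ∧ n ∉ M ∧ n ∈ Subgroup.normalizer (A : Set G) ∧
      Z ≤ A ∧ Nat.card Z = p ∧ (T : Subgroup G) ≤ Subgroup.centralizer (Z : Set G) ∧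
      Subgroup.normalizer ((T : Subgroup G) : Set G) ≤ Subgroup.normalizer (Z : Set G) ∧
      Cfsg.sigmaCore M ⊓ Subgroup.centralizer (Z : Set G) = ⊥ ∧
      (∀ X : Subgroup G, X ≤ A → Nat.card X = p → X ≠ A₀ →
        X = Z ∨ ∃ g ∈ Subgroup.normalizer (A : Set G), g ∉ M ∧ A₀.map (MulAut.conj g).toMonoidHom = X) ∧
      A ⊓ Subgroup.centralizer (Cfsg.sigmaCore M : Set G) = A₀ := by
  obtain ⟨P, hP, hAP⟩ := exists_sylowIn_ge h.isPGroup h.le
  obtain ⟨T, hPT⟩ := hP.isPGroup.exists_le_sylow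
  have hTP : (T : Subgroup G) ≠ P := fun e => hna T (e ▸ h.sylow_abelian hG hP hAP)
  have hAT : A ≤ (T : Subgroup G) := hAP.trans hPT
  obtain ⟨n, hnT, hnP⟩ := SetLike.exists_of_lt (lt_inf_normalizer_of_lt T.2 (lt_of_le_of_ne hPT (Ne.symm hTP)))
  have hTM : (T : Subgroup G) ⊓ M = P := hP.eq_of_le (T.2.to_le inf_le_left) inf_le_right (le_inf hPT hP.1)
  have hnM : n ∉ M := fun hm => hnP (hTM.le ⟨hnT.1, hm⟩)
  have hnA : n ∈ Subgroup.normalizer (A : Set G) := h.normalizer_le hG hP hAP hnT.2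
  set Z := A ⊓ Subgroup.centralizer ((T : Subgroup G) : Set G) with hZ
  have hZmem : ∀ x, x ∈ Subgroup.centralizer ((T : Subgroup G) : Set G) → x ^ p = 1 → x ∈ Z := fun x hx hxp =>
    ⟨h.mem hG (Subgroup.centralizer_le hAT hx) hxp, hx⟩
  obtain ⟨t, ht, hto, htc⟩ := exists_central_mem T.2 le_rfl Subgroup.le_normalizer
    (fun e => h.ne_bot (le_bot_iff.mp (e ▸ hAT)))
  have htZ : t ∈ Z := hZmem t (Subgroup.mem_centralizer_iff.mpr fun v hv =>
    Subgroup.mem_centralizer_singleton_iff.mp (htc hv)) (hto ▸ pow_orderOf_eq_one t)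
  have ht1 : t ≠ 1 := fun e => by rw [e, orderOf_one] at hto; exact hp.out.one_lt.ne hto
  have hZc : Nat.card Z = p := by
    obtain ⟨k, hk, e⟩ := (Nat.dvd_prime_pow hp.out).mp (h.card ▸ Subgroup.card_dvd_of_le (inf_le_left : Z ≤ A))
    interval_cases k
    · exact absurd (Subgroup.mem_bot.mp ((Subgroup.card_eq_one.mp (e.trans (pow_zero p)) : Z = ⊥) ▸ htZ)) ht1
    · rw [e, pow_one]
    · refine absurd (h.centralizer_le (Subgroup.mem_centralizer_iff.mpr fun a ha => ?_)) hnM
      have hb : Z = A := Subgroup.eq_of_le_of_card_ge inf_le_left (h.card.trans e.symm).le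
      exact (Subgroup.mem_centralizer_iff.mp (hb.ge ha).2 n hnT.1).symm
  have hZt : Subgroup.zpowers t = Z :=
    Subgroup.eq_of_le_of_card_ge (Subgroup.zpowers_le.mpr htZ) (by rw [hZc, Nat.card_zpowers, hto])
  have hTZ : (T : Subgroup G) ≤ Subgroup.centralizer (Z : Set G) := Subgroup.le_centralizer_iff.mp inf_le_right
  have hNT : Subgroup.normalizer ((T : Subgroup G) : Set G) ≤ Subgroup.normalizer (Z : Set G) := fun g hg =>
    mem_normalizer_of_conj_mem fun x hx => hZmem _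
      ((Subgroup.mem_normalizer_iff.mp (le_normalizer_centralizer le_rfl hg) x).mp hx.2)
      (by rw [conj_pow, h.ea.2 x hx.1, mul_one, mul_inv_cancel])
  have hZ1 : Z ≠ ⊥ := fun e => by rw [e, Subgroup.card_bot] at hZc; exact hp.out.one_lt.ne hZc
  have hnZ : n ∈ Subgroup.normalizer (Z : Set G) := Subgroup.centralizer_le_normalizer _ (hTZ hnT.1)
  have hZf := h.inf_centralizer_of_fixed hG hP.isPGroup hAP hP.1 hnT.2 hnM inf_le_left hZ1 (hPT.trans hTZ) hnZ
  obtain ⟨a, ha, ha1, ha₀⟩ := exists_ne_one_of_card h.line_card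
  obtain ⟨k, hk⟩ := T.2 ⟨n, hnT.1⟩
  have hlines : ∀ X : Subgroup G, X ≤ A → Nat.card X = p → X ≠ A₀ →
      X = Z ∨ ∃ g ∈ Subgroup.normalizer (A : Set G), g ∉ M ∧ A₀.map (MulAut.conj g).toMonoidHom = X := by
    intro X hXA hX hX0
    by_cases hXZ : X = Z
    · exact Or.inl hXZ
    refine Or.inr ?_
    obtain ⟨i, hi⟩ := exists_conj_line h.ea h.card (z := t) htZ.1 ht1 (h.line_le ha) hnA (congrArg Subtype.val hk)
      (mul_inv_eq_iff_eq_mul.mpr (Subgroup.mem_centralizer_iff.mp htZ.2 n hnT.1))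
      (fun e => hnM (h.line_norm (by
        rw [← ha₀]
        refine Subgroup.centralizer_le_normalizer _ ?_
        rw [Subgroup.zpowers_eq_closure, Subgroup.centralizer_closure]
        exact Subgroup.mem_centralizer_singleton_iff.mpr (mul_inv_eq_iff_eq_mul.mp e))))
      hXA hX (hZt ▸ hXZ)
    rw [ha₀] at hi
    refine ⟨n ^ i, pow_mem hnA i, fun hm => hX0 ?_, hi⟩
    have hc : n ^ i ∈ Subgroup.normalizer (A₀ : Set G) := by
      refine Subgroup.centralizer_le_normalizer _ (Subgroup.centralizer_le h.line_le ?_)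
      exact Subgroup.le_centralizer_iff.mp (h.le_centralizer_sylow hG hP hAP) (hTM.le ⟨pow_mem hnT.1 i, hm⟩)
    rw [← hi]
    exact Subgroup.mem_normalizer_iff_map_conj_eq.mp hc
  have hcent : A ⊓ Subgroup.centralizer (Cfsg.sigmaCore M : Set G) = A₀ := by
    have hle : A₀ ≤ Subgroup.centralizer (Cfsg.sigmaCore M : Set G) := by
      refine Subgroup.le_centralizer_iff.mp (le_of_lines h.ea h.card h.le_normalizer_core h.not_dvd_sigma
        fun X hXA hX => ?_)
      by_cases hX0 : X = A₀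
      · exact hX0 ▸ inf_le_right
      rcases hlines X hXA hX hX0 with rfl | ⟨g, hg, hgM, rfl⟩
      · exact hZf.le.trans bot_le
      · exact (h.conj_line hG hg hgM).2.2.2.le.trans bot_le
    refine le_antisymm ?_ (le_inf h.line_le hle)
    intro x hx
    by_contra hx0
    have hx1 : x ≠ 1 := fun e => hx0 (e ▸ one_mem _)
    refine sigmaCore_ne_bot hG h.max (le_bot_iff.mp ?_)
    rw [← h.centralizer_eq_bot hG]
    refine le_inf le_rfl (Subgroup.le_centralizer_iff.mp ?_)
    rw [← sup_eq_of_lines h.card h.line_le (Subgroup.zpowers_le.mpr hx.1) h.line_card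
      (card_zpowers_of_ea h.ea hx.1 hx1) fun e => hx0 (e ▸ Subgroup.mem_zpowers x)]
    exact sup_le hle (Subgroup.zpowers_le.mpr hx.2)
  exact ⟨T, P, Z, n, hP, hAP, hPT, hTM, hnT.1, hnM, hnA, inf_le_left, hZc, hTZ, hNT, hZf, hlines, hcent⟩

/-- Lines other than `A₀` act fixed point freely and have centralizers outside `M`. -/
theorem nonAb_line (h : Exc p M A A₀) (hG : IsMinSimpleOddOrder G)
    (hna : ∀ S : Sylow p G, ¬ IsMulCommutative (S : Subgroup G)) {X : Subgroup G} (hXA : X ≤ A)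
    (hX : Nat.card X = p) (hX0 : X ≠ A₀) :
    Cfsg.sigmaCore M ⊓ Subgroup.centralizer (X : Set G) = ⊥ ∧ ¬ Subgroup.centralizer (X : Set G) ≤ M := by
  obtain ⟨T, P, Z, n, -, -, hPT, hTM, hnT, hnM, -, -, -, hTZ, -, hZf, hlines, hcent⟩ := h.nonAb_data hG hna
  rcases hlines X hXA hX hX0 with rfl | ⟨g, hg, hgM, rfl⟩
  · exact ⟨hZf, fun hle => hnM (hle (hTZ hnT))⟩
  refine ⟨(h.conj_line hG hg hgM).2.2.2, fun hle => ?_⟩
  obtain ⟨q, hq, hqd⟩ := Nat.exists_prime_and_dvd
    (fun e => sigmaCore_ne_bot hG h.max (Subgroup.card_eq_one.mp e))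
  haveI := Fact.mk hq
  have hqσ : q ∈ Cfsg.sigma M := piCoreOf_primes _ M hq hqd
  obtain ⟨S⟩ : Nonempty (Sylow q (Cfsg.sigmaCore M)) := inferInstance
  set Q := (S : Subgroup (Cfsg.sigmaCore M)).map (Cfsg.sigmaCore M).subtype with hQ
  have hQS : IsSylowIn q (Cfsg.sigmaCore M) Q := Basics.isSylowIn_map S
  have hQc : Q ≤ Subgroup.centralizer (A₀ : Set G) := by
    refine hQS.1.trans (Subgroup.le_centralizer_iff.mp ?_)
    rw [← hcent]
    exact inf_le_right
  have hQg : Q.map (MulAut.conj g).toMonoidHom ≤ M := by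
    refine le_trans ?_ hle
    rintro _ ⟨x, hx, rfl⟩
    rw [Subgroup.mem_centralizer_iff]
    rintro _ ⟨a, ha, rfl⟩
    rw [← map_mul, ← map_mul, Subgroup.mem_centralizer_iff.mp (hQc hx) a ha]
  have hb := h.inf_conj_eq_bot hG hgM (le_map_conj_of_normalizer hg h.le)
  have h1 : Q.map (MulAut.conj g).toMonoidHom ≤ ⊥ := hb ▸ le_inf
    (pGroup_le_sigmaCore hG h.max hqσ (hQS.isPGroup.map _) hQg) (Subgroup.map_mono (hQS.1.trans (sigmaCore_le M)))
  exact hQS.sigma_ne_bot hG h.max hqσ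
    ((Subgroup.map_eq_bot_iff_of_injective _ (MulAut.conj g).injective).mp (le_bot_iff.mp h1))

/-- With nonabelian Sylow subgroups no other prime lies in `τ₂(M)`. -/
theorem nonAb_tau2 (h : Exc p M A A₀) (hG : IsMinSimpleOddOrder G)
    (hna : ∀ S : Sylow p G, ¬ IsMulCommutative (S : Subgroup G))
    (hE : IsComplIn E (Cfsg.sigmaCore M) M) (hAE : A ≤ E) {r : ℕ} (hr : r ∈ Cfsg.tau2 M) : r = p := by
  by_contra hrp
  obtain ⟨hrP, hrs, hr2, hr1⟩ := hr
  haveI := Fact.mk hrP
  obtain ⟨B₀, hB₀M, hB₀, hB₀c⟩ := exists_ea_of_not_pRankLE_one hr1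
  have hB₀2 := ea_card_eq_sq hr2 hB₀ hB₀M hB₀c
  -- move it into `E`
  obtain ⟨RE⟩ : Nonempty (Sylow r E) := inferInstance
  set R := (RE : Subgroup E).map E.subtype with hR
  have hRM : IsSylowIn r M R := by
    refine ⟨(Subgroup.map_subtype_le _).trans hE.1, ?_⟩
    rw [(Basics.isSylowIn_map RE).2, card_of_isComplIn hE, Nat.factorization_mul Nat.card_pos.ne' Nat.card_pos.ne',
      Finsupp.add_apply, Nat.factorization_eq_zero_of_not_dvd (n := Nat.card (Cfsg.sigmaCore M))
        (not_dvd_sigmaCore hrP hrs), add_zero]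
  obtain ⟨R₀, hR₀, hB₀R⟩ := exists_sylowIn_ge (isPGroup_of_exponent hB₀.2) hB₀M
  obtain ⟨k, hk, ek⟩ := hR₀.exists_conj hRM
  set B := MulAut.conj k • B₀ with hB
  have hBR : B ≤ R := ek ▸ Subgroup.pointwise_smul_le_pointwise_smul_iff.mpr hB₀R
  have hBE : B ≤ E := hBR.trans (Subgroup.map_subtype_le _)
  have hBe : IsElementaryAbelian r B := ea_map hB₀ _
  have hB2 : Nat.card B = r ^ 2 := by rw [hB, Basics.card_conj_smul, hB₀2]
  obtain ⟨B₁, h'⟩ := exists_exc hG h.max hrs (hBE.trans hE.1) hBe hB2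
  have hBA : B ≤ Subgroup.centralizer (A : Set G) := fun b hb =>
    Basics.mem_centralizer_of_mem_normalizer' (hAE.trans (h'.compl_le_normalizer hG hE hBE))
      (coprime_of_pGroups (Ne.symm hrp) h.isPGroup h'.isPGroup) hb (h.compl_le_normalizer hG hE hAE (hBE hb))
  obtain ⟨T, P, Z, n, -, hAP, hPT, -, hnT, hnM, hnA, hZA, hZc, hTZ, hNT, -, -, hcent⟩ := h.nonAb_data hG hna
  set C := Subgroup.centralizer (A : Set G) with hC
  have hCn : n ∈ Subgroup.normalizer (C : Set G) := le_normalizer_centralizer le_rfl hnA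
  set B' := B.map (MulAut.conj n).toMonoidHom with hB'
  have hB'C : B' ≤ C := (Subgroup.map_mono hBA).trans (Subgroup.mem_normalizer_iff_map_conj_eq.mp hCn).le
  obtain ⟨S, hS, hBS⟩ := exists_sylowIn_ge h'.isPGroup hBA
  obtain ⟨S₁, hS₁, hB'S⟩ := exists_sylowIn_ge (h'.isPGroup.map _) hB'C
  obtain ⟨c, hc, ec⟩ := hS₁.exists_conj hS
  obtain ⟨R', hR', hSR'⟩ := exists_sylowIn_ge hS.isPGroup (hS.1.trans h.centralizer_le)
  have hcA : c ∈ Subgroup.normalizer (A : Set G) := Subgroup.centralizer_le_normalizer _ hc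
  set n' := c * n with hn'
  have hn'B : n' ∈ Subgroup.normalizer (B : Set G) := by
    rw [Subgroup.mem_normalizer_iff_map_conj_eq]
    change B.map (MulAut.conj (c * n)).toMonoidHom = B
    rw [← map_conj_map_conj]
    refine Subgroup.eq_of_le_of_card_ge (fun x hx => ?_) (le_of_eq ?_)
    · obtain ⟨y, hy, rfl⟩ := hx
      have h1 : (MulAut.conj c).toMonoidHom y ∈ S := ec.le ⟨y, hB'S hy, rfl⟩
      obtain ⟨z, hz, rfl⟩ := hy
      refine h'.omega_sylow hG hR' (hBS.trans hSR') (hSR' h1) ?_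
      rw [← map_pow, ← map_pow, hBe.2 z hz, map_one, map_one]
    · rw [Subgroup.card_map_of_injective (MulAut.conj c).injective,
        Subgroup.card_map_of_injective (MulAut.conj n).injective]
  have hn'A : n' ∈ Subgroup.normalizer (A : Set G) := mul_mem hcA hnA
  have hcZ : c ∈ Subgroup.centralizer (Z : Set G) := Subgroup.centralizer_le hZA hc
  have hn'Z : n' ∈ Subgroup.centralizer (Z : Set G) := mul_mem hcZ (hTZ hnT)
  -- pass to the `p`-part
  have hn'M : n' ∉ M := fun hm => hnM (by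
    have := mul_mem (inv_mem (h.centralizer_le hc)) hm
    rwa [inv_mul_cancel_left] at this)
  set e := (orderOf n').factorization p with he
  set m := orderOf n' / p ^ e with hm
  set u := n' ^ m with hu
  have hm0 : (orderOf n') = p ^ e * m := (Nat.ordProj_mul_ordCompl_eq_self (orderOf n') p).symm
  have hup : u ^ p ^ e = 1 := by rw [hu, ← pow_mul, mul_comm, ← hm0, pow_orderOf_eq_one]
  have hmcop : Nat.Coprime p m := Nat.coprime_ordCompl hp.out (orderOf_pos n').ne'
  -- the fixed line of `N_M(A)`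
  have hfixA₀ : ∀ g ∈ M, g ∈ Subgroup.normalizer (A : Set G) → g ∈ Subgroup.normalizer (A₀ : Set G) := by
    intro g hgM hgA
    rw [← hcent]
    exact le_normalizer_inf' ⟨hgA, le_normalizer_centralizer le_rfl (le_normalizer_sigmaCore M hgM)⟩
  have huM : u ∉ M := by
    intro hm'
    refine hnM (h.line_norm ?_)
    have h1 := hfixA₀ u hm' (pow_mem hn'A m)
    have hact : ∀ (i : ℕ), ∀ x ∈ A, n' ^ i * x * (n' ^ i)⁻¹ = n ^ i * x * (n ^ i)⁻¹ := by
      intro i
      induction i with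
      | zero => intro x _; simp
      | succ i ihi =>
        intro x hx
        have hy : n ^ i * x * (n ^ i)⁻¹ ∈ A := (Subgroup.mem_normalizer_iff.mp (pow_mem hnA i) x).mp hx
        have hy' : n * (n ^ i * x * (n ^ i)⁻¹) * n⁻¹ ∈ A := (Subgroup.mem_normalizer_iff.mp hnA _).mp hy
        calc n' ^ (i + 1) * x * (n' ^ (i + 1))⁻¹ = n' * (n' ^ i * x * (n' ^ i)⁻¹) * n'⁻¹ := by rw [pow_succ']; group
          _ = c * (n * (n ^ i * x * (n ^ i)⁻¹) * n⁻¹) * c⁻¹ := by rw [ihi x hx, hn']; group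
          _ = n * (n ^ i * x * (n ^ i)⁻¹) * n⁻¹ := by
            rw [← Subgroup.mem_centralizer_iff.mp hc _ hy', mul_inv_cancel_right]
          _ = _ := by rw [pow_succ']; group
    have h2 : n ^ m ∈ Subgroup.normalizer (A₀ : Set G) := by
      refine mem_normalizer_of_conj_mem fun x hx => ?_
      rw [← hact m x (h.line_le hx)]
      exact (Subgroup.mem_normalizer_iff.mp h1 x).mp hx
    obtain ⟨j, hj⟩ := T.2 ⟨n, hnT⟩
    obtain ⟨k', hk'⟩ := exists_pow_eq_self_of_coprime (x := n) (n := m)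
      ((hmcop.pow_left j).symm.coprime_dvd_right (orderOf_dvd_of_pow_eq_one (congrArg Subtype.val hj)))
    rw [← hk']
    exact pow_mem h2 k'
  have huB : u ∈ Subgroup.normalizer (B : Set G) := pow_mem hn'B m
  have huA : u ∈ Subgroup.normalizer (A : Set G) := pow_mem hn'A m
  -- a line of `B` with fixed points
  obtain ⟨Y, hYB, hY, hYne⟩ : ∃ Y : Subgroup G, Y ≤ B ∧ Nat.card Y = r ∧
      Cfsg.sigmaCore M ⊓ Subgroup.centralizer (Y : Set G) ≠ ⊥ := by
    by_contra hc'
    push Not at hc'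
    exact sigmaCore_ne_bot hG h.max (le_bot_iff.mp
      (le_of_lines hBe hB2 h'.le_normalizer_core h'.not_dvd_sigma fun Y hYB hY => (hc' Y hYB hY).le))
  refine huM (h.mem_of_fixed_centralizer hG (fun e' => by rw [e', Subgroup.card_bot] at hY; exact hrP.one_lt.ne hY)
    ((Subgroup.le_centralizer_iff.mp hBA).trans (Subgroup.centralizer_le hYB)) hYne huA ?_)
  refine Subgroup.centralizer_le_normalizer _ (Subgroup.centralizer_le hYB ?_)
  -- `u` centralizes `B`
  have hZ1 : Z ≠ ⊥ := fun e' => by rw [e', Subgroup.card_bot] at hZc; exact hp.out.one_lt.ne hZc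
  obtain ⟨H, hH, hNZ⟩ := exists_maximal_ge (normalizer_ne_top hG hZ1
    (fun e' => h.max.1 (top_le_iff.mp (e' ▸ hZA.trans h.le))))
  have hTH : (T : Subgroup G) ≤ H := (hTZ.trans (Subgroup.centralizer_le_normalizer _)).trans hNZ
  have hpσ : p ∈ Cfsg.sigma H := by
    refine ⟨hp.out, (h.card ▸ dvd_pow_self p two_ne_zero).trans (Subgroup.card_dvd_of_le ((hAP.trans hPT).trans hTH)),
      T.subtype hTH, ?_⟩
    rw [Sylow.coe_subtype, Subgroup.subgroupOf_map_subtype, inf_eq_left.mpr hTH]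
    exact hNT.trans hNZ
  have huH : u ∈ H := pow_mem (hNZ (Subgroup.centralizer_le_normalizer _ hn'Z)) m
  have huder : Subgroup.zpowers u ≤ ⁅H, H⁆ := by
    refine le_trans ?_ (sigmaCore_le_derived hG hH)
    exact pGroup_le_sigmaCore hG hH hpσ (IsPGroup.of_card_dvd_pow (n := e)
      (by rw [Nat.card_zpowers]; exact orderOf_dvd_of_pow_eq_one hup)) (Subgroup.zpowers_le.mpr huH)
  have hBH : B ≤ H := (hBA.trans (Subgroup.centralizer_le hZA)).trans
    ((Subgroup.centralizer_le_normalizer _).trans hNZ)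
  have hrb : r ∉ Cfsg.beta H := fun hb => not_isIdealPrime_of_not_sigma hG h.max hrs hr1 hb.2
  haveI := h'.isPGroup.isNilpotent
  have hc2 := le_centralizer_of_commutator_le hG hH hrb h'.isPGroup
    (Subgroup.commutator_mono hBH (Subgroup.zpowers_le.mpr huH)) huder
    (fun e' => by
      obtain ⟨j, -, hj⟩ := (Nat.dvd_prime_pow hp.out).mp (orderOf_dvd_of_pow_eq_one hup)
      rw [Nat.card_zpowers, hj] at e'
      exact hrp ((Nat.prime_dvd_prime_iff_eq hrP hp.out).mp (hrP.dvd_of_dvd_pow e')))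
    (Subgroup.zpowers_le.mpr huB) inferInstance
  exact hc2 (Subgroup.mem_zpowers u)

theorem nonAb_fitting (h : Exc p M A A₀) (hG : IsMinSimpleOddOrder G)
    (hna : ∀ S : Sylow p G, ¬ IsMulCommutative (S : Subgroup G))
    (hτ : ∀ r : ℕ, r ∈ Cfsg.tau2 M → r = p) : Cfsg.fittingOf M = Cfsg.sigmaCore M ⊔ A₀ := by
  obtain ⟨T, P, Z, n, hP, hAP, hPT, -, hnT, hnM, -, -, -, -, -, -, -, hcent⟩ := h.nonAb_data hG hna
  have hA₀C : A₀ ≤ Subgroup.centralizer (Cfsg.sigmaCore M : Set G) := hcent.ge.trans inf_le_right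
  have hA₀n : M ≤ Subgroup.normalizer (A₀ : Set G) := by
    intro m hm
    refine mem_normalizer_of_conj_mem fun a ha => ?_
    have hy : m * a * m⁻¹ ∈ Cfsg.sigmaCore M ⊔ A :=
      (Subgroup.mem_normalizer_iff.mp (h.le_normalizer_sup hG hm) a).mp (Subgroup.mem_sup_right (h.line_le ha))
    obtain ⟨s, hs, b, hb, e⟩ := (Basics.mem_sup_of_le_normalizer h.le_normalizer_core).mp hy
    have hyC : m * a * m⁻¹ ∈ Subgroup.centralizer (Cfsg.sigmaCore M : Set G) :=
      (Subgroup.mem_normalizer_iff.mp (le_normalizer_centralizer le_rfl (le_normalizer_sigmaCore M hm)) a).mp (hA₀C ha)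
    have hsb : Commute s b := by
      have h1 := Subgroup.mem_centralizer_iff.mp hyC s hs
      rw [e, mul_assoc] at h1
      exact mul_left_cancel h1
    have hsp : s ^ p = 1 := by
      have h1 : (m * a * m⁻¹) ^ p = 1 := by rw [conj_pow, h.ea.2 a (h.line_le ha), mul_one, mul_inv_cancel]
      rwa [e, hsb.mul_pow, h.ea.2 b hb, mul_one] at h1
    have hs1 : s = 1 := by
      by_contra hne
      exact h.not_dvd_sigma (orderOf_eq_prime hsp hne ▸ Subgroup.orderOf_dvd_natCard _ hs)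
    rw [e, hs1, one_mul]
    rw [e, hs1, one_mul] at hyC
    exact hcent.le ⟨hb, hyC⟩
  have hA₀K : A₀ ≤ coreP p M := by
    intro x hx
    have hxM : x ∈ M := h.le (h.line_le hx)
    haveI : (A₀.subgroupOf M).Normal :=
      (Subgroup.normal_subgroupOf_iff_le_normalizer (h.line_le.trans h.le)).mpr hA₀n
    exact ⟨⟨x, hxM⟩, Basics.le_pCore (N := A₀.subgroupOf M) ((h.isPGroup.to_le h.line_le).comap_subtype) hx, rfl⟩
  refine le_antisymm ?_ (sup_le ?_ (hA₀K.trans (coreP_le_fittingOf p M)))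
  swap
  · -- the core is nilpotent and normal
    haveI := h.isNilpotent hG
    have hn : (Cfsg.piCore (Cfsg.sigma M) ↥M).Normal := inferInstance
    have hnil : Group.IsNilpotent (Cfsg.piCore (Cfsg.sigma M) ↥M) :=
      @Group.nilpotent_of_mulEquiv _ _ _ _ (show Group.IsNilpotent ↥((Cfsg.piCore (Cfsg.sigma M) ↥M).map M.subtype)
        from h.isNilpotent hG) ((Cfsg.piCore (Cfsg.sigma M) ↥M).equivMapOfInjective M.subtype
          M.subtype_injective).symm
    exact Subgroup.map_mono (le_sSup ⟨hn, hnil⟩)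
  rw [fittingOf_eq_iSup]
  refine iSup_le fun r => ?_
  haveI := Fact.mk r.2
  by_cases hrs : (r : ℕ) ∈ Cfsg.sigma M
  · exact le_sup_of_le_left (pGroup_le_sigmaCore hG h.max hrs (isPGroup_coreP _ M) (coreP_le _ M))
  by_cases hrp : (r : ℕ) = p
  · rw [hrp]
    refine le_sup_of_le_right ?_
    set K := coreP p M with hK
    have hKp : IsPGroup p K := isPGroup_coreP p M
    have hKP : K ≤ P := by
      refine (hP.eq_of_le (R := P ⊔ K) (hP.isPGroup.to_sup_of_normal_right' hKp ?_) (sup_le hP.1 (coreP_le p M))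
        le_sup_left).le.trans' le_sup_right
      exact hP.1.trans (le_normalizer_coreP p M)
    have hKC : K ≤ Subgroup.centralizer (Cfsg.sigmaCore M : Set G) := by
      rw [← Subgroup.commutator_eq_bot_iff_le_centralizer]
      refine le_bot_iff.mp ((le_inf ?_ ?_).trans (inf_sigmaCore_eq_bot h.notσ hKp).le)
      · exact Subgroup.le_normalizer_iff_commutator_le_left.mp ((sigmaCore_le M).trans (le_normalizer_coreP p M))
      · exact Subgroup.le_normalizer_iff_commutator_le_right.mp ((coreP_le p M).trans (le_normalizer_sigmaCore M))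
    have homega : ∀ x ∈ K, x ^ p = 1 → x ∈ A₀ := fun x hx hxp =>
      hcent.le ⟨h.omega_sylow hG hP hAP (hKP hx) hxp, hKC hx⟩
    have hnc : ∀ a ∈ A₀, a ≠ 1 → ¬ (T : Subgroup G) ≤ Subgroup.centralizer ({a} : Set G) := by
      intro a ha ha1 hle
      refine hnM (h.line_norm (Subgroup.centralizer_le_normalizer _ ?_))
      rw [← Subgroup.eq_of_le_of_card_ge (Subgroup.zpowers_le.mpr ha)
        (by rw [h.line_card, card_zpowers_of_ea h.ea (h.line_le ha) ha1]), Subgroup.zpowers_eq_closure,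
        Subgroup.centralizer_closure]
      exact hle hnT
    intro x hx
    refine homega x hx ?_
    by_contra hne
    obtain ⟨j, hj⟩ := hKp ⟨x, hx⟩
    have hxj : x ^ p ^ j = 1 := congrArg Subtype.val hj
    -- a root of a generator of `A₀`
    have hex : ∃ j, x ^ p ^ j = 1 := ⟨j, hxj⟩
    classical
    have hspec := Nat.find_spec hex
    set i := Nat.find hex with hi
    have hi2 : 2 ≤ i := by
      by_contra hlt
      interval_cases i
      · rw [pow_zero, pow_one] at hspec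
        exact hne (by rw [hspec, one_pow])
      · rw [pow_one] at hspec
        exact hne hspec
    set k := x ^ p ^ (i - 2) with hk
    have hkp2 : (k ^ p) ^ p = 1 := by
      rw [hk, ← pow_mul, ← pow_mul, ← pow_two, ← pow_add, show i - 2 + 2 = i by omega]
      exact hspec
    have hkp1 : k ^ p ≠ 1 := fun e => Nat.find_min hex (show i - 1 < i by omega)
      (by rw [← e, hk, ← pow_mul, ← pow_succ]; congr 2; omega)
    have hkK : k ∈ K := pow_mem hx _
    have ha : k ^ p ∈ A₀ := homega _ (pow_mem hkK p) hkp2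
    refine hkp1 (pow_eq_one_of_root hG T (hna T) (hAP.trans hPT) h.ea h.card (fun y hy hyp => h.mem hG hy hyp)
      (h.line_le ha) (hnc _ ha hkp1) (hPT (hKP hkK)) ((Commute.refl k).pow_right p).eq (Subgroup.mem_zpowers _))
  · -- the other primes
    set S := coreP (r : ℕ) M with hS
    suffices hb : S = ⊥ by rw [hb]; exact bot_le
    by_contra hne
    have hAS : A ≤ Subgroup.normalizer (S : Set G) := h.le.trans (le_normalizer_coreP _ M)
    obtain ⟨z, hz, hzo⟩ := exists_orderOf_eq (isPGroup_coreP (r : ℕ) M) hne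
    have hr1 : PRankLE (r : ℕ) 1 M := by
      by_contra hn
      exact hrp (hτ r ⟨r.2, hrs, pRankLE_two_of_not_mem_sigma hG h.max hrs, hn⟩)
    have hcyc := isCyclic_of_pRankLE_one (prime_ne_two hG (hzo ▸ orderOf_dvd_natCard z)) hr1 (coreP_le _ M)
      (isPGroup_coreP _ M)
    have hz1 : z ≠ 1 := fun e => by rw [e, orderOf_one] at hzo; exact r.2.one_lt.ne hzo
    have hn : M ≤ Subgroup.normalizer (Subgroup.zpowers z : Set G) := by
      intro m hm
      rw [Subgroup.mem_normalizer_iff_map_conj_eq]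
      refine eq_of_le_cyclic hcyc ?_ (Subgroup.zpowers_le.mpr hz)
        (Subgroup.card_map_of_injective (MulAut.conj m).injective)
      exact (Subgroup.map_mono (Subgroup.zpowers_le.mpr hz)).trans
        (Subgroup.mem_normalizer_iff_map_conj_eq.mp (le_normalizer_coreP _ M hm)).le
    exact (rank_two_of_normalizer_le hG h.max hrs (by rw [Nat.card_zpowers, hzo] : Nat.card (Subgroup.zpowers z) = r)
      (normalizer_eq_of_le hG h.max (fun e => hz1 (Subgroup.zpowers_eq_bot.mp e))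
        (Subgroup.zpowers_le.mpr (coreP_le _ M hz)) hn).le).1 hr1

end Exc

end Cfsg.Agent.OddLocal
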