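import Cfsg.Agent.Lib.OddLocal.KappaTypes
import Cfsg.Agent.Lib.OddLocal.KappaFittingTI
import Cfsg.Agent.Lib.OddLocal.KappaSylow
import Cfsg.Agent.Lib.OddLocal.NarrowAction
import Cfsg.Agent.Lib.OddLocal.BlackburnStructure
import Cfsg.Agent.Lib.OddLocal.ExtraSpecialAut
import Cfsg.Agent.Lib.OddLocal.Tau2NonAb
import Cfsg.Agent.Lib.OddLocal.Tau2Abelian
import Cfsg.Agent.Lib.OddLocal.SigmaInter

/-! Maximal subgroups whose `M_F` is not a TI-subset (BG Theorem 15.7). -/

set_option autoImplicit false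
set_option linter.unusedSectionVars false
set_option linter.style.haveILetI false

namespace Cfsg.Agent.OddLocal

open scoped commutatorElement Pointwise
open Cfsg
open Basics (IsSylowIn)

universe u

variable {G : Type u} [Group G] [Finite G]

/-- A point of order `p` of a nilpotent `M_σ` whose centralizer leaves `M`. -/
structure Pt (M : Subgroup G) (p : ℕ) (x : G) : Prop where
  max : IsCoatom M
  nil : Group.IsNilpotent (Cfsg.sigmaCore M)
  mem : x ∈ Cfsg.sigmaCore M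
  ord : orderOf x = p
  out : ¬ Subgroup.centralizer ({x} : Set G) ≤ M

theorem exists_pt (hG : IsMinSimpleOddOrder G) {M : Subgroup G} (hM : IsCoatom M)
    (hn : Group.IsNilpotent (Cfsg.sigmaCore M)) (hti : ¬ Cfsg.IsTISubset (Cfsg.fittingHallOf M : Set G)) :
    ∃ (p : ℕ) (x : G), p.Prime ∧ Pt M p x := by
  have hH := fittingHallOf_eq_sigmaCore hG hM hn
  simp only [Cfsg.IsTISubset, not_forall] at hti
  obtain ⟨g, hg, y, hy, hgy, hy1⟩ := hti
  rw [SetLike.mem_coe, hH] at hy hgy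
  obtain ⟨p, hp, hpd⟩ := Nat.exists_prime_and_dvd fun e => hy1 (orderOf_eq_one_iff.mp e)
  set x := y ^ (orderOf y / p) with hx
  have hxo : orderOf x = p := orderOf_pow_orderOf_div (orderOf_pos y).ne' hpd
  have hxm : x ∈ Cfsg.sigmaCore M := pow_mem hy _
  refine ⟨p, x, hp, hM, hn, hxm, hxo, fun hC => ?_⟩
  have hxg : x ∈ M.map (MulAut.conj g⁻¹).toMonoidHom := by
    rw [mem_map_conj_iff, inv_inv, hx, ← conj_pow]
    exact sigmaCore_le M (pow_mem hgy _)
  have h := eq_of_mem_conj hG hM hxm (fun e => hp.one_lt.ne (by rw [← hxo, e, orderOf_one])) hxg hC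
  have hgM : g ∈ M := by simpa using inv_mem (mem_of_map_conj_eq hG hM h)
  refine hg (Subgroup.mem_set_normalizer_iff.mpr fun y =>
    Subgroup.mem_normalizer_iff.mp (le_normalizer_fittingHallOf M hgM) y)

namespace Pt

variable {M : Subgroup G} {p : ℕ} [hp : Fact p.Prime] {x : G}

theorem ne_one (h : Pt M p x) : x ≠ 1 := fun e => hp.out.one_lt.ne (by rw [← h.ord, e, orderOf_one])

theorem sigma (h : Pt M p x) : p ∈ Cfsg.sigma M := orderOf_core h.mem p hp.out h.ord.symm.dvd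

theorem memM (h : Pt M p x) : x ∈ M := sigmaCore_le M h.mem

theorem sylow (h : Pt M p x) (hG : IsMinSimpleOddOrder G) {q : ℕ} [Fact q.Prime] (hq : q ∈ Cfsg.sigma M)
    {S : Subgroup G} (hS : IsSylowIn q M S) :
    S ≤ Cfsg.sigmaCore M ∧ M ≤ Subgroup.normalizer (S : Set G) := by
  have hle := pGroup_le_sigmaCore hG h.max hq hS.isPGroup hS.1
  refine ⟨hle, ?_⟩
  have hS' : IsSylowIn q (Cfsg.sigmaCore M) S :=
    ⟨hle, by rw [hS.2, hallOf_factorization (sigmaCore_hall hG h.max).1 Fact.out hq]⟩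
  obtain ⟨P, rfl⟩ := hS'.exists_sylow
  haveI := h.nil
  haveI : (P : Subgroup (Cfsg.sigmaCore M)).Normal :=
    Sylow.normal_of_normalizerCondition Group.normalizerCondition_of_isNilpotent P
  haveI : (P : Subgroup (Cfsg.sigmaCore M)).Characteristic := P.characteristic_of_normal inferInstance
  exact (le_normalizer_sigmaCore M).trans (normalizer_le_normalizer_map_characteristic _)

theorem exists_sylow (h : Pt M p x) (hG : IsMinSimpleOddOrder G) :
    ∃ S : Subgroup G, IsSylowIn p M S ∧ x ∈ S ∧ S ≤ Cfsg.sigmaCore M ∧ M ≤ Subgroup.normalizer (S : Set G) ∧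
      ∃ T : Sylow p G, (T : Subgroup G) = S := by
  obtain ⟨S, hS⟩ := exists_sylowIn (q := p) M
  obtain ⟨hSH, hSn⟩ := h.sylow hG h.sigma hS
  obtain ⟨P, hP⟩ := hS.exists_sylow
  obtain ⟨T, hT⟩ := sigma_sylow hG h.max h.sigma P
  refine ⟨S, hS, ?_, hSH, hSn, T, hT.trans hP⟩
  refine (hS.eq_of_le (R := S ⊔ Subgroup.zpowers x) ?_ (sup_le hS.1 (Subgroup.zpowers_le.mpr h.memM))
    le_sup_left).le (Subgroup.mem_sup_right (Subgroup.mem_zpowers x))
  exact hS.isPGroup.to_sup_of_normal_left' (IsPGroup.of_card (n := 1) (by rw [Nat.card_zpowers, h.ord, pow_one]))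
    ((Subgroup.zpowers_le.mpr h.memM).trans hSn)

theorem neighbor (h : Pt M p x) (hG : IsMinSimpleOddOrder G) :
    ∃ N A A₀ : Subgroup G, Exc p N A A₀ ∧ x ∈ A ∧ A ≤ M ∧ IsComplIn (M ⊓ N) (Cfsg.sigmaCore N) N ∧
      M ⊓ Subgroup.centralizer ({x} : Set G) ≤ M ⊓ N := by
  obtain ⟨N, A, A₀, -, -, hE, hXA, hAM, hc, hC, -, -⟩ := exists_neighbor_line hG h.max h.sigma
    (X := Subgroup.zpowers x) (Subgroup.zpowers_le.mpr h.memM) (by rw [Nat.card_zpowers, h.ord])
    (by rw [centralizer_eq_of_zpowers]; exact h.out)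
  rw [centralizer_eq_of_zpowers] at hC
  exact ⟨N, A, A₀, hE, hXA (Subgroup.mem_zpowers x), hAM, hc, inf_le_inf_left _ hC⟩

/-- `q`-subgroups of `C_M(x)` are abelian of rank at most two. -/
theorem small (h : Pt M p x) (hG : IsMinSimpleOddOrder G) {q : ℕ} [hq : Fact q.Prime] {V : Subgroup G}
    (hV : V ≤ M ⊓ Subgroup.centralizer ({x} : Set G)) (hVp : IsPGroup q V) :
    IsMulCommutative V ∧ ∀ X : Subgroup G, X ≤ V → IsElementaryAbelian q X → Nat.card X ≤ q ^ 2 := by
  obtain ⟨N, A, A₀, hE, -, -, hc, hle⟩ := h.neighbor hG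
  by_cases hV1 : V = ⊥
  · subst hV1
    refine ⟨⟨⟨fun a b => Subsingleton.elim _ _⟩⟩, fun X hX _ => ?_⟩
    rw [le_bot_iff.mp hX, Subgroup.card_bot]
    exact Nat.one_le_pow _ _ hq.out.pos
  obtain ⟨j, hj⟩ := IsPGroup.iff_card.mp hVp
  have hqd : q ∣ Nat.card V := by
    rcases j with _ | j
    · exact absurd (Subgroup.card_eq_one.mp hj) hV1
    · exact hj ▸ dvd_pow_self q (Nat.succ_ne_zero j)
  have hqσ : q ∉ Cfsg.sigma N := compl_primes hG hE.max hc hq.out
    (hqd.trans (Subgroup.card_dvd_of_le (hV.trans hle)))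
  have hVN : V ≤ N := (hV.trans hle).trans inf_le_right
  exact ⟨pGroup_commutative hG hE.max hVp hVN hqσ, fun X hX hXe =>
    card_le_of_pRankLE (pRankLE_two_of_not_mem_sigma hG hE.max hqσ) (hX.trans hVN) hXe⟩

/-- For `q ≠ p` the Sylow `q`-subgroup of `M_σ` centralizes `x`. -/
theorem other (h : Pt M p x) (hG : IsMinSimpleOddOrder G) {q : ℕ} [hq : Fact q.Prime] (hqp : q ≠ p)
    {V : Subgroup G} (hVH : V ≤ Cfsg.sigmaCore M) (hV : IsPGroup q V) :
    V ≤ M ⊓ Subgroup.centralizer ({x} : Set G) := fun v hv => Subgroup.mem_inf.mpr ⟨sigmaCore_le M (hVH hv), by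
  refine Subgroup.mem_centralizer_singleton_iff.mpr (Basics.commute_of_coprime_le h.nil (hVH hv) h.mem ?_).eq
  obtain ⟨j, hj⟩ := hV ⟨v, hv⟩
  rw [h.ord]
  exact ((((Nat.coprime_primes hq.out hp.out).mpr hqp).pow_left j).coprime_dvd_left
    (orderOf_dvd_of_pow_eq_one (congrArg Subtype.val hj)))⟩

/-- An abelian Sylow `p`-subgroup makes `M_σ` abelian of rank exactly two. -/
theorem case_abelian (h : Pt M p x) (hG : IsMinSimpleOddOrder G) {S : Subgroup G} (hS : IsSylowIn p M S)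
    (hxS : x ∈ S) (hSH : S ≤ Cfsg.sigmaCore M) (hab : IsMulCommutative S) :
    IsMulCommutative (Cfsg.sigmaCore M) ∧ RankLE 2 (Cfsg.sigmaCore M) ∧ ¬ RankLE 1 (Cfsg.sigmaCore M) := by
  set H := Cfsg.sigmaCore M with hH
  have hHC : H ≤ M ⊓ Subgroup.centralizer ({x} : Set G) := by
    refine le_of_sylows fun q hq hqd => ?_
    haveI := Fact.mk hq
    obtain ⟨Q, hQ⟩ := exists_sylowIn (q := q) H
    refine ⟨Q, hQ, ?_⟩
    by_cases hqp : q = p
    · subst hqp
      intro v hv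
      have hvS : v ∈ S := (hS.eq_of_le (R := S ⊔ Q) (hS.isPGroup.to_sup_of_normal_left' hQ.isPGroup
        ((hQ.1.trans (sigmaCore_le M)).trans (h.sylow hG h.sigma hS).2))
        (sup_le hS.1 (hQ.1.trans (sigmaCore_le M))) le_sup_left).le (Subgroup.mem_sup_right hv)
      exact Subgroup.mem_inf.mpr ⟨hS.1 hvS, Subgroup.mem_centralizer_singleton_iff.mpr
        (congrArg Subtype.val (hab.is_comm.comm ⟨v, hvS⟩ ⟨x, hxS⟩) :)⟩
    · exact h.other hG hqp hQ.1 hQ.isPGroup
  obtain ⟨N, A, A₀, hE, -, -, hc, hle⟩ := h.neighbor hG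
  have hHE : H ≤ M ⊓ N := hHC.trans hle
  have hprimes : ∀ q : ℕ, q.Prime → q ∣ Nat.card H → q ∉ Cfsg.sigma N := fun q hq hd =>
    compl_primes hG hE.max hc hq (hd.trans (Subgroup.card_dvd_of_le hHE))
  have hcomm := nilpotent_commutative hG hE.max (hHE.trans inf_le_right) h.nil hprimes
  refine ⟨hcomm, fun q hq X hXc hXe => ?_, fun h1 => h.out ?_⟩
  · haveI := Fact.mk hq
    by_cases hd : q ∣ Nat.card H
    · rw [← Subgroup.card_map_of_injective H.subtype_injective]
      exact card_le_of_pRankLE (pRankLE_two_of_not_mem_sigma hG hE.max (hprimes q hq hd))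
        ((Subgroup.map_subtype_le X).trans (hHE.trans inf_le_right)) (Transfer.ea_map ⟨hXc, hXe⟩ H.subtype)
    · rcases (isPGroup_of_exponent (W := X) hXe).card_eq_or_dvd with e | e
      · rw [e]; exact Nat.one_le_pow _ _ hq.pos
      · exact absurd (e.trans (Subgroup.card_subgroup_dvd_card X)) hd
  · haveI : IsCyclic H := isCyclic_of_rank_one_commutative hG le_rfl hcomm fun q hq _ => h1 q hq
    have hn : M ≤ Subgroup.normalizer (Subgroup.zpowers x : Set G) := fun m hm => by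
      have hy : m * x * m⁻¹ ∈ H := (Subgroup.mem_normalizer_iff.mp (le_normalizer_sigmaCore M hm) x).mp h.mem
      have hxp : x ^ p = 1 := h.ord ▸ pow_orderOf_eq_one x
      have hZ : IsElementaryAbelian p (Subgroup.zpowers x) := by
        refine ⟨inferInstance, fun a ha => ?_⟩
        obtain ⟨j, rfl⟩ := ha
        rw [← zpow_natCast, ← zpow_mul, mul_comm, zpow_mul, zpow_natCast, hxp, one_zpow]
      have he := ea_sup_zpowers hZ (v := m * x * m⁻¹) (Subgroup.mem_centralizer_iff.mpr fun a ha =>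
        (congrArg Subtype.val (hcomm.is_comm.comm ⟨a, Subgroup.zpowers_le.mpr h.mem ha⟩ ⟨_, hy⟩) :))
        (by rw [conj_pow, hxp, mul_one, mul_inv_cancel])
      have hle : Subgroup.zpowers x ⊔ Subgroup.zpowers (m * x * m⁻¹) ≤ H :=
        sup_le (Subgroup.zpowers_le.mpr h.mem) (Subgroup.zpowers_le.mpr hy)
      have heq := Subgroup.eq_of_le_of_card_ge (le_sup_left : Subgroup.zpowers x ≤ _)
        ((card_le_of_cyclic_ea he (Subgroup.isCyclic_of_le hle)).trans (by rw [Nat.card_zpowers, h.ord]))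
      refine Subgroup.mem_normalizer_fintype fun a ha => ?_
      obtain ⟨j, rfl⟩ := ha
      rw [← conj_zpow, SetLike.mem_coe]
      exact zpow_mem (heq ▸ Subgroup.mem_sup_right (Subgroup.mem_zpowers _)) j
    have hx1 : Subgroup.zpowers x ≠ ⊥ := fun e => h.ne_one (Subgroup.zpowers_eq_bot.mp e)
    rw [← normalizer_eq_of_le hG h.max hx1 (Subgroup.zpowers_le.mpr h.memM) hn, ← centralizer_eq_of_zpowers]
    exact Subgroup.centralizer_le_normalizer _

/-- A nonabelian Sylow `p`-subgroup makes `O_{p'}(M_σ)` cyclic. -/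
theorem cyclic_other (h : Pt M p x) (hG : IsMinSimpleOddOrder G) {S : Subgroup G}
    {T : Sylow p G} (hT : (T : Subgroup G) = S) (hna : ¬ IsMulCommutative S) :
    IsCyclic (Cfsg.pPrimeCore p ↥(Cfsg.sigmaCore M)) := by
  set H := Cfsg.sigmaCore M with hH
  set W := (Cfsg.pPrimeCore p ↥H).map H.subtype with hW
  have hWH : W ≤ H := Subgroup.map_subtype_le _
  have hWc : (Nat.card W).Coprime p := by
    rw [hW, Subgroup.card_map_of_injective H.subtype_injective]; exact Basics.pPrimeCore_coprime p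
  have hWC : W ≤ M ⊓ Subgroup.centralizer ({x} : Set G) := fun w hw => Subgroup.mem_inf.mpr
    ⟨sigmaCore_le M (hWH hw), Subgroup.mem_centralizer_singleton_iff.mpr
      (Basics.commute_of_coprime_le h.nil (hWH hw) h.mem (h.ord.symm ▸
        hWc.coprime_dvd_left (Subgroup.orderOf_dvd_natCard W hw))).eq⟩
  obtain ⟨N, A, A₀, hE, hxA, hAM, hc, hle⟩ := h.neighbor hG
  have hAE : A ≤ M ⊓ N := le_inf hAM hE.le
  have hna' : ∀ S' : Sylow p G, ¬ IsMulCommutative (S' : Subgroup G) := fun S' h' =>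
    hna (hT ▸ sylow_commutative_of_one h' T)
  have hWN : W ≤ N := (hWC.trans hle).trans inf_le_right
  have hprimes : ∀ q : ℕ, q.Prime → q ∣ Nat.card W → q ∉ Cfsg.sigma N := fun q hq hd =>
    compl_primes hG hE.max hc hq (hd.trans (Subgroup.card_dvd_of_le (hWC.trans hle)))
  have hWnil : Group.IsNilpotent W := by
    haveI := h.nil
    exact Group.nilpotent_of_mulEquiv (Subgroup.subgroupOfEquivOfLe hWH)
  have hcomm := nilpotent_commutative hG hE.max hWN hWnil hprimes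
  have hrank : ∀ q : ℕ, q.Prime → q ∣ Nat.card W → PRankLE q 1 N := fun q hq hd => by
    by_contra h1
    haveI := Fact.mk hq
    have hqp : q = p := Exc.nonAb_tau2 hE hG hna' hc hAE
      ⟨hq, hprimes q hq hd, pRankLE_two_of_not_mem_sigma hG hE.max (hprimes q hq hd), h1⟩
    exact hq.one_lt.ne' (Nat.eq_one_of_dvd_coprimes hWc hd (hqp ▸ dvd_rfl))
  haveI : IsCyclic W := isCyclic_of_rank_one_commutative hG hWN hcomm hrank
  exact ((Cfsg.pPrimeCore p ↥H).equivMapOfInjective H.subtype H.subtype_injective).isCyclic.mpr inferInstance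

/-- In type `P` the Sylow `p`-subgroup is not abelian. -/
theorem not_abelian (h : Pt M p x) (hG : IsMinSimpleOddOrder G) {K : Subgroup G}
    (hK : IsPiHallOf (Cfsg.kappa M) K M) (hK1 : K ≠ ⊥) {S : Subgroup G} (hS : IsSylowIn p M S) (hxS : x ∈ S) :
    ¬ IsMulCommutative S := by
  obtain ⟨L, hL, -, hKL, hs, -⟩ := exists_dual hG h.max hK hK1
  have hd : DualPair M K L := ⟨h.max, hL, hK, hK1, hKL, hs⟩
  obtain ⟨r, hr, hrd⟩ := Nat.exists_prime_and_dvd fun e =>
    kappa_fixed_ne_bot hG h.max hK hK1 (Subgroup.card_eq_one.mp e)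
  haveI := Fact.mk hr
  intro hab
  by_cases hrp : r = p
  · subst hrp
    refine hd.sylow_not_abelian hG hrd hS hab (h.small hG ?_ hS.isPGroup).2
    exact fun v hv => Subgroup.mem_inf.mpr ⟨hS.1 hv, Subgroup.mem_centralizer_singleton_iff.mpr
      (congrArg Subtype.val (hab.is_comm.comm ⟨v, hv⟩ ⟨x, hxS⟩) :)⟩
  · obtain ⟨R, hR⟩ := exists_sylowIn (q := r) M
    have hrσ : r ∈ Cfsg.sigma M := piCoreOf_primes _ M hr (hrd.trans (Subgroup.card_dvd_of_le inf_le_left))
    obtain ⟨hRab, hRr⟩ := h.small hG (h.other hG hrp (h.sylow hG hrσ hR).1 hR.isPGroup) hR.isPGroup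
    exact hd.sylow_not_abelian hG hrd hR hRab hRr

/-- `Ω₁ Z(S)` is a normal line. -/
theorem exists_line (h : Pt M p x) (hG : IsMinSimpleOddOrder G) {S : Subgroup G} (hS : IsSylowIn p M S) (hxS : x ∈ S)
    (hSn : M ≤ Subgroup.normalizer (S : Set G)) (hna : ¬ IsMulCommutative S) :
    ∃ V : Subgroup G, Nat.card V = p ∧ M ≤ Subgroup.normalizer (V : Set G) ∧
      (∀ v, v ∈ V ↔ v ∈ S ⊓ Subgroup.centralizer (S : Set G) ∧ v ^ p = 1) := by
  have hS1 : S ≠ ⊥ := fun e => by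
    rw [e, Subgroup.mem_bot] at hxS; exact h.ne_one hxS
  obtain ⟨V, hV1, hVe, hVm, hVn⟩ := exists_omega_center hS.isPGroup hS1
  refine ⟨V, ?_, hSn.trans hVn, hVm⟩
  have hVS : V ≤ S := fun v hv => ((hVm v).mp hv).1.1
  have hxV : x ∉ V := fun hx => by
    have hSC : S ≤ M ⊓ Subgroup.centralizer ({x} : Set G) := fun v hv => Subgroup.mem_inf.mpr ⟨hS.1 hv,
      Subgroup.mem_centralizer_singleton_iff.mpr
        (Subgroup.mem_centralizer_iff.mp ((hVm x).mp hx).1.2 v hv)⟩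
    exact hna (h.small hG hSC hS.isPGroup).1
  have hxC : x ∈ Subgroup.centralizer (V : Set G) := Subgroup.mem_centralizer_iff.mpr fun v hv =>
    (Subgroup.mem_centralizer_iff.mp ((hVm v).mp hv).1.2 x hxS).symm
  have hWe := ea_sup_zpowers hVe hxC (h.ord ▸ pow_orderOf_eq_one x)
  have hW : V ⊔ Subgroup.zpowers x ≤ M ⊓ Subgroup.centralizer ({x} : Set G) := by
    refine sup_le (fun v hv => ?_) (Subgroup.zpowers_le.mpr (Subgroup.mem_inf.mpr
      ⟨h.memM, Subgroup.mem_centralizer_singleton_iff.mpr rfl⟩))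
    exact Subgroup.mem_inf.mpr ⟨hS.1 (hVS hv), Subgroup.mem_centralizer_singleton_iff.mpr
      (Subgroup.mem_centralizer_iff.mp hxC v hv)⟩
  have hWp : IsPGroup p ↥(V ⊔ Subgroup.zpowers x) := isPGroup_of_exponent hWe.2
  have hW2 := (h.small hG hW hWp).2 _ le_rfl hWe
  have hlt : Nat.card V < Nat.card ↥(V ⊔ Subgroup.zpowers x) := lt_of_not_ge fun hge =>
    hxV ((Subgroup.eq_of_le_of_card_ge le_sup_left hge).ge (Subgroup.mem_sup_right (Subgroup.mem_zpowers x)))
  obtain ⟨i, hi⟩ := IsPGroup.iff_card.mp (isPGroup_of_exponent hVe.2 : IsPGroup p V)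
  rw [hi] at hlt ⊢
  have hi2 : i < 2 := (Nat.pow_lt_pow_iff_right hp.out.one_lt).mp (hlt.trans_le hW2)
  interval_cases i
  · exact absurd (Subgroup.card_eq_one.mp (hi.trans (pow_zero p))) hV1
  · exact pow_one p

/-- `S = [S, K₁]` for every `1 ≠ K₁ ≤ K`. -/
theorem commutator_eq (h : Pt M p x) (hG : IsMinSimpleOddOrder G) {K : Subgroup G}
    (hK : IsPiHallOf (Cfsg.kappa M) K M) (hcompl : IsComplIn K (Cfsg.sigmaCore M) M)
    {S : Subgroup G} (hS : IsSylowIn p M S) {K₁ : Subgroup G} (hK₁ : K₁ ≤ K) (hne : K₁ ≠ ⊥) :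
    ⁅S, K₁⁆ = S := by
  obtain ⟨hSH, hSn⟩ := h.sylow hG h.sigma hS
  set H := Cfsg.sigmaCore M with hH
  have hSM : S ≤ M := hS.1
  have hKM : K ≤ M := hK.1
  have hcop : ∀ {L : Subgroup G}, L ≤ K → (Nat.card L).Coprime (Nat.card S) := fun hL => Nat.coprime_of_dvd
    fun q hq h1 h2 => (hK.2.1 q hq (h1.trans (Subgroup.card_dvd_of_le hL))).2.2.1
      (piCoreOf_primes _ M hq (h2.trans (Subgroup.card_dvd_of_le hSH)))
  have hS_sol : Group.IsSolvable S := Basics.isSolvable_of_le hSM (isSolvable_of_ne_top hG h.max.1)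
  -- the case `K₁ = K`
  have hSK : ⁅S, K⁆ = S := by
    set D := ⁅S, K⁆ with hD
    have hDS : D ≤ S := Subgroup.le_normalizer_iff_commutator_le_left.mp (hKM.trans hSn)
    obtain ⟨W, hWH, hWn, hWc, hHW⟩ : ∃ W : Subgroup G, W ≤ H ∧ M ≤ Subgroup.normalizer (W : Set G) ∧
        (Nat.card W).Coprime p ∧ H ≤ S ⊔ W := by
      refine ⟨(Cfsg.pPrimeCore p ↥H).map H.subtype, Subgroup.map_subtype_le _, ?_, ?_, ?_⟩
      · haveI : (Cfsg.pPrimeCore p ↥H).Characteristic := Basics.pPrimeCore_characteristic p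
        exact (le_normalizer_sigmaCore M).trans (normalizer_le_normalizer_map_characteristic _)
      · rw [Subgroup.card_map_of_injective H.subtype_injective]; exact Basics.pPrimeCore_coprime p
      refine le_of_sylows fun q hq hqd => ?_
      haveI := Fact.mk hq
      obtain ⟨Q, hQ⟩ := exists_sylowIn (q := q) H
      refine ⟨Q, hQ, ?_⟩
      by_cases hqp : q = p
      · subst hqp
        exact (le_sup_right.trans (hS.eq_of_le (R := S ⊔ Q) (hS.isPGroup.to_sup_of_normal_left' hQ.isPGroup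
          ((hQ.1.trans (sigmaCore_le M)).trans hSn)) (sup_le hSM (hQ.1.trans (sigmaCore_le M))) le_sup_left).le).trans
          le_sup_left
      · obtain ⟨P, rfl⟩ := hQ.exists_sylow
        haveI := h.nil
        haveI : (P : Subgroup H).Normal :=
          Sylow.normal_of_normalizerCondition Group.normalizerCondition_of_isNilpotent P
        refine le_trans (Subgroup.map_mono (Basics.le_pPrimeCore ?_)) le_sup_right
        obtain ⟨j, hj⟩ := IsPGroup.iff_card.mp P.2
        rw [hj]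
        exact ((Nat.coprime_primes hq hp.out).mpr hqp).pow_left j
    have hdis : Disjoint S W := Subgroup.disjoint_of_coprime_natCard (by
      obtain ⟨j, hj⟩ := IsPGroup.iff_card.mp hS.isPGroup
      rw [hj]; exact hWc.symm.pow_left j)
    obtain ⟨hHK, -⟩ := sigmaCore_commutator_eq hG h.max hcompl
    have hWS : W ≤ Subgroup.centralizer (S : Set G) := fun w hw => Subgroup.mem_centralizer_iff.mpr fun s hs => by
      refine (Basics.commute_of_coprime_le h.nil (hSH hs) (hWH hw) ?_).eq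
      obtain ⟨j, hj⟩ := hS.isPGroup ⟨s, hs⟩
      exact ((hWc.symm.pow_left j).coprime_dvd_left (orderOf_dvd_of_pow_eq_one (congrArg Subtype.val hj))).coprime_dvd_right
        (Subgroup.orderOf_dvd_natCard W hw)
    refine le_antisymm hDS fun s hs => ?_
    have hmem : H ≤ D ⊔ W := by
      rw [hH]
      conv_lhs => rw [← hHK]
      refine Subgroup.commutator_le.mpr fun v hv k hk => ?_
      obtain ⟨w, hw, t, ht, rfl⟩ := (Basics.mem_sup_of_le_normalizer (hSM.trans hWn)).mp (sup_comm S W ▸ hHW hv)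
      rw [show ⁅w * t, k⁆ = (w * ⁅t, k⁆ * w⁻¹) * ⁅w, k⁆ by simp only [commutatorElement_def]; group]
      refine mul_mem (Subgroup.mem_sup_left ?_) (Subgroup.mem_sup_right ?_)
      · have hd : ⁅t, k⁆ ∈ D := Subgroup.commutator_mem_commutator ht hk
        rw [← Subgroup.mem_centralizer_iff.mp (hWS hw) _ (hDS hd), mul_inv_cancel_right]
        exact hd
      · rw [commutatorElement_def, show w * k * w⁻¹ * k⁻¹ = w * (k * w⁻¹ * k⁻¹) by group]
        exact mul_mem hw ((Subgroup.mem_normalizer_iff.mp (hWn (hKM hk)) _).mp (inv_mem hw))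
    have hDW : W ≤ Subgroup.normalizer (D : Set G) :=
      ((hWS.trans (Subgroup.centralizer_le hDS)).trans (Subgroup.centralizer_le_normalizer _))
    obtain ⟨d, hd, w, hw, rfl⟩ := (Basics.mem_sup_of_le_normalizer hDW).mp (hmem (hSH hs))
    have hw1 : w = 1 := Subgroup.disjoint_def.mp hdis (by
      rw [show w = d⁻¹ * (d * w) by group]; exact mul_mem (inv_mem (hDS hd)) hs) hw
    rwa [hw1, mul_one]
  -- the general case
  have hn : ∀ {L : Subgroup G}, L ≤ K → L ≤ Subgroup.normalizer (S : Set G) := fun hL => (hL.trans hKM).trans hSn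
  set D₁ := ⁅S, K₁⁆ with hD₁
  have hD₁S : D₁ ≤ S := Subgroup.le_normalizer_iff_commutator_le_left.mp (hn hK₁)
  obtain ⟨k₁, hk₁, hk₁1⟩ := (Subgroup.bot_or_exists_ne_one K₁).resolve_left hne
  have hfix : S ⊓ Subgroup.centralizer (K₁ : Set G) ≤ Subgroup.centralizer (K : Set G) := fun v hv => by
    obtain ⟨hvS, hvC⟩ := Subgroup.mem_inf.mp hv
    have h1 : v ∈ H ⊓ Subgroup.centralizer ({k₁} : Set G) := Subgroup.mem_inf.mpr
      ⟨hSH hvS, Subgroup.mem_centralizer_singleton_iff.mpr (Subgroup.mem_centralizer_iff.mp hvC k₁ hk₁).symm⟩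
    rw [kappa_semiprime hG h.max hK (hK₁ hk₁) hk₁1] at h1
    exact h1.2
  have hSeq := Basics.commutator_sup_inf_centralizer K₁ S (hn hK₁) (hcop hK₁) (Or.inr hS_sol)
  have hSD : S ≤ Subgroup.normalizer (D₁ : Set G) := Subgroup.normalizer_commutator_ge_left S K₁
  refine le_antisymm hD₁S ?_
  conv_lhs => rw [← hSK]
  refine Subgroup.commutator_le.mpr fun v hv k hk => ?_
  rw [← hSeq] at hv
  obtain ⟨d, hd, c, hc, rfl⟩ := (Basics.mem_sup_of_le_normalizer (inf_le_left.trans hSD)).mp hv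
  have hck : c * k = k * c := (Subgroup.mem_centralizer_iff.mp (hfix hc) k hk).symm
  have hKD : K ≤ Subgroup.normalizer (D₁ : Set G) := by
    intro k hk
    rw [Subgroup.mem_normalizer_iff_map_conj_eq, hD₁, Subgroup.map_commutator,
      Subgroup.mem_normalizer_iff_map_conj_eq.mp (hn le_rfl hk)]
    congr 1
    haveI : IsCyclic K := kappa_cyclic hG h.max hK
    ext y
    constructor
    · rintro ⟨w, hw, rfl⟩
      have e : k * w = w * k := congrArg Subtype.val (IsMulCommutative.is_comm.comm (⟨k, hk⟩ : K) ⟨w, hK₁ hw⟩)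
      change k * w * k⁻¹ ∈ K₁
      rwa [e, mul_inv_cancel_right]
    · intro hy
      refine ⟨y, hy, ?_⟩
      have e : k * y = y * k := congrArg Subtype.val (IsMulCommutative.is_comm.comm (⟨k, hk⟩ : K) ⟨y, hK₁ hy⟩)
      change k * y * k⁻¹ = y
      rw [e, mul_inv_cancel_right]
  rw [commutatorElement_def, show d * c * k * (d * c)⁻¹ * k⁻¹ = d * ((c * k) * c⁻¹) * d⁻¹ * k⁻¹ by group, hck,
    mul_inv_cancel_right, show d * k * d⁻¹ * k⁻¹ = d * (k * d⁻¹ * k⁻¹) by group]
  exact mul_mem hd ((Subgroup.mem_normalizer_iff.mp (hKD hk) _).mp (inv_mem hd))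

/-- BG 15.7 in type `P`. -/
theorem kappa_case (h : Pt M p x) (hG : IsMinSimpleOddOrder G) {K : Subgroup G}
    (hK : IsPiHallOf (Cfsg.kappa M) K M) (hK1 : K ≠ ⊥) (hcompl : IsComplIn K (Cfsg.sigmaCore M) M) :
    ∃ S : Subgroup G, IsSylowIn p M S ∧ S ≤ Cfsg.sigmaCore M ∧ IsCyclic (Cfsg.pPrimeCore p ↥(Cfsg.sigmaCore M)) ∧
      ¬ IsMulCommutative S ∧ (Nat.card K ∣ p - 1 ∨ (Nat.card S = p ^ 3 ∧ Nat.card K ∣ p + 1)) := by
  obtain ⟨S, hS, hxS, hSH, hSn, T, hT⟩ := h.exists_sylow hG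
  have hna := h.not_abelian hG hK hK1 hS hxS
  refine ⟨S, hS, hSH, h.cyclic_other hG hT hna, hna, ?_⟩
  haveI : IsCyclic K := kappa_cyclic hG h.max hK
  have hKM : K ≤ M := hK.1
  have hpK : ¬ p ∣ Nat.card K := fun hd => (hK.2.1 p hp.out hd).2.2.1 h.sigma
  have hp2 : p ≠ 2 := prime_ne_two hG (h.ord ▸ orderOf_dvd_natCard x)
  have hKodd : Odd (Nat.card K) := odd_card_subgroup hG K
  set Ks := Cfsg.sigmaCore M ⊓ Subgroup.centralizer (K : Set G) with hKs
  have hKsc : IsCyclic Ks := by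
    obtain ⟨L, hL, -, hKL, hs, -⟩ := exists_dual hG h.max hK hK1
    have hd : DualPair M K L := ⟨h.max, hL, hK, hK1, hKL, hs⟩
    haveI := (hd.facts hG).2.2
    exact Subgroup.isCyclic_of_le (le_sup_right : Ks ≤ K ⊔ Ks)
  have hfix : ∀ k ∈ K, k ≠ 1 → S ⊓ Subgroup.centralizer ({k} : Set G) ≤ Ks := fun k hk hk1 => by
    rw [hKs, ← kappa_semiprime hG h.max hK hk hk1]
    exact inf_le_inf_right _ hSH
  have hfaith : ∀ k ∈ K, (∀ s ∈ S, k * s = s * k) → k = 1 := fun k hk hks => by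
    by_contra hk1
    have hle : S ≤ Ks := fun s hs => hfix k hk hk1
      (Subgroup.mem_inf.mpr ⟨hs, Subgroup.mem_centralizer_singleton_iff.mpr (hks s hs).symm⟩)
    haveI := hKsc
    haveI := Subgroup.isCyclic_of_le hle
    exact hna inferInstance
  obtain ⟨V, hVc, hVn, hVm⟩ := h.exists_line hG hS hxS hSn hna
  have hVS : V ≤ S := fun v hv => ((hVm v).mp hv).1.1
  by_cases hKV : K ≤ Subgroup.centralizer (V : Set G)
  swap
  · refine Or.inl (card_dvd_pred_of_line hVc (hKM.trans hVn) fun k hk hkV => ?_)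
    by_contra hk1
    refine hKV (Subgroup.le_centralizer_iff.mp fun v hv => ?_)
    exact (hfix k hk hk1 (Subgroup.mem_inf.mpr ⟨hVS hv,
      Subgroup.mem_centralizer_singleton_iff.mpr (hkV v hv).symm⟩)).2
  have hKf : K ⊓ Subgroup.centralizer (S : Set G) = ⊥ := by
    refine (Subgroup.eq_bot_iff_forall _).mpr fun k hk => hfaith k hk.1 fun s hs =>
      (Subgroup.mem_centralizer_iff.mp hk.2 s hs).symm
  by_cases hr2 : PRankLE p 2 S
  swap
  · left
    obtain ⟨N, A, A₀, hE, hxA, hAM, -, -⟩ := h.neighbor hG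
    have hAS : A ≤ S := le_sup_right.trans (hS.eq_of_le (R := S ⊔ A) (hS.isPGroup.to_sup_of_normal_left' hE.isPGroup
      (hAM.trans hSn)) (sup_le hS.1 hAM) le_sup_left).le
    have hmax : MaxEATwo p (A.subgroupOf S) := by
      refine ⟨⟨⟨⟨fun a b => Subtype.ext (Subtype.ext
        (congrArg (fun z : A => (z : G)) (hE.ea.1.is_comm.comm ⟨_, a.2⟩ ⟨_, b.2⟩) :))⟩⟩,
        fun a ha => Subtype.ext (hE.ea.2 _ ha)⟩, by rw [Basics.card_subgroupOf hAS, hE.card], fun v hv hvC => ?_⟩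
      have hvC' : (v : G) ∈ Subgroup.centralizer (A : Set G) := Subgroup.mem_centralizer_iff.mpr fun a ha =>
        congrArg Subtype.val (Subgroup.mem_centralizer_iff.mp hvC ⟨a, hAS ha⟩ ha)
      have he := ea_sup_zpowers hE.ea hvC' (congrArg Subtype.val hv : (v : G) ^ p = 1)
      have heq := ea_maximal_of_not_sigma hG hE.max hE.notσ hE.le hE.ea hE.card he le_sup_left
      exact (heq.le (Subgroup.mem_sup_right (Subgroup.mem_zpowers _)) : (v : G) ∈ A)
    obtain ⟨⟨k, hk⟩, hkgen⟩ := IsCyclic.exists_generator (α := K)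
    have hkord : orderOf (⟨k, hk⟩ : K) = Nat.card K := orderOf_eq_card_of_forall_mem_zpowers hkgen
    rw [← hkord]
    refine orderOf_dvd_of_pow_eq_one (Subtype.ext ?_)
    refine pow_eq_one_of_aut (hKM.trans hSn) hKf hk (MaxEATwo.aut_pow hp2 hS.isPGroup hr2 hmax _ ?_)
    refine Nat.Coprime.coprime_dvd_left ((orderOf_map_dvd _ _).trans ?_) (hp.out.coprime_iff_not_dvd.mpr hpK).symm
    rw [← Subgroup.orderOf_coe]
    exact Subgroup.orderOf_dvd_natCard K hk
  have hcop : (Nat.card K).Coprime p := (hp.out.coprime_iff_not_dvd.mpr hpK).symm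
  have hS1 : S ≠ ⊥ := fun e => h.ne_one (Subgroup.mem_bot.mp (e ▸ hxS))
  obtain ⟨-, hb⟩ := blackburn hp2 hS.isPGroup hS1 hr2 (hKM.trans hSn) hcop hKodd (h.commutator_eq hG hK hcompl hS le_rfl hK1)
  obtain ⟨R₁, R₂, hsup, hcom, hnc, hc3, hexp, -, hom, hder⟩ := hb.resolve_left hna
  have hR₁S : R₁ ≤ S := hsup ▸ le_sup_left
  have hexp1 : ∀ v ∈ R₁, v ^ p = 1 := fun v hv => congrArg Subtype.val
    (hexp ▸ Monoid.pow_exponent_eq_one (⟨v, hv⟩ : R₁) : (⟨v, hv⟩ : R₁) ^ p = 1)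
  have hR₂N : R₂ ≤ Subgroup.normalizer (R₁ : Set G) := fun v hv =>
    Subgroup.centralizer_le_normalizer _ (Subgroup.mem_centralizer_iff.mpr fun w hw => hcom w hw v hv)
  have hchar : ∀ v ∈ S, v ^ p = 1 → v ∈ R₁ := by
    intro v hv hvp
    obtain ⟨d, hd, c, hc, rfl⟩ := (Basics.mem_sup_of_le_normalizer hR₂N).mp (hsup.symm ▸ hv)
    rw [(show Commute d c from hcom d hd c hc).mul_pow, hexp1 d hd, one_mul] at hvp
    exact mul_mem hd (R₁.commutator_le_self (hom ▸ Subgroup.subset_closure ⟨hc, hvp⟩))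
  have hVR : V ≤ R₁ := fun v hv => hchar v (hVS hv) ((hVm v).mp hv).2
  have hRV : R₁ ≤ Subgroup.centralizer (V : Set G) := hR₁S.trans
    (Subgroup.le_centralizer_iff.mp fun v hv => ((hVm v).mp hv).1.2)
  have hRC : R₁ ⊓ Subgroup.centralizer (R₁ : Set G) = V := by
    refine le_antisymm (fun v hv => ?_) (le_inf hVR (Subgroup.le_centralizer_iff.mp hRV))
    refine (hVm v).mpr ⟨Subgroup.mem_inf.mpr ⟨hR₁S hv.1, Subgroup.mem_centralizer_iff.mpr fun s hs => ?_⟩, hexp1 v hv.1⟩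
    obtain ⟨d, hd, c, hc, rfl⟩ := (Basics.mem_sup_of_le_normalizer hR₂N).mp (hsup.symm ▸ hs)
    exact ((show Commute d v from Subgroup.mem_centralizer_iff.mp hv.2 d hd).mul_left
      (show Commute c v from (hcom v hv.1 c hc).symm)).eq
  have hKR : K ≤ Subgroup.normalizer (R₁ : Set G) := fun k hk => Subgroup.mem_normalizer_fintype fun v hv => by
    refine hchar _ ((Subgroup.mem_normalizer_iff.mp (hSn (hKM hk)) v).mp (hR₁S hv)) ?_
    rw [conj_pow, hexp1 v hv, mul_one, mul_inv_cancel]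
  have hfree : ∀ k ∈ K, k ≠ 1 → ∀ r ∈ R₁, k * r * k⁻¹ * r⁻¹ ∈ V → r ∈ V := by
    intro k hk hk1 r hr hkr
    -- fixed points modulo `V`
    have hkV : k ∈ Subgroup.centralizer (V : Set G) := hKV hk
    have hcopk : (Nat.card (Subgroup.zpowers k)).Coprime (Nat.card R₁) := by
      rw [hc3]
      exact (hcop.coprime_dvd_left (Subgroup.card_dvd_of_le (Subgroup.zpowers_le.mpr hk))).pow_right 3
    have hRn : R₁ ≤ Subgroup.normalizer (V : Set G) := hRV.trans (Subgroup.centralizer_le_normalizer _)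
    have hkVn : Subgroup.zpowers k ≤ Subgroup.normalizer (V : Set G) :=
      Subgroup.zpowers_le.mpr (Subgroup.centralizer_le_normalizer _ hkV)
    have hall : ∀ a ∈ Subgroup.zpowers k, a * r * a⁻¹ * r⁻¹ ∈ V := by
      intro a ha
      let F : Subgroup G :=
        { carrier := {a | a ∈ Subgroup.centralizer (V : Set G) ∧ a * r * a⁻¹ * r⁻¹ ∈ V}
          one_mem' := ⟨one_mem _, by simp⟩
          mul_mem' := fun {a b} ha hb => ⟨mul_mem ha.1 hb.1, by
            rw [show a * b * r * (a * b)⁻¹ * r⁻¹ = (a * (b * r * b⁻¹ * r⁻¹) * a⁻¹) * (a * r * a⁻¹ * r⁻¹) by group,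
              ← Subgroup.mem_centralizer_iff.mp ha.1 _ hb.2, mul_inv_cancel_right]
            exact mul_mem hb.2 ha.2⟩
          inv_mem' := fun {a} ha => ⟨inv_mem ha.1, by
            have h2 := Subgroup.mem_centralizer_iff.mp (inv_mem ha.1) _ (inv_mem ha.2)
            rw [show a⁻¹ * r * a⁻¹⁻¹ * r⁻¹ = a⁻¹ * (a * r * a⁻¹ * r⁻¹)⁻¹ * a⁻¹⁻¹ by group, ← h2, mul_inv_cancel_right]
            exact inv_mem ha.2⟩ }
      exact (Subgroup.zpowers_le.mpr (show k ∈ F from ⟨hkV, hkr⟩) ha : a ∈ F).2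
    obtain ⟨c, hc, hcN⟩ := Basics.exists_inf_centralizer_mem_coset (Subgroup.zpowers k) R₁ V hVR hRn hkVn hcopk
      (Or.inr (Basics.isSolvable_of_le (hR₁S.trans hS.1) (isSolvable_of_ne_top hG h.max.1))) r hr hall
    obtain ⟨hcR, hcC⟩ := Subgroup.mem_inf.mp hc
    rw [centralizer_eq_of_zpowers] at hcC
    have hcKs : c ∈ Ks := hfix k hk hk1 (Subgroup.mem_inf.mpr ⟨hR₁S hcR, hcC⟩)
    have hcV : c ∈ V := by
      by_contra hcV
      obtain ⟨w, hw, hw1⟩ := (Subgroup.bot_or_exists_ne_one V).resolve_left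
        fun e => hp.out.one_lt.ne (by rw [← hVc, e, Subgroup.card_bot])
      -- two subgroups of order `p` in the cyclic `K*`
      have hwKs : w ∈ Ks := hfix k hk hk1 (Subgroup.mem_inf.mpr ⟨hVS hw,
        Subgroup.mem_centralizer_singleton_iff.mpr (Subgroup.mem_centralizer_iff.mp hkV w hw)⟩)
      have he : IsElementaryAbelian p (V ⊔ Subgroup.zpowers c) := ea_sup_zpowers
        ⟨⟨⟨fun a b => Subtype.ext (Subgroup.mem_centralizer_iff.mp (hRV (hVR b.2)) a a.2)⟩⟩, fun a ha => ((hVm a).mp ha).2⟩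
        (hRV hcR) (hexp1 c hcR)
      have hle : V ⊔ Subgroup.zpowers c ≤ Ks := sup_le (fun v hv => hfix k hk hk1 (Subgroup.mem_inf.mpr ⟨hVS hv,
        Subgroup.mem_centralizer_singleton_iff.mpr (Subgroup.mem_centralizer_iff.mp hkV v hv)⟩))
        (Subgroup.zpowers_le.mpr hcKs)
      haveI := hKsc
      exact hcV ((Subgroup.eq_of_le_of_card_ge le_sup_left
        ((card_le_of_cyclic_ea he (Subgroup.isCyclic_of_le hle)).trans hVc.ge)).ge
        (Subgroup.mem_sup_right (Subgroup.mem_zpowers c)))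
    rw [show r = c * (r⁻¹ * c)⁻¹ by group]
    exact mul_mem hcV (inv_mem hcN)
  rcases card_dvd_pred_or_succ hVR hc3 hVc hexp1 hnc hRV (hder.le.trans hRC.le) inferInstance hKR hKV hKodd hcop
    hfree with h1 | h1
  · exact Or.inl h1
  · refine Or.inr ⟨?_, h1⟩
    obtain ⟨q, hq, hqd⟩ := Nat.exists_prime_and_dvd fun e => hK1 (Subgroup.card_eq_one.mp e)
    haveI := Fact.mk hq
    obtain ⟨a₀, ha₀⟩ := exists_prime_orderOf_dvd_card' q hqd
    rw [← Subgroup.orderOf_coe] at ha₀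
    have hqp : q ≠ p := fun e => hpK (e ▸ hqd)
    have hq1 : ¬ q ∣ p - 1 := fun hd => by
      have hs := Nat.dvd_sub (hqd.trans h1) hd
      rw [show p + 1 - (p - 1) = 2 by have := hp.out.two_le; omega] at hs
      have h2 := (Nat.prime_dvd_prime_iff_eq hq Nat.prime_two).mp hs
      exact hKodd.not_two_dvd_nat (h2 ▸ hqd)
    have hA : Nat.card (Subgroup.zpowers (a₀ : G)) = q := by rw [Nat.card_zpowers, ha₀]
    have hAK : Subgroup.zpowers (a₀ : G) ≤ K := Subgroup.zpowers_le.mpr a₀.2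
    exact card_eq_cube hp2 hS.isPGroup hr2 ((hAK.trans hKM).trans hSn) (odd_card_subgroup hG _) hq hA hqp hq1
      (h.commutator_eq hG hK hcompl hS hAK fun e => hq.one_lt.ne (by rw [← hA, e, Subgroup.card_bot])) hna

end Pt

end Cfsg.Agent.OddLocal
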