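import Mathlib

/-! Norm-one elements `a` of a field with `p ^ q` elements such that `2 - a` also has norm one. -/

set_option autoImplicit false

namespace Cfsg.Agent.OddLocal

open Polynomial in
theorem norm_cubic_root {p : ℕ} [Fact p.Prime] {F : Type*} [Field F] [Algebra (ZMod p) F]
    (hF : Module.finrank (ZMod p) F = 3) (g : (ZMod p)[X]) (hdeg : g.natDegree = 3) (hm : g.Monic)
    (hirr : Irreducible g) (x : F) (hx : aeval x g = 0) :
    Algebra.norm (ZMod p) x = - g.coeff 0 := by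
  have : FiniteDimensional (ZMod p) F := Module.finite_of_finrank_eq_succ hF
  have hmin : minpoly (ZMod p) x = g := (minpoly.eq_of_irreducible_of_monic hirr hx hm).symm
  have hint : IsIntegral (ZMod p) x := IsIntegral.of_finite _ x
  have hfr : Module.finrank (ZMod p) (IntermediateField.adjoin (ZMod p) {x}) = 3 := by
    rw [IntermediateField.adjoin.finrank hint, hmin, hdeg]
  rw [Algebra.norm_eq_norm_adjoin (ZMod p) x]
  have hone : Module.finrank (IntermediateField.adjoin (ZMod p) {x}) F = 1 := by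
    have := Module.finrank_mul_finrank (ZMod p) (IntermediateField.adjoin (ZMod p) {x}) F
    rw [hfr, hF] at this
    omega
  rw [hone, pow_one]
  have h := Algebra.PowerBasis.norm_gen_eq_coeff_zero_minpoly (IntermediateField.adjoin.powerBasis hint)
  rw [IntermediateField.adjoin.powerBasis_gen, IntermediateField.minpoly_gen, hmin] at h
  rw [h]
  change (-1 : ZMod p) ^ (IntermediateField.adjoin.powerBasis hint).dim * _ = _
  rw [IntermediateField.adjoin.powerBasis_dim, hmin, hdeg]
  ring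

open Polynomial in
theorem exists_norm_two_sub_three (p : ℕ) [Fact p.Prime] (hp : p ≠ 2) :
    ∃ a : GaloisField p 3, a ≠ 1 ∧ Algebra.norm (ZMod p) a = 1 ∧ Algebra.norm (ZMod p) (2 - a) = 1 := by
  classical
  have h2 : (2 : ZMod p) ≠ 0 := by
    intro h
    have : ((2 : ℕ) : ZMod p) = 0 := by exact_mod_cast h
    rw [ZMod.natCast_eq_zero_iff] at this
    exact hp (((Nat.prime_dvd_prime_iff_eq Fact.out Nat.prime_two).mp this))
  let φ : ZMod p → ZMod p := fun x => (-(x ^ 3) + 3 * x + 1) / (x ^ 2 - 2 * x)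
  obtain ⟨b, hb⟩ : ∃ b, b ∉ ((Finset.univ.erase (0 : ZMod p)).erase 2).image φ := by
    by_contra h
    push Not at h
    have h1 : Finset.univ ⊆ ((Finset.univ.erase (0 : ZMod p)).erase 2).image φ := fun b _ => h b
    have h2' := (Finset.card_le_card h1).trans Finset.card_image_le
    have h3 : ((Finset.univ.erase (0 : ZMod p)).erase 2).card < (Finset.univ : Finset (ZMod p)).card :=
      lt_of_le_of_lt (Finset.card_le_card (Finset.erase_subset _ _))
        (Finset.card_erase_lt_of_mem (Finset.mem_univ _))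
    omega
  let g : (ZMod p)[X] := X ^ 3 + C b * X ^ 2 + C (-3 - 2 * b) * X + C (-1)
  let g' : (ZMod p)[X] := X ^ 3 + C (-6 - b) * X ^ 2 + C (9 + 2 * b) * X + C (-1)
  have hgdeg : g.natDegree = 3 := by simp only [g]; compute_degree!
  have hg'deg : g'.natDegree = 3 := by simp only [g']; compute_degree!
  have hgm : g.Monic := by simp only [g]; monicity!
  have hg'm : g'.Monic := by simp only [g']; monicity!
  have hroot : ∀ x : ZMod p, g.eval x ≠ 0 := by
    intro x hx
    simp only [g, eval_add, eval_pow, eval_X, eval_mul, eval_C] at hx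
    have hx0 : x ≠ 0 := by rintro rfl; simp at hx
    have hx2 : x ≠ 2 := by
      rintro rfl
      exact one_ne_zero (α := ZMod p) (by linear_combination hx)
    have hd : x ^ 2 - 2 * x ≠ 0 := by
      rw [show x ^ 2 - 2 * x = x * (x - 2) by ring]
      exact mul_ne_zero hx0 (sub_ne_zero.mpr hx2)
    refine hb (Finset.mem_image.mpr ⟨x, by simp [hx0, hx2], ?_⟩)
    simp only [φ]
    rw [div_eq_iff hd]
    linear_combination -hx
  have hgirr : Irreducible g := by
    rw [irreducible_iff_roots_eq_zero_of_degree_le_three (by omega) (by omega)]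
    exact Multiset.eq_zero_of_forall_notMem fun x hx => hroot x ((mem_roots hgm.ne_zero).mp hx)
  have hg'irr : Irreducible g' := by
    rw [irreducible_iff_roots_eq_zero_of_degree_le_three (by omega) (by omega)]
    refine Multiset.eq_zero_of_forall_notMem fun x hx => hroot (2 - x) ?_
    have := (mem_roots hg'm.ne_zero).mp hx
    simp only [g', g, IsRoot.def, eval_add, eval_pow, eval_X, eval_mul, eval_C] at this ⊢
    linear_combination -this
  haveI : Fact (Irreducible g) := ⟨hgirr⟩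
  have : Module.Finite (ZMod p) (AdjoinRoot g) := (AdjoinRoot.powerBasis hgm.ne_zero).finite
  have : Finite (AdjoinRoot g) := Module.finite_of_finite (ZMod p)
  have hcard : Nat.card (AdjoinRoot g) = p ^ 3 := by
    rw [Module.natCard_eq_pow_finrank (K := ZMod p), (AdjoinRoot.powerBasis hgm.ne_zero).finrank]
    simp [hgdeg]
  let e := GaloisField.algEquivGaloisField (K := AdjoinRoot g) p 3 hcard
  let a := e (AdjoinRoot.root g)
  have hF := GaloisField.finrank p (n := 3) (by norm_num)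
  have ha : aeval a g = 0 := by
    rw [aeval_algEquiv, AlgHom.comp_apply, AdjoinRoot.aeval_eq, AdjoinRoot.mk_self, map_zero]
  have ha' : aeval (2 - a) g' = 0 := by
    simp only [g, g', map_add, map_mul, map_pow, aeval_X, aeval_C, map_sub, map_neg, map_one, map_ofNat] at ha ⊢
    linear_combination -ha
  refine ⟨a, ?_, ?_, ?_⟩
  · intro h
    apply hroot 1
    rw [h, ← map_one (algebraMap (ZMod p) (GaloisField p 3)), aeval_algebraMap_apply,
      map_eq_zero] at ha
    rwa [← coe_aeval_eq_eval]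
  · rw [norm_cubic_root hF g hgdeg hgm hgirr a ha]
    simp [g]
  · rw [norm_cubic_root hF g' hg'deg hg'm hg'irr (2 - a) ha']
    simp [g']

theorem card_norm_one_ge {p q : ℕ} [Fact p.Prime] (hq : 2 ≤ q) (F : Type*) [Field F] [Fintype F]
    [DecidableEq F] [Algebra (ZMod p) F] (hF : Fintype.card F = p ^ q) :
    p ^ (q - 1) + p ^ (q - 2) ≤ (Finset.univ.filter fun a : F => Algebra.norm (ZMod p) a = 1).card := by
  set U := Finset.univ.filter fun a : F => Algebra.norm (ZMod p) a = 1
  have hpp : p.Prime := Fact.out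
  let f : Fˣ →* (ZMod p)ˣ := Units.map (Algebra.norm (ZMod p) : F →* ZMod p)
  have hker : Nat.card f.ker ≤ U.card := by
    rw [← Nat.card_eq_finsetCard U]
    refine Nat.card_le_card_of_injective (fun u => ⟨((u : Fˣ) : F), ?_⟩) ?_
    · have := congrArg Units.val (MonoidHom.mem_ker.mp u.2)
      simpa [U, f] using this
    · intro u v h
      exact Subtype.ext (Units.ext (congrArg Subtype.val h))
  have hran : Nat.card f.range ≤ p - 1 := by
    refine (Subgroup.card_le_card_group _).trans_eq ?_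
    rw [Nat.card_eq_fintype_card, ZMod.card_units]
  have h1 := Subgroup.card_mul_index f.ker
  rw [Subgroup.index_ker, Nat.card_units, Nat.card_eq_fintype_card (α := F), hF] at h1
  have h2 : p ^ q - 1 ≤ U.card * (p - 1) := h1 ▸ Nat.mul_le_mul hker hran
  obtain ⟨k, rfl⟩ : ∃ k, q = k + 2 := ⟨q - 2, by omega⟩
  obtain ⟨r, rfl⟩ : ∃ r, p = r + 2 := ⟨p - 2, by have := hpp.two_le; omega⟩
  simp only [Nat.add_sub_cancel, show k + 2 - 1 = k + 1 by omega, show r + 2 - 1 = r + 1 by omega] at h2 ⊢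
  have e : ((r + 2) ^ (k + 1) + (r + 2) ^ k) * (r + 1) + (r + 2) ^ k = (r + 2) ^ (k + 2) := by ring
  have hpos : 1 ≤ (r + 2) ^ k := Nat.one_le_pow _ _ (by omega)
  refine Nat.le_of_mul_le_mul_right (c := r + 1) ?_ (by omega)
  rw [Nat.sub_le_iff_le_add] at h2
  linarith

open scoped ComplexConjugate in
theorem two_le_card_norm_two_sub {p q : ℕ} [Fact p.Prime] (hp : p ≠ 2) (hq : 5 ≤ q) (F : Type*) [Field F]
    [Fintype F] [DecidableEq F] [Algebra (ZMod p) F] (hF : Fintype.card F = p ^ q) :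
    2 ≤ (Finset.univ.filter fun a : F =>
      Algebra.norm (ZMod p) a = 1 ∧ Algebra.norm (ZMod p) (2 - a) = 1).card := by
  set E := Finset.univ.filter fun a : F => Algebra.norm (ZMod p) a = 1 ∧ Algebra.norm (ZMod p) (2 - a) = 1
  set U := Finset.univ.filter fun a : F => Algebra.norm (ZMod p) a = 1 with hU
  have hUmem : ∀ a, a ∈ U ↔ Algebra.norm (ZMod p) a = 1 := fun a => by simp [U]
  have hU0 : ∀ a ∈ U, a ≠ 0 := by
    intro a ha h
    rw [hUmem, h, Algebra.norm_zero] at ha
    exact zero_ne_one ha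
  have hm : p ^ (q - 1) + p ^ (q - 2) ≤ U.card := card_norm_one_ge (by omega) F hF
  obtain ⟨ψ, hψ⟩ := AddChar.exists_apply_ne_zero.mpr (one_ne_zero (α := F))
  have hprim : ψ.IsPrimitive := AddChar.IsPrimitive.of_ne_one fun h => hψ (by simp [h])
  set m : ℕ := U.card with hmdef
  set Q : ℕ := p ^ q with hQ
  let S : F → ℂ := fun c => ∑ u ∈ U, ψ (c * u)
  have horth : ∀ b : F, ∑ c, ψ (c * b) = if b = 0 then (Q : ℂ) else 0 := by
    intro b
    rw [AddChar.sum_mulShift b hprim, hF]
    split <;> simp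
  have hsum : ∑ c, S c ^ 2 * ψ (-(2 * c)) = (Q : ℂ) * E.card := by
    have : ∀ c, S c ^ 2 * ψ (-(2 * c)) = ∑ u ∈ U, ∑ v ∈ U, ψ (c * (u + v - 2)) := by
      intro c
      simp only [S, sq, Finset.sum_mul, Finset.mul_sum]
      refine Finset.sum_congr rfl fun u _ => Finset.sum_congr rfl fun v _ => ?_
      rw [← AddChar.map_add_eq_mul, ← AddChar.map_add_eq_mul]
      congr 1; ring
    simp only [this]
    rw [Finset.sum_comm]
    have : ∀ u ∈ U, ∑ c, ∑ v ∈ U, ψ (c * (u + v - 2)) = if 2 - u ∈ U then (Q : ℂ) else 0 := by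
      intro u _
      rw [Finset.sum_comm]
      simp only [horth]
      rw [← Finset.sum_ite_eq' U (2 - u) (fun _ => (Q : ℂ))]
      exact Finset.sum_congr rfl fun v _ => if_congr ⟨fun h => by linear_combination h, fun h => by linear_combination h⟩ rfl rfl
    rw [Finset.sum_congr rfl this, ← Finset.sum_filter, Finset.sum_const, nsmul_eq_mul, mul_comm]
    congr 3
    ext a; simp [E, hUmem]
  have hsq : ∑ c, ‖S c‖ ^ 2 = (Q : ℝ) * m := by
    apply Complex.ofReal_injective
    push_cast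
    have : ∀ c, (‖S c‖ : ℂ) ^ 2 = ∑ u ∈ U, ∑ v ∈ U, ψ (c * (u - v)) := by
      intro c
      rw [← Complex.mul_conj']
      simp only [S, map_sum, Finset.sum_mul, Finset.mul_sum]
      rw [Finset.sum_comm]
      refine Finset.sum_congr rfl fun u _ => Finset.sum_congr rfl fun v _ => ?_
      rw [← AddChar.map_neg_eq_conj, ← AddChar.map_add_eq_mul]
      congr 1; ring
    simp only [this]
    rw [Finset.sum_comm]
    have : ∀ u ∈ U, ∑ c, ∑ v ∈ U, ψ (c * (u - v)) = (Q : ℂ) := by
      intro u hu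
      rw [Finset.sum_comm]
      simp only [horth, sub_eq_zero]
      rw [Finset.sum_ite_eq U u, if_pos hu]
    rw [Finset.sum_congr rfl this, Finset.sum_const, nsmul_eq_mul, mul_comm]
  have hinv : ∀ c, ∀ w ∈ U, S (c * w) = S c := by
    intro c w hw
    simp only [S]
    refine Finset.sum_nbij' (fun u => w * u) (fun u => w⁻¹ * u) ?_ ?_ ?_ ?_ ?_
    · intro u hu
      simp only [hUmem] at hu hw ⊢
      rw [map_mul, hw, hu, one_mul]
    · intro u hu
      simp only [hUmem] at hu hw ⊢
      have h : Algebra.norm (ZMod p) (w⁻¹) * Algebra.norm (ZMod p) w = 1 := by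
        rw [← map_mul, inv_mul_cancel₀ (hU0 w ((hUmem w).mpr hw)), map_one]
      rw [hw, mul_one] at h
      rw [map_mul, h, hu, one_mul]
    · intro u _; simp [hU0 w hw]
    · intro u _; simp [hU0 w hw]
    · intro u _; rw [mul_assoc]
  have hmpos : (0 : ℝ) < m := by
    have : 0 < p ^ (q - 1) := pow_pos (Fact.out : p.Prime).pos _
    exact_mod_cast (by omega : 0 < m)
  have hbd : ∀ c : F, c ≠ 0 → ‖S c‖ ^ 2 ≤ Q := by
    intro c hc
    have h1 : ∑ x ∈ U.image (fun w => c * w), ‖S x‖ ^ 2 ≤ ∑ x, ‖S x‖ ^ 2 :=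
      Finset.sum_le_univ_sum_of_nonneg (fun x => by positivity)
    rw [hsq, Finset.sum_image (fun x _ y _ h => mul_left_cancel₀ hc h),
      Finset.sum_congr rfl (fun w hw => by rw [hinv c w hw]), Finset.sum_const, nsmul_eq_mul,
      mul_comm (Q : ℝ)] at h1
    exact le_of_mul_le_mul_left h1 hmpos
  set X : ℂ := ∑ c ∈ Finset.univ.erase (0 : F), S c ^ 2 * ψ (-(2 * c))
  have hX : X = (Q : ℂ) * E.card - (m : ℂ) ^ 2 := by
    rw [← hsum, ← Finset.add_sum_erase _ _ (Finset.mem_univ (0 : F))]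
    simp [X, S, m]
  have hmX : (m : ℂ) * X = ∑ c ∈ Finset.univ.erase (0 : F), S c ^ 2 * S (-(2 * c)) := by
    have hre : ∀ w ∈ U, X = ∑ c ∈ Finset.univ.erase (0 : F), S c ^ 2 * ψ (-(2 * c) * w) := by
      intro w hw
      refine (Finset.sum_nbij' (fun c => c * w) (fun c => c * w⁻¹) ?_ ?_ ?_ ?_ ?_).symm
      · intro c hc
        simp only [Finset.mem_coe, Finset.mem_erase, Finset.mem_univ, and_true] at hc ⊢
        exact mul_ne_zero hc (hU0 w hw)
      · intro c hc
        simp only [Finset.mem_coe, Finset.mem_erase, Finset.mem_univ, and_true] at hc ⊢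
        exact mul_ne_zero hc (inv_ne_zero (hU0 w hw))
      · intro c _; simp [hU0 w hw]
      · intro c _; simp [hU0 w hw]
      · intro c _; rw [hinv c w hw]; congr 2; ring
    calc (m : ℂ) * X = ∑ w ∈ U, X := by rw [Finset.sum_const, nsmul_eq_mul]
      _ = ∑ w ∈ U, ∑ c ∈ Finset.univ.erase (0 : F), S c ^ 2 * ψ (-(2 * c) * w) := Finset.sum_congr rfl hre
      _ = _ := by rw [Finset.sum_comm]; simp only [S, Finset.mul_sum]
  have h2F : (2 : F) ≠ 0 := by
    intro h
    have h' : ((2 : ℕ) : F) = 0 := by exact_mod_cast h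
    have : CharP F p := charP_of_injective_algebraMap (algebraMap (ZMod p) F).injective p
    rw [CharP.cast_eq_zero_iff F p] at h'
    exact hp ((Nat.prime_dvd_prime_iff_eq Fact.out Nat.prime_two).mp h')
  set r : ℝ := Real.sqrt Q with hr
  have hr2 : r ^ 2 = Q := Real.sq_sqrt (by positivity)
  have hXle : ‖X‖ ≤ Q * r := by
    have h1 : (m : ℝ) * ‖X‖ ≤ ∑ c ∈ Finset.univ.erase (0 : F), ‖S c‖ ^ 2 * r := by
      rw [← Complex.norm_natCast, ← norm_mul, hmX]
      refine (norm_sum_le _ _).trans (Finset.sum_le_sum fun c hc => ?_)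
      rw [norm_mul, norm_pow]
      refine mul_le_mul_of_nonneg_left (Real.le_sqrt_of_sq_le (hbd _ ?_)) (by positivity)
      simpa [h2F] using (Finset.mem_erase.mp hc).1
    have h2 : ∑ c ∈ Finset.univ.erase (0 : F), ‖S c‖ ^ 2 * r ≤ ((Q : ℝ) * m) * r := by
      rw [← Finset.sum_mul, ← hsq]
      exact mul_le_mul_of_nonneg_right (Finset.sum_le_univ_sum_of_nonneg (fun x => by positivity)) (Real.sqrt_nonneg _)
    have := h1.trans h2
    refine le_of_mul_le_mul_left ?_ hmpos
    linarith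
  by_contra hE
  have hE1 : (E.card : ℝ) ≤ 1 := by exact_mod_cast (by omega : E.card ≤ 1)
  have hXre : (m : ℝ) ^ 2 - Q ≤ ‖X‖ := by
    rw [hX, norm_sub_rev, show ((m : ℂ) ^ 2 - (Q : ℂ) * E.card) = (((m : ℝ) ^ 2 - Q * E.card : ℝ) : ℂ) by push_cast; ring,
      Complex.norm_real, Real.norm_eq_abs]
    refine le_trans ?_ (le_abs_self _)
    have : (Q : ℝ) * E.card ≤ Q * 1 := mul_le_mul_of_nonneg_left hE1 (by positivity)
    linarith
  have hpR : (1 : ℝ) ≤ p := by exact_mod_cast (Fact.out : p.Prime).one_le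
  have hlow : ((p : ℝ) ^ (q - 1)) ^ 2 ≤ (m : ℝ) ^ 2 - Q := by
    have hm' : (p : ℝ) ^ (q - 1) + (p : ℝ) ^ (q - 2) ≤ m := by exact_mod_cast hm
    have h1 : ((p : ℝ) ^ (q - 1) + (p : ℝ) ^ (q - 2)) ^ 2 ≤ (m : ℝ) ^ 2 := pow_le_pow_left₀ (by positivity) hm' 2
    have h2 : (Q : ℝ) ≤ (p : ℝ) ^ (q - 1) * (p : ℝ) ^ (q - 2) := by
      rw [← pow_add, hQ]; push_cast
      exact pow_le_pow_right₀ hpR (by omega)
    have h0 : 0 ≤ (p : ℝ) ^ (q - 1) * (p : ℝ) ^ (q - 2) := by positivity
    linarith [sq_nonneg ((p : ℝ) ^ (q - 2))]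
  have h3 : (((p : ℝ) ^ (q - 1)) ^ 2) ^ 2 ≤ ((Q : ℝ) * r) ^ 2 :=
    pow_le_pow_left₀ (by positivity) (hlow.trans (hXre.trans hXle)) 2
  rw [mul_pow, hr2, hQ] at h3
  push_cast at h3
  rw [← pow_mul, ← pow_mul, ← pow_mul, ← pow_add] at h3
  have hp1 : (1 : ℝ) < p := by exact_mod_cast (Fact.out : p.Prime).one_lt
  rw [pow_le_pow_iff_right₀ hp1] at h3
  omega

end Cfsg.Agent.OddLocal
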