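import Cfsg.Agent.Lib.OddLocal.PrimeShare
import Cfsg.Agent.Lib.OddLocal.PrimeActionTools
import Cfsg.Agent.Lib.OddLocal.CyclicSylow

/-! BG 13.4: `C_{M_σ}(P) ≤ C_{M_σ}(R)` for `p ∈ τ₁(M)`. -/

set_option autoImplicit false
set_option linter.unusedSectionVars false
set_option linter.style.haveILetI false

namespace Cfsg.Agent.OddLocal

open scoped commutatorElement Pointwise
open Cfsg
open Basics (IsSylowIn)

universe u

variable {G : Type u} [Group G] [Finite G] {p : ℕ} [hp : Fact p.Prime]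

/-- The maximal subgroup over `N(X)` for `X` of order `p`, `p ∈ τ₁(M)`. -/
theorem normalizer_sup_facts (hG : IsMinSimpleOddOrder G) {M L P : Subgroup G} (hL : IsCoatom L)
    (hps : p ∉ Cfsg.sigma M) (hp1 : PRankLE p 1 M) (hP : Nat.card P = p)
    (hNP : Subgroup.normalizer (P : Set G) ≤ L) :
    (p ∈ Cfsg.sigma L ∨ p ∈ Cfsg.tau2 L) ∧ ∀ g : G, L ≠ M.map (MulAut.conj g).toMonoidHom := by
  by_cases hs : p ∈ Cfsg.sigma L
  · exact ⟨Or.inl hs, fun g hg => hps (sigma_of_conj (hg ▸ hs))⟩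
  · obtain ⟨h1, -⟩ := rank_two_of_normalizer_le hG hL hs hP hNP
    exact ⟨Or.inr ⟨hp.out, hs, pRankLE_two_of_not_mem_sigma hG hL hs, h1⟩, fun g hg => h1 (hg ▸ pRankLE_conj g hp1)⟩

/-- Centralizers of elements of a rank one prime outside `σ(L)` in `p`-subgroups of `L_α` are cyclic. -/
theorem isCyclic_inf_centralizer (hG : IsMinSimpleOddOrder G) {L : Subgroup G} (hL : IsCoatom L) {s : ℕ}
    [hs : Fact s.Prime] (hss : s ∉ Cfsg.sigma L) (h1 : PRankLE s 1 L) {X : Subgroup G} (hX : Nat.card X = s)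
    (hXL : X ≤ L) {T : Subgroup G} (hT : IsPGroup p T) (hTα : T ≤ Cfsg.alphaCore L) :
    IsCyclic ↥(T ⊓ Subgroup.centralizer (X : Set G)) := by
  have hsL : s ∣ Nat.card L := hX ▸ Subgroup.card_dvd_of_le hXL
  obtain ⟨S, hS, hXS⟩ := exists_sylowIn_ge (IsPGroup.of_card (n := 1) (hX.trans (pow_one s).symm)) hXL
  obtain ⟨S₀, hS₀⟩ := hS.exists_sylow
  obtain ⟨x, hx, hxo, hZ, -⟩ := exists_central_element hG hL hsL hss S₀
  haveI hSc : IsCyclic S := isCyclic_of_pRankLE_one (prime_ne_two hG (hsL.trans (Subgroup.card_subgroup_dvd_card L)))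
    h1 hS.1 hS.isPGroup
  have hxS : x ∈ S := by
    obtain ⟨v, hv, rfl⟩ := hx
    exact hS₀ ▸ ⟨v, Subgroup.map_subtype_le _ hv, rfl⟩
  have hXx : Subgroup.zpowers x = X :=
    eq_of_le_cyclic hSc (Subgroup.zpowers_le.mpr hxS) hXS (by rw [Nat.card_zpowers, hxo, hX])
  set Q := T ⊓ Subgroup.centralizer (X : Set G) with hQ
  set H := Cfsg.alphaCore L ⊓ Subgroup.centralizer ({x} : Set G) with hH
  have hQH : Q ≤ H := by
    refine inf_le_inf hTα ?_
    rw [← hXx, Subgroup.zpowers_eq_closure, Subgroup.centralizer_closure]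
  obtain ⟨P, hP⟩ := ((hT.to_le (inf_le_left : Q ≤ T)).comap_subtype (K := H)).exists_le_sylow
  haveI : IsCyclic (P : Subgroup H) := hZ.isZGroup p hp.out P
  haveI : IsCyclic (Q.subgroupOf H) := Subgroup.isCyclic_of_le hP
  exact (Subgroup.subgroupOfEquivOfLe hQH).isCyclic.mp inferInstance

/-- The conflict at a line `Y` of a prime `q ∈ σ(M)` with `q ∈ τ₂(N)`. -/
theorem clash_tau2 (hG : IsMinSimpleOddOrder G) {M L N P Y : Subgroup G} (hM : IsCoatom M) (hL : IsCoatom L)
    (hN : IsCoatom N) (hp1 : PRankLE p 1 M) (hP : Nat.card P = p) (hPM : P ≤ M)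
    (hNP : Subgroup.normalizer (P : Set G) ≤ L) (hne : N ≠ M) {q : ℕ} [hq : Fact q.Prime] (hqM : q ∈ Cfsg.sigma M)
    (hqN : q ∈ Cfsg.tau2 N) (hY : Nat.card Y = q) (hYM : Y ≤ M) (hPY : P ≤ Subgroup.centralizer (Y : Set G))
    (hNY : Subgroup.normalizer (Y : Set G) ≤ N)
    (hp' : p ∈ Cfsg.sigma N ∨ p ∣ Nat.card ↥⁅N, N⁆ ∨ ¬ PRankLE p 1 N)
    (hqL : PRankLE q 1 L ∨ (q ∉ Cfsg.sigma L ∧ p ∈ Cfsg.tau2 L)) : False := by
  have hPN : P ≤ N := hPY.trans ((Subgroup.centralizer_le_normalizer _).trans hNY)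
  have hYN : Y ≤ N := Subgroup.le_normalizer.trans hNY
  have hPp : IsPGroup p P := IsPGroup.of_card (n := 1) (hP.trans (pow_one p).symm)
  have hYp : IsPGroup q Y := IsPGroup.of_card (n := 1) (hY.trans (pow_one q).symm)
  have hY1 : Y ≠ ⊥ := fun e => by rw [e, Subgroup.card_bot] at hY; exact hq.out.one_lt.ne hY
  obtain ⟨S, hS, hYS⟩ := exists_sylowIn_ge hYp (le_inf hYM hYN)
  obtain ⟨S₀, hS₀⟩ := hS.exists_sylow
  obtain ⟨-, -, hSN'⟩ := S1424.result hG M hM q hqM Y hYp hY1 hYM N hN hne hNY S₀ (hS₀.symm ▸ hYS)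
  rw [hS₀] at hSN'
  have hSN : IsSylowIn q N S := isSylowIn_of_not_dvd_relIndex hS.isPGroup (hS.1.trans inf_le_right) hSN'
  obtain ⟨B, hBS, hB, hB2⟩ := exists_ea_in_sylow hqN.2.2.2 hqN.2.2.1 hSN
  have hBM : B ≤ M := hBS.trans (hS.1.trans inf_le_left)
  obtain ⟨B₁, hB'⟩ := exists_exc hG hN hqN.2.1 (hBS.trans hSN.1) hB hB2
  by_cases hps' : p ∈ Cfsg.sigma N
  · have h0 := hB'.inf_maximal hG hM hne.symm hBM
    have hle : P ≤ Cfsg.sigmaCore N ⊓ M := le_inf (pGroup_le_sigmaCore hG hN hps' hPp hPN) hPM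
    rw [h0, le_bot_iff] at hle
    rw [hle, Subgroup.card_bot] at hP
    exact hp.out.one_lt.ne hP
  have hcd : Nat.card ↥(P ⊔ Y : Subgroup G) ∣ Nat.card P * Nat.card Y := by
    rw [sup_comm, mul_comm]
    exact ⟨_, Basics.card_mul_card_eq_card_sup_mul_card_inf (hPY.trans (Subgroup.centralizer_le_normalizer _))⟩
  obtain ⟨E, hE, hPYE⟩ := exists_compl_ge hG hN (sup_le hPN hYN) fun t ht htd => by
    rcases ht.dvd_mul.mp (htd.trans hcd) with h | h
    · rw [hP] at h; rwa [(Nat.prime_dvd_prime_iff_eq ht hp.out).mp h]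
    · rw [hY] at h; rw [(Nat.prime_dvd_prime_iff_eq ht hq.out).mp h]; exact hqN.2.1
  obtain ⟨C, hCE, hCe, hC2, C₁, hC⟩ := exists_ea_in_compl hG hN hE hqN
  have hYC : Y ≤ C := hC.le_of_card_prime hG hE hCE (le_sup_right.trans hPYE) hY
  have hPC : P ≤ Subgroup.centralizer (C : Set G) := by
    by_cases h1 : PRankLE p 1 N
    · have hd : p ∣ Nat.card ↥⁅N, N⁆ := (hp'.resolve_left hps').resolve_right (not_not.mpr h1)
      obtain ⟨R, hR, hPR⟩ := exists_sylowIn_ge hPp (le_sup_left.trans hPYE)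
      have hPD : P ≤ ⁅E, E⁆ := hPR.trans
        (sylow_le_derived_of_rank_one hG hE.1 h1 (dvd_card_derived_compl hG hN hE hp.out hps' hd) hR)
      have hcop : (Nat.card P).Coprime (Nat.card C) := by
        rw [hP, hC2]
        refine Nat.Coprime.pow_right _ ((Nat.coprime_primes hp.out hq.out).mpr fun e => ?_)
        subst e
        exact hqN.2.2.2 h1
      refine Basics.le_centralizer_of_commutator_commutator_eq_bot P C
        ((le_sup_left.trans hPYE).trans (hC.compl_le_normalizer hG hE hCE)) hcop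
        (Or.inl (by haveI := hPp.isNilpotent; infer_instance)) ?_
      rw [Subgroup.commutator_eq_bot_iff_le_centralizer]
      exact (Subgroup.commutator_mono hCE (le_sup_left.trans hPYE)).trans
        ((Subgroup.le_centralizer_iff_isMulCommutative.mpr (derived_compl_commutative hG hN hE)).trans
          (Subgroup.centralizer_le hPD))
    · intro x hx
      refine hC.tau2_element_mem hG hE hCE ((le_sup_left.trans hPYE) hx) fun t ht hd => ?_
      have hd' := hd.trans (Subgroup.orderOf_dvd_natCard P hx)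
      rw [hP] at hd'
      rw [(Nat.prime_dvd_prime_iff_eq ht hp.out).mp hd']
      exact ⟨hp.out, hps', pRankLE_two_of_not_mem_sigma hG hN hps', h1⟩
  have hCL : C ≤ L := (Subgroup.le_centralizer_iff.mp hPC).trans ((Subgroup.centralizer_le_normalizer _).trans hNP)
  rcases hqL with h | ⟨hqs, hpL⟩
  · have h3 := card_le_of_pRankLE h hCL hCe
    rw [hC2, pow_one] at h3
    nlinarith [hq.out.two_le]
  -- a conjugate of `M` contains `C`, and hence a rank two `p`-subgroup of `L`
  obtain ⟨S₁, hS₁, hCS₁⟩ := exists_sylowIn_ge hC.isPGroup (hCE.trans hE.1)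
  obtain ⟨n, -, en⟩ := hS₁.exists_conj hSN
  set M' := M.map (MulAut.conj n⁻¹).toMonoidHom with hM'
  have hCM' : C ≤ M' := by
    have h1 : MulAut.conj n • C ≤ M :=
      (en ▸ Subgroup.pointwise_smul_le_pointwise_smul_iff.mpr hCS₁ : _ ≤ S).trans (hS.1.trans inf_le_left)
    refine le_trans ?_ (Subgroup.map_mono (f := (MulAut.conj n⁻¹).toMonoidHom) h1)
    change C ≤ MulAut.conj n⁻¹ • MulAut.conj n • C
    rw [← mul_smul, ← map_mul, inv_mul_cancel, map_one, one_smul]
  have hM'c : IsCoatom M' := isCoatom_map_conj hM _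
  have hqM' : q ∈ Cfsg.sigma M' := sigma_of_conj_inv rfl hqM
  have hnc : ¬ IsCyclic C := not_isCyclic_of_ea hCe (by rw [hC2]; nlinarith [hq.out.two_le])
  have hNC := normalizer_le_of_noncyclic hG hM'c hqM' hC.isPGroup hCM' hnc
  obtain ⟨EL, hEL, hCEL⟩ := exists_compl_ge hG hL hCL fun t ht htd => by
    rw [hC2] at htd; rwa [(Nat.prime_dvd_prime_iff_eq ht hq.out).mp (ht.dvd_of_dvd_pow htd)]
  obtain ⟨C₂, hC'⟩ := exists_exc hG hL hqs hCL hCe hC2
  obtain ⟨Bp, hBpE, hBpe, hBp2, -⟩ := exists_ea_in_compl hG hL hEL hpL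
  have h3 := card_le_of_pRankLE (pRankLE_conj n⁻¹ hp1)
    ((hBpE.trans (hC'.compl_le_normalizer hG hEL hCEL)).trans hNC) hBpe
  rw [hBp2, pow_one] at h3
  nlinarith [hp.out.two_le]

omit [Finite G] hp in
theorem isSylowIn_of_le [Finite G] {q : ℕ} [hq : Fact q.Prime] {N H S : Subgroup G} (hS : IsSylowIn q N S)
    (hSH : S ≤ H) (hHN : H ≤ N) : IsSylowIn q H S := by
  refine ⟨hSH, hS.2.trans (congrArg (q ^ ·) (le_antisymm ?_ ?_))⟩
  · exact (hq.out.pow_dvd_iff_le_factorization Nat.card_pos.ne').mp (hS.2 ▸ Subgroup.card_dvd_of_le hSH)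
  · exact (Nat.factorization_le_iff_dvd Nat.card_pos.ne' Nat.card_pos.ne').mpr (Subgroup.card_dvd_of_le hHN) q

/-- The case `q ∉ σ(L)`. -/
theorem case_not_sigma (hG : IsMinSimpleOddOrder G) {M L P R K : Subgroup G} (hM : IsCoatom M) (hL : IsCoatom L)
    (hp1 : p ∈ Cfsg.tau1 M) (hPM : P ≤ M) (hP : Nat.card P = p) (hNP : Subgroup.normalizer (P : Set G) ≤ L)
    {r : ℕ} [hr : Fact r.Prime] (hR : Nat.card R = r) (hRP : R ≤ Subgroup.centralizer (P : Set G))
    (hrL : r ∈ Cfsg.tau1 L) {q : ℕ} [hq : Fact q.Prime] (hqK : IsPGroup q K) (hK : K ≤ Cfsg.sigmaCore M ⊓ L)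
    (hRK : R ≤ Subgroup.normalizer (K : Set G)) (hne : ⁅R, K⁆ ≠ ⊥) (hrq : r ≠ q) (hqL : q ∉ Cfsg.sigma L) :
    False := by
  obtain ⟨-, hps, -, hpM', hp1M⟩ := hp1
  obtain ⟨hpL, hconj⟩ := normalizer_sup_facts hG hL hps hp1M hP hNP
  have hPL : P ≤ L := Subgroup.le_normalizer.trans hNP
  have hPp : IsPGroup p P := IsPGroup.of_card (n := 1) (hP.trans (pow_one p).symm)
  have hKP : K ≤ Subgroup.centralizer (P : Set G) := hK.trans (Subgroup.le_centralizer_iff.mp
    (centralizes_inter hG hM hL hconj hps hPM hPL hP (hpL.elim Or.inl fun h => Or.inr (Or.inl h))))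
  have hRL : R ≤ L := hRP.trans ((Subgroup.centralizer_le_normalizer _).trans hNP)
  set K2 := ⁅R, K⁆ with hK2
  have hK2K : K2 ≤ K := Subgroup.le_normalizer_iff_commutator_le_right.mp hRK
  have hK2d : K2 ≤ ⁅L, L⁆ := Subgroup.commutator_mono hRL (hK.trans inf_le_right)
  have hK2M : K2 ≤ Cfsg.sigmaCore M := hK2K.trans (hK.trans inf_le_left)
  have hqM : q ∈ Cfsg.sigma M := piCoreOf_primes _ M hq.out (((hqK.to_le hK2K).card_eq_or_dvd.resolve_left
    fun e => hne (Subgroup.card_eq_one.mp e)).trans (Subgroup.card_dvd_of_le hK2M))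
  have hqd : q ∣ Nat.card ↥⁅L, L⁆ := ((hqK.to_le hK2K).card_eq_or_dvd.resolve_left
    fun e => hne (Subgroup.card_eq_one.mp e)).trans (Subgroup.card_dvd_of_le hK2d)
  obtain ⟨y, hy, hyo⟩ := exists_orderOf_eq (hqK.to_le hK2K) hne
  set Y := Subgroup.zpowers y with hYdef
  have hY : Nat.card Y = q := by rw [hYdef, Nat.card_zpowers, hyo]
  have hY1 : Y ≠ ⊥ := fun e => by rw [e, Subgroup.card_bot] at hY; exact hq.out.one_lt.ne hY
  have hYK : Y ≤ K := Subgroup.zpowers_le.mpr (hK2K hy)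
  have hYp : IsPGroup q Y := hqK.to_le hYK
  have hYM : Y ≤ M := hYK.trans (hK.trans (inf_le_left.trans (sigmaCore_le M)))
  have hYL : Y ≤ L := hYK.trans (hK.trans inf_le_right)
  have hPY : P ≤ Subgroup.centralizer (Y : Set G) := Subgroup.le_centralizer_iff.mp (hYK.trans hKP)
  have hYtop : Y ≠ ⊤ := fun e => hM.1 (top_le_iff.mp (e ▸ hYM))
  obtain ⟨N, hN, hNY⟩ := exists_maximal_ge (normalizer_ne_top hG hY1 hYtop)
  have hNconj : (∀ g : G, N ≠ M.map (MulAut.conj g).toMonoidHom) → q ∈ Cfsg.sigma N ∨ q ∈ Cfsg.tau2 N := by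
    intro _
    by_cases hs : q ∈ Cfsg.sigma N
    · exact Or.inl hs
    · obtain ⟨h1, -⟩ := rank_two_of_normalizer_le hG hN hs hY hNY
      exact Or.inr ⟨hq.out, hs, pRankLE_two_of_not_mem_sigma hG hN hs, h1⟩
  -- the general end: `p` off `β(N)` seen in `N'` or with rank two
  have hend : (p ∣ Nat.card ↥⁅N, N⁆ ∨ ¬ PRankLE p 1 N) → p ∉ Cfsg.beta N →
      (PRankLE q 1 L ∨ (q ∉ Cfsg.sigma L ∧ p ∈ Cfsg.tau2 L)) → False := by
    intro hp' hpb hql
    by_cases hc : ∀ g : G, N ≠ M.map (MulAut.conj g).toMonoidHom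
    · rcases hNconj hc with hs | ht
      · obtain ⟨h1, h2⟩ := shared_transfer (p := p) hG hM hN hqM hs hc hpb
        rcases hp' with hd | hr1
        · exact hpM' (h1 hd)
        · exact hr1 (h2 hp1M)
      · exact clash_tau2 hG hM hL hN hp1M hP hPM hNP (fun e => hc 1 (by rw [e, map_conj_one])) hqM ht hY hYM hPY
          hNY (Or.inr hp') hql
    · push Not at hc
      obtain ⟨g, hg⟩ := hc
      rcases hp' with hd | hr1
      · rw [hg, card_derived_conj] at hd; exact hpM' hd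
      · exact hr1 (hg ▸ pRankLE_conj g hp1M)
  rcases hpL with hpsL | hpτ
  · by_cases hq1 : PRankLE q 1 L
    swap
    · -- `q ∈ τ₂(L)`: uniqueness
      obtain ⟨u, hu, hu1⟩ := (Subgroup.bot_or_exists_ne_one P).resolve_left
        (fun e => by rw [e, Subgroup.card_bot] at hP; exact hp.out.one_lt.ne hP)
      have huσ : u ∈ Cfsg.sigmaCore L := pGroup_le_sigmaCore hG hL hpsL hPp hPL hu
      have hyhat : y ∈ Cfsg.sigmaHat L := ⟨hYL (Subgroup.mem_zpowers y), u, huσ, hu1,
        (Subgroup.mem_centralizer_iff.mp (hPY hu) y (Subgroup.mem_zpowers y))⟩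
      have hy1 : y ≠ 1 := fun e => by rw [e, orderOf_one] at hyo; exact hq.out.one_lt.ne hyo
      obtain ⟨E, hE⟩ := exists_compl hG hL
      have huniq := tau2_element_unique hG hL hE (hYL (Subgroup.mem_zpowers y)) hy1 (fun t ht hd => by
        rw [hyo] at hd
        rw [(Nat.prime_dvd_prime_iff_eq ht hq.out).mp hd]
        exact ⟨hq.out, hqL, pRankLE_two_of_not_mem_sigma hG hL hqL, hq1⟩) hyhat
      have hCy : Subgroup.centralizer ({y} : Set G) ≤ Subgroup.normalizer (Y : Set G) := by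
        rw [← Subgroup.centralizer_closure, ← Subgroup.zpowers_eq_closure]
        exact Subgroup.centralizer_le_normalizer _
      have hNL : N = L := huniq.2 N hN (hCy.trans hNY)
      subst hNL
      have hne' : N ≠ M := fun e => hconj 1 (by rw [e, map_conj_one])
      obtain ⟨S, hS, hYS⟩ := exists_sylowIn_ge hYp (le_inf hYM hYL)
      obtain ⟨S₀, hS₀⟩ := hS.exists_sylow
      obtain ⟨-, -, hSN'⟩ := S1424.result hG M hM q hqM Y hYp hY1 hYM N hN hne' hNY S₀ (hS₀.symm ▸ hYS)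
      rw [hS₀] at hSN'
      have hSL : IsSylowIn q N S := isSylowIn_of_not_dvd_relIndex hS.isPGroup (hS.1.trans inf_le_right) hSN'
      obtain ⟨B, hBS, hB, hB2⟩ := exists_ea_in_sylow hq1 (pRankLE_two_of_not_mem_sigma hG hN hqL) hSL
      obtain ⟨B₁, hB'⟩ := exists_exc hG hN hqL (hBS.trans hSL.1) hB hB2
      have h0 := hB'.inf_maximal hG hM hne'.symm (hBS.trans (hS.1.trans inf_le_left))
      exact hu1 (Subgroup.mem_bot.mp (h0 ▸ ⟨huσ, hPM hu⟩))
    by_cases hpb : p ∈ Cfsg.beta L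
    · -- Frobenius action on a Sylow `p`-subgroup of `L`
      have hTne : p ∣ Nat.card L := hP ▸ Subgroup.card_dvd_of_le hPL
      have hq2 : q ≠ 2 := prime_ne_two hG (hqd.trans (Subgroup.card_subgroup_dvd_card _))
      haveI hK2c : IsCyclic K2 :=
        isCyclic_of_pRankLE_one hq2 hq1 (hK2K.trans (hK.trans inf_le_right)) (hqK.to_le hK2K)
      have hRK2 : R ≤ Subgroup.normalizer (K2 : Set G) := Subgroup.normalizer_commutator_ge_left _ _
      have hRY : R ≤ Subgroup.normalizer (Y : Set G) := fun x hx => Subgroup.mem_normalizer_iff_map_conj_eq.mpr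
        (eq_of_le_cyclic hK2c ((Subgroup.map_mono (Subgroup.zpowers_le.mpr hy)).trans
          (Subgroup.mem_normalizer_iff_map_conj_eq.mp (hRK2 hx)).le) (Subgroup.zpowers_le.mpr hy)
          (Subgroup.card_map_of_injective (MulAut.conj x).injective))
      have hRp : IsPGroup r R := IsPGroup.of_card (n := 1) (hR.trans (pow_one r).symm)
      have hRsolv : Group.IsSolvable R := by haveI := hRp.isNilpotent; infer_instance
      have hcopK : (Nat.card R).Coprime (Nat.card K) := coprime_of_pGroups hrq hRp hqK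
      have hRYne : ⁅R, Y⁆ = Y := by
        refine le_antisymm (Subgroup.le_normalizer_iff_commutator_le_right.mp hRY) ?_
        rcases (hYp.to_le (Subgroup.le_normalizer_iff_commutator_le_right.mp hRY)).card_eq_or_dvd with e | e
        · exfalso
          have hc : Y ≤ Subgroup.centralizer (R : Set G) :=
            Subgroup.le_centralizer_iff.mp (Subgroup.commutator_eq_bot_iff_le_centralizer.mp (Subgroup.card_eq_one.mp e))
          haveI : IsMulCommutative K2 := IsCyclic.isMulCommutative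
          have hd := Basics.inf_centralizer_inf_commutator_eq_bot R K2 hRK2
            (hcopK.coprime_dvd_right (Subgroup.card_dvd_of_le hK2K))
          have hy2 : y ∈ ⁅K2, R⁆ := by
            rw [hK2, Subgroup.commutator_comm R K,
              Basics.commutator_commutator_eq R K hRK hcopK (Or.inl hRsolv), Subgroup.commutator_comm]
            exact hy
          have h0 : y ∈ K2 ⊓ Subgroup.centralizer (R : Set G) ⊓ ⁅K2, R⁆ := ⟨⟨hy, hc (Subgroup.mem_zpowers y)⟩, hy2⟩
          rw [hd, Subgroup.mem_bot] at h0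
          rw [h0, orderOf_one] at hyo
          exact hq.out.one_lt.ne hyo
        · exact (Subgroup.eq_of_le_of_card_ge (Subgroup.le_normalizer_iff_commutator_le_right.mp hRY)
            (hY ▸ Nat.le_of_dvd Nat.card_pos e)).ge
      -- an invariant Sylow subgroup containing `P`
      set A := Y ⊔ R with hA
      have hAd : Nat.card A ∣ q * r := by
        rw [← hY, ← hR]
        exact ⟨_, Basics.card_mul_card_eq_card_sup_mul_card_inf hRY⟩
      have hAL : A ≤ L := sup_le hYL hRL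
      have hrs : r ∉ Cfsg.sigma L := hrL.2.1
      have hcop : (Nat.card A).Coprime (Nat.card (Cfsg.sigmaCore L)) := Nat.coprime_of_dvd fun t ht h1 h2 => by
        rcases ht.dvd_mul.mp (h1.trans hAd) with h | h
        · exact hqL ((Nat.prime_dvd_prime_iff_eq ht hq.out).mp h ▸ piCoreOf_primes _ L ht h2)
        · exact hrs ((Nat.prime_dvd_prime_iff_eq ht hr.out).mp h ▸ piCoreOf_primes _ L ht h2)
      obtain ⟨T, hT, hPT, hAT⟩ := Basics.exists_invariant_isSylowIn_ge A (Cfsg.sigmaCore L)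
        (hAL.trans (le_normalizer_sigmaCore L)) hcop
        (Or.inl (Basics.isSolvable_of_le hAL (isSolvable_of_ne_top hG hL.1))) p P
        (pGroup_le_sigmaCore hG hL hpsL hPp hPL) hPp
        (sup_le (Subgroup.le_centralizer_iff.mp hPY |>.trans (Subgroup.centralizer_le_normalizer _))
          (hRP.trans (Subgroup.centralizer_le_normalizer _)))
      have hTsy : IsSylowIn p L T := by
        refine ⟨hT.1.trans (sigmaCore_le L), hT.2.trans (congrArg (p ^ ·) ?_)⟩
        have h1 := Subgroup.card_mul_index ((Cfsg.sigmaCore L).subgroupOf L)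
        rw [Basics.card_subgroupOf (sigmaCore_le L)] at h1
        rw [← h1, Nat.factorization_mul Nat.card_pos.ne' Subgroup.index_ne_zero_of_finite, Finsupp.add_apply,
          Nat.factorization_eq_zero_of_not_dvd (n := ((Cfsg.sigmaCore L).subgroupOf L).index)
            ((sigmaCore_hall hG hL).1.2.2 p hp.out hpsL), add_zero]
      have hTnc : ¬ IsCyclic T := fun hc => hpb.1.2 (fun X hXc hXe => (pRankLE_one_of_cyclic_sylow hTsy hc X hXc hXe).trans
        (Nat.pow_le_pow_right hp.out.pos (by norm_num)))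
      have hTα : T ≤ Cfsg.alphaCore L :=
        le_of_pGroup_hall (alphaCore_hall hG hL).1 (le_normalizer_alphaCore L) hTsy.1 hT.isPGroup hpb.1
      have hcR := isCyclic_inf_centralizer hG hL hrs hrL.2.2.2.2 hR hRL hT.isPGroup hTα
      have hcY := isCyclic_inf_centralizer hG hL hqL hq1 hY hYL hT.isPGroup hTα
      have hpq : p ≠ q := fun e => hqL (e ▸ hpsL)
      refine cyclic_fixed_false hT.isPGroup hTnc hP hPT hR (prime_ne_two hG (hR ▸ Subgroup.card_subgroup_dvd_card R))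
        (prime_ne_two hG (hP ▸ Subgroup.card_subgroup_dvd_card P)) (fun e => hrs (e ▸ hpsL))
        (odd_card_subgroup hG Y) (by rw [hY]; exact fun h => hrq ((Nat.prime_dvd_prime_iff_eq hr.out hq.out).mp h))
        (by rw [hY]; exact fun h => hpq ((Nat.prime_dvd_prime_iff_eq hp.out hq.out).mp h)) hRY
        (le_sup_left.trans hAT) (le_sup_right.trans hAT) (Subgroup.le_centralizer_iff.mp hPY) hRP hcR ?_
      rw [hRYne]; exact hcY
    · -- `p ∣ |N'|` from the Frattini argument in `L`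
      obtain ⟨Q0, hQ0, hYQ⟩ := exists_sylowIn_ge hYp hYL
      haveI hQc : IsCyclic Q0 :=
        isCyclic_of_pRankLE_one (prime_ne_two hG (hqd.trans (Subgroup.card_subgroup_dvd_card _))) hq1 hQ0.1 hQ0.isPGroup
      obtain ⟨E, hE, hQE⟩ := exists_compl_ge hG hL hQ0.1 fun t ht htd => by
        obtain ⟨k, hk⟩ := IsPGroup.iff_card.mp hQ0.isPGroup
        rw [hk] at htd
        rwa [(Nat.prime_dvd_prime_iff_eq ht hq.out).mp (ht.dvd_of_dvd_pow htd)]
      have hQE' : IsSylowIn q E Q0 := isSylowIn_of_le hQ0 hQE hE.1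
      have hQD : Q0 ≤ ⁅L, L⁆ := (sylow_le_derived_of_rank_one hG hE.1 hq1
        (dvd_card_derived_compl hG hL hE hq.out hqL hqd) hQE').trans (Subgroup.commutator_mono hE.1 hE.1)
      have hQsy : IsSylowIn q ⁅L, L⁆ Q0 := isSylowIn_of_le hQ0 hQD (Subgroup.commutator_le_self L)
      have hW : L ⊓ Subgroup.normalizer (Q0 : Set G) ≤ N := inf_le_right.trans (le_trans (fun x hx =>
        Subgroup.mem_normalizer_iff_map_conj_eq.mpr (eq_of_le_cyclic hQc
          ((Subgroup.map_mono hYQ).trans (Subgroup.mem_normalizer_iff_map_conj_eq.mp hx).le) hYQ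
          (Subgroup.card_map_of_injective (MulAut.conj x).injective))) hNY)
      have hdL : p ∣ Nat.card ↥⁅L, L⁆ := hP ▸ Subgroup.card_dvd_of_le
        ((pGroup_le_sigmaCore hG hL hpsL hPp hPL).trans (sigmaCore_le_derived hG hL))
      have hdN : p ∣ Nat.card ↥⁅N, N⁆ := (dvd_derived_of_supplement inf_le_left
        (exists_frattini_beta hG hL (not_beta_of_not_sigma hG hL hq.out hqL) hQsy) hpb hdL).trans
        (Subgroup.card_dvd_of_le (Subgroup.commutator_mono hW hW))
      refine hend (Or.inl hdN) (fun hb => ?_) (Or.inl hq1)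
      have hpN : p ∈ Cfsg.sigma N := by
        by_contra hs
        exact hb.1.2 (pRankLE_two_of_not_mem_sigma hG hN hs)
      obtain ⟨g, hg⟩ := exists_conj_of_rank_three hG hL hN hpsL hpN hb.1.2
      by_cases hs : q ∈ Cfsg.sigma N
      · exact hqL (sigma_of_conj (hg ▸ hs))
      · exact (rank_two_of_normalizer_le hG hN hs hY hNY).1 (hg ▸ pRankLE_conj g hq1)
  · -- `p ∈ τ₂(L)`
    have hpsL := hpτ.2.1
    have hcd : Nat.card ↥(P ⊔ Y : Subgroup G) ∣ Nat.card P * Nat.card Y := by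
      rw [sup_comm, mul_comm]
      exact ⟨_, Basics.card_mul_card_eq_card_sup_mul_card_inf (hPY.trans (Subgroup.centralizer_le_normalizer _))⟩
    obtain ⟨E, hE, hPYE⟩ := exists_compl_ge hG hL (sup_le hPL hYL) fun t ht htd => by
      rcases ht.dvd_mul.mp (htd.trans hcd) with h | h
      · rw [hP] at h; rwa [(Nat.prime_dvd_prime_iff_eq ht hp.out).mp h]
      · rw [hY] at h; rw [(Nat.prime_dvd_prime_iff_eq ht hq.out).mp h]; exact hqL
    obtain ⟨B, hBE, hB, hB2, B₁, h⟩ := exists_ea_in_compl hG hL hE hpτ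
    have hBY : B ≤ Subgroup.centralizer (Y : Set G) := by
      rw [Subgroup.le_centralizer_iff]
      by_cases hq1 : PRankLE q 1 L
      · obtain ⟨S, hS, hYS⟩ := exists_sylowIn_ge hYp (le_sup_right.trans hPYE)
        have hYD : Y ≤ ⁅E, E⁆ := hYS.trans
          (sylow_le_derived_of_rank_one hG hE.1 hq1 (dvd_card_derived_compl hG hL hE hq.out hqL hqd) hS)
        have hcop : (Nat.card Y).Coprime (Nat.card B) := by
          rw [hY, hB2]
          refine Nat.Coprime.pow_right _ ((Nat.coprime_primes hq.out hp.out).mpr fun e => ?_)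
          subst e
          exact hpτ.2.2.2 hq1
        refine Basics.le_centralizer_of_commutator_commutator_eq_bot Y B
          ((le_sup_right.trans hPYE).trans (h.compl_le_normalizer hG hE hBE)) hcop
          (Or.inl (by haveI := hYp.isNilpotent; infer_instance)) ?_
        rw [Subgroup.commutator_eq_bot_iff_le_centralizer]
        exact (Subgroup.commutator_mono hBE (le_sup_right.trans hPYE)).trans
          ((Subgroup.le_centralizer_iff_isMulCommutative.mpr (derived_compl_commutative hG hL hE)).trans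
            (Subgroup.centralizer_le hYD))
      · intro x hx
        refine h.tau2_element_mem hG hE hBE ((le_sup_right.trans hPYE) hx) fun t ht hd => ?_
        have hd' := hd.trans (Subgroup.orderOf_dvd_natCard Y hx)
        rw [hY] at hd'
        rw [(Nat.prime_dvd_prime_iff_eq ht hq.out).mp hd']
        exact ⟨hq.out, hqL, pRankLE_two_of_not_mem_sigma hG hL hqL, hq1⟩
    have hBN : B ≤ N := hBY.trans ((Subgroup.centralizer_le_normalizer _).trans hNY)
    refine hend (Or.inr fun h1 => ?_) (fun hb => ?_) (Or.inr ⟨hqL, hpτ⟩)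
    · have h3 := card_le_of_pRankLE h1 hBN hB
      rw [hB2, pow_one] at h3
      nlinarith [hp.out.two_le]
    · exact not_isIdealPrime_of_not_sigma hG hL hpsL hpτ.2.2.2 hb.2

/-- The case `q ∈ σ(L)`. -/
theorem case_sigma (hG : IsMinSimpleOddOrder G) {M L P R K : Subgroup G} (hM : IsCoatom M) (hL : IsCoatom L)
    (hp1 : p ∈ Cfsg.tau1 M) (hPM : P ≤ M) (hP : Nat.card P = p) (hNP : Subgroup.normalizer (P : Set G) ≤ L)
    {r : ℕ} [hr : Fact r.Prime] (hRM : R ≤ M) (hrs : r ∉ Cfsg.sigma M) (hR : Nat.card R = r)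
    (hRP : R ≤ Subgroup.centralizer (P : Set G))
    (hrL : r ∈ Cfsg.tau1 L) {q : ℕ} [hq : Fact q.Prime] (hqK : IsPGroup q K) (hK : K ≤ Cfsg.sigmaCore M ⊓ L)
    (hRK : R ≤ Subgroup.normalizer (K : Set G)) (hne : ⁅R, K⁆ ≠ ⊥) (hrq : r ≠ q) (hqL : q ∈ Cfsg.sigma L) :
    False := by
  have hp1' := hp1
  obtain ⟨-, hps, -, hpM', hp1M⟩ := hp1
  obtain ⟨hpL, hconj⟩ := normalizer_sup_facts hG hL hps hp1M hP hNP
  have hconj' : ∀ g : G, M ≠ L.map (MulAut.conj g).toMonoidHom := fun g hg => hconj g⁻¹ (by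
    rw [hg, map_conj_inv_cancel])
  have hPL : P ≤ L := Subgroup.le_normalizer.trans hNP
  have hPp : IsPGroup p P := IsPGroup.of_card (n := 1) (hP.trans (pow_one p).symm)
  have hRL : R ≤ L := hRP.trans ((Subgroup.centralizer_le_normalizer _).trans hNP)
  have hRp : IsPGroup r R := IsPGroup.of_card (n := 1) (hR.trans (pow_one r).symm)
  have hRsolv : Group.IsSolvable R := by haveI := hRp.isNilpotent; infer_instance
  have hqM : q ∈ Cfsg.sigma M := piCoreOf_primes _ M hq.out ((hqK.card_eq_or_dvd.resolve_left fun e => hne (by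
    rw [Subgroup.card_eq_one.mp e, Subgroup.commutator_bot_right])).trans (Subgroup.card_dvd_of_le (hK.trans inf_le_left)))
  rcases hpL with hpsL | hpτ
  swap
  · obtain ⟨E, hE⟩ := exists_compl hG hL
    obtain ⟨B, -, -, -, B₁, h⟩ := exists_ea_in_compl hG hL hE hpτ
    exact not_shared_of_nilpotent hG hM hL (h.isNilpotent hG) hconj hqM hqL
  have hdL : p ∣ Nat.card ↥⁅L, L⁆ := hP ▸ Subgroup.card_dvd_of_le
    ((pGroup_le_sigmaCore hG hL hpsL hPp hPL).trans (sigmaCore_le_derived hG hL))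
  by_cases hpb : p ∈ Cfsg.beta L
  swap
  · exact hpM' ((shared_transfer (p := p) hG hM hL hqM hqL hconj hpb).1 hdL)
  -- now `r ∈ τ₁(M)`
  have hrb : r ∉ Cfsg.beta M := not_beta_of_not_sigma hG hM hr.out hrs
  have hrd : r ∣ Nat.card M := hR ▸ Subgroup.card_dvd_of_le hRM
  have hr1 : PRankLE r 1 M := by
    by_contra h1
    obtain ⟨E, hE⟩ := exists_compl hG hM
    obtain ⟨B, -, -, -, B₁, h⟩ :=
      exists_ea_in_compl hG hM hE (r := r) ⟨hr.out, hrs, pRankLE_two_of_not_mem_sigma hG hM hrs, h1⟩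
    exact not_shared_of_nilpotent hG hL hM (h.isNilpotent hG) hconj' hqL hqM
  have hrM' : ¬ r ∣ Nat.card ↥⁅M, M⁆ := fun hd =>
    hrL.2.2.2.1 ((shared_transfer (p := r) hG hL hM hqL hqM hconj' hrb).1 hd)
  have hrτ : r ∈ Cfsg.tau1 M := ⟨hr.out, hrs, hrd, hrM', hr1⟩
  obtain ⟨H, hH, hNR⟩ := exists_maximal_ge (normalizer_ne_top hG
    (fun e => by rw [e, Subgroup.card_bot] at hR; exact hr.out.one_lt.ne hR) (fun e => hM.1 (top_le_iff.mp (e ▸ hRM))))
  obtain ⟨hrH, hHconj⟩ := normalizer_sup_facts hG hH hrs hr1 hR hNR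
  -- the kernel `K₂`
  set K2 := ⁅R, K⁆ with hK2
  have hK2K : K2 ≤ K := Subgroup.le_normalizer_iff_commutator_le_right.mp hRK
  have hK2p : IsPGroup q K2 := hqK.to_le hK2K
  have hK2L : K2 ≤ L := hK2K.trans (hK.trans inf_le_right)
  have hK2M : K2 ≤ M := hK2K.trans (hK.trans (inf_le_left.trans (sigmaCore_le M)))
  have hRK2 : R ≤ Subgroup.normalizer (K2 : Set G) := Subgroup.normalizer_commutator_ge_left _ _
  have hcopK : (Nat.card R).Coprime (Nat.card K) := coprime_of_pGroups hrq hRp hqK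
  have hRK2eq : ⁅R, K2⁆ = K2 := by
    rw [hK2, Subgroup.commutator_comm R K, Subgroup.commutator_comm R ⁅K, R⁆]
    exact Basics.commutator_commutator_eq R K hRK hcopK (Or.inl hRsolv)
  have hPK : K ≤ Subgroup.centralizer (P : Set G) := hK.trans (Subgroup.le_centralizer_iff.mp
    (centralizes_inter hG hM hL hconj hps hPM hPL hP (Or.inl hpsL)))
  have hPK2 : K2 ≤ Subgroup.centralizer (P : Set G) := hK2K.trans hPK
  have hrp : r ≠ p := fun e => hrL.2.1 (e ▸ hpsL)
  have hpq : p ≠ q := fun e => hps (e ▸ hqM)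
  have hqb : q ∉ Cfsg.beta L := not_beta_of_shared hG hM hL hqM hqL hconj
  have hqb' : q ∉ Cfsg.beta M := not_beta_of_shared hG hL hM hqL hqM hconj'
  -- the normalizer of `K₂` lies in `L`
  have hNK : Subgroup.normalizer (K2 : Set G) ≤ L := by
    set A := K2 ⊔ R with hA
    have hAL : A ≤ L := sup_le hK2L hRL
    obtain ⟨kk, hkk⟩ := IsPGroup.iff_card.mp hK2p
    have hAd : Nat.card A ∣ q ^ kk * r := by
      rw [← hkk, ← hR]
      exact ⟨_, Basics.card_mul_card_eq_card_sup_mul_card_inf hRK2⟩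
    have hAprimes : ∀ t : ℕ, t.Prime → t ∣ Nat.card A → t = q ∨ t = r := fun t ht h1 => by
      rcases ht.dvd_mul.mp (h1.trans hAd) with h | h
      · exact Or.inl ((Nat.prime_dvd_prime_iff_eq ht hq.out).mp (ht.dvd_of_dvd_pow h))
      · exact Or.inr ((Nat.prime_dvd_prime_iff_eq ht hr.out).mp h)
    have hqα : q ∉ Cfsg.alpha L := fun hα => by
      obtain ⟨g, hg⟩ := exists_conj_of_rank_three hG hM hL hqM hqL hα.2
      exact hconj g hg
    have hrα : r ∉ Cfsg.alpha L := fun hα => hrL.2.1 (alpha_subset_sigma hG hL hα)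
    have hcop : (Nat.card A).Coprime (Nat.card (Cfsg.alphaCore L)) := Nat.coprime_of_dvd fun t ht h1 h2 => by
      have := piCoreOf_primes _ L ht h2
      rcases hAprimes t ht h1 with rfl | rfl
      · exact hqα this
      · exact hrα this
    obtain ⟨T, hT, hPT, hAT⟩ := Basics.exists_invariant_isSylowIn_ge A (Cfsg.alphaCore L)
      (hAL.trans (le_normalizer_alphaCore L)) hcop
      (Or.inl (Basics.isSolvable_of_le hAL (isSolvable_of_ne_top hG hL.1))) p P
      (le_of_pGroup_hall (alphaCore_hall hG hL).1 (le_normalizer_alphaCore L) hPL hPp hpb.1) hPp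
      (sup_le (hPK2.trans (Subgroup.centralizer_le_normalizer _)) (hRP.trans (Subgroup.centralizer_le_normalizer _)))
    have hTsy : IsSylowIn p L T := by
      refine ⟨hT.1.trans (alphaCore_le L), hT.2.trans (congrArg (p ^ ·) ?_)⟩
      have h1 := Subgroup.card_mul_index ((Cfsg.alphaCore L).subgroupOf L)
      rw [Basics.card_subgroupOf (alphaCore_le L)] at h1
      rw [← h1, Nat.factorization_mul Nat.card_pos.ne' Subgroup.index_ne_zero_of_finite, Finsupp.add_apply,
        Nat.factorization_eq_zero_of_not_dvd (n := ((Cfsg.alphaCore L).subgroupOf L).index)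
          ((alphaCore_hall hG hL).1.2.2 p hp.out hpb.1), add_zero]
    have hTnc : ¬ IsCyclic T := fun hc => hpb.1.2 (fun X hXc hXe => (pRankLE_one_of_cyclic_sylow hTsy hc X hXc hXe).trans
      (Nat.pow_le_pow_right hp.out.pos (by norm_num)))
    have hcR := isCyclic_inf_centralizer hG hL hrL.2.1 hrL.2.2.2.2 hR hRL hT.isPGroup hT.1
    have hp2 : p ≠ 2 := prime_ne_two hG (hP ▸ Subgroup.card_subgroup_dvd_card P)
    have hncK : ¬ IsCyclic ↥(T ⊓ Subgroup.centralizer (K2 : Set G)) := fun hc => by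
      refine cyclic_fixed_false hT.isPGroup hTnc hP hPT hR (prime_ne_two hG (hR ▸ Subgroup.card_subgroup_dvd_card R))
        hp2 hrp (odd_card_subgroup hG K2) (fun h => hrq ((Nat.prime_dvd_prime_iff_eq hr.out hq.out).mp
          (hr.out.dvd_of_dvd_pow (hkk ▸ h)))) (fun h => hpq ((Nat.prime_dvd_prime_iff_eq hp.out hq.out).mp
          (hp.out.dvd_of_dvd_pow (hkk ▸ h)))) hRK2
        (le_sup_left.trans hAT) (le_sup_right.trans hAT) hPK2 hRP hcR ?_
      rw [hRK2eq]; exact hc
    obtain ⟨V, hV, hVc⟩ := exists_ea_two_of_not_isCyclic hp2 (hT.isPGroup.to_le inf_le_left) hncK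
    have hu := inUniqueMaximal_centralizer hG hL hK2L (fun t ht htd hα => hqα (by
        rw [hkk] at htd
        rwa [(Nat.prime_dvd_prime_iff_eq ht hq.out).mp (ht.dvd_of_dvd_pow htd)] at hα))
      (ea_map hV (T ⊓ Subgroup.centralizer (K2 : Set G)).subtype)
      (by rw [Subgroup.card_map_of_injective (Subgroup.subtype_injective _)]; exact hVc)
      ((Subgroup.map_subtype_le V).trans (inf_le_inf_right _ hT.1))
    obtain ⟨N, hN, hNK⟩ := exists_maximal_ge (normalizer_ne_top hG hne (fun e => hM.1 (top_le_iff.mp (e ▸ hK2M))))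
    rwa [hu.unique ⟨hN, inf_le_right.trans ((Subgroup.centralizer_le_normalizer _).trans hNK)⟩
      ⟨hL, inf_le_left⟩] at hNK
  -- a prime of `β(M)` whose fixed points of `R` leave `L`
  obtain ⟨t, ht, htM⟩ : ∃ t, t ∈ Cfsg.beta M ∧ t ∣ Nat.card M := by
    by_contra hno
    push Not at hno
    obtain ⟨g, T, hTL, hTM, hNTL, hNTM⟩ := exists_shared_sylow hG hL hM hqL hqM
    set M' := M.map (MulAut.conj g).toMonoidHom with hM'
    have hM'c := isCoatom_map_conj hM g
    have hqM' : q ∈ Cfsg.sigma M' := sigma_of_conj_inv rfl hqM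
    have hle : (T : Subgroup G) ≤ ⁅M', M'⁆ :=
      (pGroup_le_sigmaCore hG hM'c hqM' T.2 hTM).trans (sigmaCore_le_derived hG hM'c)
    have hbot : Cfsg.piCoreOf (Cfsg.beta M') M' = ⊥ := by
      rw [← Subgroup.card_eq_one]
      by_contra h1
      obtain ⟨t, ht, htd⟩ := Nat.exists_prime_and_dvd h1
      have htb := piCoreOf_primes _ M' ht htd
      have htd' := htd.trans (Subgroup.card_dvd_of_le (Subgroup.map_subtype_le _ :
        Cfsg.piCoreOf (Cfsg.beta M') M' ≤ M'))
      rw [hM', card_map_conj] at htd'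
      refine hno t ?_ htd'
      have := not_mem_beta_conj (N := M') (r := t) g⁻¹
      by_contra hb
      refine absurd htb ?_
      have h2 := not_mem_beta_conj g hb
      exact h2
    have hsup := exists_frattini_beta hG hM'c (not_mem_beta_conj g hqb')
      (isSylowIn_of_not_dvd_relIndex T.2 hle fun h => T.not_dvd_index (h.trans (Subgroup.relIndex_dvd_index_of_le hle)))
    rw [hbot, bot_sup_eq] at hsup
    have hML : M' ≤ L := (hsup.trans inf_le_right).trans hNTL
    exact hconj g (hM'c.le_iff_eq hL.1 |>.mp hML)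
  haveI := Fact.mk ht.1.1
  have hts : t ∈ Cfsg.sigma M := alpha_subset_sigma hG hM ht.1
  have htq : t ≠ q := fun e => hqb' (e ▸ ht)
  -- an invariant Sylow `t`-subgroup of `M_σ`
  set A := (K2 ⊔ R) ⊔ P with hA
  have hAM : A ≤ M := sup_le (sup_le hK2M hRM) hPM
  obtain ⟨kk, hkk⟩ := IsPGroup.iff_card.mp hK2p
  have hAd : Nat.card A ∣ q ^ kk * r * p := by
    have h1 : Nat.card ↥(K2 ⊔ R : Subgroup G) ∣ q ^ kk * r := by
      rw [← hkk, ← hR]
      exact ⟨_, Basics.card_mul_card_eq_card_sup_mul_card_inf hRK2⟩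
    refine dvd_trans ?_ (mul_dvd_mul_right h1 p)
    rw [← hP]
    exact ⟨_, Basics.card_mul_card_eq_card_sup_mul_card_inf ((Subgroup.le_centralizer_iff.mp
      (sup_le hPK2 hRP)).trans (Subgroup.centralizer_le_normalizer _))⟩
  have htA : ¬ t ∣ Nat.card A := fun h1 => by
    rcases ht.1.1.dvd_mul.mp (h1.trans hAd) with h | h
    · rcases ht.1.1.dvd_mul.mp h with h | h
      · exact htq ((Nat.prime_dvd_prime_iff_eq ht.1.1 hq.out).mp (ht.1.1.dvd_of_dvd_pow h))
      · exact hrs ((Nat.prime_dvd_prime_iff_eq ht.1.1 hr.out).mp h ▸ hts)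
    · exact hps ((Nat.prime_dvd_prime_iff_eq ht.1.1 hp.out).mp h ▸ hts)
  have hBn : M ≤ Subgroup.normalizer (Cfsg.piCoreOf (Cfsg.beta M) M : Set G) := le_normalizer_piCoreOf_self _ M
  have hcopB : (Nat.card A).Coprime (Nat.card (Cfsg.piCoreOf (Cfsg.beta M) M)) := Nat.coprime_of_dvd fun s hs h1 h2 => by
    have hsb := piCoreOf_primes _ M hs h2
    haveI := Fact.mk hs
    rcases hs.dvd_mul.mp (h1.trans hAd) with h | h
    · rcases hs.dvd_mul.mp h with h | h
      · exact hqb' ((Nat.prime_dvd_prime_iff_eq hs hq.out).mp (hs.dvd_of_dvd_pow h) ▸ hsb)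
      · exact hrb ((Nat.prime_dvd_prime_iff_eq hs hr.out).mp h ▸ hsb)
    · exact not_beta_of_not_sigma hG hM hp.out hps ((Nat.prime_dvd_prime_iff_eq hs hp.out).mp h ▸ hsb)
  obtain ⟨W, hW, hAW⟩ := Basics.exists_invariant_isSylowIn A (Cfsg.piCoreOf (Cfsg.beta M) M) (hAM.trans hBn) hcopB
    (Or.inl (Basics.isSolvable_of_le hAM (isSolvable_of_ne_top hG hM.1))) t
  have hWM : W ≤ M := hW.1.trans (Subgroup.map_subtype_le _)
  have hWsy : IsSylowIn t M W := by
    refine ⟨hWM, hW.2.trans (congrArg (t ^ ·) ?_)⟩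
    have hBM : Cfsg.piCoreOf (Cfsg.beta M) M ≤ M := Subgroup.map_subtype_le _
    have h1 := Subgroup.card_mul_index ((Cfsg.piCoreOf (Cfsg.beta M) M).subgroupOf M)
    rw [Basics.card_subgroupOf hBM] at h1
    rw [← h1, Nat.factorization_mul Nat.card_pos.ne' Subgroup.index_ne_zero_of_finite, Finsupp.add_apply,
      Nat.factorization_eq_zero_of_not_dvd (n := ((Cfsg.piCoreOf (Cfsg.beta M) M).subgroupOf M).index)
        ((S1414.result hG M hM).1.2.2 t ht.1.1 ht), add_zero]
  have hWL : ¬ W ≤ L := fun hle => by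
    obtain ⟨W₀, hW₀⟩ := hWsy.exists_sylow
    obtain ⟨Tg, hTg⟩ := sigma_sylow hG hM hts W₀
    have h3 : ¬ PRankLE t 2 L := fun h3 => ht.1.2 fun X hXc hXe => by
      obtain ⟨S, hS, hXS⟩ := exists_sylowIn_ge (isPGroup_of_exponent (ea_map ⟨hXc, hXe⟩ M.subtype).2)
        (Subgroup.map_subtype_le X)
      obtain ⟨k, -, ek⟩ := hS.exists_conj hWsy
      rw [← Subgroup.card_map_of_injective M.subtype_injective, ← Basics.card_conj_smul k]
      exact card_le_of_pRankLE h3 ((ek ▸ Subgroup.pointwise_smul_le_pointwise_smul_iff.mpr hXS : _ ≤ W).trans hle)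
        (ea_map (ea_map ⟨hXc, hXe⟩ _) _)
    have htL : t ∈ Cfsg.sigma L := by
      by_contra hs
      exact h3 (pRankLE_two_of_not_mem_sigma hG hL hs)
    obtain ⟨g, hg⟩ := exists_conj_of_rank_three hG hM hL hts htL h3
    exact hconj g hg
  have hfix : ¬ W ⊓ Subgroup.centralizer (R : Set G) ≤ L := fun hle => hWL <| by
    have hV : W ≤ W ⊓ L := by
      refine le_of_fixed_le hW.isPGroup inf_le_left hR (prime_ne_two hG (hR ▸ Subgroup.card_subgroup_dvd_card R))
        (prime_ne_two hG (htM.trans (Subgroup.card_subgroup_dvd_card M))) (fun e => hrs (e ▸ hts))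
        (odd_card_subgroup hG K2) (fun h => hrq ((Nat.prime_dvd_prime_iff_eq hr.out hq.out).mp
          (hr.out.dvd_of_dvd_pow (hkk ▸ h)))) (fun h => htq ((Nat.prime_dvd_prime_iff_eq ht.1.1 hq.out).mp
          (ht.1.1.dvd_of_dvd_pow (hkk ▸ h)))) hRK2 ((le_sup_left.trans le_sup_left).trans hAW)
        ((le_sup_right.trans le_sup_left).trans hAW) ?_ ?_ (le_inf inf_le_left hle) ?_
      · exact (le_inf ((le_sup_left.trans le_sup_left).trans hAW) (hK2L.trans Subgroup.le_normalizer)).trans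
          le_normalizer_inf'
      · exact (le_inf ((le_sup_right.trans le_sup_left).trans hAW) (hRL.trans Subgroup.le_normalizer)).trans
          le_normalizer_inf'
      · rw [hRK2eq]
        exact le_inf inf_le_left (inf_le_right.trans ((Subgroup.centralizer_le_normalizer _).trans hNK))
    exact hV.trans inf_le_right
  set K' := W ⊓ Subgroup.centralizer (R : Set G) with hK'
  have hWσ : W ≤ Cfsg.sigmaCore M := pGroup_le_sigmaCore hG hM hts hW.isPGroup hWM
  have hK'H : K' ≤ Cfsg.sigmaCore M ⊓ H :=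
    le_inf (inf_le_left.trans hWσ) (inf_le_right.trans ((Subgroup.centralizer_le_normalizer _).trans hNR))
  have hPH : P ≤ H := (Subgroup.le_centralizer_iff.mp hRP).trans ((Subgroup.centralizer_le_normalizer _).trans hNR)
  have hnc : ¬ K' ≤ Subgroup.centralizer (P : Set G) := fun hle =>
    hfix (hle.trans ((Subgroup.centralizer_le_normalizer _).trans hNP))
  have hpH : p ∈ Cfsg.tau1 H := by
    have hnot : ¬ (p ∈ Cfsg.sigma H ∨ p ∈ Cfsg.tau2 H ∨ p ∈ Cfsg.tau3 H) := fun h =>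
      hnc (hK'H.trans (Subgroup.le_centralizer_iff.mp (centralizes_inter hG hM hH hHconj hps hPM hPH hP h)))
    push Not at hnot
    obtain ⟨h1, h2, h3⟩ := hnot
    have hd : p ∣ Nat.card H := hP ▸ Subgroup.card_dvd_of_le hPH
    have hr1H : PRankLE p 1 H := by
      by_contra h
      exact h2 ⟨hp.out, h1, pRankLE_two_of_not_mem_sigma hG hH h1, h⟩
    exact ⟨hp.out, h1, hd, fun hd' => h3 ⟨hp.out, h1, hd', hr1H⟩, hr1H⟩
  refine case_not_sigma (p := r) hG hM hH hrτ hRM hR hNR hP (Subgroup.le_centralizer_iff.mp hRP) hpH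
    (hW.isPGroup.to_le inf_le_left) hK'H ?_ ?_ (fun e => hps (e ▸ hts)) (fun htH => ?_)
  · exact (le_inf (le_sup_right.trans hAW) ((Subgroup.le_normalizer.trans'
      (Subgroup.le_centralizer_iff.mp hRP)))).trans le_normalizer_inf'
  · intro h0
    rw [Subgroup.commutator_comm, Subgroup.commutator_eq_bot_iff_le_centralizer] at h0
    exact hnc h0
  · exact not_beta_of_shared hG hM hH hts htH hHconj ⟨⟨ht.1.1, fun h3 => by
      obtain ⟨g, hg⟩ := exists_conj_of_rank_three hG hH hM htH hts ht.1.2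
      exact hHconj g⁻¹ (by rw [hg, map_conj_inv_cancel])⟩, ht.2⟩

/-- BG 13.4. -/
theorem cent_tau1_le (hG : IsMinSimpleOddOrder G) {M P R : Subgroup G} (hM : IsCoatom M)
    (hp1 : p ∈ Cfsg.tau1 M) (hPM : P ≤ M) (hP : Nat.card P = p) {r : ℕ} [hr : Fact r.Prime] (hRM : R ≤ M)
    (hrs : r ∉ Cfsg.sigma M) (hR : Nat.card R = r) (hRP : R ≤ Subgroup.centralizer (P : Set G)) :
    Cfsg.sigmaCore M ⊓ Subgroup.centralizer (P : Set G) ≤ Subgroup.centralizer (R : Set G) := by
  obtain ⟨L, hL, hNP⟩ := exists_maximal_ge (normalizer_ne_top hG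
    (fun e => by rw [e, Subgroup.card_bot] at hP; exact hp.out.one_lt.ne hP) (fun e => hM.1 (top_le_iff.mp (e ▸ hPM))))
  refine le_trans (le_inf inf_le_left (inf_le_right.trans ((Subgroup.centralizer_le_normalizer _).trans hNP))
    : _ ≤ Cfsg.sigmaCore M ⊓ L) ?_
  obtain ⟨hpL, hconj⟩ := normalizer_sup_facts hG hL hp1.2.1 hp1.2.2.2.2 hP hNP
  have hRL : R ≤ L := hRP.trans ((Subgroup.centralizer_le_normalizer _).trans hNP)
  by_cases hrL : r ∈ Cfsg.sigma L ∨ r ∈ Cfsg.tau2 L ∨ r ∈ Cfsg.tau3 L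
  · exact Subgroup.le_centralizer_iff.mp (centralizes_inter hG hM hL hconj hrs hRM hRL hR hrL)
  push Not at hrL
  obtain ⟨h1, h2, h3⟩ := hrL
  have hd : r ∣ Nat.card L := hR ▸ Subgroup.card_dvd_of_le hRL
  have hr1L : PRankLE r 1 L := by
    by_contra h
    exact h2 ⟨hr.out, h1, pRankLE_two_of_not_mem_sigma hG hL h1, h⟩
  have hrL : r ∈ Cfsg.tau1 L := ⟨hr.out, h1, hd, fun hd' => h3 ⟨hr.out, h1, hd', hr1L⟩, hr1L⟩
  have hRp : IsPGroup r R := IsPGroup.of_card (n := 1) (hR.trans (pow_one r).symm)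
  set C := Cfsg.sigmaCore M ⊓ L with hC
  refine le_of_sylows fun q hq hqd => ?_
  haveI := Fact.mk hq
  obtain ⟨Q, hQ, hRQ⟩ := Basics.exists_invariant_isSylowIn R C
    ((le_inf (hRM.trans (le_normalizer_sigmaCore M)) (hRL.trans Subgroup.le_normalizer)).trans le_normalizer_inf')
    (coprime_of_pGroup hRp fun h => not_dvd_sigmaCore hr.out hrs (h.trans (Subgroup.card_dvd_of_le (inf_le_left : C ≤ _))))
    (Or.inl (by haveI := hRp.isNilpotent; infer_instance)) q
  refine ⟨Q, hQ, ?_⟩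
  by_contra hne
  have hcm : ⁅R, Q⁆ ≠ ⊥ := fun h0 =>
    hne (Subgroup.le_centralizer_iff.mp (Subgroup.commutator_eq_bot_iff_le_centralizer.mp h0))
  have hrq : r ≠ q := fun e => hrs (e ▸ piCoreOf_primes _ M hq (hqd.trans (Subgroup.card_dvd_of_le (inf_le_left : C ≤ _))))
  by_cases hqL : q ∈ Cfsg.sigma L
  · exact case_sigma hG hM hL hp1 hPM hP hNP hRM hrs hR hRP hrL hQ.isPGroup hQ.1 hRQ hcm hrq hqL
  · exact case_not_sigma hG hM hL hp1 hPM hP hNP hR hRP hrL hQ.isPGroup hQ.1 hRQ hcm hrq hqL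

end Cfsg.Agent.OddLocal
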