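import Cfsg.Agent.Lib.OddLocal.TauTwoCore
import Cfsg.Agent.Lib.OddLocal.NonAbUnique
import Cfsg.Agent.S1414
import Cfsg.Agent.S1424

/-! Maximal subgroups sharing a `σ`-prime, and BG 13.1. -/

set_option autoImplicit false
set_option linter.unusedSectionVars false
set_option linter.style.haveILetI false

namespace Cfsg.Agent.OddLocal

open scoped commutatorElement Pointwise
open Cfsg
open Basics (IsSylowIn)

universe u

variable {G : Type u} [Group G] [Finite G] {p : ℕ} [hp : Fact p.Prime]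

omit hp in
theorem card_derived_conj (N : Subgroup G) (g : G) :
    Nat.card ↥⁅N.map (MulAut.conj g).toMonoidHom, N.map (MulAut.conj g).toMonoidHom⁆ = Nat.card ↥⁅N, N⁆ := by
  rw [← Subgroup.map_commutator, Subgroup.card_map_of_injective (MulAut.conj g).injective]

omit hp in
theorem card_map_conj (N : Subgroup G) (g : G) :
    Nat.card ↥(N.map (MulAut.conj g).toMonoidHom) = Nat.card N :=
  Subgroup.card_map_of_injective (MulAut.conj g).injective

omit hp in
theorem map_conj_inv_cancel (N : Subgroup G) (g : G) :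
    (N.map (MulAut.conj g).toMonoidHom).map (MulAut.conj g⁻¹).toMonoidHom = N := by
  rw [map_conj_map_conj, inv_mul_cancel, map_conj_one]

omit hp in
theorem pRankLE_conj {r k : ℕ} {N : Subgroup G} (g : G) (h : PRankLE r k N) :
    PRankLE r k (N.map (MulAut.conj g).toMonoidHom) := by
  intro X hXc hXe
  rw [← Subgroup.card_map_of_injective (N.map (MulAut.conj g).toMonoidHom).subtype_injective,
    ← card_map_conj _ g⁻¹]
  refine card_le_of_pRankLE h ?_ (ea_map (ea_map ⟨hXc, hXe⟩ _) _)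
  exact (Subgroup.map_mono (Subgroup.map_subtype_le _)).trans (map_conj_inv_cancel N g).le

omit hp in
theorem sigma_of_conj_inv {M N : Subgroup G} {q : ℕ} {g : G} (hN : N = M.map (MulAut.conj g).toMonoidHom)
    (h : q ∈ Cfsg.sigma M) : q ∈ Cfsg.sigma N :=
  sigma_of_conj (g := g⁻¹) (by rw [hN, map_conj_inv_cancel]; exact h)

omit hp in
theorem not_mem_beta_conj {N : Subgroup G} {r : ℕ} (g : G) (h : r ∉ Cfsg.beta N) :
    r ∉ Cfsg.beta (N.map (MulAut.conj g).toMonoidHom) := fun hb =>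
  h ⟨⟨hb.1.1, fun hr => hb.1.2 (pRankLE_conj g hr)⟩, hb.2⟩

omit hp in
theorem not_beta_of_not_sigma (hG : IsMinSimpleOddOrder G) {M : Subgroup G} (hM : IsCoatom M) {r : ℕ}
    (hr : r.Prime) (h : r ∉ Cfsg.sigma M) : r ∉ Cfsg.beta M := fun hb => by
  haveI := Fact.mk hr
  exact hb.1.2 (pRankLE_two_of_not_mem_sigma hG hM h)

omit hp in
/-- A common `σ`-prime of maximal subgroups that are not conjugate has rank at most two. -/
theorem not_beta_of_shared (hG : IsMinSimpleOddOrder G) {M N : Subgroup G} (hM : IsCoatom M) (hN : IsCoatom N)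
    {q : ℕ} (hqM : q ∈ Cfsg.sigma M) (hqN : q ∈ Cfsg.sigma N)
    (hconj : ∀ g : G, N ≠ M.map (MulAut.conj g).toMonoidHom) : q ∉ Cfsg.beta N := fun hb => by
  haveI := Fact.mk hqM.1
  obtain ⟨g, hg⟩ := exists_conj_of_rank_three hG hM hN hqM hqN hb.1.2
  exact hconj g hg

theorem isSylowIn_of_not_dvd_relIndex {N S : Subgroup G} (hS : IsPGroup p S) (hSN : S ≤ N)
    (h : ¬ p ∣ S.relIndex N) : IsSylowIn p N S := by
  obtain ⟨n, hn⟩ := IsPGroup.iff_card.mp hS
  refine ⟨hSN, ?_⟩
  have h1 := Subgroup.card_mul_index (S.subgroupOf N)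
  rw [Basics.card_subgroupOf hSN] at h1
  rw [← h1, Nat.factorization_mul Nat.card_pos.ne' Subgroup.index_ne_zero_of_finite, Finsupp.add_apply,
    Nat.factorization_eq_zero_of_not_dvd (n := (S.subgroupOf N).index) h, add_zero, hn,
    Nat.Prime.factorization_pow hp.out, Finsupp.single_eq_same]

/-- An elementary abelian subgroup of order `p ^ 2` inside a given Sylow subgroup. -/
theorem exists_ea_in_sylow {N S : Subgroup G} (h1 : ¬ PRankLE p 1 N) (h2 : PRankLE p 2 N) (hS : IsSylowIn p N S) :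
    ∃ B : Subgroup G, B ≤ S ∧ IsElementaryAbelian p B ∧ Nat.card B = p ^ 2 := by
  obtain ⟨B₀, hB₀N, hB₀, hB₀c⟩ := exists_ea_of_not_pRankLE_one h1
  obtain ⟨S₀, hS₀, hBS⟩ := exists_sylowIn_ge (isPGroup_of_exponent hB₀.2) hB₀N
  obtain ⟨k, -, ek⟩ := hS₀.exists_conj hS
  exact ⟨MulAut.conj k • B₀, ek ▸ Subgroup.pointwise_smul_le_pointwise_smul_iff.mpr hBS, ea_map hB₀ _,
    by rw [Basics.card_conj_smul, ea_card_eq_sq h2 hB₀ hB₀N hB₀c]⟩

omit hp in
/-- `N = N_β N_N(Q)` for a Sylow subgroup `Q` of `N'` with prime outside `β(N)`. -/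
theorem exists_frattini_beta (hG : IsMinSimpleOddOrder G) {N : Subgroup G} (hN : IsCoatom N) {q : ℕ}
    [hq : Fact q.Prime] (hqb : q ∉ Cfsg.beta N) {Q : Subgroup G} (hQ : IsSylowIn q ⁅N, N⁆ Q) :
    N ≤ Cfsg.piCoreOf (Cfsg.beta N) N ⊔ (N ⊓ Subgroup.normalizer (Q : Set G)) := by
  set B := Cfsg.piCoreOf (Cfsg.beta N) N with hB
  set D := ⁅N, N⁆ with hD
  obtain ⟨H₀, hH₀, hH₀n⟩ := (betaCore_facts hG hN).2 (commutator N) le_rfl
  set H₁ := H₀.map N.subtype with hH₁
  have hH₁D : H₁ ≤ D := by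
    rw [hH₁, hD, ← N.map_subtype_commutator]
    exact Subgroup.map_mono hH₀.1
  have hf : ∀ t : ℕ, t.Prime → t ∉ Cfsg.beta N → (Nat.card H₁).factorization t = (Nat.card D).factorization t := by
    intro t ht htb
    have h1 := Subgroup.card_mul_index (H₀.subgroupOf (commutator N))
    rw [Basics.card_subgroupOf hH₀.1] at h1
    rw [hD, ← N.map_subtype_commutator, hH₁, Subgroup.card_map_of_injective N.subtype_injective,
      Subgroup.card_map_of_injective N.subtype_injective, ← h1,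
      Nat.factorization_mul Nat.card_pos.ne' Subgroup.index_ne_zero_of_finite, Finsupp.add_apply,
      Nat.factorization_eq_zero_of_not_dvd (n := (H₀.subgroupOf (commutator N)).index)
        (hH₀.2.2 t ht ⟨ht, htb⟩), add_zero]
  haveI hH₁n : Group.IsNilpotent H₁ :=
    Group.nilpotent_of_mulEquiv (Subgroup.equivMapOfInjective H₀ N.subtype N.subtype_injective)
  obtain ⟨S, hS⟩ := exists_sylowIn (q := q) H₁
  have hSD : IsSylowIn q D S := ⟨hS.1.trans hH₁D, hf q hq.out hqb ▸ hS.2⟩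
  obtain ⟨d, hd, ed⟩ := hSD.exists_conj hQ
  have hDn : ∀ x ∈ N, MulAut.conj x • D = D := fun x hx => by
    change (⁅N, N⁆).map (MulAut.conj x).toMonoidHom = ⁅N, N⁆
    rw [Subgroup.map_commutator, map_conj_eq_self hx]
  have hDN : D ≤ N := Subgroup.commutator_le_self N
  have hHQ : MulAut.conj d • H₁ ≤ Subgroup.normalizer (Q : Set G) := by
    rw [← ed]
    obtain ⟨S₁, hS₁⟩ := hS.exists_sylow
    haveI : (S₁ : Subgroup H₁).Normal := Sylow.normal_of_normalizerCondition Group.normalizerCondition_of_isNilpotent S₁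
    haveI : (S₁ : Subgroup H₁).Characteristic := S₁.characteristic_of_normal inferInstance
    have hH : H₁ ≤ Subgroup.normalizer (S : Set G) :=
      hS₁ ▸ Subgroup.le_normalizer.trans (normalizer_le_normalizer_map_characteristic _)
    rw [Basics.normalizer_conj_smul]
    exact Subgroup.pointwise_smul_le_pointwise_smul_iff.mpr hH
  have hDle : D ≤ B ⊔ (N ⊓ Subgroup.normalizer (Q : Set G)) := le_of_sylows fun t ht htd => by
    haveI := Fact.mk ht
    by_cases htb : t ∈ Cfsg.beta N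
    · obtain ⟨T, hT⟩ := exists_sylowIn (q := t) D
      exact ⟨T, hT, (le_of_pGroup_hall (S1414.result hG N hN).1 (le_normalizer_piCoreOf_self _ N)
        (hT.1.trans hDN) hT.isPGroup htb).trans le_sup_left⟩
    · obtain ⟨T, hT⟩ := exists_sylowIn (q := t) H₁
      have hT' : IsSylowIn t D (MulAut.conj d • T) := ⟨(Subgroup.pointwise_smul_le_pointwise_smul_iff.mpr
        (hT.1.trans hH₁D)).trans (hDn d (hDN hd)).le, by rw [Basics.card_conj_smul, hT.2, hf t ht htb]⟩
      exact ⟨_, hT', (le_inf (hT'.1.trans hDN)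
        ((Subgroup.pointwise_smul_le_pointwise_smul_iff.mpr hT.1).trans hHQ)).trans le_sup_right⟩
  intro x hx
  have hxQ : IsSylowIn q D (MulAut.conj x • Q) :=
    ⟨(Subgroup.pointwise_smul_le_pointwise_smul_iff.mpr hQ.1).trans (hDn x hx).le,
      by rw [Basics.card_conj_smul, hQ.2]⟩
  obtain ⟨c, hc, ec⟩ := hxQ.exists_conj hQ
  rw [← mul_smul, ← map_mul, Basics.conj_smul_eq_self_iff] at ec
  rw [show x = c⁻¹ * (c * x) by group]
  exact mul_mem (inv_mem (hDle hc)) (Subgroup.mem_sup_right ⟨mul_mem (hDN hc) hx, ec⟩)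

/-- The derived group off `β(N)` is seen in a supplement of `N_β`. -/
theorem dvd_derived_of_supplement {N W : Subgroup G} (hWN : W ≤ N)
    (hsup : N ≤ Cfsg.piCoreOf (Cfsg.beta N) N ⊔ W) (hpb : p ∉ Cfsg.beta N) (hd : p ∣ Nat.card ↥⁅N, N⁆) :
    p ∣ Nat.card ↥⁅W, W⁆ := by
  set B := piCore (Cfsg.beta N) N with hB
  have hBW : (⊤ : Subgroup N) ≤ B ⊔ W.subgroupOf N := by
    rw [← Subgroup.map_le_map_iff_of_injective N.subtype_injective, Subgroup.map_sup,
      Subgroup.map_subgroupOf_eq_of_le hWN, ← MonoidHom.range_eq_map, Subgroup.range_subtype]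
    exact hsup
  haveI : B.Normal := by rw [hB]; infer_instance
  have h1 : (W.subgroupOf N).map (QuotientGroup.mk' B) = ⊤ := by
    refine eq_top_iff.mpr ?_
    rw [← Subgroup.map_top_of_surjective _ (QuotientGroup.mk'_surjective B)]
    refine (Subgroup.map_mono hBW).trans ?_
    rw [Subgroup.map_sup, QuotientGroup.map_mk'_self, bot_sup_eq]
  have h2 : commutator N ≤ B ⊔ ⁅W.subgroupOf N, W.subgroupOf N⁆ := by
    have h3 : (commutator N).map (QuotientGroup.mk' B) ≤
        ⁅W.subgroupOf N, W.subgroupOf N⁆.map (QuotientGroup.mk' B) := by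
      rw [commutator_def, Subgroup.map_commutator, Subgroup.map_commutator, h1]
      exact Subgroup.commutator_mono le_top le_top
    rw [Subgroup.map_le_map_iff, QuotientGroup.ker_mk', sup_comm] at h3
    exact h3
  have h4 := Subgroup.map_mono (f := N.subtype) h2
  rw [Subgroup.map_subtype_commutator, Subgroup.map_sup, Subgroup.map_commutator,
    Subgroup.map_subgroupOf_eq_of_le hWN] at h4
  have h5 : Nat.card ↥⁅N, N⁆ ∣ Nat.card (B.map N.subtype) * Nat.card ↥⁅W, W⁆ :=
    (Subgroup.card_dvd_of_le h4).trans ⟨_, Basics.card_mul_card_eq_card_sup_mul_card_inf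
      (((Subgroup.commutator_le_self W).trans hWN).trans (le_normalizer_piCoreOf_self _ N))⟩
  refine (hp.out.dvd_mul.mp (hd.trans h5)).resolve_left fun h => hpb ?_
  exact piCoreOf_primes _ N hp.out h

omit hp in
/-- After conjugation, two maximal subgroups with a common `σ`-prime share a Sylow subgroup. -/
theorem exists_shared_sylow (hG : IsMinSimpleOddOrder G) {M N : Subgroup G} (hM : IsCoatom M) (hN : IsCoatom N)
    {q : ℕ} [hq : Fact q.Prime] (hqM : q ∈ Cfsg.sigma M) (hqN : q ∈ Cfsg.sigma N) :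
    ∃ (g : G) (T : Sylow q G), (T : Subgroup G) ≤ M ∧ (T : Subgroup G) ≤ N.map (MulAut.conj g).toMonoidHom ∧
      Subgroup.normalizer ((T : Subgroup G) : Set G) ≤ M ∧
      Subgroup.normalizer ((T : Subgroup G) : Set G) ≤ N.map (MulAut.conj g).toMonoidHom := by
  obtain ⟨S⟩ : Nonempty (Sylow q M) := inferInstance
  obtain ⟨T, hT⟩ := sigma_sylow hG hM hqM S
  obtain ⟨S'⟩ : Nonempty (Sylow q N) := inferInstance
  obtain ⟨T', hT'⟩ := sigma_sylow hG hN hqN S'
  obtain ⟨g, hg⟩ := MulAction.exists_smul_eq G T' T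
  have e : MulAut.conj g • (T' : Subgroup G) = (T : Subgroup G) := by rw [← hg]; rfl
  refine ⟨g, T, hT ▸ Subgroup.map_subtype_le _, ?_, hT ▸ sigma_normalizer_le hG hM hqM S, ?_⟩
  · rw [← e]
    exact Subgroup.map_mono (hT' ▸ Subgroup.map_subtype_le _)
  · rw [← e, Basics.normalizer_conj_smul]
    exact Subgroup.map_mono (hT' ▸ sigma_normalizer_le hG hN hqN S')

omit hp in
/-- If `N_σ` is nilpotent then `σ(N)` is disjoint from `σ(M)` for `M` not conjugate to `N`. -/
theorem not_shared_of_nilpotent (hG : IsMinSimpleOddOrder G) {M N : Subgroup G} (hM : IsCoatom M)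
    (hN : IsCoatom N) (hnil : Group.IsNilpotent (Cfsg.sigmaCore N))
    (hconj : ∀ g : G, N ≠ M.map (MulAut.conj g).toMonoidHom) {q : ℕ} (hqM : q ∈ Cfsg.sigma M) :
    q ∉ Cfsg.sigma N := by
  intro hqN
  haveI := Fact.mk hqM.1
  obtain ⟨g, T, hTM, hTN, hNM, -⟩ := exists_shared_sylow hG hM hN hqM hqN
  set T' := (g⁻¹ • T : Sylow q G) with hT'
  have e : ((T' : Sylow q G) : Subgroup G) = MulAut.conj g⁻¹ • (T : Subgroup G) := rfl
  have hT'N : (T' : Subgroup G) ≤ N := by
    rw [e]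
    exact (Subgroup.map_mono hTN).trans (map_conj_inv_cancel N g).le
  have hNN := le_normalizer_of_nilpotent hG hN hqN T' hT'N hnil
  rw [e, Basics.normalizer_conj_smul] at hNN
  have hle : N.map (MulAut.conj g).toMonoidHom ≤ M := by
    refine le_trans ?_ hNM
    have := Subgroup.map_mono (f := (MulAut.conj g).toMonoidHom) hNN
    refine this.trans ?_
    change MulAut.conj g • MulAut.conj g⁻¹ • Subgroup.normalizer ((T : Subgroup G) : Set G) ≤ _
    rw [← mul_smul, ← map_mul, mul_inv_cancel, map_one, one_smul]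
  refine hconj g⁻¹ ?_
  have heq : M = N.map (MulAut.conj g).toMonoidHom := (isCoatom_map_conj hN g).le_iff_eq hM.1 |>.mp hle
  rw [heq, map_conj_inv_cancel]

/-- Shared `σ`-primes transfer `p ∣ |N'|` and the Sylow `p`-subgroups for `p ∉ β(N)`. -/
theorem shared_transfer (hG : IsMinSimpleOddOrder G) {M N : Subgroup G} (hM : IsCoatom M) (hN : IsCoatom N)
    {q : ℕ} (hqM : q ∈ Cfsg.sigma M) (hqN : q ∈ Cfsg.sigma N)
    (hconj : ∀ g : G, N ≠ M.map (MulAut.conj g).toMonoidHom) (hpb : p ∉ Cfsg.beta N) :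
    (p ∣ Nat.card ↥⁅N, N⁆ → p ∣ Nat.card ↥⁅M, M⁆) ∧ (PRankLE p 1 M → PRankLE p 1 N) := by
  haveI := Fact.mk hqM.1
  obtain ⟨g, T, hTM, hTN, hNTM, hNTN⟩ := exists_shared_sylow hG hM hN hqM hqN
  set N' := N.map (MulAut.conj g).toMonoidHom with hN'
  have hN'c : IsCoatom N' := isCoatom_map_conj hN g
  have hqN' : q ∈ Cfsg.sigma N' := sigma_of_conj_inv rfl hqN
  have hconj' : ∀ x : G, N' ≠ M.map (MulAut.conj x).toMonoidHom := fun x hx => hconj (g⁻¹ * x) (by
    rw [← map_conj_map_conj, ← hx, hN', map_conj_inv_cancel])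
  have hqb := not_beta_of_shared hG hM hN'c hqM hqN' hconj'
  have hTd : IsSylowIn q ⁅N', N'⁆ (T : Subgroup G) := by
    have hle : (T : Subgroup G) ≤ ⁅N', N'⁆ :=
      (pGroup_le_sigmaCore hG hN'c hqN' T.2 hTN).trans (sigmaCore_le_derived hG hN'c)
    refine isSylowIn_of_not_dvd_relIndex T.2 hle fun h => T.not_dvd_index ?_
    exact h.trans (Subgroup.relIndex_dvd_index_of_le hle)
  have hsup := exists_frattini_beta hG hN'c hqb hTd
  set W := N' ⊓ Subgroup.normalizer ((T : Subgroup G) : Set G) with hW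
  have hWM : W ≤ M := inf_le_right.trans hNTM
  have hpb' : p ∉ Cfsg.beta N' := not_mem_beta_conj g hpb
  refine ⟨fun hd => ?_, fun h1 => ?_⟩
  · rw [← card_derived_conj N g] at hd
    exact (dvd_derived_of_supplement inf_le_left hsup hpb' hd).trans
      (Subgroup.card_dvd_of_le (Subgroup.commutator_mono hWM hWM))
  · by_contra hN1
    have hN1' : ¬ PRankLE p 1 N' := fun h => hN1 (by
      have h' := pRankLE_conj g⁻¹ h
      rwa [hN', map_conj_inv_cancel] at h')
    obtain ⟨A, hAN, hA, hAc⟩ := exists_ea_of_not_pRankLE_one hN1'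
    -- a Sylow subgroup of `W` is one of `N'`
    obtain ⟨S, hS⟩ := exists_sylowIn (q := p) W
    have hdvd : Nat.card N' ∣ Nat.card (Cfsg.piCoreOf (Cfsg.beta N') N') * Nat.card W :=
      (Subgroup.card_dvd_of_le hsup).trans ⟨_, Basics.card_mul_card_eq_card_sup_mul_card_inf
        (inf_le_left.trans (le_normalizer_piCoreOf_self _ N'))⟩
    have hf : (Nat.card N').factorization p = (Nat.card W).factorization p := by
      refine le_antisymm ?_ ((Nat.factorization_le_iff_dvd Nat.card_pos.ne' Nat.card_pos.ne').mpr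
        (Subgroup.card_dvd_of_le inf_le_left) p)
      have h := (Nat.factorization_le_iff_dvd Nat.card_pos.ne'
        (mul_ne_zero Nat.card_pos.ne' Nat.card_pos.ne')).mpr hdvd p
      rwa [Nat.factorization_mul Nat.card_pos.ne' Nat.card_pos.ne', Finsupp.add_apply,
        Nat.factorization_eq_zero_of_not_dvd fun h' => hpb' (piCoreOf_primes _ N' hp.out h'), zero_add] at h
    have hS' : IsSylowIn p N' S := ⟨hS.1.trans inf_le_left, hf ▸ hS.2⟩
    obtain ⟨S₀, hS₀, hAS⟩ := exists_sylowIn_ge (isPGroup_of_exponent hA.2) hAN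
    obtain ⟨k, -, ek⟩ := hS₀.exists_conj hS'
    have hle : MulAut.conj k • A ≤ M :=
      (ek ▸ Subgroup.pointwise_smul_le_pointwise_smul_iff.mpr hAS : _ ≤ S).trans (hS.1.trans hWM)
    have h3 := card_le_of_pRankLE h1 hle (ea_map hA _)
    rw [Basics.card_conj_smul, pow_one] at h3
    omega

/-- A subgroup of `L'` centralizes `M_σ ∩ L` by coprimality. -/
theorem centralizes_inter_of_le_derived (hG : IsMinSimpleOddOrder G) {M L P : Subgroup G} (hM : IsCoatom M)
    (hL : IsCoatom L) (hconj : ∀ g : G, L ≠ M.map (MulAut.conj g).toMonoidHom) (hP : IsPGroup p P)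
    (hps : p ∉ Cfsg.sigma M) (hPM : P ≤ M) (hPL : P ≤ ⁅L, L⁆) :
    P ≤ Subgroup.centralizer ((Cfsg.sigmaCore M ⊓ L : Subgroup G) : Set G) := by
  set C := Cfsg.sigmaCore M ⊓ L with hC
  have hPL' : P ≤ L := hPL.trans (Subgroup.commutator_le_self L)
  have hPC : P ≤ Subgroup.normalizer (C : Set G) :=
    (le_inf (hPM.trans (le_normalizer_sigmaCore M)) (hPL'.trans Subgroup.le_normalizer)).trans le_normalizer_inf'
  have hcop := coprime_of_pGroup hP fun h => not_dvd_sigmaCore hp.out hps (h.trans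
    (Subgroup.card_dvd_of_le (inf_le_left : C ≤ _)))
  rw [Subgroup.le_centralizer_iff]
  refine le_of_sylows fun q hq hd => ?_
  haveI := Fact.mk hq
  obtain ⟨Q, hQ, hPQ⟩ := Basics.exists_invariant_isSylowIn P C hPC hcop
    (Or.inl (by haveI := hP.isNilpotent; infer_instance)) q
  refine ⟨Q, hQ, ?_⟩
  rw [Subgroup.le_centralizer_iff]
  have hqs : q ∈ Cfsg.sigma M := piCoreOf_primes _ M hq (hd.trans (Subgroup.card_dvd_of_le (inf_le_left : C ≤ _)))
  have hqb : q ∉ Cfsg.beta L := fun hb => by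
    by_cases hqL : q ∈ Cfsg.sigma L
    · exact not_beta_of_shared hG hM hL hqs hqL hconj hb
    · exact not_beta_of_not_sigma hG hL hq hqL hb
  exact le_centralizer_of_commutator_le hG hL hqb hQ.isPGroup
    (Subgroup.commutator_mono (hQ.1.trans inf_le_right) hPL') hPL (fun h => by
      obtain ⟨k, hk⟩ := IsPGroup.iff_card.mp hP
      exact hps ((Nat.prime_dvd_prime_iff_eq hq hp.out).mp (hq.dvd_of_dvd_pow (hk ▸ h)) ▸ hqs)) hPQ
    (by haveI := hQ.isPGroup.isNilpotent; infer_instance)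

/-- BG 13.1(a). -/
theorem centralizes_inter (hG : IsMinSimpleOddOrder G) {M L P : Subgroup G} (hM : IsCoatom M) (hL : IsCoatom L)
    (hconj : ∀ g : G, L ≠ M.map (MulAut.conj g).toMonoidHom) (hps : p ∉ Cfsg.sigma M) (hPM : P ≤ M) (hPL : P ≤ L)
    (hP : Nat.card P = p) (hτ : p ∈ Cfsg.sigma L ∨ p ∈ Cfsg.tau2 L ∨ p ∈ Cfsg.tau3 L) :
    P ≤ Subgroup.centralizer ((Cfsg.sigmaCore M ⊓ L : Subgroup G) : Set G) := by
  have hPp : IsPGroup p P := IsPGroup.of_card (n := 1) (hP.trans (pow_one p).symm)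
  rcases hτ with hs | hτ2 | ⟨-, hsL, hd, h1⟩
  · exact centralizes_inter_of_le_derived hG hM hL hconj hPp hps hPM
      ((pGroup_le_sigmaCore hG hL hs hPp hPL).trans (sigmaCore_le_derived hG hL))
  · have hsL := hτ2.2.1
    obtain ⟨E, hE, hPE⟩ := exists_compl_ge hG hL hPL fun q hq hd => by
      rw [hP] at hd; rwa [(Nat.prime_dvd_prime_iff_eq hq hp.out).mp hd]
    obtain ⟨B, hBE, hB, hB2, B₁, h⟩ := exists_ea_in_compl hG hL hE hτ2
    have hPB : P ≤ Cfsg.sigmaCore L ⊔ B := (h.le_of_card_prime hG hE hBE hPE hP).trans le_sup_right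
    set C := Cfsg.sigmaCore M ⊓ L with hC
    have hPC : P ≤ Subgroup.normalizer (C : Set G) :=
      (le_inf (hPM.trans (le_normalizer_sigmaCore M)) (hPL.trans Subgroup.le_normalizer)).trans le_normalizer_inf'
    have hcop := coprime_of_pGroup hPp fun hh => not_dvd_sigmaCore hp.out hps (hh.trans
      (Subgroup.card_dvd_of_le (inf_le_left : C ≤ _)))
    rw [Subgroup.le_centralizer_iff, ← Subgroup.commutator_eq_bot_iff_le_centralizer]
    have hle : ⁅C, P⁆ ≤ C ⊓ (Cfsg.sigmaCore L ⊔ B) := by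
      refine le_inf (Subgroup.le_normalizer_iff_commutator_le_left.mp hPC) ?_
      refine (Subgroup.commutator_mono (inf_le_right : C ≤ L) hPB).trans ?_
      exact Subgroup.le_normalizer_iff_commutator_le_right.mp (h.le_normalizer_sup hG)
    rw [eq_bot_iff]
    refine hle.trans (le_of_eq ?_)
    rw [← Subgroup.card_eq_one]
    by_contra h1
    obtain ⟨q, hq, hqd⟩ := Nat.exists_prime_and_dvd h1
    have hqs : q ∈ Cfsg.sigma M := piCoreOf_primes _ M hq
      (hqd.trans (Subgroup.card_dvd_of_le (inf_le_left.trans (inf_le_left : C ≤ _))))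
    have hd := (hqd.trans (Subgroup.card_dvd_of_le inf_le_right)).trans
      ⟨_, Basics.card_mul_card_eq_card_sup_mul_card_inf (hBE.trans (hE.1.trans (le_normalizer_sigmaCore L)))⟩
    rcases hq.dvd_mul.mp hd with hd | hd
    · exact not_shared_of_nilpotent hG hM hL (h.isNilpotent hG) hconj hqs (piCoreOf_primes _ L hq hd)
    · rw [hB2] at hd
      exact hps ((Nat.prime_dvd_prime_iff_eq hq hp.out).mp (hq.dvd_of_dvd_pow hd) ▸ hqs)
  · obtain ⟨E, hE, hPE⟩ := exists_compl_ge hG hL hPL fun q hq hd => by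
      rw [hP] at hd; rwa [(Nat.prime_dvd_prime_iff_eq hq hp.out).mp hd]
    obtain ⟨R, hR, hPR⟩ := exists_sylowIn_ge hPp hPE
    exact centralizes_inter_of_le_derived hG hM hL hconj hPp hps hPM (hPR.trans
      ((sylow_le_derived_of_rank_one hG hE.1 h1 (dvd_card_derived_compl hG hL hE hp.out hsL hd) hR).trans
        (Subgroup.commutator_mono hE.1 hE.1)))

end Cfsg.Agent.OddLocal
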