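import Cfsg.Agent.Lib.OddLocal.Stability
import Cfsg.Agent.Lib.Basics.SchurZassenhaus

/-! The Puig series of a subgroup, inside the ambient group; Puig's theorem for solvable groups of odd order. -/

set_option autoImplicit false
set_option maxHeartbeats 800000

open scoped Pointwise

namespace Cfsg.Agent.OddLocal

variable {G H : Type*} [Group G] [Group H] {p : ℕ}

/-- The subgroup generated by the abelian subgroups of `S` normalized by `X`. -/
def pIn (S X : Subgroup G) : Subgroup G :=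
  sSup {A : Subgroup G | IsMulCommutative A ∧ A ≤ S ∧ X ≤ Subgroup.normalizer (A : Set G)}

/-- The Puig series of `S`, inside the ambient group. -/
def seqIn (S : Subgroup G) : ℕ → Subgroup G
  | 0 => ⊥
  | n + 1 => pIn S (seqIn S n)

/-- `L_*(S)` inside the ambient group. -/
def lowerIn (S : Subgroup G) : Subgroup G := (puigLower S).map S.subtype

/-- `L(S)` inside the ambient group. -/
def upperIn (S : Subgroup G) : Subgroup G := (puigSubgroup S).map S.subtype

theorem seqIn_succ (S : Subgroup G) (n : ℕ) : seqIn S (n + 1) = pIn S (seqIn S n) := rfl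

theorem pIn_le (S X : Subgroup G) : pIn S X ≤ S := sSup_le fun _ h => h.2.1

theorem seqIn_le (S : Subgroup G) : ∀ n, seqIn S n ≤ S
  | 0 => bot_le
  | _ + 1 => pIn_le _ _

theorem le_pIn {S X A : Subgroup G} (hc : IsMulCommutative A) (hA : A ≤ S)
    (hX : X ≤ Subgroup.normalizer (A : Set G)) : A ≤ pIn S X := le_sSup ⟨hc, hA, hX⟩

theorem isMulCommutative_map {A : Subgroup H} (hA : IsMulCommutative A) (f : H →* G) :
    IsMulCommutative (A.map f) := by
  refine ⟨⟨?_⟩⟩
  rintro ⟨_, a, ha, rfl⟩ ⟨_, b, hb, rfl⟩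
  apply Subtype.ext
  change f a * f b = f b * f a
  rw [← map_mul, ← map_mul, show a * b = b * a from congrArg Subtype.val (hA.is_comm.comm ⟨a, ha⟩ ⟨b, hb⟩)]

/-- `pIn` commutes with homomorphisms injective on `S`. -/
theorem map_pIn (f : H →* G) {S : Subgroup H} (hf : Set.InjOn f S) {X : Subgroup H} (hX : X ≤ S) :
    (pIn S X).map f = pIn (S.map f) (X.map f) := by
  refine le_antisymm ?_ (sSup_le ?_)
  · rw [Subgroup.map_le_iff_le_comap]
    refine sSup_le fun A hA => Subgroup.map_le_iff_le_comap.mp ?_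
    exact le_pIn (isMulCommutative_map hA.1 f) (Subgroup.map_mono hA.2.1)
      ((Subgroup.map_mono hA.2.2).trans (Subgroup.le_normalizer_map f))
  · rintro A ⟨hAc, hAS, hAX⟩
    set A' := A.comap f ⊓ S with hA'
    have hmap : A'.map f = A := by
      refine le_antisymm (Subgroup.map_le_iff_le_comap.mpr inf_le_left) fun a ha => ?_
      obtain ⟨s, hs, rfl⟩ := hAS ha
      exact ⟨s, ⟨ha, hs⟩, rfl⟩
    rw [← hmap]
    refine Subgroup.map_mono (le_pIn ?_ inf_le_right fun x hx => ?_)
    · refine ⟨⟨fun a b => Subtype.ext (hf (S.mul_mem a.2.2 b.2.2) (S.mul_mem b.2.2 a.2.2) ?_)⟩⟩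
      change f ((a : H) * b) = f ((b : H) * a)
      rw [map_mul, map_mul]
      exact congrArg Subtype.val (hAc.is_comm.comm ⟨f a, a.2.1⟩ ⟨f b, b.2.1⟩)
    · rw [Subgroup.mem_normalizer_iff]
      intro n
      have h := Subgroup.mem_normalizer_iff.mp (hAX ⟨x, hx, rfl⟩) (f n)
      constructor
      · intro hn
        exact ⟨show f (x * n * x⁻¹) ∈ A by rw [map_mul, map_mul, map_inv]; exact h.mp hn.1,
          S.mul_mem (S.mul_mem (hX hx) hn.2) (S.inv_mem (hX hx))⟩
      · intro hn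
        refine ⟨h.mpr (by have h1 : f (x * n * x⁻¹) ∈ A := hn.1; rwa [map_mul, map_mul, map_inv] at h1), ?_⟩
        have h2 : x⁻¹ * (x * n * x⁻¹) * x ∈ S := S.mul_mem (S.mul_mem (S.inv_mem (hX hx)) hn.2) (hX hx)
        simpa [mul_assoc] using h2

theorem map_seqIn (f : H →* G) {S : Subgroup H} (hf : Set.InjOn f S) (n : ℕ) :
    (seqIn S n).map f = seqIn (S.map f) n := by
  induction n with
  | zero => exact Subgroup.map_bot f
  | succ n ih => rw [seqIn_succ, seqIn_succ, map_pIn f hf (seqIn_le S n), ih]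

theorem seqIn_eq_map (S : Subgroup G) (n : ℕ) : seqIn S n = (puigSeq S n).map S.subtype := by
  have h0 : ∀ k, seqIn (⊤ : Subgroup S) k = puigSeq S k := by
    intro k
    induction k with
    | zero => rfl
    | succ k ih =>
      rw [seqIn_succ, puigSeq_succ, ih, pIn, puigStep]
      congr 1
      ext A
      exact ⟨fun h => ⟨h.1, h.2.2⟩, fun h => ⟨h.1, le_top, h.2⟩⟩
  rw [← h0, map_seqIn S.subtype S.subtype_injective.injOn, ← MonoidHom.range_eq_map, Subgroup.range_subtype]

theorem exists_stationary [Finite G] (S : Subgroup G) :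
    ∃ k : ℕ, ∀ n : ℕ, k ≤ n → seqIn S (2 * n) = lowerIn S ∧ seqIn S (2 * n + 1) = upperIn S := by
  obtain ⟨k, hk⟩ := puig_stationary (G := S)
  exact ⟨k, fun n hn => ⟨by rw [seqIn_eq_map, (hk n hn).1]; rfl, by rw [seqIn_eq_map, (hk n hn).2]; rfl⟩⟩

theorem pIn_lowerIn [Finite G] (S : Subgroup G) : pIn S (lowerIn S) = upperIn S := by
  obtain ⟨k, hk⟩ := exists_stationary S
  rw [← (hk k le_rfl).1, ← seqIn_succ, (hk k le_rfl).2]

theorem pIn_upperIn [Finite G] (S : Subgroup G) : pIn S (upperIn S) = lowerIn S := by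
  obtain ⟨k, hk⟩ := exists_stationary S
  rw [← (hk k le_rfl).2, ← seqIn_succ, show 2 * k + 1 + 1 = 2 * (k + 1) by ring, (hk (k + 1) k.le_succ).1]

theorem upperIn_le (S : Subgroup G) : upperIn S ≤ S := Subgroup.map_subtype_le _

theorem lowerIn_le_upperIn (S : Subgroup G) : lowerIn S ≤ upperIn S :=
  Subgroup.map_mono puigLower_le_puigSubgroup

theorem seqIn_even_le_lowerIn (S : Subgroup G) (i : ℕ) : seqIn S (2 * i) ≤ lowerIn S := by
  rw [seqIn_eq_map]
  exact Subgroup.map_mono (le_iSup (fun n => puigSeq S (2 * n)) i)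

theorem upperIn_le_seqIn_odd (S : Subgroup G) (i : ℕ) : upperIn S ≤ seqIn S (2 * i + 1) := by
  rw [seqIn_eq_map]
  exact Subgroup.map_mono (iInf_le (fun n => puigSeq S (2 * n + 1)) i)

theorem inf_centralizer_le_seqIn [Finite G] [hp : Fact p.Prime] {S : Subgroup G} (hS : IsPGroup p S) (i : ℕ) :
    S ⊓ Subgroup.centralizer (seqIn S (i + 1) : Set G) ≤ seqIn S (i + 1) := by
  obtain ⟨A, hAn, hAc, hAC⟩ := exists_normal_abelian_selfCentralizing hS
  have hA : A ≤ puigSeq S (i + 1) := le_puigStep_of_normal_abelian hAc _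
  rw [seqIn_eq_map]
  rintro x ⟨hxS, hxC⟩
  refine ⟨⟨x, hxS⟩, hA ?_, rfl⟩
  rw [← hAC, Subgroup.mem_centralizer_iff]
  exact fun a ha => Subtype.ext (Subgroup.mem_centralizer_iff.mp hxC _ ⟨a, hA ha, rfl⟩)

theorem normalizer_le_normalizer_seqIn (S : Subgroup G) (n : ℕ) :
    Subgroup.normalizer (S : Set G) ≤ Subgroup.normalizer (seqIn S n : Set G) := by
  intro g hg
  rw [Subgroup.mem_normalizer_iff_map_conj_eq]
  change (seqIn S n).map (MulAut.conj g).toMonoidHom = _
  rw [map_seqIn _ (MulEquiv.injective _).injOn]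
  congr 1
  exact Subgroup.mem_normalizer_iff_map_conj_eq.mp hg

theorem normalizer_le_normalizer_upperIn [Finite G] (S : Subgroup G) :
    Subgroup.normalizer (S : Set G) ≤ Subgroup.normalizer (upperIn S : Set G) := by
  obtain ⟨k, hk⟩ := exists_stationary S
  rw [← (hk k le_rfl).2]
  exact normalizer_le_normalizer_seqIn S _

theorem map_upperIn [Finite G] [Finite H] (f : H →* G) {S : Subgroup H} (hf : Set.InjOn f S) :
    (upperIn S).map f = upperIn (S.map f) := by
  obtain ⟨k, hk⟩ := exists_stationary S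
  obtain ⟨l, hl⟩ := exists_stationary (S.map f)
  rw [← (hk (max k l) (le_max_left _ _)).2, map_seqIn f hf, (hl (max k l) (le_max_right _ _)).2]

/-- `L(U) = L(S)` when `L(S) ≤ U ≤ S`. -/
theorem upperIn_eq_of_le [Finite G] {S U : Subgroup G} (hLU : upperIn S ≤ U) (hUS : U ≤ S) :
    upperIn U = upperIn S := by
  have h1 : ∀ i, seqIn U (2 * i) ≤ lowerIn S ∧ upperIn S ≤ seqIn U (2 * i + 1) := by
    have step : ∀ i, seqIn U (2 * i) ≤ lowerIn S → upperIn S ≤ seqIn U (2 * i + 1) := by
      intro i h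
      conv_lhs => rw [← pIn_lowerIn]
      exact sSup_le fun A hA => le_pIn hA.1 ((le_sSup hA).trans ((pIn_lowerIn S).le.trans hLU)) (h.trans hA.2.2)
    intro i
    induction i with
    | zero => exact ⟨bot_le, step 0 bot_le⟩
    | succ i ih =>
      have h : seqIn U (2 * (i + 1)) ≤ lowerIn S := by
        rw [show 2 * (i + 1) = 2 * i + 1 + 1 by ring, seqIn_succ, ← pIn_upperIn S]
        exact sSup_le fun A hA => le_pIn hA.1 (hA.2.1.trans hUS) (ih.2.trans hA.2.2)
      exact ⟨h, step _ h⟩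
  have h2 : ∀ i, seqIn S (2 * i) ≤ seqIn U (2 * i) ∧ seqIn U (2 * i + 1) ≤ seqIn S (2 * i + 1) := by
    intro i
    induction i with
    | zero => exact ⟨le_rfl, sSup_le fun A hA => le_pIn hA.1 (hA.2.1.trans hUS) bot_le⟩
    | succ i ih =>
      have h : seqIn S (2 * (i + 1)) ≤ seqIn U (2 * (i + 1)) := by
        rw [show 2 * (i + 1) = 2 * i + 1 + 1 by ring]
        refine sSup_le fun A hA => le_pIn hA.1 ?_ (ih.2.trans hA.2.2)
        refine (le_sSup hA).trans (le_trans (le_of_eq ?_) ((seqIn_even_le_lowerIn S (i + 1)).trans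
          ((lowerIn_le_upperIn S).trans hLU)))
        rw [show 2 * (i + 1) = 2 * i + 1 + 1 by ring, seqIn_succ]
        rfl
      exact ⟨h, sSup_le fun A hA => le_pIn hA.1 (hA.2.1.trans hUS) (h.trans hA.2.2)⟩
  obtain ⟨k, hk⟩ := exists_stationary S
  obtain ⟨l, hl⟩ := exists_stationary U
  have a := (h1 (max k l)).2
  have b := (h2 (max k l)).2
  rw [(hl _ (le_max_right _ _)).2] at a b
  rw [(hk _ (le_max_left _ _)).2] at b
  exact le_antisymm b a

/-- Comparison of the Puig series of a Sylow subgroup and of `O_p`. -/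
theorem seqIn_compare [Finite G] [Group.IsSolvable G] [hp : Fact p.Prime] (hodd : Odd (Nat.card G)) (hp2 : p ≠ 2)
    (hO : Cfsg.pPrimeCore p G = ⊥) (S : Sylow p G) (i : ℕ) :
    seqIn (S : Subgroup G) (2 * i) ≤ seqIn (Cfsg.pCore p G) (2 * i) ∧
      seqIn (Cfsg.pCore p G) (2 * i + 1) ≤ seqIn (S : Subgroup G) (2 * i + 1) := by
  set T := Cfsg.pCore p G with hT
  have hTS : T ≤ (S : Subgroup G) := Basics.pCore_le_sylow p S
  have step : ∀ j, seqIn (S : Subgroup G) j ≤ seqIn T j → seqIn T (j + 1) ≤ seqIn (S : Subgroup G) (j + 1) :=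
    fun j h => sSup_le fun A hA => le_pIn hA.1 (hA.2.1.trans hTS) (h.trans hA.2.2)
  induction i with
  | zero => exact ⟨le_rfl, step 0 le_rfl⟩
  | succ i ih =>
    have h : seqIn (S : Subgroup G) (2 * (i + 1)) ≤ seqIn T (2 * (i + 1)) := by
      rw [show 2 * (i + 1) = 2 * i + 1 + 1 by ring]
      refine sSup_le fun A hA => le_pIn hA.1 ?_ (ih.2.trans hA.2.2)
      have hn : (seqIn T (2 * i + 1)).Normal := by
        refine Subgroup.normalizer_eq_top_iff.mp (top_le_iff.mp ?_)
        refine le_trans ?_ (normalizer_le_normalizer_seqIn T _)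
        rw [Subgroup.normalizer_eq_top]
      exact le_pCore_of_normalized hodd hp2 hO (seqIn T (2 * i + 1))
        ((Basics.pCore_isPGroup p).to_le (seqIn_le _ _)) (inf_centralizer_le_seqIn (Basics.pCore_isPGroup p) _)
        hA.1 (ih.2.trans hA.2.2)
    exact ⟨h, step _ h⟩

theorem lowerIn_upperIn_compare [Finite G] [Group.IsSolvable G] [hp : Fact p.Prime] (hodd : Odd (Nat.card G))
    (hp2 : p ≠ 2) (hO : Cfsg.pPrimeCore p G = ⊥) (S : Sylow p G) :
    lowerIn (S : Subgroup G) ≤ lowerIn (Cfsg.pCore p G) ∧ upperIn (Cfsg.pCore p G) ≤ upperIn (S : Subgroup G) := by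
  obtain ⟨k, hk⟩ := exists_stationary (S : Subgroup G)
  obtain ⟨l, hl⟩ := exists_stationary (Cfsg.pCore p G)
  obtain ⟨a, b⟩ := seqIn_compare hodd hp2 hO S (max k l)
  rw [(hk _ (le_max_left _ _)).1, (hl _ (le_max_right _ _)).1] at a
  rw [(hk _ (le_max_left _ _)).2, (hl _ (le_max_right _ _)).2] at b
  exact ⟨a, b⟩

/-- `Z(L(S))` inside the ambient group. -/
def zPuig (S : Subgroup G) : Subgroup G := upperIn S ⊓ Subgroup.centralizer (upperIn S : Set G)

theorem zPuig_le (S : Subgroup G) : zPuig S ≤ S := inf_le_left.trans (upperIn_le S)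

theorem normalizer_le_normalizer_zPuig [Finite G] (S : Subgroup G) :
    Subgroup.normalizer (S : Set G) ≤ Subgroup.normalizer (zPuig S : Set G) := by
  intro g hg
  have h := Subgroup.mem_normalizer_iff.mp (normalizer_le_normalizer_upperIn S hg)
  rw [Subgroup.mem_normalizer_iff]
  intro n
  refine Subgroup.mem_inf.trans ((and_congr (h n) ?_).trans Subgroup.mem_inf.symm)
  rw [Subgroup.mem_centralizer_iff, Subgroup.mem_centralizer_iff]
  constructor
  · intro hn b hb
    have := hn _ ((h (g⁻¹ * b * g)).mpr (by simpa [mul_assoc] using hb))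
    calc b * (g * n * g⁻¹) = g * (g⁻¹ * b * g * n) * g⁻¹ := by group
      _ = g * (n * (g⁻¹ * b * g)) * g⁻¹ := by rw [this]
      _ = g * n * g⁻¹ * b := by group
  · intro hn b hb
    have := hn _ ((h b).mp hb)
    calc b * n = g⁻¹ * (g * b * g⁻¹ * (g * n * g⁻¹)) * g := by group
      _ = g⁻¹ * (g * n * g⁻¹ * (g * b * g⁻¹)) * g := by rw [this]
      _ = n * b := by group

/-- Puig's theorem, reduced case. -/
theorem zPuig_normal [Finite G] [Group.IsSolvable G] [hp : Fact p.Prime] (hodd : Odd (Nat.card G))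
    (hp2 : p ≠ 2) (hO : Cfsg.pPrimeCore p G = ⊥) (S : Sylow p G) : (zPuig (S : Subgroup G)).Normal := by
  set T := Cfsg.pCore p G with hT
  set LS := upperIn (S : Subgroup G) with hLS
  set V := zPuig T with hV
  have hTS : T ≤ (S : Subgroup G) := Basics.pCore_le_sylow p S
  have hnT : ∀ {X : Subgroup G}, Subgroup.normalizer (T : Set G) ≤ Subgroup.normalizer (X : Set G) → X.Normal := by
    intro X h
    refine Subgroup.normalizer_eq_top_iff.mp (top_le_iff.mp (le_trans ?_ h))
    rw [Subgroup.normalizer_eq_top]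
  have hVn : V.Normal := hnT (normalizer_le_normalizer_zPuig T)
  have hLTn : (upperIn T).Normal := hnT (normalizer_le_normalizer_upperIn T)
  obtain ⟨-, hLTLS⟩ := lowerIn_upperIn_compare hodd hp2 hO S
  have hVc : IsMulCommutative V := Subgroup.le_centralizer_iff_isMulCommutative.mp
    ((inf_le_right : V ≤ _).trans (Subgroup.centralizer_le inf_le_left))
  have hTp : IsPGroup p T := Basics.pCore_isPGroup p
  have hTC : T ⊓ Subgroup.centralizer (upperIn T : Set G) ≤ upperIn T := by
    obtain ⟨k, hk⟩ := exists_stationary T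
    rw [← (hk k le_rfl).2]
    exact inf_centralizer_le_seqIn hTp _
  have hZV : zPuig (S : Subgroup G) ≤ V := by
    intro z hz
    have hzC : z ∈ Subgroup.centralizer (upperIn T : Set G) := Subgroup.centralizer_le hLTLS hz.2
    have hn : (Subgroup.centralizer (upperIn T : Set G)).Normal := Subgroup.normal_centralizer
    have hzT : z ∈ T := Basics.le_pCore (centralizer_isPGroup hO (upperIn T) hTC) hzC
    exact ⟨hTC ⟨hzT, hzC⟩, hzC⟩
  have hVL : V ≤ lowerIn (S : Subgroup G) := by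
    rw [← pIn_upperIn]
    exact le_pIn hVc ((zPuig_le T).trans hTS) (by rw [Subgroup.normalizer_eq_top]; exact le_top)
  set C := Subgroup.centralizer (V : Set G) with hC
  have hCn : C.Normal := Subgroup.normal_centralizer
  set R := (Cfsg.pCore p (G ⧸ C)).comap (QuotientGroup.mk' C) with hR
  have hLR : LS ≤ R := by
    rw [hLS, ← pIn_lowerIn]
    refine sSup_le fun A hA b hb => ?_
    refine quadratic_mem_pCore hodd hp2 V (hTp.to_le (zPuig_le T)) C rfl b fun v hv => ?_
    have hvb : v * b⁻¹ * v⁻¹ ∈ A := (Subgroup.mem_normalizer_iff.mp (hA.2.2 (hVL hv)) b⁻¹).mp (inv_mem hb)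
    have hmem : b * v * b⁻¹ * v⁻¹ ∈ A := by simpa [mul_assoc] using mul_mem hb hvb
    exact congrArg Subtype.val (hA.1.is_comm.comm ⟨b, hb⟩ ⟨_, hmem⟩)
  set U := (S : Subgroup G) ⊓ R with hU
  have hUeq : upperIn U = LS := upperIn_eq_of_le (le_inf (upperIn_le _) hLR) inf_le_left
  obtain ⟨P, hP⟩ := LocalEvenA.exists_sylow_subgroupOf_normal S R
  have hPU : (P : Subgroup R).map R.subtype = U := by rw [hP, Subgroup.subgroupOf_map_subtype]
  have hfr := Sylow.normalizer_sup_eq_top P
  rw [hPU] at hfr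
  have hCR : C ≤ R := fun c hc => by
    rw [hR, Subgroup.mem_comap, QuotientGroup.mk'_apply, (QuotientGroup.eq_one_iff c).mpr hc]; exact one_mem _
  have hRCU : R ≤ C ⊔ U := by
    have hle : C ⊔ U ≤ R := sup_le hCR inf_le_right
    rw [← Subgroup.relIndex_eq_one]
    by_contra hne
    obtain ⟨r, hr, hrd⟩ := Nat.exists_prime_and_dvd hne
    obtain ⟨n, hn⟩ : ∃ n, C.relIndex R = p ^ n := by
      obtain ⟨n, hn⟩ := IsPGroup.iff_card.mp (Basics.pCore_isPGroup (G := G ⧸ C) p)
      refine ⟨n, ?_⟩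
      rw [← hn]
      have h := Subgroup.relIndex_map_map (QuotientGroup.mk' C) C R
      rw [QuotientGroup.map_mk'_self, QuotientGroup.ker_mk', sup_idem, sup_eq_left.mpr hCR,
        Subgroup.relIndex_bot_left, hR, Subgroup.map_comap_eq_self_of_surjective (QuotientGroup.mk'_surjective C)] at h
      exact h.symm
    have hrp : r = p := (Nat.prime_dvd_prime_iff_eq hr hp.out).mp
      (hr.dvd_of_dvd_pow (hn ▸ hrd.trans (Subgroup.relIndex_dvd_of_le_left R (le_sup_left : C ≤ C ⊔ U))))
    have h2 : r ∣ U.relIndex R := hrd.trans (Subgroup.relIndex_dvd_of_le_left R le_sup_right)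
    refine P.not_dvd_index ?_
    rw [← hPU] at h2
    rw [hrp] at h2
    rwa [Subgroup.relIndex, Subgroup.subgroupOf,
      Subgroup.comap_map_eq_self_of_injective R.subtype_injective] at h2
  refine Subgroup.normalizer_eq_top_iff.mp (top_le_iff.mp ?_)
  rw [← hfr]
  have hUZ : Subgroup.normalizer (U : Set G) ≤ Subgroup.normalizer (zPuig (S : Subgroup G) : Set G) := by
    have := normalizer_le_normalizer_zPuig U
    rwa [zPuig, hUeq] at this
  refine sup_le hUZ (hRCU.trans (sup_le ?_ (Subgroup.le_normalizer.trans hUZ)))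
  exact (Subgroup.centralizer_le hZV).trans (Subgroup.centralizer_le_normalizer _)

/-- Puig's theorem: `G = O_{p'}(G) N(Z(L(S)))`. -/
theorem pPrimeCore_sup_normalizer_zPuig [Finite G] [Group.IsSolvable G] [hp : Fact p.Prime]
    (hodd : Odd (Nat.card G)) (hp2 : p ≠ 2) (S : Sylow p G) :
    Cfsg.pPrimeCore p G ⊔ Subgroup.normalizer (zPuig (S : Subgroup G) : Set G) = ⊤ := by
  set K := Cfsg.pPrimeCore p G with hK
  set π := QuotientGroup.mk' K with hπ
  have hcop : ∀ {Z : Subgroup G}, Z ≤ (S : Subgroup G) → (Nat.card K).Coprime (Nat.card Z) := by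
    intro Z hZ
    obtain ⟨n, hn⟩ := IsPGroup.iff_card.mp (S.2.to_le hZ)
    rw [hn]
    exact (Basics.pPrimeCore_coprime p).pow_right n
  have hinj : Set.InjOn π (S : Subgroup G) := by
    intro x hx y hy h
    have h1 : x⁻¹ * y ∈ K ⊓ (S : Subgroup G) := by
      refine ⟨?_, Subgroup.mul_mem _ (Subgroup.inv_mem _ hx) hy⟩
      exact QuotientGroup.eq.mp h
    rw [(Subgroup.disjoint_of_coprime_natCard (hcop le_rfl)).eq_bot, Subgroup.mem_bot, inv_mul_eq_one] at h1
    exact h1
  have hodd' : Odd (Nat.card (G ⧸ K)) := Odd.of_dvd_nat hodd (Subgroup.card_quotient_dvd_card _)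
  set Z := zPuig (S : Subgroup G) with hZ
  have hZ' : Z.map π = zPuig ((S : Subgroup G).map π) := by
    rw [hZ, zPuig, zPuig, ← map_upperIn π hinj]
    refine le_antisymm (Subgroup.map_le_iff_le_comap.mpr fun x hx => ⟨⟨x, hx.1, rfl⟩, ?_⟩) ?_
    · change π x ∈ Subgroup.centralizer _
      rw [Subgroup.mem_centralizer_iff]
      rintro _ ⟨y, hy, rfl⟩
      rw [← map_mul, ← map_mul, Subgroup.mem_centralizer_iff.mp hx.2 y hy]
    · rintro _ ⟨⟨x, hx, rfl⟩, hc⟩
      refine ⟨x, ⟨hx, ?_⟩, rfl⟩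
      change x ∈ Subgroup.centralizer _
      rw [Subgroup.mem_centralizer_iff]
      intro y hy
      refine hinj (Subgroup.mul_mem _ (upperIn_le _ hy) (upperIn_le _ hx))
        (Subgroup.mul_mem _ (upperIn_le _ hx) (upperIn_le _ hy)) ?_
      rw [map_mul, map_mul]
      exact Subgroup.mem_centralizer_iff.mp hc _ ⟨y, hy, rfl⟩
  have hn : (Z.map π).Normal := by
    rw [hZ']
    exact zPuig_normal hodd' hp2 (Basics.pPrimeCore_quotient_eq_bot p)
      (S.mapSurjective (QuotientGroup.mk'_surjective K))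
  refine top_le_iff.mp fun g _ => ?_
  have hle : MulAut.conj g • Z ≤ K ⊔ Z := by
    intro x hx
    have h1 : π x ∈ Z.map π := by
      rw [Basics.mem_conj_smul] at hx
      have := hn.conj_mem _ ⟨_, hx, rfl⟩ (π g)
      simpa [mul_assoc] using this
    obtain ⟨z, hz, e⟩ := h1
    have hm : x * z⁻¹ ∈ K := by
      rw [← QuotientGroup.eq_one_iff]
      change π (x * z⁻¹) = 1
      rw [map_mul, map_inv, e, mul_inv_cancel]
    have : x = x * z⁻¹ * z := by group
    rw [this]
    exact mul_mem (Subgroup.mem_sup_left hm) (Subgroup.mem_sup_right hz)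
  obtain ⟨k, hk, e⟩ := Basics.exists_conj_eq_of_coprime K Z (MulAut.conj g • Z)
    (by rw [Subgroup.normalizer_eq_top]; exact le_top) (hcop (zPuig_le _)) hle (Basics.card_conj_smul g Z)
    (Or.inl inferInstance)
  have h2 : k⁻¹ * g ∈ Subgroup.normalizer (Z : Set G) := by
    rw [← Basics.conj_smul_eq_self_iff, ← Basics.conj_smul_conj_smul]
    exact Basics.conj_smul_inv_eq e
  have : g = k * (k⁻¹ * g) := by group
  rw [this]
  exact mul_mem (Subgroup.mem_sup_left hk) (Subgroup.mem_sup_right h2)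

theorem zPuig_eq_map (S : Subgroup G) :
    ((Subgroup.center (puigSubgroup S)).map (puigSubgroup S).subtype).map S.subtype = zPuig S := by
  ext x
  constructor
  · rintro ⟨_, ⟨y, hy, rfl⟩, rfl⟩
    refine ⟨⟨y, y.2, rfl⟩, ?_⟩
    change S.subtype ((puigSubgroup S).subtype y) ∈ Subgroup.centralizer _
    rw [Subgroup.mem_centralizer_iff]
    rintro _ ⟨z, hz, rfl⟩
    exact congrArg (fun w : puigSubgroup S => ((w : S) : G)) (Subgroup.mem_center_iff.mp hy ⟨z, hz⟩)
  · rintro ⟨⟨y, hy, rfl⟩, hc⟩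
    refine ⟨y, ⟨⟨y, hy⟩, Subgroup.mem_center_iff.mpr fun z => ?_, rfl⟩, rfl⟩
    exact Subtype.ext (Subtype.ext (Subgroup.mem_centralizer_iff.mp hc _ ⟨z, z.2, rfl⟩))

end Cfsg.Agent.OddLocal
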