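import Mathlib.GroupTheory.PGroup
import Mathlib.GroupTheory.Abelianization.Defs
import Mathlib.LinearAlgebra.Determinant
import Mathlib.LinearAlgebra.Center
import Mathlib.LinearAlgebra.Dimension.Finite
import Mathlib.LinearAlgebra.FreeModule.PID
import Cfsg.Agent.Lib.OddLocal.Puig
import Cfsg.Agent.Lib.Transfer.Quadratic

/-! A pair of quadratic elements and a normal `q`-subgroup, `q` odd. -/

set_option autoImplicit false
set_option maxHeartbeats 800000

namespace Cfsg.Agent.OddLocal

open Module
open scoped commutatorElement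

theorem eq_one_of_pow_primes {R : Type*} [Monoid R] {p q : ℕ} (hp : p.Prime) (hq : q.Prime) (hqp : q ≠ p)
    {x : R} {i j : ℕ} (h1 : x ^ p ^ i = 1) (h2 : x ^ q ^ j = 1) : x = 1 := by
  have hg : Nat.gcd (p ^ i) (q ^ j) = 1 := ((Nat.coprime_primes hp hq).mpr hqp.symm).pow i j
  rw [← pow_one x, ← hg]
  exact pow_gcd_eq_one.mpr ⟨h1, h2⟩

theorem one_add_pow_of_mul_self {R : Type*} [Ring R] {x : R} (hx : x * x = 0) (k : ℕ) :
    (1 + x) ^ k = 1 + k • x := by
  induction k with
  | zero => simp
  | succ k ih =>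
    rw [pow_succ, ih, add_mul, one_mul, smul_mul_assoc, mul_add, mul_one, hx, add_zero, succ_nsmul]
    abel

/-- A `q`-group (`q` odd) of linear maps of a space of dimension at most two is commutative. -/
theorem commute_of_qGroup_finrank_le_two {F : Type*} [Field F] {M : Type*} [AddCommGroup M] [Module F M]
    [FiniteDimensional F M] (hd : finrank F M ≤ 2) {q : ℕ} [hq : Fact q.Prime] (hq2 : q ≠ 2)
    {R : Type*} [Group R] [Finite R] (hR : IsPGroup q R) (φ : R →* Module.End F M) (x y : R) :
    Commute (φ x) (φ y) := by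
  set u := φ.toHomUnits
  set U := u.range with hU
  have hUq : IsPGroup q U := hR.of_surjective u.rangeRestrict u.rangeRestrict_surjective
  suffices hc : ∀ a ∈ U, ∀ b ∈ U, a * b = b * a from
    congrArg Units.val (hc (u x) ⟨x, rfl⟩ (u y) ⟨y, rfl⟩)
  by_contra hne
  have hUc : commutator U ≠ ⊥ := fun h => hne fun a ha b hb => by
    have h1 : ⁅(⟨a, ha⟩ : U), ⟨b, hb⟩⁆ ∈ commutator U :=
      Subgroup.commutator_mem_commutator (Subgroup.mem_top _) (Subgroup.mem_top _)
    rw [h, Subgroup.mem_bot, commutatorElement_eq_one_iff_mul_comm] at h1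
    exact congrArg Subtype.val h1
  have : Finite U := Finite.of_surjective u.rangeRestrict u.rangeRestrict_surjective
  obtain ⟨z, hzc, hzZ, hz1⟩ := exists_mem_center_ne_one_of_normal hUq (commutator U) hUc
  have hdet : LinearMap.det (((z : (Module.End F M)ˣ)) : Module.End F M) = 1 := by
    have h := Abelianization.commutator_subset_ker
      (((Units.map (LinearMap.det : Module.End F M →* F)).comp U.subtype)) hzc
    exact congrArg Units.val (MonoidHom.mem_ker.mp h)
  obtain ⟨k, hk⟩ := hUq z
  have hkF : (((z : (Module.End F M)ˣ)) : Module.End F M) ^ q ^ k = 1 := by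
    rw [← Units.val_pow_eq_pow_val, ← Subgroup.coe_pow, hk]; rfl
  set Z : Module.End F M := ((z : (Module.End F M)ˣ) : Module.End F M) with hZ
  have hZ1 : Z ≠ 1 := fun h => hz1 (Subtype.ext (Units.ext h))
  have hM : Nontrivial M := by
    by_contra h
    rw [not_nontrivial_iff_subsingleton] at h
    exact hZ1 (LinearMap.ext fun v => Subsingleton.elim _ _)
  by_cases hsc : ∃ a : F, Z = a • (1 : Module.End F M)
  · obtain ⟨a, ha⟩ := hsc
    rw [ha, LinearMap.det_smul, Module.End.one_eq_id, LinearMap.det_id, mul_one] at hdet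
    rw [ha, smul_pow, one_pow] at hkF
    obtain ⟨v, hv⟩ := exists_ne (0 : M)
    have hak : a ^ q ^ k = 1 := by
      have h := LinearMap.congr_fun hkF v
      simp only [LinearMap.smul_apply, Module.End.one_apply] at h
      exact smul_left_injective F hv (h.trans (one_smul F v).symm)
    have ha2 : a ^ 2 = 1 := by
      have hpos : 0 < finrank F M := finrank_pos
      interval_cases h : finrank F M
      · rw [pow_one] at hdet; rw [hdet, one_pow]
      · exact hdet
    exact hZ1 (by rw [ha, eq_one_of_pow_primes Nat.prime_two hq.out hq2 (i := 1) (by simpa using ha2) hak, one_smul])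
  obtain ⟨v, hv⟩ : ∃ v : M, LinearIndependent F ![v, Z v] := by
    by_contra h
    push Not at h
    obtain ⟨a, ha⟩ := Z.exists_eq_smul_id_of_forall_notLinearIndependent h
    exact hsc ⟨a, ha⟩
  have hd2 : finrank F M = 2 := le_antisymm hd (by simpa using hv.fintype_card_le_finrank)
  have hspan : Submodule.span F (Set.range ![v, Z v]) = ⊤ :=
    hv.span_eq_top_of_card_eq_finrank (by simp [hd2])
  have key : ∀ g : U, ∃ a b : F, ((g : (Module.End F M)ˣ) : Module.End F M) = a • 1 + b • Z := by
    intro g
    set T : Module.End F M := ((g : (Module.End F M)ˣ) : Module.End F M) with hT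
    have hcomm : T * Z = Z * T := congrArg (fun w : U => ((w : (Module.End F M)ˣ) : Module.End F M))
      (Subgroup.mem_center_iff.mp hzZ g)
    have hmem : T v ∈ Submodule.span F (Set.range ![v, Z v]) := hspan ▸ Submodule.mem_top
    rw [Matrix.range_cons_cons_empty, Submodule.mem_span_pair] at hmem
    obtain ⟨a, b, hab⟩ := hmem
    refine ⟨a, b, LinearMap.ext_on_range hspan fun i => ?_⟩
    fin_cases i
    · simp [← hab]
    · have h := LinearMap.congr_fun hcomm v
      simp only [Module.End.mul_apply] at h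
      simp [h, ← hab]
  refine hne fun a ha b hb => Units.ext ?_
  obtain ⟨a1, a2, ea⟩ := key ⟨a, ha⟩
  obtain ⟨b1, b2, eb⟩ := key ⟨b, hb⟩
  change (a : Module.End F M) * b = b * a
  change (a : Module.End F M) = _ at ea
  change (b : Module.End F M) = _ at eb
  rw [ea, eb]
  simp only [mul_add, add_mul, smul_mul_smul, mul_one, one_mul, mul_comm b1, mul_comm b2]
  abel

variable {K : Type*} [Group K] [Finite K] {p q : ℕ} [hp : Fact p.Prime] [hq : Fact q.Prime]

/-- The irreducible case. -/
theorem commute_image_of_irreducible {M : Type*} [AddCommGroup M] [Finite M] (hq2 : q ≠ 2)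
    (b b' : K) (hgen : Subgroup.closure ({b, b'} : Set K) = ⊤) {Q : Subgroup K} (hQ : IsPGroup q Q)
    (ρ : K →* AddMonoid.End M) (hn : (ρ b - 1) * (ρ b - 1) = 0) (hm : (ρ b' - 1) * (ρ b' - 1) = 0)
    (hirr : ∀ W : AddSubgroup M, (∀ k : K, ∀ v ∈ W, ρ k v ∈ W) → W = ⊥ ∨ W = ⊤) :
    ∀ x ∈ Q, ∀ y ∈ Q, Commute (ρ x) (ρ y) := by
  rcases subsingleton_or_nontrivial M with hM | hM
  · intro x _ y _
    exact AddMonoidHom.ext fun v => Subsingleton.elim _ _
  set n := ρ b - 1 with hndef
  set m := ρ b' - 1 with hmdef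
  set s := n * m + m * n with hsdef
  have t1 : ∀ z : AddMonoid.End M, z * n * n = 0 := fun z => by rw [mul_assoc, hn, mul_zero]
  have t2 : ∀ z : AddMonoid.End M, z * m * m = 0 := fun z => by rw [mul_assoc, hm, mul_zero]
  have csn : Commute s n := by
    rw [Commute, SemiconjBy, hsdef, mul_add, add_mul]
    simp only [← mul_assoc, hn, t1, zero_mul, zero_add, add_zero]
  have csm : Commute s m := by
    rw [Commute, SemiconjBy, hsdef, mul_add, add_mul]
    simp only [← mul_assoc, hm, t2, zero_mul, zero_add, add_zero]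
  have eb : ρ b = n + 1 := by rw [hndef, sub_add_cancel]
  have eb' : ρ b' = m + 1 := by rw [hmdef, sub_add_cancel]
  have hcs : ∀ k : K, Commute s (ρ k) := by
    intro k
    induction (show k ∈ Subgroup.closure ({b, b'} : Set K) from hgen ▸ Subgroup.mem_top k) using
      Subgroup.closure_induction with
    | mem x hx =>
      rcases hx with rfl | rfl
      · rw [eb]; exact csn.add_right (Commute.one_right _)
      · rw [eb']; exact csm.add_right (Commute.one_right _)
    | one => rw [map_one]; exact Commute.one_right _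
    | mul x y _ _ hx hy => rw [map_mul]; exact hx.mul_right hy
    | inv x _ hx =>
      calc s * ρ x⁻¹ = ρ x⁻¹ * (ρ x * s) * ρ x⁻¹ := by
            rw [← mul_assoc (ρ x⁻¹), ← map_mul, inv_mul_cancel, map_one, one_mul]
        _ = ρ x⁻¹ * s * (ρ x * ρ x⁻¹) := by rw [← hx.eq, ← mul_assoc, mul_assoc]
        _ = ρ x⁻¹ * s := by rw [← map_mul, mul_inv_cancel, map_one, mul_one]
  set F := Subring.closure ({s} : Set (AddMonoid.End M)) with hF
  have hFc : ∀ f ∈ F, ∀ k : K, Commute f (ρ k) := fun f hf k =>
    ((Subring.closure_le (t := Subring.centralizer {ρ k})).mpr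
      (Set.singleton_subset_iff.mpr (Subring.mem_centralizer_iff.mpr fun g hg => by
        rw [Set.mem_singleton_iff.mp hg]; exact (hcs k).eq.symm)) hf (ρ k) rfl).symm
  have hinj : ∀ f ∈ F, f ≠ 0 → ∀ v : M, f v = 0 → v = 0 := by
    intro f hf hf0 v hv
    have hW : ∀ k : K, ∀ w ∈ AddMonoidHom.ker f, ρ k w ∈ AddMonoidHom.ker f := by
      intro k w hw
      have h := DFunLike.congr_fun (hFc f hf k).eq w
      change f (ρ k w) = ρ k (f w) at h
      change f w = 0 at hw
      change f (ρ k w) = 0
      rw [h, hw, map_zero]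
    rcases hirr _ hW with h | h
    · exact AddSubgroup.mem_bot.mp (h ▸ (AddMonoidHom.mem_ker.mpr hv))
    · exact absurd (AddMonoidHom.ext fun w => AddMonoidHom.mem_ker.mp (h ▸ AddSubgroup.mem_top w)) hf0
  have : Finite (AddMonoid.End M) := Finite.of_injective (fun f => (f : M → M)) DFunLike.coe_injective
  have : IsMulCommutative F := Subring.isMulCommutative_closure (by simp)
  let _ : CommRing F := { (inferInstance : Ring F) with mul_comm := IsMulCommutative.is_comm.comm }
  have : Nontrivial F := ⟨⟨0, 1, fun h => by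
    obtain ⟨v, hv⟩ := exists_ne (0 : M)
    exact hv (DFunLike.congr_fun (congrArg Subtype.val h) v).symm⟩⟩
  have : NoZeroDivisors F := ⟨fun {f g} h => by
    by_contra hh
    push Not at hh
    refine hh.2 (Subtype.ext (AddMonoidHom.ext fun v => ?_))
    exact hinj f f.2 (fun e => hh.1 (Subtype.ext e)) _ (DFunLike.congr_fun (congrArg Subtype.val h) v)⟩
  have : IsDomain F := NoZeroDivisors.to_isDomain F
  let _ : Field F := (Finite.isField_of_domain F).toField
  let _ : Module F M := Module.compHom M F.subtype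
  let φ : K →* Module.End F M :=
    { toFun := fun k =>
        { toFun := ρ k
          map_add' := map_add _
          map_smul' := fun f v => (DFunLike.congr_fun (hFc f f.2 k).eq v).symm }
      map_one' := LinearMap.ext fun v => DFunLike.congr_fun (map_one ρ) v
      map_mul' := fun k l => LinearMap.ext fun v => DFunLike.congr_fun (map_mul ρ k l) v }
  have : Module.Finite F M := Module.Finite.of_finite
  obtain ⟨w, hw0, hw⟩ : ∃ w : M, w ≠ 0 ∧ n w = 0 := by
    obtain ⟨v, hv⟩ := exists_ne (0 : M)
    by_cases h : n v = 0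
    · exact ⟨v, hv, h⟩
    · exact ⟨n v, h, DFunLike.congr_fun hn v⟩
  have hmm : m (m w) = 0 := DFunLike.congr_fun hm w
  set N := Submodule.span F ({w, m w} : Set M) with hN
  have hwN : w ∈ N := Submodule.subset_span (by simp)
  have hmN : m w ∈ N := Submodule.subset_span (by simp)
  have hsw : n (m w) = (⟨s, Subring.subset_closure rfl⟩ : F) • w := by
    change n (m w) = n (m w) + m (n w)
    rw [hw, map_zero, add_zero]
  have hgenN : ∀ k : K, ∀ v ∈ N, φ k v ∈ N := by
    intro k
    induction (show k ∈ Subgroup.closure ({b, b'} : Set K) from hgen ▸ Subgroup.mem_top k) using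
      Subgroup.closure_induction with
    | mem x hx =>
      suffices h : N ≤ N.comap (φ x) from fun v hv => h hv
      rw [hN, Submodule.span_le]
      rintro v (rfl | rfl) <;> rw [SetLike.mem_coe, Submodule.mem_comap, ← hN] <;> change ρ x _ ∈ N
      · rcases hx with rfl | rfl
        · rw [eb]; change n v + v ∈ N; rw [hw, zero_add]; exact hwN
        · rw [eb']; exact N.add_mem hmN hwN
      · rcases hx with rfl | rfl
        · rw [eb]; change n (m w) + m w ∈ N
          rw [hsw]; exact N.add_mem (N.smul_mem _ hwN) hmN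
        · rw [eb']; change m (m w) + m w ∈ N
          rw [hmm, zero_add]; exact hmN
    | one => intro v hv; rw [map_one]; exact hv
    | mul x y _ _ hx hy => intro v hv; rw [map_mul]; exact hx _ (hy _ hv)
    | inv x _ hx =>
      intro v hv
      obtain ⟨i, hi⟩ : ∃ i : ℕ, x⁻¹ = x ^ i := by
        refine ⟨orderOf x - 1, inv_eq_of_mul_eq_one_right ?_⟩
        rw [← pow_succ', Nat.sub_add_cancel (orderOf_pos x), pow_orderOf_eq_one]
      rw [hi]
      clear hi
      induction i generalizing v with
      | zero => rw [pow_zero, map_one]; exact hv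
      | succ i ih => rw [pow_succ, map_mul]; exact ih _ (hx _ hv)
  have htop : N = ⊤ := by
    rcases hirr N.toAddSubgroup (fun k v hv => hgenN k v hv) with h | h
    · exact absurd (AddSubgroup.mem_bot.mp (h ▸ hwN : w ∈ (⊥ : AddSubgroup M))) hw0
    · exact eq_top_iff.mpr fun v _ => (h ▸ AddSubgroup.mem_top v : v ∈ N.toAddSubgroup)
  have hd : finrank F M ≤ 2 := by
    classical
    rw [← finrank_top, ← htop, hN]
    refine (finrank_span_le_card _).trans ?_
    simpa using Finset.card_insert_le w {m w}
  intro x hx y hy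
  have h := commute_of_qGroup_finrank_le_two hd hq2 hQ (φ.comp Q.subtype) ⟨x, hx⟩ ⟨y, hy⟩
  exact AddMonoidHom.ext fun v => LinearMap.congr_fun h.eq v

/-- Two quadratic elements which agree modulo a normal `q`-subgroup act in the same way. -/
theorem eq_one_of_quadratic_pair (hodd : p ≠ 2) (hq2 : q ≠ 2) (hqp : q ≠ p) (b b' : K)
    (hgen : Subgroup.closure ({b, b'} : Set K) = ⊤) {Q : Subgroup K} [Q.Normal] (hQ : IsPGroup q Q)
    (hc : b⁻¹ * b' ∈ Q) {M : Type*} [AddCommGroup M] [Finite M] (hM : ∀ v : M, p • v = 0)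
    (ρ : K →* AddMonoid.End M) (hn : (ρ b - 1) * (ρ b - 1) = 0) (hm : (ρ b' - 1) * (ρ b' - 1) = 0) :
    ρ (b⁻¹ * b') = 1 := by
  induction hcard : Nat.card M using Nat.strong_induction_on generalizing M with
  | _ d ih =>
  subst hcard
  set c := b⁻¹ * b' with hcdef
  obtain ⟨j, hj⟩ := hQ ⟨c, hc⟩
  have hj' : ρ c ^ q ^ j = 1 := by
    rw [← map_pow, show c ^ q ^ j = 1 from congrArg Subtype.val hj, map_one]
  have hpM : (p : AddMonoid.End M) = 0 := AddMonoidHom.ext fun v => hM v
  by_cases hW : ∃ W : AddSubgroup M, (∀ k : K, ∀ v ∈ W, ρ k v ∈ W) ∧ W ≠ ⊥ ∧ W ≠ ⊤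
  · obtain ⟨W, hWk, hW0, hW1⟩ := hW
    let ρW : K →* AddMonoid.End W :=
      { toFun := fun k => AddMonoidHom.codRestrict (AddMonoidHom.comp (ρ k) W.subtype) W fun v => hWk k v v.2
        map_one' := AddMonoidHom.ext fun v => Subtype.ext (DFunLike.congr_fun (map_one ρ) v.1)
        map_mul' := fun k l => AddMonoidHom.ext fun v => Subtype.ext (DFunLike.congr_fun (map_mul ρ k l) v.1) }
    let ρQ : K →* AddMonoid.End (M ⧸ W) :=
      { toFun := fun k => QuotientAddGroup.map W W (ρ k) fun v hv => hWk k v hv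
        map_one' := AddMonoidHom.ext fun v => QuotientAddGroup.induction_on v fun w =>
          congrArg QuotientAddGroup.mk (DFunLike.congr_fun (map_one ρ) w)
        map_mul' := fun k l => AddMonoidHom.ext fun v => QuotientAddGroup.induction_on v fun w =>
          congrArg QuotientAddGroup.mk (DFunLike.congr_fun (map_mul ρ k l) w) }
    have hlt1 : Nat.card W < Nat.card M := by
      refine lt_of_le_of_ne (Nat.card_le_card_of_injective _ W.subtype_injective) fun e => hW1 ?_
      exact AddSubgroup.eq_top_of_card_eq W e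
    have hlt2 : Nat.card (M ⧸ W) < Nat.card M := by
      rw [W.card_eq_card_quotient_mul_card_addSubgroup]
      exact lt_mul_of_one_lt_right Nat.card_pos (W.one_lt_card_iff_ne_bot.mpr hW0)
    have e1 := ih _ hlt1 (M := W) (fun v => Subtype.ext (hM v.1)) ρW
      (AddMonoidHom.ext fun v => Subtype.ext (DFunLike.congr_fun hn v.1))
      (AddMonoidHom.ext fun v => Subtype.ext (DFunLike.congr_fun hm v.1)) rfl
    have e2 := ih _ hlt2 (M := M ⧸ W)
      (fun v => QuotientAddGroup.induction_on v fun w => congrArg QuotientAddGroup.mk (hM w)) ρQ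
      (AddMonoidHom.ext fun v => QuotientAddGroup.induction_on v fun w =>
        congrArg QuotientAddGroup.mk (DFunLike.congr_fun hn w))
      (AddMonoidHom.ext fun v => QuotientAddGroup.induction_on v fun w =>
        congrArg QuotientAddGroup.mk (DFunLike.congr_fun hm w)) rfl
    set x := ρ c - 1 with hx
    have hxx : x * x = 0 := AddMonoidHom.ext fun v => by
      have h2 : x v ∈ W := by
        have h := DFunLike.congr_fun e2 (v : M ⧸ W)
        change ((ρ c v : M) : M ⧸ W) = (v : M ⧸ W) at h
        change ρ c v - v ∈ W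
        rwa [← QuotientAddGroup.eq_zero_iff, QuotientAddGroup.mk_sub, sub_eq_zero]
      have h1 := congrArg Subtype.val (DFunLike.congr_fun e1 ⟨_, h2⟩)
      change ρ c (x v) = x v at h1
      change ρ c (x v) - x v = 0
      rw [h1, sub_self]
    have hp1 : ρ c ^ p ^ 1 = 1 := by
      rw [pow_one, show ρ c = 1 + x by rw [hx]; abel, one_add_pow_of_mul_self hxx, nsmul_eq_mul, hpM,
        zero_mul, add_zero]
    exact eq_one_of_pow_primes hp.out hq.out hqp hp1 hj'
  · push Not at hW
    have hcomm := commute_image_of_irreducible hq2 b b' hgen hQ ρ hn hm fun W hWk =>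
      or_iff_not_imp_left.mpr (hW W hWk)
    have hd : b' * b⁻¹ ∈ Q := by
      have h := Subgroup.Normal.conj_mem ‹Q.Normal› c hc b
      rwa [hcdef, mul_inv_cancel_left] at h
    set n := ρ b - 1 with hndef
    have hinv : ρ b⁻¹ = 1 - n := by
      have h1 : ρ b * (1 - n) = 1 := by
        rw [show ρ b = 1 + n by rw [hndef]; abel, add_mul, one_mul, mul_sub, mul_one, hn]; abel
      calc ρ b⁻¹ = ρ b⁻¹ * (ρ b * (1 - n)) := by rw [h1, mul_one]
        _ = ρ (b⁻¹ * b) * (1 - n) := by rw [map_mul, mul_assoc]
        _ = 1 - n := by rw [inv_mul_cancel, map_one, one_mul]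
    have eC : ρ c = (1 - n) * (1 + (ρ b' - 1)) := by rw [hcdef, map_mul, hinv]; congr 1; abel
    have eD : ρ (b' * b⁻¹) = (1 + (ρ b' - 1)) * (1 - n) := by rw [map_mul, hinv]; congr 1; abel
    obtain ⟨k, hk⟩ := Transfer.exists_pow_eq_one_of_quadratic (p := p) hodd hpM n (ρ b' - 1) hn hm
      (by rw [← eC, ← eD]; exact hcomm c hc _ hd)
    rw [← eC] at hk
    exact eq_one_of_pow_primes hp.out hq.out hqp hk hj'

end Cfsg.Agent.OddLocal
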