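import Cfsg.Agent.Lib.OddLocal.BetaCore
import Cfsg.Agent.Lib.Basics.CoprimeAction

/-! Basic consequences of BG Section 10 for `M_σ`, uniqueness and commuting in derived groups. -/

set_option autoImplicit false
set_option linter.unusedSectionVars false
set_option linter.style.haveILetI false

namespace Cfsg.Agent.OddLocal

open scoped commutatorElement
open Cfsg

variable {G : Type*} [Group G] [Finite G]

omit [Finite G] in
theorem sigmaCore_le (M : Subgroup G) : Cfsg.sigmaCore M ≤ M := Subgroup.map_subtype_le _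

theorem le_normalizer_sigmaCore (M : Subgroup G) : M ≤ Subgroup.normalizer (Cfsg.sigmaCore M : Set G) :=
  le_normalizer_piCoreOf_self _ M

theorem sigmaCore_le_derived (hG : IsMinSimpleOddOrder G) {M : Subgroup G} (hM : IsCoatom M) :
    Cfsg.sigmaCore M ≤ ⁅M, M⁆ :=
  M.map_subtype_commutator ▸ Subgroup.map_mono (sigmaCore_le_commutator hG hM)

theorem pGroup_le_sigmaCore (hG : IsMinSimpleOddOrder G) {M : Subgroup G} (hM : IsCoatom M) {r : ℕ} [Fact r.Prime]
    (hr : r ∈ Cfsg.sigma M) {U : Subgroup G} (hU : IsPGroup r U) (hUM : U ≤ M) : U ≤ Cfsg.sigmaCore M :=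
  le_of_pGroup_hall (sigmaCore_hall hG hM).1 (le_normalizer_sigmaCore M) hUM hU hr

theorem not_dvd_sigmaCore {M : Subgroup G} {r : ℕ} (hr : r.Prime) (hrs : r ∉ Cfsg.sigma M) :
    ¬ r ∣ Nat.card (Cfsg.sigmaCore M) := fun h => hrs (piCoreOf_primes _ M hr h)

theorem inf_sigmaCore_eq_bot {M : Subgroup G} {r : ℕ} [hr : Fact r.Prime] (hrs : r ∉ Cfsg.sigma M) {U : Subgroup G}
    (hU : IsPGroup r U) : U ⊓ Cfsg.sigmaCore M = ⊥ := by
  refine (Subgroup.disjoint_of_coprime_natCard ?_).eq_bot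
  obtain ⟨k, hk⟩ := IsPGroup.iff_card.mp hU
  rw [hk]
  exact (hr.out.coprime_iff_not_dvd.mpr (not_dvd_sigmaCore hr.out hrs)).pow_left k

theorem coatom_ne_bot (hG : IsMinSimpleOddOrder G) {M : Subgroup G} (hM : IsCoatom M) : M ≠ ⊥ := by
  rintro rfl
  obtain ⟨x, hx⟩ : ∃ x : G, x ≠ 1 := by
    by_contra h
    push Not at h
    exact hM.1 (eq_top_iff.mpr fun x _ => Subgroup.mem_bot.mpr (h x))
  refine hG.2.2.1 ⟨⟨fun a b => ?_⟩⟩
  have htop : Subgroup.zpowers x = ⊤ := hM.2 _ (bot_lt_iff_ne_bot.mpr fun e => hx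
    (Subgroup.mem_bot.mp (e ▸ Subgroup.mem_zpowers x)))
  obtain ⟨i, rfl⟩ : a ∈ Subgroup.zpowers x := htop ▸ Subgroup.mem_top a
  obtain ⟨j, rfl⟩ : b ∈ Subgroup.zpowers x := htop ▸ Subgroup.mem_top b
  exact (Commute.zpow_zpow (Commute.refl x) i j).eq

/-- The normalizer of a nontrivial subgroup normalized by a maximal subgroup `M` and contained in it is `M`. -/
theorem normalizer_eq_of_le (hG : IsMinSimpleOddOrder G) {M U : Subgroup G} (hM : IsCoatom M) (hU : U ≠ ⊥)
    (hUM : U ≤ M) (hn : M ≤ Subgroup.normalizer (U : Set G)) : Subgroup.normalizer (U : Set G) = M :=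
  ((hM.le_iff.mp hn).resolve_left (normalizer_ne_top hG hU fun e => hM.1 (top_le_iff.mp (e ▸ hUM))))

theorem sigmaCore_ne_bot (hG : IsMinSimpleOddOrder G) {M : Subgroup G} (hM : IsCoatom M) :
    Cfsg.sigmaCore M ≠ ⊥ := by
  intro hbot
  have hne : ∀ q : ℕ, q.Prime → q ∉ Cfsg.sigma M := by
    intro q hq hs
    haveI := Fact.mk hq
    obtain ⟨S⟩ : Nonempty (Sylow q M) := inferInstance
    exact sigma_ne_bot hs S (le_bot_iff.mp (hbot ▸ pGroup_le_sigmaCore hG hM hs (S.2.map _)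
      (Subgroup.map_subtype_le _)))
  haveI hsol : Group.IsSolvable M := isSolvable_of_ne_top hG hM.1
  have hMne : Nat.card M ≠ 1 := fun h => coatom_ne_bot hG hM (Subgroup.card_eq_one.mp h)
  obtain ⟨q, hq, hqmax⟩ : ∃ q ∈ (Nat.card M).primeFactors, ∀ r ∈ (Nat.card M).primeFactors, r ≤ q :=
    Finset.exists_max_image _ id (Nat.nonempty_primeFactors.mpr (by
      have := Nat.card_pos (α := M)
      omega))
  rw [Nat.mem_primeFactors] at hq
  haveI hqF : Fact q.Prime := ⟨hq.1⟩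
  have hrF : ∀ r : ℕ, r.Prime → ∀ X : Subgroup M, X ≤ Cfsg.pCore r M → IsElementaryAbelian r X →
      Nat.card X ≤ r ^ 2 := by
    intro r hr X _ hX
    by_contra hlt
    exact hne r hr (alpha_subset_sigma hG hM ⟨hr, fun h => hlt (h X hX.1 hX.2)⟩)
  obtain ⟨N, hNc, hN1, hN2⟩ := exists_hall_large (odd_card_subgroup hG M) hrF (q - 1)
  haveI := hNc
  obtain ⟨S⟩ : Nonempty (Sylow q M) := inferInstance
  -- `N` is the normal Sylow `q`-subgroup
  have hNp : IsPGroup q N := by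
    refine IsPGroup.of_card (n := (Nat.card N).factorization q) (Nat.eq_pow_of_factorization_eq_single ?_ ?_)
    · exact Nat.card_pos.ne'
    · ext r
      by_cases hrq : r = q
      · subst hrq; simp
      rw [Finsupp.single_eq_of_ne hrq]
      by_contra hr0
      have hrp : r.Prime := Nat.prime_of_mem_primeFactors (Nat.support_factorization _ ▸ Finsupp.mem_support_iff.mpr hr0)
      have hrd : r ∣ Nat.card N := Nat.dvd_of_factorization_pos hr0
      have h1 := (hN1 r hrp hrd).2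
      have h2 := hqmax r (Nat.mem_primeFactors.mpr ⟨hrp, hrd.trans (Subgroup.card_subgroup_dvd_card N), hq.2.2⟩)
      have := hq.1.two_le
      omega
  have hNS : (S : Subgroup M) ≤ N := by
    intro x hx
    have h1 : orderOf (QuotientGroup.mk' N x) = 1 := by
      obtain ⟨k, hk⟩ := S.2 ⟨x, hx⟩
      have hd1 : orderOf (QuotientGroup.mk' N x) ∣ q ^ k := orderOf_dvd_of_pow_eq_one (by
        rw [← map_pow, show x ^ q ^ k = 1 from congrArg Subtype.val hk, map_one])
      refine Nat.eq_one_of_dvd_coprimes ((hq.1.coprime_iff_not_dvd.mpr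
        (hN2 q hq.1 ⟨hq.1, by have := hq.1.two_le; omega⟩)).pow_left k) hd1 ?_
      rw [Subgroup.index_eq_card]
      exact orderOf_dvd_natCard _
    exact (QuotientGroup.eq_one_iff x).mp (orderOf_eq_one_iff.mp h1)
  have hSN : (S : Subgroup M) = N := (S.3 hNp hNS).symm
  refine hne q hq.1 ⟨hq.1, hq.2.1, S, le_of_eq ?_⟩
  refine normalizer_eq_of_le hG hM ?_ (Subgroup.map_subtype_le _) ?_
  · exact fun e => Sylow.ne_bot_of_dvd_card S hq.2.1 ((Subgroup.map_eq_bot_iff_of_injective _ M.subtype_injective).mp e)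
  · rw [hSN]
    exact le_normalizer_map_subtype N

/-- A maximal subgroup containing a rank three subgroup of `M` is `M`. -/
theorem eq_of_rank_three (hG : IsMinSimpleOddOrder G) {M L X : Subgroup G} (hM : IsCoatom M) (hL : IsCoatom L)
    {r : ℕ} [Fact r.Prime] (hX : IsElementaryAbelian r X) (hX3 : r ^ 2 < Nat.card X) (hXM : X ≤ M) (hXL : X ≤ L) :
    L = M :=
  (inUniqueMaximal_of_rank_three hG hX hX3).unique ⟨hL, hXL⟩ ⟨hM, hXM⟩

/-- A proper subgroup containing a rank three subgroup of `M` lies in `M`. -/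
theorem le_of_rank_three (hG : IsMinSimpleOddOrder G) {M K X : Subgroup G} (hM : IsCoatom M)
    {r : ℕ} [Fact r.Prime] (hX : IsElementaryAbelian r X) (hX3 : r ^ 2 < Nat.card X) (hXM : X ≤ M)
    (hK : K ≠ ⊤) (hXK : X ≤ K) : K ≤ M ∧ ∀ L : Subgroup G, IsCoatom L → K ≤ L → L = M := by
  refine ⟨?_, fun L hL hKL => eq_of_rank_three hG hM hL hX hX3 hXM (hXK.trans hKL)⟩
  obtain ⟨L, hL, hKL⟩ := exists_maximal_ge hK
  exact hKL.trans (eq_of_rank_three hG hM hL hX hX3 hXM (hXK.trans hKL)).le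

/-- A subgroup of rank three, as a subgroup of `G`. -/
theorem exists_ea_three {M : Subgroup G} {r : ℕ} [Fact r.Prime] (h : ¬ PRankLE r 2 M) :
    ∃ X : Subgroup G, X ≤ M ∧ IsElementaryAbelian r X ∧ r ^ 2 < Nat.card X :=
  pRankLE_not_iff h

/-- The centralizer of an element of order `r` for an ideal prime `r` of `σ(L)`. -/
theorem ideal_centralizer (hG : IsMinSimpleOddOrder G) {L : Subgroup G} (hL : IsCoatom L) {r : ℕ} [hr : Fact r.Prime]
    (hrs : r ∈ Cfsg.sigma L) (hI : IsIdealPrime r G) {y : G} (hyL : y ∈ L) (hy : y ^ r = 1) (hy1 : y ≠ 1) :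
    Subgroup.centralizer ({y} : Set G) ≤ L ∧
      ∀ L' : Subgroup G, IsCoatom L' → Subgroup.centralizer ({y} : Set G) ≤ L' → L' = L := by
  obtain ⟨S, hS⟩ := ((IsPGroup.of_card (n := 1) (G := Subgroup.zpowers y) (by
    rw [Nat.card_zpowers, orderOf_eq_prime hy hy1, pow_one])).of_equiv
      (Subgroup.subgroupOfEquivOfLe (Subgroup.zpowers_le.mpr hyL)).symm).exists_le_sylow
  obtain ⟨P, hP⟩ := sigma_sylow hG hL hrs S
  have hPL : (P : Subgroup G) ≤ L := hP ▸ Subgroup.map_subtype_le _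
  have hyP : y ∈ (P : Subgroup G) := hP ▸ ⟨⟨y, hyL⟩, hS (Subgroup.mem_zpowers y : y ∈ Subgroup.zpowers y), rfl⟩
  have hne : Subgroup.centralizer ({y} : Set G) ≠ ⊤ := centralizer_ne_top hG (Set.mem_singleton y) hy1
  suffices ∃ X : Subgroup G, X ≤ (P : Subgroup G) ∧ IsElementaryAbelian r X ∧ r ^ 2 < Nat.card X ∧
      ∀ x ∈ X, x * y = y * x by
    obtain ⟨X, hXP, hX, hX3, hXy⟩ := this
    exact le_of_rank_three hG hL hX hX3 (hXP.trans hPL) hne
      (fun x hx => Subgroup.mem_centralizer_singleton_iff.mpr (hXy x hx))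
  -- a central element of order `r`
  haveI : Nontrivial (P : Subgroup G) := ⟨⟨⟨y, hyP⟩, 1, fun e => hy1 (congrArg Subtype.val e)⟩⟩
  haveI : Nontrivial (Subgroup.center (P : Subgroup G)) := P.2.center_nontrivial
  have hrc : r ∣ Nat.card (Subgroup.center (P : Subgroup G)) := by
    rcases (P.2.to_subgroup (Subgroup.center (P : Subgroup G))).card_eq_or_dvd with e | e
    · exact absurd e Finite.one_lt_card.ne'
    · exact e
  obtain ⟨z, hz⟩ := exists_prime_orderOf_dvd_card' r hrc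
  set zG : G := ((z : (P : Subgroup G)) : G) with hzG
  have hzo : orderOf zG = r := by rw [hzG, Subgroup.orderOf_coe, Subgroup.orderOf_coe, hz]
  have hzP : zG ∈ (P : Subgroup G) := (z : (P : Subgroup G)).2
  have hzc : ∀ w ∈ (P : Subgroup G), w * zG = zG * w := fun w hw =>
    congrArg Subtype.val (Subgroup.mem_center_iff.mp z.2 ⟨w, hw⟩)
  have hea : ∀ v : G, v ^ r = 1 → IsElementaryAbelian r (Subgroup.zpowers v) := by
    intro v hv
    refine ⟨⟨⟨fun a b => ?_⟩⟩, ?_⟩
    · obtain ⟨⟨_, i, rfl⟩, ⟨_, j, rfl⟩⟩ := a, b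
      exact Subtype.ext (Commute.zpow_zpow (Commute.refl v) i j).eq
    · rintro _ ⟨i, rfl⟩
      rw [← zpow_natCast, ← zpow_mul, mul_comm, zpow_mul, zpow_natCast, hv, one_zpow]
  by_cases hmem : y ∈ Subgroup.zpowers zG
  · obtain ⟨i, rfl⟩ := hmem
    have hr3 : ¬ PRankLE r 2 (P : Subgroup G) := fun h => hI.2.1 fun X hXc hXe => by
      obtain ⟨Q, hQ⟩ := (isPGroup_of_exponent hXe).exists_le_sylow
      obtain ⟨g, hg⟩ := MulAction.exists_smul_eq G Q P
      have hle : X.map (MulAut.conj g).toMonoidHom ≤ (P : Subgroup G) := hg ▸ Subgroup.map_mono hQ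
      have h2 := pRankLE_iff_le.mp h _ hle (ea_map ⟨hXc, hXe⟩ _)
      rwa [Subgroup.card_map_of_injective (MulAut.conj g).injective] at h2
    obtain ⟨X, hXP, hX, hX3⟩ := exists_ea_three hr3
    exact ⟨X, hXP, hX, hX3, fun x hx => ((show Commute x zG from hzc x (hXP hx)).zpow_right i).eq⟩
  · have hA : IsElementaryAbelian r (Subgroup.zpowers zG ⊔ Subgroup.zpowers y) :=
      ea_sup_zpowers (hea _ (hzo ▸ pow_orderOf_eq_one _)) (Subgroup.mem_centralizer_iff.mpr (by
        rintro _ ⟨i, rfl⟩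
        exact ((show Commute zG y from (hzc y hyP).symm).zpow_left i).eq)) hy
    set A := Subgroup.zpowers zG ⊔ Subgroup.zpowers y with hAdef
    have hAP : A ≤ (P : Subgroup G) := sup_le (Subgroup.zpowers_le.mpr hzP) (Subgroup.zpowers_le.mpr hyP)
    have hAc : r < Nat.card A := by
      rw [← hzo, ← Nat.card_zpowers]
      refine lt_of_le_of_ne (Subgroup.card_le_of_le le_sup_left) fun e => hmem ?_
      rw [Subgroup.eq_of_le_of_card_ge (le_sup_left : _ ≤ A) e.ge]
      exact Subgroup.mem_sup_right (Subgroup.mem_zpowers y)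
    obtain ⟨n, hn⟩ := IsPGroup.iff_card.mp (P.2.to_le hAP)
    have hn2 : 2 ≤ n := by
      by_contra hlt
      have h4 := Nat.pow_le_pow_right hr.out.pos (show n ≤ 1 by omega)
      rw [pow_one, ← hn] at h4
      omega
    rcases eq_or_lt_of_le hn2 with e | e
    · obtain ⟨B, hBP, hB, hlt⟩ := hI.2.2 P A hAP hA (by rw [hn, ← e])
      refine ⟨B, hBP, hB, ?_, fun x hx => (ea_commute hB hx
        (hlt.le (Subgroup.mem_sup_right (Subgroup.mem_zpowers y)))).eq⟩
      have := Basics.card_lt_of_lt hlt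
      rwa [hn, ← e] at this
    · exact ⟨A, hAP, hA, by rw [hn]; exact Nat.pow_lt_pow_right hr.out.one_lt e, fun x hx => (ea_commute hA hx
        (Subgroup.mem_sup_right (Subgroup.mem_zpowers y))).eq⟩

/-- The only conjugate of `M` containing the centralizer of a `σ(M)`-subgroup of `M` is `M`. -/
theorem conj_eq_of_centralizer_le (hG : IsMinSimpleOddOrder G) {M L X : Subgroup G} (hM : IsCoatom M) {p : ℕ}
    [Fact p.Prime] (hp : p ∈ Cfsg.sigma M) (hX : IsPGroup p X) (hX1 : X ≠ ⊥) (hXM : X ≤ M) {g : G}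
    (hL : L = M.map (MulAut.conj g).toMonoidHom) (hXL : X ≤ L) (hC : Subgroup.centralizer (X : Set G) ≤ L) :
    L = M := by
  subst hL
  have hle : X.map (MulAut.conj g⁻¹).toMonoidHom ≤ M := by
    rintro _ ⟨x, hx, rfl⟩
    obtain ⟨m, hm, e⟩ := hXL hx
    change g⁻¹ * x * g⁻¹⁻¹ ∈ M
    rw [← e]
    simpa [mul_assoc] using hm
  obtain ⟨m, hm, c, hc, e⟩ := sigma_fusion hG hM hp hX hX1 hXM hle
  have hg : g = c⁻¹ * m⁻¹ := by rw [← inv_inv g, e, mul_inv_rev]
  obtain ⟨k, hk, ek⟩ := hC hc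
  rw [hg] at ek
  change c⁻¹ * m⁻¹ * k * (c⁻¹ * m⁻¹)⁻¹ = c at ek
  have hck : c = m⁻¹ * k * m := by
    calc c = c * c * c⁻¹ := by group
      _ = c * (c⁻¹ * m⁻¹ * k * (c⁻¹ * m⁻¹)⁻¹) * c⁻¹ := by rw [ek]
      _ = _ := by group
  have hcM : c ∈ M := hck ▸ mul_mem (mul_mem (inv_mem hm) hk) hm
  exact map_conj_eq_self (hg ▸ mul_mem (inv_mem hcM) (inv_mem hm))

/-- In a derived group a subgroup normalizing an `r`-subgroup of coprime order centralizes it, for `r ∉ β`. -/
theorem commute_of_not_beta (hG : IsMinSimpleOddOrder G) {H : Subgroup G} (hH : IsCoatom H) {r : ℕ}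
    [hr : Fact r.Prime] (hrb : r ∉ Cfsg.beta H) {U A : Subgroup G} (hU : IsPGroup r U) (hUH : U ≤ ⁅H, H⁆)
    (hAH : A ≤ ⁅H, H⁆) (hA : ¬ r ∣ Nat.card A) (hAU : A ≤ Subgroup.normalizer (U : Set G)) :
    A ≤ Subgroup.centralizer (U : Set G) := by
  by_cases hrH : r ∣ Nat.card H
  swap
  · rcases hU.card_eq_or_dvd with e | e
    · rw [Subgroup.card_eq_one.mp e]
      intro a _
      rw [Subgroup.mem_centralizer_iff]
      rintro v hv
      rw [Subgroup.mem_bot.mp hv, mul_one, one_mul]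
    · exact absurd (e.trans (Subgroup.card_dvd_of_le (hUH.trans (H.map_subtype_commutator ▸
        Subgroup.map_subtype_le _)))) hrH
  obtain ⟨-, hN⟩ := facts_of_not_beta hG hH hrH hrb
  set N := (Cfsg.pPrimeCore r ↥(commutator ↥H)).map ((H.subtype).comp (commutator ↥H).subtype)
  have hAN : A ≤ N := by
    intro a ha
    obtain ⟨n, hn⟩ := hN.2.2.2 a (hAH ha)
    have hcop : (orderOf a).Coprime (r ^ n) := (((hr.out.coprime_iff_not_dvd.mpr hA).pow_left n).symm).coprime_dvd_left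
      (Subgroup.orderOf_dvd_natCard _ ha)
    obtain ⟨k, hk⟩ := exists_pow_eq_self_of_coprime hcop.symm
    exact hk ▸ pow_mem hn k
  have hUN : U ⊓ N = ⊥ := (Subgroup.disjoint_of_coprime_natCard (by
    obtain ⟨k, hk⟩ := IsPGroup.iff_card.mp hU
    rw [hk]
    exact (Nat.Coprime.pow_left k hN.2.2.1.symm))).eq_bot
  rw [Subgroup.le_centralizer_iff]
  intro u hu
  rw [Subgroup.mem_centralizer_iff]
  intro a ha
  have h1 : a * u * a⁻¹ * u⁻¹ ∈ U := mul_mem ((Subgroup.mem_normalizer_iff.mp (hAU ha) u).mp hu) (inv_mem hu)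
  have h2 : a * u * a⁻¹ * u⁻¹ ∈ N := by
    rw [mul_assoc, mul_assoc, ← mul_assoc u]
    exact mul_mem (hAN ha) ((Subgroup.mem_normalizer_iff.mp (hN.2.1 (hUH hu)) _).mp (inv_mem (hAN ha)))
  have h3 : a * u * a⁻¹ * u⁻¹ = 1 := by rw [← Subgroup.mem_bot, ← hUN]; exact ⟨h1, h2⟩
  exact mul_inv_eq_iff_eq_mul.mp (mul_inv_eq_one.mp h3)

/-- An element of `H'` normalizes trivially: `[U, A] = 1` from the second commutator. -/
theorem le_centralizer_of_commutator_le (hG : IsMinSimpleOddOrder G) {H : Subgroup G} (hH : IsCoatom H) {r : ℕ}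
    [hr : Fact r.Prime] (hrb : r ∉ Cfsg.beta H) {U A : Subgroup G} (hU : IsPGroup r U) (hUA : ⁅U, A⁆ ≤ ⁅H, H⁆)
    (hAH : A ≤ ⁅H, H⁆) (hA : ¬ r ∣ Nat.card A) (hAU : A ≤ Subgroup.normalizer (U : Set G))
    (hsol : Group.IsSolvable U) :
    A ≤ Subgroup.centralizer (U : Set G) := by
  have hcop : (Nat.card A).Coprime (Nat.card U) := by
    obtain ⟨k, hk⟩ := IsPGroup.iff_card.mp hU
    rw [hk]
    exact ((hr.out.coprime_iff_not_dvd.mpr hA).pow_left k).symm
  refine Basics.le_centralizer_of_commutator_commutator_eq_bot A U hAU hcop (Or.inr hsol) ?_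
  rw [Subgroup.commutator_eq_bot_iff_le_centralizer, Subgroup.le_centralizer_iff]
  exact commute_of_not_beta hG hH hrb (hU.to_le (Subgroup.le_normalizer_iff_commutator_le_left.mp hAU)) hUA hAH hA
    (Subgroup.normalizer_commutator_ge_right _ _)

/-- When `α(M)` is empty the derived group of `M` lies in its Fitting subgroup. -/
theorem commutator_le_fitting_of_alpha (hG : IsMinSimpleOddOrder G) {M : Subgroup G} (hM : IsCoatom M)
    (h : ∀ r : ℕ, r.Prime → PRankLE r 2 M) : commutator M ≤ Cfsg.fittingSubgroup M := by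
  haveI : Group.IsSolvable M := isSolvable_of_ne_top hG hM.1
  exact commutator_le_fittingSubgroup (odd_card_subgroup hG M) fun r hr X _ hX => h r hr X hX.1 hX.2

end Cfsg.Agent.OddLocal
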