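import Cfsg.Agent.Lib.OddLocal.Sigma
import Cfsg.Agent.Lib.OddLocal.PiCore
import Cfsg.Agent.Lib.Transfer.Control

/-! `M_α` and `M_σ` are Hall subgroups (BG 10.2). -/

set_option autoImplicit false

namespace Cfsg.Agent.OddLocal

open scoped commutatorElement

variable {G : Type*} [Group G] [Finite G]

/-- A quotient by a normal subgroup of order prime to `r` does not raise the `r`-rank. -/
theorem pRankLE_quotient {H : Type*} [Group H] [Finite H] {r k : ℕ} [hr : Fact r.Prime] {K : Subgroup H}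
    [K.Normal] (hK : ¬ r ∣ Nat.card K) (h : PRankLE r k H) : PRankLE r k (H ⧸ K) := by
  intro X hXc hXe
  set π := QuotientGroup.mk' K
  obtain ⟨S, hXS⟩ := (isPGroup_of_exponent (p := r) hXe).exists_le_sylow
  obtain ⟨T, hT⟩ := Sylow.mapSurjective_surjective (QuotientGroup.mk'_surjective K) r S
  set X' := X.comap π ⊓ (T : Subgroup H)
  have hker : ∀ a ∈ (T : Subgroup H), π a = 1 → a = 1 := by
    intro a ha h1
    obtain ⟨n, hn⟩ := IsPGroup.iff_card.mp T.2
    exact orderOf_eq_one_iff.mp (Nat.eq_one_of_dvd_coprimes ((hr.out.coprime_iff_not_dvd.mpr hK).pow_left n)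
      (hn ▸ Subgroup.orderOf_dvd_natCard _ ha) (Subgroup.orderOf_dvd_natCard _ ((QuotientGroup.eq_one_iff a).mp h1)))
  have hmap : X'.map π = X := by
    refine le_antisymm (Subgroup.map_le_iff_le_comap.mpr inf_le_left) fun y hy => ?_
    rw [← hT] at hXS
    obtain ⟨a, ha, rfl⟩ : y ∈ (T : Subgroup H).map π := hXS hy
    exact ⟨a, ⟨hy, ha⟩, rfl⟩
  have hcard : Nat.card X = Nat.card X' := by
    have h1 := Basics.card_map_mul_card_inf_ker π X'
    have hinj : X' ⊓ π.ker = ⊥ := eq_bot_iff.mpr fun a ha => Subgroup.mem_bot.mpr (hker a ha.1.2 ha.2)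
    rwa [hmap, hinj, Subgroup.card_bot, mul_one] at h1
  rw [hcard]
  refine h X' ⟨⟨fun a b => Subtype.ext ?_⟩⟩ fun a ha => ?_
  · have h1 : π ((a : H) * b * ((b : H) * a)⁻¹) = 1 := by
      rw [map_mul, map_inv, map_mul, map_mul,
        (ea_commute ⟨hXc, hXe⟩ (show π a ∈ X from a.2.1) (show π b ∈ X from b.2.1)).eq, mul_inv_cancel]
    exact mul_inv_eq_one.mp (hker _ (mul_mem (mul_mem a.2.2 b.2.2) (inv_mem (mul_mem b.2.2 a.2.2))) h1)
  · exact hker _ (pow_mem ha.2 r) (by rw [map_pow]; exact hXe _ ha.1)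

theorem coatom_ne_top {M : Subgroup G} (hM : IsCoatom M) : M ≠ ⊤ := hM.1

theorem commutator_eq_top (hG : IsMinSimpleOddOrder G) : commutator G = ⊤ := by
  have := hG.2.1
  refine (IsSimpleGroup.eq_bot_or_eq_top_of_normal (commutator G) inferInstance).resolve_left fun h => ?_
  refine hG.2.2.1 ⟨⟨fun a b => ?_⟩⟩
  have h1 : ⁅a, b⁆ ∈ commutator G := Subgroup.commutator_mem_commutator (Subgroup.mem_top a) (Subgroup.mem_top b)
  rw [h, Subgroup.mem_bot] at h1
  exact commutatorElement_eq_one_iff_mul_comm.mp h1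

/-- A Sylow `p`-subgroup of `M` is in `M'` for `p ∈ σ(M)`. -/
theorem sigma_sylow_le_commutator (hG : IsMinSimpleOddOrder G) {M : Subgroup G} (hM : IsCoatom M) {p : ℕ}
    [hp : Fact p.Prime] (h : p ∈ Cfsg.sigma M) (S : Sylow p M) : (S : Subgroup M) ≤ commutator M := by
  obtain ⟨P, hP⟩ := sigma_sylow hG hM h S
  have hPM : (P : Subgroup G) ≤ M := hP ▸ Subgroup.map_subtype_le _
  have key := Transfer.commutator_inf_eq_of_control P M hPM fun x hx g hg => by
    rcases eq_or_ne x 1 with rfl | hx1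
    · exact ⟨1, one_mem _, by group⟩
    · have hz : Subgroup.zpowers x ≤ (P : Subgroup G) := Subgroup.zpowers_le.mpr hx
      obtain ⟨m, hm, c, hc, e⟩ := sigma_fusion hG hM h (P.2.to_le hz) (by simpa using hx1) (hz.trans hPM)
        (g := g⁻¹) (by
          rw [MonoidHom.map_zpowers, Subgroup.zpowers_le]
          simpa using hPM hg)
      refine ⟨m⁻¹, inv_mem hm, ?_⟩
      have hcx : x * c = c * x := Subgroup.mem_centralizer_iff.mp hc x (Subgroup.mem_zpowers x)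
      have hg' : g = c⁻¹ * m⁻¹ := by rw [← inv_inv g, e, mul_inv_rev]
      rw [hg']
      calc (m⁻¹)⁻¹ * x * m⁻¹ = m * (c * x) * c⁻¹ * m⁻¹ := by rw [← hcx]; group
        _ = _ := by group
  rw [commutator_eq_top hG, top_inf_eq] at key
  have hPc : (P : Subgroup G) ≤ ⁅M, M⁆ := key.le.trans inf_le_left
  intro s hs
  have h1 : (s : G) ∈ (commutator M).map M.subtype := by
    rw [M.map_subtype_commutator]
    exact hPc (hP ▸ ⟨s, hs, rfl⟩)
  obtain ⟨t, ht, e⟩ := h1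
  exact (Subtype.ext e : t = s) ▸ ht

theorem alpha_subset_sigma (hG : IsMinSimpleOddOrder G) {M : Subgroup G} (hM : IsCoatom M) :
    Cfsg.alpha M ⊆ Cfsg.sigma M := by
  rintro p ⟨hp, hr⟩
  have : Fact p.Prime := ⟨hp⟩
  obtain ⟨X, hXM, hX, hX3⟩ := pRankLE_not_iff hr
  have hpM : p ∣ Nat.card M :=
    (dvd_card_of_ea ⟨⟨⟨fun a b => Subtype.ext (Subtype.ext (ea_commute hX a.2 b.2).eq)⟩⟩,
      fun a ha => Subtype.ext (hX.2 _ ha)⟩ (by
        rw [Basics.card_subgroupOf hXM]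
        exact lt_of_le_of_lt (Nat.one_le_pow _ _ hp.pos) hX3))
  obtain ⟨S, hS⟩ := ((isPGroup_of_exponent hX.2).comap_subtype (K := M)).exists_le_sylow
  refine ⟨hp, hpM, S, ?_⟩
  have hXS : X ≤ (S : Subgroup M).map M.subtype := fun x hx => ⟨⟨x, hXM hx⟩, hS hx, rfl⟩
  have hU := inUniqueMaximal_of_rank_three hG hX hX3
  have hne : (S : Subgroup M).map M.subtype ≠ ⊥ := fun e => by
    rw [e, le_bot_iff] at hXS
    rw [hXS, Subgroup.card_bot] at hX3
    exact (Nat.one_le_pow _ _ hp.pos).not_gt hX3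
  obtain ⟨L, hL, hNL⟩ := exists_maximal_ge (normalizer_ne_top hG hne (pGroup_ne_top hG (S.2.map _)))
  exact hU.unique ⟨hL, hXS.trans (Subgroup.le_normalizer.trans hNL)⟩ ⟨hM, hXM⟩ ▸ hNL

theorem sigma_not_dvd_index (hG : IsMinSimpleOddOrder G) {M : Subgroup G} (hM : IsCoatom M) {p : ℕ}
    [hp : Fact p.Prime] (h : p ∈ Cfsg.sigma M) : ¬ p ∣ M.index := by
  obtain ⟨S⟩ : Nonempty (Sylow p M) := inferInstance
  obtain ⟨P, hP⟩ := sigma_sylow hG hM h S
  exact fun hd => P.not_dvd_index (hd.trans (Subgroup.index_dvd_of_le (hP ▸ Subgroup.map_subtype_le _)))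

/-- The quotient `M/M_α`. -/
theorem alpha_quotient (hG : IsMinSimpleOddOrder G) {M : Subgroup G} (hM : IsCoatom M) :
    Cfsg.RankLE 2 (↥M ⧸ Cfsg.piCore (Cfsg.alpha M) ↥M) ∧
      commutator (↥M ⧸ Cfsg.piCore (Cfsg.alpha M) ↥M) ≤ Cfsg.fittingSubgroup _ ∧
      ∀ p ∈ Cfsg.alpha M, ¬ p ∣ Nat.card (↥M ⧸ Cfsg.piCore (Cfsg.alpha M) ↥M) := by
  set K := Cfsg.piCore (Cfsg.alpha M) ↥M with hK
  have hsol : Group.IsSolvable M := isSolvable_of_ne_top hG hM.1
  have hodd : Odd (Nat.card (↥M ⧸ K)) := (odd_card_subgroup hG M).of_dvd_nat (Subgroup.card_quotient_dvd_card _)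
  have hout : ∀ r : ℕ, ∀ _ : Fact r.Prime, r ∉ Cfsg.alpha M → PRankLE r 2 (↥M ⧸ K) := fun r hr hra =>
    pRankLE_quotient (fun hd => hra (piCore_primes _ hr.out hd)) (by_contra fun hn => hra ⟨hr.out, hn⟩)
  have hcore : ∀ r ∈ Cfsg.alpha M, Cfsg.pCore r (↥M ⧸ K) = ⊥ := by
    intro r hra
    have : Fact r.Prime := ⟨hra.1⟩
    have hle : (Cfsg.pCore r (↥M ⧸ K)).comap (QuotientGroup.mk' K) ≤ K := by
      refine le_sSup ⟨inferInstance, fun q hq hd => ?_⟩
      have h2 := Basics.card_map_mul_card_inf_ker (QuotientGroup.mk' K) ((Cfsg.pCore r (↥M ⧸ K)).comap (QuotientGroup.mk' K))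
      rw [Subgroup.map_comap_eq_self_of_surjective (QuotientGroup.mk'_surjective K), QuotientGroup.ker_mk'] at h2
      rw [← h2] at hd
      rcases hq.dvd_mul.mp hd with hd | hd
      · obtain ⟨n, hn⟩ := IsPGroup.iff_card.mp (Basics.pCore_isPGroup (G := ↥M ⧸ K) r)
        exact (Nat.prime_dvd_prime_iff_eq hq hra.1).mp (hq.dvd_of_dvd_pow (hn ▸ hd)) ▸ hra
      · exact piCore_primes _ hq (hd.trans (Subgroup.card_dvd_of_le inf_le_right))
    rw [eq_bot_iff]
    intro y hy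
    obtain ⟨x, rfl⟩ := QuotientGroup.mk'_surjective K y
    exact Subgroup.mem_bot.mpr ((QuotientGroup.eq_one_iff x).mpr (hle hy))
  have hrF : ∀ r : ℕ, r.Prime → ∀ X : Subgroup (↥M ⧸ K), X ≤ Cfsg.pCore r (↥M ⧸ K) → IsElementaryAbelian r X →
      Nat.card X ≤ r ^ 2 := by
    intro r hr X hX hea
    by_cases hra : r ∈ Cfsg.alpha M
    · rw [hcore r hra, le_bot_iff] at hX
      rw [hX, Subgroup.card_bot]
      exact Nat.one_le_pow _ _ hr.pos
    · exact hout r ⟨hr⟩ hra X hea.1 hea.2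
  have hder := commutator_le_fittingSubgroup hodd hrF
  have hnd : ∀ p ∈ Cfsg.alpha M, ¬ p ∣ Nat.card (↥M ⧸ K) := by
    intro p hpa hd
    have : Fact p.Prime := ⟨hpa.1⟩
    obtain ⟨S⟩ : Nonempty (Sylow p M) := inferInstance
    have hS := sigma_sylow_le_commutator hG hM (alpha_subset_sigma hG hM hpa) S
    refine Sylow.ne_bot_of_dvd_card (S.mapSurjective (QuotientGroup.mk'_surjective K)) hd (eq_bot_iff.mpr ?_)
    rintro _ ⟨s, hs, rfl⟩
    rw [← hcore p hpa]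
    refine mem_pCore_of_mem_fitting (hder ?_) ?_
    · rw [commutator, ← Subgroup.map_top_of_surjective _ (QuotientGroup.mk'_surjective K), ← Subgroup.map_commutator]
      exact ⟨s, hS hs, rfl⟩
    · obtain ⟨j, hj⟩ := S.2 ⟨s, hs⟩
      exact ⟨j, by rw [← map_pow, show s ^ p ^ j = 1 from congrArg Subtype.val hj, map_one]⟩
  refine ⟨fun r hr => ?_, hder, hnd⟩
  have : Fact r.Prime := ⟨hr⟩
  by_cases hra : r ∈ Cfsg.alpha M
  · intro X hXc hXe
    by_contra h
    exact hnd r hra (dvd_card_of_ea ⟨hXc, hXe⟩ (lt_of_le_of_lt (Nat.one_le_pow _ _ hr.pos) (not_le.mp h)))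
  · exact hout r ⟨hr⟩ hra

theorem piCore_alpha_le_sigma (hG : IsMinSimpleOddOrder G) {M : Subgroup G} (hM : IsCoatom M) :
    Cfsg.piCore (Cfsg.alpha M) ↥M ≤ Cfsg.piCore (Cfsg.sigma M) ↥M :=
  le_sSup ⟨inferInstance, fun _ hr hd => alpha_subset_sigma hG hM (piCore_primes _ hr hd)⟩

theorem piHall_of_piCore {π : Set ℕ} {M : Subgroup G} (h : ∀ p ∈ π, p.Prime → ¬ p ∣ (Cfsg.piCore π M).index)
    (hi : ∀ p ∈ π, p.Prime → ¬ p ∣ M.index) :
    Cfsg.IsPiHallOf π (Cfsg.piCoreOf π M) M ∧ Cfsg.IsPiHall π (Cfsg.piCoreOf π M) := by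
  have hrel : (Cfsg.piCoreOf π M).relIndex M = (Cfsg.piCore π M).index := by
    rw [Subgroup.relIndex, piCoreOf, Subgroup.subgroupOf, Subgroup.comap_map_eq_self_of_injective M.subtype_injective]
  refine ⟨⟨piCoreOf_le π M, fun p hp hd => piCoreOf_primes π M hp hd, fun p hp hpπ => hrel ▸ h p hpπ hp⟩,
    fun p hp hd => piCoreOf_primes π M hp hd, fun p hp hpπ hd => ?_⟩
  rw [← Subgroup.relIndex_mul_index (piCoreOf_le π M), hrel] at hd
  rcases hp.dvd_mul.mp hd with e | e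
  · exact h p hpπ hp e
  · exact hi p hpπ hp e

theorem alphaCore_hall (hG : IsMinSimpleOddOrder G) {M : Subgroup G} (hM : IsCoatom M) :
    Cfsg.IsPiHallOf (Cfsg.alpha M) (Cfsg.alphaCore M) M ∧ Cfsg.IsPiHall (Cfsg.alpha M) (Cfsg.alphaCore M) :=
  piHall_of_piCore (fun p hpa _ => by
      rw [Subgroup.index_eq_card]; exact (alpha_quotient hG hM).2.2 p hpa)
    (fun p hpa hp => @sigma_not_dvd_index _ _ _ hG M hM p ⟨hp⟩ (alpha_subset_sigma hG hM hpa))

/-- `M_σ` is a Hall subgroup of `M` and of `G`. -/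
theorem sigmaCore_hall (hG : IsMinSimpleOddOrder G) {M : Subgroup G} (hM : IsCoatom M) :
    Cfsg.IsPiHallOf (Cfsg.sigma M) (Cfsg.sigmaCore M) M ∧ Cfsg.IsPiHall (Cfsg.sigma M) (Cfsg.sigmaCore M) := by
  refine piHall_of_piCore (fun p hps hp hd => ?_) (fun p hps hp => @sigma_not_dvd_index _ _ _ hG M hM p ⟨hp⟩ hps)
  have : Fact p.Prime := ⟨hp⟩
  obtain ⟨-, hder, -⟩ := alpha_quotient hG hM
  set K := Cfsg.piCore (Cfsg.alpha M) ↥M with hK
  set L := (Cfsg.pCore p (↥M ⧸ K)).comap (QuotientGroup.mk' K) with hL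
  have hLle : L ≤ Cfsg.piCore (Cfsg.sigma M) ↥M := by
    refine le_sSup ⟨inferInstance, fun q hq hqd => ?_⟩
    have h2 := Basics.card_map_mul_card_inf_ker (QuotientGroup.mk' K) L
    rw [hL, Subgroup.map_comap_eq_self_of_surjective (QuotientGroup.mk'_surjective K), QuotientGroup.ker_mk', ← hL] at h2
    rw [← h2] at hqd
    rcases hq.dvd_mul.mp hqd with e | e
    · obtain ⟨n, hn⟩ := IsPGroup.iff_card.mp (Basics.pCore_isPGroup (G := ↥M ⧸ K) p)
      exact (Nat.prime_dvd_prime_iff_eq hq hp).mp (hq.dvd_of_dvd_pow (hn ▸ e)) ▸ hps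
    · exact alpha_subset_sigma hG hM (piCore_primes _ hq (e.trans (Subgroup.card_dvd_of_le inf_le_right)))
  obtain ⟨S⟩ : Nonempty (Sylow p M) := inferInstance
  refine S.not_dvd_index (hd.trans (Subgroup.index_dvd_of_le (le_trans ?_ hLle)))
  intro s hs
  refine mem_pCore_of_mem_fitting (hder ?_) ?_
  · rw [commutator, ← Subgroup.map_top_of_surjective _ (QuotientGroup.mk'_surjective K), ← Subgroup.map_commutator]
    exact ⟨s, sigma_sylow_le_commutator hG hM hps S hs, rfl⟩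
  · obtain ⟨j, hj⟩ := S.2 ⟨s, hs⟩
    exact ⟨j, by rw [← map_pow, show s ^ p ^ j = 1 from congrArg Subtype.val hj, map_one]⟩

end Cfsg.Agent.OddLocal
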