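import Cfsg.Agent.Lib.OddLocal.NonAbUnique

/-! Centralizers of elements of order `p` for `p ∈ σ(M)` (BG 12.13). -/

set_option autoImplicit false
set_option linter.unusedSectionVars false
set_option linter.style.haveILetI false

namespace Cfsg.Agent.OddLocal

open scoped commutatorElement Pointwise
open Cfsg
open Basics (IsSylowIn)

universe u

theorem commutator_le_center_of_card_cube {H : Type*} [Group H] [Finite H] {p : ℕ} [hp : Fact p.Prime]
    (hc : Nat.card H = p ^ 3) : commutator H ≤ Subgroup.center H := by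
  set Z := Subgroup.center H
  have hq : Nat.card (H ⧸ Z) ∣ p ^ 3 := hc ▸ Subgroup.card_quotient_dvd_card Z
  obtain ⟨m, hm, e⟩ := (Nat.dvd_prime_pow hp.out).mp hq
  rw [← Subgroup.Normal.quotient_commutative_iff_commutator_le]
  interval_cases m
  · haveI := (Nat.card_eq_one_iff_unique.mp (e.trans (pow_zero p))).1
    exact ⟨⟨fun a b => Subsingleton.elim _ _⟩⟩
  · haveI := isCyclic_of_prime_card (e.trans (pow_one p))
    exact IsCyclic.isMulCommutative
  · exact IsPGroup.isMulCommutative_of_card_eq_prime_sq e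
  · exfalso
    haveI : Nontrivial H := Finite.one_lt_card_iff_nontrivial.mp
      (hc ▸ Nat.one_lt_pow (by norm_num) hp.out.one_lt)
    haveI := (IsPGroup.of_card hc).center_nontrivial
    have h1 := Subgroup.card_eq_card_quotient_mul_card_subgroup Z
    rw [hc, e] at h1
    exact (Finite.one_lt_card (α := Z)).ne' (by
      have := Nat.eq_of_mul_eq_mul_left (pow_pos hp.out.pos 3) (((mul_one _).trans h1) : p ^ 3 * 1 = _)
      exact this.symm)

variable {G : Type u} [Group G] [Finite G] {p : ℕ} [hp : Fact p.Prime]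

/-- An element of order `p` of the derived subgroup of a nonabelian Sylow subgroup. -/
theorem derived_centralizer (hG : IsMinSimpleOddOrder G) {M : Subgroup G} (hM : IsCoatom M) (T : Sylow p G)
    (hTM : (T : Subgroup G) ≤ M) {y : G} (hy : y ∈ ⁅(T : Subgroup G), (T : Subgroup G)⁆) (hy1 : y ≠ 1)
    (hyp : y ^ p = 1) :
    Subgroup.centralizer ({y} : Set G) ≤ M ∧
      ∀ L : Subgroup G, IsCoatom L → Subgroup.centralizer ({y} : Set G) ≤ L → L = M := by
  have hna : ¬ IsMulCommutative (T : Subgroup G) := fun h => hy1 (Subgroup.mem_bot.mp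
    ((Subgroup.commutator_eq_bot_iff_le_centralizer.mpr (Subgroup.le_centralizer_iff_isMulCommutative.mpr h)).le hy))
  have hne : Subgroup.centralizer ({y} : Set G) ≠ ⊤ := centralizer_ne_top hG (Set.mem_singleton y) hy1
  have hyT : y ∈ (T : Subgroup G) := Subgroup.commutator_le_self _ hy
  have hp2 : p ≠ 2 := prime_ne_two hG (orderOf_eq_prime hyp hy1 ▸ orderOf_dvd_natCard y)
  have huniq := nonAb_inUniqueMaximal hG T.2 hna
  by_cases hcen : (T : Subgroup G) ≤ Subgroup.centralizer ({y} : Set G)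
  · refine ⟨?_, fun L hL hle => huniq.unique ⟨hL, hcen.trans hle⟩ ⟨hM, hTM⟩⟩
    obtain ⟨L, hL, hle⟩ := exists_maximal_ge hne
    exact hle.trans (huniq.unique ⟨hL, hcen.trans hle⟩ ⟨hM, hTM⟩).le
  by_cases hr : PRankLE p 2 (T : Subgroup G)
  · exfalso
    rcases S1412.result hG p T hr with hab | ⟨P₁, P₂, hsup, hcomm, -, hc, -, hcyc, -⟩
    · exact hna hab
    refine hcen ?_
    have h12 : P₂ ≤ Subgroup.centralizer (P₁ : Set G) := fun b hb =>
      Subgroup.mem_centralizer_iff.mpr fun a ha => hcomm a ha b hb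
    haveI := hcyc
    have h22 : P₂ ≤ Subgroup.centralizer (P₂ : Set G) :=
      Subgroup.le_centralizer_iff_isMulCommutative.mpr IsCyclic.isMulCommutative
    have hP₁c : ⁅P₁, P₁⁆ ≤ Subgroup.centralizer (P₁ : Set G) := by
      rw [← P₁.map_subtype_commutator]
      rintro _ ⟨c, hc', rfl⟩
      exact Subgroup.mem_centralizer_iff.mpr fun a ha => congrArg Subtype.val
        (Subgroup.mem_center_iff.mp (commutator_le_center_of_card_cube hc hc') ⟨a, ha⟩)
    have hgoal : ⁅(T : Subgroup G), (T : Subgroup G)⁆ ≤ Subgroup.centralizer ((T : Subgroup G) : Set G) := by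
      rw [← hsup, Subgroup.sup_eq_closure, Subgroup.centralizer_closure, ← Subgroup.sup_eq_closure]
      rw [show Subgroup.centralizer ((P₁ : Set G) ∪ P₂) =
          Subgroup.centralizer (P₁ : Set G) ⊓ Subgroup.centralizer (P₂ : Set G) by
        ext v; simp only [Subgroup.mem_centralizer_iff, Subgroup.mem_inf, Set.mem_union]; aesop]
      rw [Subgroup.commutator_le]
      intro a ha b hb
      have hn : P₂ ≤ Subgroup.normalizer (P₁ : Set G) := h12.trans (Subgroup.centralizer_le_normalizer _)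
      obtain ⟨a₁, ha₁, a₂, ha₂, rfl⟩ := (Basics.mem_sup_of_le_normalizer hn).mp ha
      obtain ⟨b₁, hb₁, b₂, hb₂, rfl⟩ := (Basics.mem_sup_of_le_normalizer hn).mp hb
      have e : ⁅a₁ * a₂, b₁ * b₂⁆ = ⁅a₁, b₁⁆ := by
        have c1 : Commute a₂ b₁ := (hcomm b₁ hb₁ a₂ ha₂).symm
        have c2 : Commute a₁ b₂ := hcomm a₁ ha₁ b₂ hb₂
        have c3 : Commute a₂ b₂ := Subgroup.mem_centralizer_iff.mp (h22 hb₂) a₂ ha₂
        have c4 : Commute a₁ a₂ := hcomm a₁ ha₁ a₂ ha₂
        have c5 : Commute b₁ b₂ := hcomm b₁ hb₁ b₂ hb₂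
        simp only [commutatorElement_def, mul_inv_rev]
        calc a₁ * a₂ * (b₁ * b₂) * (a₂⁻¹ * a₁⁻¹) * (b₂⁻¹ * b₁⁻¹)
            = a₁ * ((a₂ * (b₁ * b₂)) * a₂⁻¹) * a₁⁻¹ * b₂⁻¹ * b₁⁻¹ := by group
          _ = a₁ * (b₁ * b₂) * a₁⁻¹ * b₂⁻¹ * b₁⁻¹ := by rw [(c1.mul_right c3).eq, mul_inv_cancel_right]
          _ = a₁ * b₁ * (b₂ * a₁⁻¹) * b₂⁻¹ * b₁⁻¹ := by group
          _ = a₁ * b₁ * (a₁⁻¹ * b₂) * b₂⁻¹ * b₁⁻¹ := by rw [(c2.inv_left.symm).eq]
          _ = _ := by group
      rw [e]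
      have h3 : ⁅a₁, b₁⁆ ∈ ⁅P₁, P₁⁆ := Subgroup.commutator_mem_commutator ha₁ hb₁
      exact ⟨hP₁c h3, Subgroup.le_centralizer_iff.mp h12 (Subgroup.commutator_le_self _ h3)⟩
    intro t ht
    exact Subgroup.mem_centralizer_singleton_iff.mpr (Subgroup.mem_centralizer_iff.mp (hgoal hy) t ht)
  -- rank at least three
  suffices ∃ X : Subgroup G, X ≤ (T : Subgroup G) ∧ IsElementaryAbelian p X ∧ p ^ 2 < Nat.card X ∧
      ∀ x ∈ X, x * y = y * x by
    obtain ⟨X, hXT, hX, hX3, hXy⟩ := this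
    exact le_of_rank_three hG hM hX hX3 (hXT.trans hTM) hne
      (fun x hx => Subgroup.mem_centralizer_singleton_iff.mpr (hXy x hx))
  obtain ⟨z, hzT, hzo, hzc⟩ := exists_central_mem T.2 le_rfl Subgroup.le_normalizer
    (fun e => hy1 (Subgroup.mem_bot.mp (e ▸ hyT : y ∈ (⊥ : Subgroup G))))
  have hz1 : z ≠ 1 := fun e => by rw [e, orderOf_one] at hzo; exact hp.out.one_lt.ne hzo
  set A := Subgroup.zpowers z ⊔ Subgroup.zpowers y with hA
  have hAe : IsElementaryAbelian p A := by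
    refine ea_sup_zpowers ⟨IsCyclic.isMulCommutative, ?_⟩ ?_ hyp
    · rintro _ ⟨i, rfl⟩
      rw [← zpow_natCast, ← zpow_mul, mul_comm, zpow_mul, zpow_natCast, ← hzo, pow_orderOf_eq_one, one_zpow]
    · rw [Subgroup.zpowers_eq_closure, Subgroup.centralizer_closure]
      exact hzc hyT
  have hAT : A ≤ (T : Subgroup G) := sup_le (Subgroup.zpowers_le.mpr hzT) (Subgroup.zpowers_le.mpr hyT)
  have hyz : y ∉ Subgroup.zpowers z := fun h => hcen (hzc.trans (by
    rw [← Subgroup.centralizer_closure ({z} : Set G), ← Subgroup.zpowers_eq_closure]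
    exact Subgroup.centralizer_le (Set.singleton_subset_iff.mpr h)))
  have hyA : ∀ {B : Subgroup G}, IsElementaryAbelian p B → A ≤ B → ∀ x ∈ B, x * y = y * x := fun hB hAB x hx =>
    (ea_commute hB hx (hAB (Subgroup.mem_sup_right (Subgroup.mem_zpowers y)))).eq
  by_cases h3 : p ^ 2 < Nat.card A
  · exact ⟨A, hAT, hAe, h3, hyA hAe le_rfl⟩
  have hA2 : Nat.card A = p ^ 2 := by
    obtain ⟨k, hk⟩ := IsPGroup.iff_card.mp (T.2.to_le hAT)
    have hlt : p < Nat.card A := by
      rw [← hzo, ← Nat.card_zpowers]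
      exact Basics.card_lt_of_lt (lt_of_le_of_ne le_sup_left fun e =>
        hyz (e.ge (Subgroup.mem_sup_right (Subgroup.mem_zpowers y))))
    rw [hk] at hlt h3 ⊢
    have h1 : 1 < k := (Nat.pow_lt_pow_iff_right hp.out.one_lt).mp ((pow_one p).symm ▸ hlt)
    have h2 : k ≤ 2 := (Nat.pow_le_pow_iff_right hp.out.one_lt).mp (not_lt.mp h3)
    rw [show k = 2 by omega]
  by_cases hmax : ∀ x ∈ (T : Subgroup G), x ∈ Subgroup.centralizer (A : Set G) → x ^ p = 1 → x ∈ A
  swap
  · push Not at hmax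
    obtain ⟨x, hxT, hxc, hxp, hxA⟩ := hmax
    have hB := ea_sup_zpowers hAe hxc hxp
    refine ⟨_, sup_le hAT (Subgroup.zpowers_le.mpr hxT), hB, ?_, hyA hB le_sup_left⟩
    rw [← hA2]
    exact Basics.card_lt_of_lt (lt_of_le_of_ne le_sup_left fun e =>
      hxA (e.ge (Subgroup.mem_sup_right (Subgroup.mem_zpowers x))))
  exfalso
  have hE : MaxEATwo p (A.subgroupOf (T : Subgroup G)) := by
    refine ⟨⟨⟨⟨fun u v => Subtype.ext (Subtype.ext (ea_commute hAe u.2 v.2).eq)⟩⟩,
      fun u hu => Subtype.ext (hAe.2 _ hu)⟩, ?_, fun x hx hxc => ?_⟩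
    · rw [Basics.card_subgroupOf hAT, hA2]
    · exact hmax x x.2 (Subgroup.mem_centralizer_iff.mpr fun b hb => congrArg Subtype.val
        (Subgroup.mem_centralizer_iff.mp hxc ⟨b, hAT hb⟩ hb)) (congrArg Subtype.val hx)
  set r : (T : Subgroup G) := ⟨y, hyT⟩ with hr'
  have hrA : r ∈ A.subgroupOf (T : Subgroup G) := Subgroup.mem_sup_right (Subgroup.mem_zpowers y)
  have hrc : r ∉ Subgroup.center (T : Subgroup G) := fun hc => hcen fun v hv =>
    Subgroup.mem_centralizer_singleton_iff.mpr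
      (congrArg Subtype.val (Subgroup.mem_center_iff.mp hc ⟨v, hv⟩))
  refine hE.notMem_of_noncentral hp2 T.2 hr hrA hrc ?_
  obtain ⟨-, -, -, hidx, -, -⟩ := hE.second hp2 T.2 hr
  set W := Subgroup.centralizer (omegaSecond (R := (T : Subgroup G)) hp2 : Set (T : Subgroup G))
  haveI : (omegaSecond (R := (T : Subgroup G)) hp2).Characteristic := omegaSecond_characteristic (R := (T : Subgroup G)) hp2
  haveI : W.Normal := inferInstance
  haveI : IsCyclic ((T : Subgroup G) ⧸ W) := isCyclic_of_prime_card (p := p) (by rw [← Subgroup.index_eq_card, hidx])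
  have hder : commutator (T : Subgroup G) ≤ W :=
    Subgroup.Normal.quotient_commutative_iff_commutator_le.mp IsCyclic.isMulCommutative
  rw [← (T : Subgroup G).map_subtype_commutator] at hy
  obtain ⟨c, hc, e⟩ := hy
  exact (Subtype.ext e : c = r) ▸ hder hc

/-- Transfer of uniqueness along conjugation inside `M`. -/
theorem unique_of_conj {M : Subgroup G} {k y x : G} (hk : k ∈ M) (hy : k * x * k⁻¹ = y)
    (h : Subgroup.centralizer ({y} : Set G) ≤ M ∧
      ∀ L : Subgroup G, IsCoatom L → Subgroup.centralizer ({y} : Set G) ≤ L → L = M) :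
    Subgroup.centralizer ({x} : Set G) ≤ M ∧
      ∀ L : Subgroup G, IsCoatom L → Subgroup.centralizer ({x} : Set G) ≤ L → L = M := by
  subst hy
  refine ⟨fun c hc => ?_, fun L hL hle => ?_⟩
  · have h1 : k * c * k⁻¹ ∈ M := h.1 (Subgroup.mem_centralizer_singleton_iff.mpr (by
      rw [show k * c * k⁻¹ * (k * x * k⁻¹) = k * (c * x) * k⁻¹ by group,
        Subgroup.mem_centralizer_singleton_iff.mp hc]
      group))
    have h2 := mul_mem (mul_mem (inv_mem hk) h1) hk
    rwa [show k⁻¹ * (k * c * k⁻¹) * k = c by group] at h2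
  · have h1 : L.map (MulAut.conj k).toMonoidHom = M := by
      refine h.2 _ (isCoatom_map_conj hL k) fun c hc => ⟨k⁻¹ * c * k, hle ?_, ?_⟩
      · refine Subgroup.mem_centralizer_singleton_iff.mpr ?_
        have h0 := Subgroup.mem_centralizer_singleton_iff.mp hc
        calc k⁻¹ * c * k * x = k⁻¹ * (c * (k * x * k⁻¹)) * k := by group
          _ = k⁻¹ * (k * x * k⁻¹ * c) * k := by rw [h0]
          _ = _ := by group
      · change k * (k⁻¹ * c * k) * k⁻¹ = c
        group
    calc L = (L.map (MulAut.conj k).toMonoidHom).map (MulAut.conj k⁻¹).toMonoidHom := by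
          rw [map_conj_map_conj, inv_mul_cancel, map_conj_one]
      _ = M := by rw [h1, map_conj_eq_self (inv_mem hk)]

/-- Outside `β(M)` the elements of order `p` of `M_σ'` are conjugate into the derived group of a Sylow subgroup. -/
theorem exists_conj_derived_sylow (hG : IsMinSimpleOddOrder G) {M : Subgroup G} (hM : IsCoatom M)
    (hps : p ∈ Cfsg.sigma M) (hb : p ∉ Cfsg.beta M) {P : Subgroup G} (hP : IsSylowIn p (Cfsg.sigmaCore M) P)
    {U : Subgroup G} (hU : IsPGroup p U) (hUM : U ≤ ⁅Cfsg.sigmaCore M, Cfsg.sigmaCore M⁆) :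
    ∃ k ∈ M, MulAut.conj k • U ≤ ⁅P, P⁆ := by
  set W := Cfsg.sigmaCore M with hW
  obtain ⟨-, hN⟩ := facts_of_not_beta hG hM hps.2.1 hb
  have hN' := hN.mono (sigmaCore_le_derived hG hM)
  set N := (Cfsg.pPrimeCore p ↥(commutator ↥M)).map ((M.subtype).comp (commutator ↥M).subtype) ⊓ W with hNdef
  obtain ⟨hNW, hWN, hcop, hpow⟩ := hN'
  have hPW : P ≤ W := hP.1
  haveI : (N.subgroupOf W).Normal := (Subgroup.normal_subgroupOf_iff_le_normalizer hNW).mpr hWN
  set π := QuotientGroup.mk' (N.subgroupOf W)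
  have hsur : (P.subgroupOf W).map π = ⊤ := by
    obtain ⟨S, hS⟩ := hP.exists_sylow
    have hS' : P.subgroupOf W = (S : Subgroup W) := by
      rw [← hS, Subgroup.subgroupOf, Subgroup.comap_map_eq_self_of_injective W.subtype_injective]
    have hq : IsPGroup p (W ⧸ N.subgroupOf W) := fun v => by
      induction v using QuotientGroup.induction_on with
      | H v =>
        obtain ⟨n, hn⟩ := hpow v v.2
        exact ⟨n, by rw [← QuotientGroup.mk_pow, QuotientGroup.eq_one_iff]; exact hn⟩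
    rw [hS', eq_top_iff]
    exact ((S.mapSurjective (QuotientGroup.mk'_surjective _)).3 (hq.to_subgroup ⊤) le_top).le
  have hder : commutator W ≤ ⁅P.subgroupOf W, P.subgroupOf W⁆ ⊔ N.subgroupOf W := by
    have h3 : (commutator W).map π ≤ ⁅P.subgroupOf W, P.subgroupOf W⁆.map π := by
      rw [commutator_def, Subgroup.map_commutator, Subgroup.map_commutator, hsur]
      exact Subgroup.commutator_mono le_top le_top
    rw [Subgroup.map_le_map_iff, QuotientGroup.ker_mk'] at h3
    exact h3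
  set D := ⁅P, P⁆ with hD
  have hUD : U ≤ N ⊔ D := by
    have h4 := Subgroup.map_mono (f := W.subtype) hder
    rw [Subgroup.map_subtype_commutator, Subgroup.map_sup, Subgroup.map_commutator,
      Subgroup.map_subgroupOf_eq_of_le hPW, Subgroup.map_subgroupOf_eq_of_le hNW, sup_comm] at h4
    exact hUM.trans h4
  have hDP : D ≤ P := Subgroup.commutator_le_self P
  have hDW : D ≤ W := hDP.trans hPW
  have hDs : IsSylowIn p (N ⊔ D) D := by
    refine ⟨le_sup_right, ?_⟩
    obtain ⟨j, hj⟩ := IsPGroup.iff_card.mp (hP.isPGroup.to_le hDP)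
    have hpN : ¬ p ∣ Nat.card N := hp.out.coprime_iff_not_dvd.mp hcop.symm
    rw [Basics.card_sup_of_coprime (hDW.trans hWN) (hj ▸ hcop.pow_right j),
      Nat.factorization_mul Nat.card_pos.ne' Nat.card_pos.ne', Finsupp.add_apply,
      Nat.factorization_eq_zero_of_not_dvd hpN, zero_add, hj, hp.out.factorization_pow, Finsupp.single_eq_same]
  obtain ⟨S, hS, hUS⟩ := exists_sylowIn_ge hU hUD
  obtain ⟨k, hk, e⟩ := hS.exists_conj hDs
  exact ⟨k, sigmaCore_le M (sup_le hNW hDW hk), e ▸ Subgroup.pointwise_smul_le_pointwise_smul_iff.mpr hUS⟩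

/-- BG 12.13. -/
theorem sigma_element_unique (hG : IsMinSimpleOddOrder G) {M : Subgroup G} (hM : IsCoatom M)
    (hps : p ∈ Cfsg.sigma M) {P : Subgroup G} (hP : IsSylowIn p (Cfsg.sigmaCore M) P) {X : Subgroup G}
    (hXM : X ≤ M) (hX : Nat.card X = p)
    (h : p ∈ Cfsg.beta M ∨ X ≤ ⁅Cfsg.sigmaCore M, Cfsg.sigmaCore M⁆) :
    (Subgroup.centralizer (X : Set G) ≤ M ∧
      ∀ L : Subgroup G, IsCoatom L → Subgroup.centralizer (X : Set G) ≤ L → L = M) ∧ Cfsg.InUniqueMaximal P := by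
  obtain ⟨x, hx, hx1, hgen⟩ := exists_ne_one_of_card hX
  have hC : Subgroup.centralizer (X : Set G) = Subgroup.centralizer ({x} : Set G) := by
    rw [← hgen, Subgroup.zpowers_eq_closure, Subgroup.centralizer_closure]
  have hxp : x ^ p = 1 := by
    have h1 : orderOf x = p := by rw [← Nat.card_zpowers, hgen, hX]
    rw [← h1, pow_orderOf_eq_one]
  obtain ⟨T, hT⟩ := hP.exists_sylow_top hG hM hps
  have hTM : (T : Subgroup G) ≤ M := hT ▸ hP.1.trans (sigmaCore_le M)
  rw [hC]
  by_cases hb : p ∈ Cfsg.beta M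
  · refine ⟨ideal_centralizer hG hM hps hb.2 (hXM hx) hxp hx1, ?_⟩
    have hr : ¬ PRankLE p 2 (T : Subgroup G) := fun h2 => hb.1.2 (by
      refine pRankLE_iff_le.mpr fun Y hYM hY => ?_
      obtain ⟨Q, hQ⟩ := (isPGroup_of_exponent hY.2).exists_le_sylow
      obtain ⟨g, hg⟩ := MulAction.exists_smul_eq G Q T
      have hle : Y.map (MulAut.conj g).toMonoidHom ≤ (T : Subgroup G) := hg ▸ Subgroup.map_mono hQ
      have h3 := pRankLE_iff_le.mp h2 _ hle (ea_map hY _)
      rwa [Subgroup.card_map_of_injective (MulAut.conj g).injective] at h3)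
    obtain ⟨Y, hYT, hY, hY3⟩ := exists_ea_three hr
    rw [← hT]
    exact ⟨M, ⟨hM, hTM⟩, fun L ⟨hL, hle⟩ => eq_of_rank_three hG hM hL hY hY3 (hYT.trans hTM) (hYT.trans hle)⟩
  have hX' := h.resolve_left hb
  obtain ⟨k, hk, hkX⟩ := exists_conj_derived_sylow hG hM hps hb hP
    (IsPGroup.of_card (n := 1) (hX.trans (pow_one p).symm)) hX'
  have hy : k * x * k⁻¹ ∈ ⁅(T : Subgroup G), (T : Subgroup G)⁆ := hT ▸ hkX ⟨x, hx, rfl⟩
  have hy1 : k * x * k⁻¹ ≠ 1 := fun e => hx1 (conj_eq_one_iff.mp e)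
  refine ⟨unique_of_conj hk rfl (derived_centralizer hG hM T hTM hy hy1 (by rw [conj_pow, hxp, mul_one, mul_inv_cancel])), ?_⟩
  rw [← hT]
  exact nonAb_inUniqueMaximal hG T.2 fun hab => hy1 (Subgroup.mem_bot.mp
    ((Subgroup.commutator_eq_bot_iff_le_centralizer.mpr (Subgroup.le_centralizer_iff_isMulCommutative.mpr hab)).le hy))

end Cfsg.Agent.OddLocal
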