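import Cfsg.Agent.Lib.OddLocal.PrimeAction
import Cfsg.Agent.Lib.OddLocal.TauTwoFreeC

/-! The sets `σ(M)` of nonconjugate maximal subgroups are disjoint (BG 13.9). -/

set_option autoImplicit false
set_option linter.unusedSectionVars false
set_option linter.style.haveILetI false

namespace Cfsg.Agent.OddLocal

open scoped commutatorElement Pointwise
open Cfsg
open Basics (IsSylowIn)

universe u

variable {G : Type u} [Group G] [Finite G] {p : ℕ} [hp : Fact p.Prime]

/-- A non-identity element of a cyclic-rank `σ'`-subgroup has the fixed points of the whole subgroup. -/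
theorem fixed_le_of_rank_one (hG : IsMinSimpleOddOrder G) {M U : Subgroup G} (hM : IsCoatom M) {t : ℕ}
    [ht : Fact t.Prime] (hts : t ∉ Cfsg.sigma M) (h1 : PRankLE t 1 M) (hU : IsPGroup t U) (hUM : U ≤ M)
    {x : G} (hx : x ∈ U) (hx1 : x ≠ 1) :
    Cfsg.sigmaCore M ⊓ Subgroup.centralizer ({x} : Set G) ≤ Subgroup.centralizer (U : Set G) := by
  obtain ⟨E, hE, hUE⟩ := exists_compl_ge hG hM hUM fun q hq hd => by
    obtain ⟨k, hk⟩ := IsPGroup.iff_card.mp hU
    rw [hk] at hd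
    rwa [(Nat.prime_dvd_prime_iff_eq hq ht.out).mp (hq.dvd_of_dvd_pow hd)]
  obtain ⟨S, hS, hUS⟩ := exists_sylowIn_ge hU hUE
  have htG : t ∣ Nat.card G := by
    rcases hU.card_eq_or_dvd with e | e
    · rw [Subgroup.card_eq_one.mp e, Subgroup.mem_bot] at hx
      exact absurd hx hx1
    · exact e.trans (Subgroup.card_subgroup_dvd_card U)
  have hc : IsCyclic S := isCyclic_of_pRankLE_one (prime_ne_two hG htG) h1 (hS.1.trans hE.1) hS.isPGroup
  have hS1 : S ≠ ⊥ := fun e => hx1 (Subgroup.mem_bot.mp (e ▸ hUS hx))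
  rw [cyclic_sylow_centralizer hG hM hE hS hS1 hc (hUS hx) hx1]
  exact inf_le_right.trans (Subgroup.centralizer_le hUS)

/-- Commuting `τ₁` subgroups fix the same elements of `M_σ`. -/
theorem fixed_le_of_commuting (hG : IsMinSimpleOddOrder G) {M P U : Subgroup G} (hM : IsCoatom M)
    (hp1 : p ∈ Cfsg.tau1 M) (hPM : P ≤ M) (hP : Nat.card P = p) {t : ℕ} [ht : Fact t.Prime]
    (hts : t ∉ Cfsg.sigma M) (h1 : PRankLE t 1 M) (hU : IsPGroup t U) (hUM : U ≤ M)
    (hUP : U ≤ Subgroup.centralizer (P : Set G)) :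
    Cfsg.sigmaCore M ⊓ Subgroup.centralizer (P : Set G) ≤ Subgroup.centralizer (U : Set G) := by
  by_cases hU1 : U = ⊥
  · subst hU1
    intro x _
    exact Subgroup.mem_centralizer_iff.mpr fun v hv => by
      rw [Subgroup.mem_bot.mp hv, one_mul, mul_one]
  obtain ⟨x, hx, hxo⟩ := exists_orderOf_eq hU hU1
  have hx1 : x ≠ 1 := fun e => by rw [e, orderOf_one] at hxo; exact ht.out.one_lt.ne hxo
  have h := cent_tau1_le hG hM hp1 hPM hP (R := Subgroup.zpowers x) ((Subgroup.zpowers_le.mpr hx).trans hUM) hts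
    (by rw [Nat.card_zpowers, hxo]) ((Subgroup.zpowers_le.mpr hx).trans hUP)
  rw [Subgroup.zpowers_eq_closure, Subgroup.centralizer_closure] at h
  exact le_trans (le_inf inf_le_left h) (fixed_le_of_rank_one hG hM hts h1 hU hUM hx hx1)

omit hp in
/-- A subgroup which does not centralize an invariant shared `σ`-Sylow subgroup has prime in `τ₁`. -/
theorem tau1_of_noncentralizing (hG : IsMinSimpleOddOrder G) {M U T : Subgroup G} (hM : IsCoatom M)
    {q : ℕ} [hq : Fact q.Prime] (hqM : q ∈ Cfsg.sigma M) (hqb : q ∉ Cfsg.beta M) (hT : IsPGroup q T)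
    (hTM : T ≤ M) (hτ : ∀ r : ℕ, r ∉ Cfsg.tau2 M) {t : ℕ} [ht : Fact t.Prime] (hU : IsPGroup t U) (hUM : U ≤ M)
    (htq : t ≠ q) (hUT : U ≤ Subgroup.normalizer (T : Set G)) (hne : ¬ U ≤ Subgroup.centralizer (T : Set G)) :
    t ∈ Cfsg.tau1 M := by
  have hTd : T ≤ ⁅M, M⁆ := (pGroup_le_sigmaCore hG hM hqM hT hTM).trans (sigmaCore_le_derived hG hM)
  have hU1 : Nat.card U ≠ 1 := fun e => hne (by
    rw [Subgroup.card_eq_one.mp e]; exact bot_le)
  have htM : t ∣ Nat.card M := (hU.card_eq_or_dvd.resolve_left hU1).trans (Subgroup.card_dvd_of_le hUM)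
  have hqU : ¬ q ∣ Nat.card U := fun h => by
    obtain ⟨k, hk⟩ := IsPGroup.iff_card.mp hU
    rw [hk] at h
    exact htq ((Nat.prime_dvd_prime_iff_eq hq.out ht.out).mp (hq.out.dvd_of_dvd_pow h)).symm
  have key : ¬ U ≤ ⁅M, M⁆ := fun h => hne (commute_of_not_beta hG hM hqb hT hTd h hqU hUT)
  have hts : t ∉ Cfsg.sigma M := fun hs =>
    key ((pGroup_le_sigmaCore hG hM hs hU hUM).trans (sigmaCore_le_derived hG hM))
  have h1 : PRankLE t 1 M := by
    by_contra h
    exact hτ t ⟨ht.out, hts, pRankLE_two_of_not_mem_sigma hG hM hts, h⟩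
  refine ⟨ht.out, hts, htM, fun hd => key ?_, h1⟩
  obtain ⟨E, hE, hUE⟩ := exists_compl_ge hG hM hUM fun r hr hd' => by
    obtain ⟨k, hk⟩ := IsPGroup.iff_card.mp hU
    rw [hk] at hd'
    rwa [(Nat.prime_dvd_prime_iff_eq hr ht.out).mp (hr.dvd_of_dvd_pow hd')]
  obtain ⟨S, hS, hUS⟩ := exists_sylowIn_ge hU hUE
  exact hUS.trans ((sylow_le_derived_of_rank_one hG hE.1 h1 (dvd_card_derived_compl hG hM hE ht.out hts hd) hS).trans
    (Subgroup.commutator_mono hE.1 hE.1))

/-- An element of order `p` of `N(T)` which is fixed point free on `T`. -/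
theorem exists_fpf_tau1 (hG : IsMinSimpleOddOrder G) {M : Subgroup G} (hM : IsCoatom M) {q : ℕ}
    [hq : Fact q.Prime] (hqM : q ∈ Cfsg.sigma M) (hqb : q ∉ Cfsg.beta M) (T : Sylow q G)
    (hT1 : (T : Subgroup G) ≠ ⊥) (hTc : IsMulCommutative (T : Subgroup G)) (hTM : (T : Subgroup G) ≤ M)
    (hNT : Subgroup.normalizer ((T : Subgroup G) : Set G) ≤ M) (hτ : ∀ r : ℕ, r ∉ Cfsg.tau2 M) :
    ∃ t : ℕ, t.Prime ∧ t ≠ q ∧ t ∈ Cfsg.tau1 M ∧ ∃ P : Subgroup G, Nat.card P = t ∧
      P ≤ Subgroup.normalizer ((T : Subgroup G) : Set G) ∧ ⁅(T : Subgroup G), P⁆ = (T : Subgroup G) := by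
  obtain ⟨V, hV, hVq⟩ := exists_complement_normalizer T
  have hVN : V ≤ Subgroup.normalizer ((T : Subgroup G) : Set G) := hV.2.1
  have hVM : V ≤ M := hVN.trans hNT
  have hTV := sylow_eq_commutator hG T hV
  obtain ⟨k, hk⟩ := IsPGroup.iff_card.mp T.2
  have hcopV : (Nat.card V).Coprime (Nat.card (T : Subgroup G)) := by
    rw [hk]; exact Nat.Coprime.pow_right k hVq
  haveI := hTc
  have hbot : (T : Subgroup G) ⊓ Subgroup.centralizer (V : Set G) = ⊥ := by
    have h := Basics.inf_centralizer_inf_commutator_eq_bot V (T : Subgroup G) hVN hcopV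
    rwa [← hTV, inf_eq_left.mpr inf_le_left] at h
  -- some prime acts nontrivially
  have hnc : ¬ V ≤ Subgroup.centralizer ((T : Subgroup G) : Set G) := fun h => hT1 (by
    rw [hTV, Subgroup.commutator_comm, Subgroup.commutator_eq_bot_iff_le_centralizer]
    exact h)
  obtain ⟨t, ht, U, hU, hUT⟩ : ∃ t, t.Prime ∧ ∃ U, IsSylowIn t V U ∧
      ¬ U ≤ Subgroup.centralizer ((T : Subgroup G) : Set G) := by
    by_contra h
    push Not at h
    refine hnc (le_of_sylows fun t ht _ => ?_)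
    haveI := Fact.mk ht
    obtain ⟨U, hU⟩ := exists_sylowIn (q := t) V
    exact ⟨U, hU, h t ht U hU⟩
  haveI := Fact.mk ht
  have hne_q : ∀ {s : ℕ}, s.Prime → s ∣ Nat.card V → s ≠ q := fun hs hd e => by
    subst e
    exact (hs.coprime_iff_not_dvd.mp hVq.symm) hd
  have hU1 : U ≠ ⊥ := fun e => hUT (e ▸ bot_le)
  have htV : t ∣ Nat.card V :=
    (hU.isPGroup.card_eq_or_dvd.resolve_left fun e => hU1 (Subgroup.card_eq_one.mp e)).trans
      (Subgroup.card_dvd_of_le hU.1)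
  have htq := hne_q ht htV
  have htau := tau1_of_noncentralizing hG hM hqM hqb T.2 hTM hτ hU.isPGroup (hU.1.trans hVM) htq (hU.1.trans hVN) hUT
  obtain ⟨x, hx, hxo⟩ := exists_orderOf_eq hU.isPGroup hU1
  have hx1 : x ≠ 1 := fun e => by rw [e, orderOf_one] at hxo; exact ht.one_lt.ne hxo
  -- `τ₁` Hall subgroup of `V`
  obtain ⟨K, hKV, hKπ, hKf⟩ := exists_hall_in hG (H := V) (fun e => hM.1 (top_le_iff.mp (e ▸ hVM))) (Cfsg.tau1 M)
  have hKc : IsMulCommutative K := by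
    refine Subgroup.le_centralizer_iff_isMulCommutative.mp ?_
    rw [← Subgroup.commutator_eq_bot_iff_le_centralizer, ← Subgroup.card_eq_one]
    refine Nat.eq_one_iff_not_exists_prime_dvd.mpr fun s hs hd => ?_
    exact (hKπ s hs (hd.trans (Subgroup.card_dvd_of_le (Subgroup.commutator_le_self K)))).2.2.2.1
      (hd.trans (Subgroup.card_dvd_of_le (Subgroup.commutator_mono (hKV.trans hVM) (hKV.trans hVM))))
  obtain ⟨S, hS⟩ := exists_sylowIn (q := t) K
  have hS' : IsSylowIn t V S := sylowIn_of_hall_in hKV (hKf t ht htau) hS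
  obtain ⟨d, hd, ed⟩ := hU.exists_conj hS'
  set P := Subgroup.zpowers (d * x * d⁻¹) with hP
  have hxS : d * x * d⁻¹ ∈ S := ed ▸ Basics.conj_mem_conj_smul hx
  have hPc : Nat.card P = t := by rw [hP, Nat.card_zpowers, orderOf_conj_elt, hxo]
  have hPK : P ≤ K := Subgroup.zpowers_le.mpr (hS.1 hxS)
  have hPV : P ≤ V := hPK.trans hKV
  have hPN : P ≤ Subgroup.normalizer ((T : Subgroup G) : Set G) := hPV.trans hVN
  have hTσ : (T : Subgroup G) ≤ Cfsg.sigmaCore M := pGroup_le_sigmaCore hG hM hqM T.2 hTM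
  set R0 := (T : Subgroup G) ⊓ Subgroup.centralizer (P : Set G) with hR0
  have hR0V : V ≤ Subgroup.centralizer (R0 : Set G) := by
    refine le_of_sylows fun s hs _ => ?_
    haveI := Fact.mk hs
    by_cases hsτ : s ∈ Cfsg.tau1 M
    · obtain ⟨W, hW⟩ := exists_sylowIn (q := s) K
      refine ⟨W, sylowIn_of_hall_in hKV (hKf s hs hsτ) hW, Subgroup.le_centralizer_iff.mp ?_⟩
      refine le_trans (inf_le_inf_right _ hTσ) (fixed_le_of_commuting hG hM htau (hPV.trans hVM) hPc hsτ.2.1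
        hsτ.2.2.2.2 hW.isPGroup ((hW.1.trans hKV).trans hVM) ?_)
      exact hW.1.trans ((Subgroup.le_centralizer_iff_isMulCommutative.mpr hKc).trans (Subgroup.centralizer_le hPK))
    · obtain ⟨W, hW⟩ := exists_sylowIn (q := s) V
      refine ⟨W, hW, ?_⟩
      by_contra hWn
      have hWT : ¬ W ≤ Subgroup.centralizer ((T : Subgroup G) : Set G) := fun h =>
        hWn (h.trans (Subgroup.centralizer_le inf_le_left))
      have hW1 : Nat.card W ≠ 1 := fun e => hWT (by rw [Subgroup.card_eq_one.mp e]; exact bot_le)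
      exact hsτ (tau1_of_noncentralizing hG hM hqM hqb T.2 hTM hτ hW.isPGroup (hW.1.trans hVM)
        (hne_q hs ((hW.isPGroup.card_eq_or_dvd.resolve_left hW1).trans (Subgroup.card_dvd_of_le hW.1)))
        (hW.1.trans hVN) hWT)
  have hR0bot : R0 = ⊥ := le_bot_iff.mp (hbot ▸ le_inf inf_le_left (Subgroup.le_centralizer_iff.mp hR0V))
  refine ⟨t, ht, htq, htau, P, hPc, hPN, ?_⟩
  have h := Basics.commutator_sup_inf_centralizer P (T : Subgroup G) hPN
    (hcopV.coprime_dvd_left (Subgroup.card_dvd_of_le hPV))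
    (Or.inl (Basics.isSolvable_of_le (hPV.trans hVM) (isSolvable_of_ne_top hG hM.1)))
  rwa [← hR0, hR0bot, sup_bot_eq] at h

/-- `C_{M_β}(P)` is not contained in the other maximal subgroup. -/
theorem exists_beta_fixed (hG : IsMinSimpleOddOrder G) {M N P : Subgroup G} (hM : IsCoatom M) (hN : IsCoatom N)
    (hconj : ∀ g : G, N ≠ M.map (MulAut.conj g).toMonoidHom) {q : ℕ} [hq : Fact q.Prime]
    (hqM : q ∈ Cfsg.sigma M) (hqb : q ∉ Cfsg.beta M) (T : Sylow q G) (hTM : (T : Subgroup G) ≤ M)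
    (hNTM : Subgroup.normalizer ((T : Subgroup G) : Set G) ≤ M)
    (hNTN : Subgroup.normalizer ((T : Subgroup G) : Set G) ≤ N) (hps : p ∉ Cfsg.sigma M) (hpq : p ≠ q)
    (hP : Nat.card P = p) (hPT : P ≤ Subgroup.normalizer ((T : Subgroup G) : Set G))
    (hfpf : ⁅(T : Subgroup G), P⁆ = (T : Subgroup G)) :
    (¬ Cfsg.sigmaCore M ⊓ Subgroup.centralizer (P : Set G) ≤ N) ∧
      ∃ t ∈ Cfsg.beta M, ∃ x ∈ M ⊓ Subgroup.centralizer (P : Set G), orderOf x = t := by
  have hTd : IsSylowIn q ⁅M, M⁆ (T : Subgroup G) := by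
    have hle : (T : Subgroup G) ≤ ⁅M, M⁆ :=
      (pGroup_le_sigmaCore hG hM hqM T.2 hTM).trans (sigmaCore_le_derived hG hM)
    exact isSylowIn_of_not_dvd_relIndex T.2 hle fun h => T.not_dvd_index (h.trans (Subgroup.relIndex_dvd_index_of_le hle))
  set B := Cfsg.piCoreOf (Cfsg.beta M) M with hB
  have hB1 : B ≠ ⊥ := fun e => by
    have h := exists_frattini_beta hG hM hqb hTd
    rw [← hB, e, bot_sup_eq] at h
    exact hconj 1 (by rw [map_conj_one]; exact ((hM.le_iff_eq hN.1).mp ((h.trans inf_le_right).trans hNTN)))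
  obtain ⟨t, ht, htd⟩ := Nat.exists_prime_and_dvd fun e => hB1 (Subgroup.card_eq_one.mp e)
  haveI := Fact.mk ht
  have htb : t ∈ Cfsg.beta M := piCoreOf_primes _ M ht htd
  have hts : t ∈ Cfsg.sigma M := alpha_subset_sigma hG hM htb.1
  have htq : t ≠ q := fun e => hqb (e ▸ htb)
  set A := (T : Subgroup G) ⊔ P with hA
  have hAT : A ≤ Subgroup.normalizer ((T : Subgroup G) : Set G) := sup_le Subgroup.le_normalizer hPT
  have hAM : A ≤ M := hAT.trans hNTM
  obtain ⟨k, hk⟩ := IsPGroup.iff_card.mp T.2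
  have hAd : Nat.card A ∣ q ^ k * p := by
    rw [← hk, ← hP]
    exact ⟨_, Basics.card_mul_card_eq_card_sup_mul_card_inf hPT⟩
  have hcop : (Nat.card A).Coprime (Nat.card B) := Nat.coprime_of_dvd fun s hs h1 h2 => by
    have hsb := piCoreOf_primes _ M hs h2
    rcases hs.dvd_mul.mp (h1.trans hAd) with h | h
    · exact hqb ((Nat.prime_dvd_prime_iff_eq hs hq.out).mp (hs.dvd_of_dvd_pow h) ▸ hsb)
    · exact not_beta_of_not_sigma hG hM hp.out hps ((Nat.prime_dvd_prime_iff_eq hs hp.out).mp h ▸ hsb)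
  have hBM : B ≤ M := Subgroup.map_subtype_le _
  obtain ⟨W, hW, hAW⟩ := Basics.exists_invariant_isSylowIn A B (hAM.trans (le_normalizer_piCoreOf_self _ M)) hcop
    (Or.inl (Basics.isSolvable_of_le hAM (isSolvable_of_ne_top hG hM.1))) t
  have hWM : W ≤ M := hW.1.trans hBM
  have hWsy : IsSylowIn t M W := by
    refine ⟨hWM, hW.2.trans (congrArg (t ^ ·) ?_)⟩
    have h1 := Subgroup.card_mul_index (B.subgroupOf M)
    rw [Basics.card_subgroupOf hBM] at h1
    rw [← h1, Nat.factorization_mul Nat.card_pos.ne' Subgroup.index_ne_zero_of_finite, Finsupp.add_apply,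
      Nat.factorization_eq_zero_of_not_dvd (n := (B.subgroupOf M).index)
        ((S1414.result hG M hM).1.2.2 t ht htb), add_zero]
  have hWN : ¬ W ≤ N := fun hle => by
    have h3 : ¬ PRankLE t 2 N := fun h3 => htb.1.2 fun X hXc hXe => by
      obtain ⟨S, hS, hXS⟩ := exists_sylowIn_ge (isPGroup_of_exponent (ea_map ⟨hXc, hXe⟩ M.subtype).2)
        (Subgroup.map_subtype_le X)
      obtain ⟨c, -, ec⟩ := hS.exists_conj hWsy
      rw [← Subgroup.card_map_of_injective M.subtype_injective, ← Basics.card_conj_smul c]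
      exact card_le_of_pRankLE h3 ((ec ▸ Subgroup.pointwise_smul_le_pointwise_smul_iff.mpr hXS : _ ≤ W).trans hle)
        (ea_map (ea_map ⟨hXc, hXe⟩ _) _)
    have htN : t ∈ Cfsg.sigma N := by
      by_contra hs
      exact h3 (pRankLE_two_of_not_mem_sigma hG hN hs)
    obtain ⟨g, hg⟩ := exists_conj_of_rank_three hG hM hN hts htN h3
    exact hconj g hg
  have hpG : p ∣ Nat.card G := hP ▸ Subgroup.card_subgroup_dvd_card P
  have hfix : ¬ W ⊓ Subgroup.centralizer (P : Set G) ≤ N := fun hle => hWN <| by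
    refine (le_of_fixed_le (V := W ⊓ N) hW.isPGroup inf_le_left hP (prime_ne_two hG hpG)
      (prime_ne_two hG ((htd.trans (Subgroup.card_subgroup_dvd_card B)))) (fun e => hps (e ▸ hts))
      (odd_card_subgroup hG _) ?_ ?_ hPT (le_sup_left.trans hAW) (le_sup_right.trans hAW) ?_ ?_
      (le_inf inf_le_left hle) ?_).trans inf_le_right
    · rw [hk]; exact fun h => hpq ((Nat.prime_dvd_prime_iff_eq hp.out hq.out).mp (hp.out.dvd_of_dvd_pow h))
    · rw [hk]; exact fun h => htq ((Nat.prime_dvd_prime_iff_eq ht hq.out).mp (ht.dvd_of_dvd_pow h))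
    · exact (le_inf (le_sup_left.trans hAW) ((Subgroup.le_normalizer.trans hNTN).trans Subgroup.le_normalizer)).trans
        le_normalizer_inf'
    · exact (le_inf (le_sup_right.trans hAW) ((hPT.trans hNTN).trans Subgroup.le_normalizer)).trans
        le_normalizer_inf'
    · rw [Subgroup.commutator_comm, hfpf]
      exact le_inf inf_le_left (inf_le_right.trans ((Subgroup.centralizer_le_normalizer _).trans hNTN))
  have hWσ : W ≤ Cfsg.sigmaCore M := pGroup_le_sigmaCore hG hM hts hW.isPGroup hWM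
  refine ⟨fun h => hfix ((inf_le_inf_right _ hWσ).trans h), t, htb, ?_⟩
  have hne : W ⊓ Subgroup.centralizer (P : Set G) ≠ ⊥ := fun e => hfix (e ▸ bot_le)
  obtain ⟨x, hx, hxo⟩ := exists_orderOf_eq (r := t) (hW.isPGroup.to_le inf_le_left) hne
  exact ⟨x, ⟨hWM hx.1, hx.2⟩, hxo⟩

/-- An element of `M ∩ C(P)` of order in `β(N)` forces `C_{M_σ}(P) ≤ N`. -/
theorem fixed_le_of_beta (hG : IsMinSimpleOddOrder G) {M N P : Subgroup G} (hM : IsCoatom M) (hN : IsCoatom N)
    (hconj : ∀ g : G, N ≠ M.map (MulAut.conj g).toMonoidHom) {q : ℕ} [hq : Fact q.Prime]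
    (hqM : q ∈ Cfsg.sigma M) (hqb : q ∉ Cfsg.beta M) (T : Sylow q G) (hTM : (T : Subgroup G) ≤ M)
    (hNTM : Subgroup.normalizer ((T : Subgroup G) : Set G) ≤ M)
    (hNTN : Subgroup.normalizer ((T : Subgroup G) : Set G) ≤ N) (hp1 : p ∈ Cfsg.tau1 M)
    (hP : Nat.card P = p) (hPT : P ≤ Subgroup.normalizer ((T : Subgroup G) : Set G))
    {t : ℕ} [ht : Fact t.Prime] (htN : t ∈ Cfsg.beta N) {y : G} (hy : y ∈ M ⊓ Subgroup.centralizer (P : Set G))
    (hyo : orderOf y = t) : Cfsg.sigmaCore M ⊓ Subgroup.centralizer (P : Set G) ≤ N := by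
  have htσN : t ∈ Cfsg.sigma N := alpha_subset_sigma hG hN htN.1
  have hts : t ∉ Cfsg.sigma M := fun hs => by
    obtain ⟨g, hg⟩ := exists_conj_of_rank_three hG hM hN hs htσN htN.1.2
    exact hconj g hg
  have htb : t ∉ Cfsg.beta M := fun hb => hts (alpha_subset_sigma hG hM hb.1)
  have hTd : IsSylowIn q ⁅M, M⁆ (T : Subgroup G) := by
    have hle : (T : Subgroup G) ≤ ⁅M, M⁆ :=
      (pGroup_le_sigmaCore hG hM hqM T.2 hTM).trans (sigmaCore_le_derived hG hM)
    exact isSylowIn_of_not_dvd_relIndex T.2 hle fun h => T.not_dvd_index (h.trans (Subgroup.relIndex_dvd_index_of_le hle))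
  set B := Cfsg.piCoreOf (Cfsg.beta M) M with hB
  have hMB : M ≤ Subgroup.normalizer (B : Set G) := le_normalizer_piCoreOf_self _ M
  set NT := Subgroup.normalizer ((T : Subgroup G) : Set G) with hNT
  obtain ⟨b, hb, d, hd, hbd⟩ := (Basics.mem_sup_of_le_normalizer
    ((inf_le_left : M ⊓ NT ≤ M).trans hMB)).mp (exists_frattini_beta hG hM hqb hTd hy.1)
  set B₀ := B ⊓ NT with hB₀
  have hn : NT ≤ Subgroup.normalizer (B₀ : Set G) :=
    (le_inf (hNTM.trans hMB) Subgroup.le_normalizer).trans le_normalizer_inf'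
  have hcop : (Nat.card P).Coprime (Nat.card B₀) := by
    rw [hP]
    exact hp.out.coprime_iff_not_dvd.mpr fun h => not_beta_of_not_sigma hG hM hp.out hp1.2.1
      (piCoreOf_primes _ M hp.out (h.trans (Subgroup.card_dvd_of_le inf_le_left)))
  have hPsolv : Group.IsSolvable P :=
    Basics.isSolvable_of_le (hPT.trans hNTM) (isSolvable_of_ne_top hG hM.1)
  obtain ⟨c, hc, hcd⟩ := Basics.exists_centralizer_mem_coset P B₀ (hPT.trans hn) hcop (Or.inl hPsolv) d
    (hn hd.2) (fun a ha => by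
      refine Subgroup.mem_inf.mpr ⟨?_, mul_mem (mul_mem (mul_mem (hPT ha) hd.2) (inv_mem (hPT ha))) (inv_mem hd.2)⟩
      have hay : a * y = y * a := Subgroup.mem_centralizer_iff.mp hy.2 a ha
      have h1 : a * b⁻¹ * a⁻¹ ∈ B :=
        (Basics.conj_mem_iff_of_mem_normalizer (hMB (hNTM (hPT ha)))).mpr (inv_mem hb)
      have h2 : a * d * a⁻¹ * d⁻¹ = (a * b⁻¹ * a⁻¹) * b := by
        rw [show d = b⁻¹ * y by rw [hbd]; group]
        calc a * (b⁻¹ * y) * a⁻¹ * (b⁻¹ * y)⁻¹ = a * b⁻¹ * (y * a⁻¹) * y⁻¹ * b := by group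
        _ = a * b⁻¹ * (a⁻¹ * y) * y⁻¹ * b := by
          rw [show y * a⁻¹ = a⁻¹ * y from ((Commute.symm (show Commute a y from hay)).inv_right).eq]
        _ = (a * b⁻¹ * a⁻¹) * b := by group
      exact h2 ▸ mul_mem h1 hb)
  have hcNT : c ∈ NT := by
    have := mul_mem hd.2 hcd.2
    simpa using this
  have hyB : y ∈ B ⊔ Subgroup.zpowers c := by
    rw [hbd, show b * d = b * (d * (d⁻¹ * c)⁻¹ * d⁻¹) * c by group]
    refine mul_mem (Subgroup.mem_sup_left (mul_mem hb ?_)) (Subgroup.mem_sup_right (Subgroup.mem_zpowers c))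
    exact (Basics.conj_mem_iff_of_mem_normalizer (hMB hd.1)).mpr (inv_mem hcd.1)
  have hdvd : t ∣ orderOf c := by
    have h1 : orderOf y ∣ Nat.card B * Nat.card (Subgroup.zpowers c) :=
      (Subgroup.orderOf_dvd_natCard _ hyB).trans
        (card_sup_dvd ((Subgroup.zpowers_le.mpr (hNTM hcNT)).trans hMB))
    rw [hyo, Nat.card_zpowers] at h1
    exact (ht.out.dvd_mul.mp h1).resolve_left fun h => htb (piCoreOf_primes _ M ht.out h)
  set y0 := c ^ (orderOf c / t) with hy0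
  have hy0o : orderOf y0 = t := orderOf_pow_orderOf_div (orderOf_pos c).ne' hdvd
  have hy01 : y0 ≠ 1 := fun e => by rw [e, orderOf_one] at hy0o; exact ht.out.one_lt.ne hy0o
  have hy0NT : y0 ∈ NT := pow_mem hcNT _
  obtain ⟨hCy, -⟩ := ideal_centralizer hG hN htσN htN.2 (hNTN hy0NT) (hy0o ▸ pow_orderOf_eq_one y0) hy01
  refine le_trans (le_inf le_rfl (cent_tau1_le hG hM hp1 (hPT.trans hNTM) hP (R := Subgroup.zpowers y0)
    (Subgroup.zpowers_le.mpr (hNTM hy0NT)) hts (by rw [Nat.card_zpowers, hy0o])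
    (Subgroup.zpowers_le.mpr (pow_mem hc _)))) (inf_le_right.trans ?_)
  rw [Subgroup.zpowers_eq_closure, Subgroup.centralizer_closure]
  exact hCy

omit hp in
/-- A `t`-subgroup sharing an element of order `t ∈ β(M)` with `M` lies in `M`. -/
theorem sylow_le_of_beta (hG : IsMinSimpleOddOrder G) {M S : Subgroup G} (hM : IsCoatom M) {t : ℕ}
    [ht : Fact t.Prime] (htb : t ∈ Cfsg.beta M) (hS : IsPGroup t S) {x : G} (hxM : x ∈ M) (hxS : x ∈ S)
    (hxo : orderOf x = t) : S ≤ M := by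
  have hts := alpha_subset_sigma hG hM htb.1
  have hx1 : x ≠ 1 := fun e => by rw [e, orderOf_one] at hxo; exact ht.out.one_lt.ne hxo
  obtain ⟨z, hz, hzo, hzc⟩ := exists_central_mem hS le_rfl Subgroup.le_normalizer
    (fun e => hx1 (Subgroup.mem_bot.mp (e ▸ hxS)))
  obtain ⟨hCx, -⟩ := ideal_centralizer hG hM hts htb.2 hxM (hxo ▸ pow_orderOf_eq_one x) hx1
  have hzM : z ∈ M := hCx (Subgroup.mem_centralizer_singleton_iff.mpr
    (Subgroup.mem_centralizer_singleton_iff.mp (hzc hxS)).symm)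
  have hz1 : z ≠ 1 := fun e => by rw [e, orderOf_one] at hzo; exact ht.out.one_lt.ne hzo
  exact hzc.trans (ideal_centralizer hG hM hts htb.2 hzM (hzo ▸ pow_orderOf_eq_one z) hz1).1

omit hp in
/-- Normalizers of non-trivial `β`-subgroups of `M` lie in `M`. -/
theorem normalizer_le_of_beta (hG : IsMinSimpleOddOrder G) {M U : Subgroup G} (hM : IsCoatom M) {t : ℕ}
    [ht : Fact t.Prime] (htb : t ∈ Cfsg.beta M) (hU : IsPGroup t U) (hUM : U ≤ M) (hU1 : U ≠ ⊥) :
    Subgroup.normalizer (U : Set G) ≤ M := by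
  have hts := alpha_subset_sigma hG hM htb.1
  by_cases hc : IsCyclic U
  swap
  · exact normalizer_le_of_noncyclic hG hM hts hU hUM hc
  obtain ⟨u, hu, huo⟩ := exists_orderOf_eq hU hU1
  have hu1 : u ≠ 1 := fun e => by rw [e, orderOf_one] at huo; exact ht.out.one_lt.ne huo
  obtain ⟨hC, huniq⟩ := ideal_centralizer hG hM hts htb.2 (hUM hu) (huo ▸ pow_orderOf_eq_one u) hu1
  set X := Subgroup.zpowers u with hX
  have hXU : X ≤ U := Subgroup.zpowers_le.mpr hu
  have hUX : Subgroup.normalizer (U : Set G) ≤ Subgroup.normalizer (X : Set G) := fun g hg =>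
    Subgroup.mem_normalizer_iff_map_conj_eq.mpr (eq_of_le_cyclic hc
      ((Subgroup.map_mono hXU).trans (Subgroup.mem_normalizer_iff_map_conj_eq.mp hg).le) hXU
      (Subgroup.card_map_of_injective (MulAut.conj g).injective))
  have hX1 : X ≠ ⊥ := fun e => hu1 (Subgroup.mem_bot.mp (e ▸ Subgroup.mem_zpowers u))
  obtain ⟨L, hL, hNL⟩ := exists_maximal_ge
    (normalizer_ne_top hG hX1 fun e => hM.1 (top_le_iff.mp (e ▸ hXU.trans hUM)))
  refine hUX.trans (huniq L hL ?_ ▸ hNL)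
  rw [← Subgroup.centralizer_closure, ← Subgroup.zpowers_eq_closure]
  exact (Subgroup.centralizer_le_normalizer _).trans hNL

omit hp in
/-- Two `β`-elements fixed by `P` give one of them, up to conjugation, in the other maximal subgroup. -/
theorem exists_crossed (hG : IsMinSimpleOddOrder G) {M N P : Subgroup G} (hM : IsCoatom M) (hN : IsCoatom N)
    (hZ : Subgroup.centralizer (P : Set G) ≠ ⊤) {t s : ℕ} (htb : t ∈ Cfsg.beta M) (hsb : s ∈ Cfsg.beta N)
    {x y : G} (hx : x ∈ M ⊓ Subgroup.centralizer (P : Set G)) (hxo : orderOf x = t)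
    (hy : y ∈ N ⊓ Subgroup.centralizer (P : Set G)) (hyo : orderOf y = s) :
    (∃ y' ∈ M ⊓ Subgroup.centralizer (P : Set G), orderOf y' = s) ∨
      ∃ x' ∈ N ⊓ Subgroup.centralizer (P : Set G), orderOf x' = t := by
  haveI := Fact.mk htb.1.1
  haveI := Fact.mk hsb.1.1
  set Z := Subgroup.centralizer (P : Set G) with hZdef
  obtain ⟨F, hFZ, hFπ, hFf⟩ := exists_hall_in hG hZ {t, s}
  have hsy : ∀ (X : Subgroup G) (r : ℕ) (hr : Fact r.Prime), IsCoatom X → r ∈ Cfsg.beta X →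
      r ∈ ({t, s} : Set ℕ) → ∀ z : G, z ∈ X ⊓ Z → orderOf z = r →
      ∃ c ∈ Z, ∃ S : Subgroup G, IsSylowIn r F S ∧ S ≤ MulAut.conj c • X ∧ c * z * c⁻¹ ∈ S := by
    intro X r hr hX hrb hrπ z hz hzo
    obtain ⟨S₁, hS₁, hzS⟩ := exists_sylowIn_ge (isPGroup_zpowers_of_pow (r := r) (n := 1)
      (by rw [pow_one, ← hzo, pow_orderOf_eq_one])) (Subgroup.zpowers_le.mpr hz.2)
    obtain ⟨S, hS⟩ := exists_sylowIn (q := r) F
    obtain ⟨c, hc, ec⟩ := hS₁.exists_conj (sylowIn_of_hall_in hFZ (hFf r hr.out hrπ) hS)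
    refine ⟨c, hc, S, hS, ?_, ?_⟩
    · rw [← ec]
      exact Subgroup.pointwise_smul_le_pointwise_smul_iff.mpr
        (sylow_le_of_beta hG hX hrb hS₁.isPGroup hz.1 (hzS (Subgroup.mem_zpowers z)) hzo)
    · exact ec ▸ Basics.conj_mem_conj_smul (hzS (Subgroup.mem_zpowers z))
  obtain ⟨d, hd, S, hS, hSM, hxS⟩ := hsy M t inferInstance hM htb (by simp) x hx hxo
  obtain ⟨e, he, S', hS', hSN, hyS⟩ := hsy N s inferInstance hN hsb (by simp) y hy hyo
  -- a normal `t`- or `s`-subgroup of `F`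
  have hFtop : F ≠ ⊤ := fun e => hZ (top_le_iff.mp (e ▸ hFZ))
  haveI : Group.IsSolvable F := isSolvable_of_ne_top hG hFtop
  haveI : Nontrivial F := (Subgroup.nontrivial_iff_ne_bot F).mpr fun e' => by
    have h1 := hS.1 hxS
    rw [e', Subgroup.mem_bot, conj_eq_one_iff] at h1
    rw [h1, orderOf_one] at hxo
    exact htb.1.1.one_lt.ne hxo
  obtain ⟨r, hr1⟩ : ∃ r : Nat.Primes, coreP (r : ℕ) F ≠ ⊥ := by
    by_contra h
    push Not at h
    refine Basics.fittingSubgroup_ne_bot (G := F) ((Subgroup.map_eq_bot_iff_of_injective _ F.subtype_injective).mp ?_)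
    change Cfsg.fittingOf F = ⊥
    rw [fittingOf_eq_iSup]
    exact iSup_eq_bot.mpr h
  haveI := Fact.mk r.2
  have hrd : (r : ℕ) ∣ Nat.card F :=
    ((isPGroup_coreP (r : ℕ) F).card_eq_or_dvd.resolve_left fun e' => hr1 (Subgroup.card_eq_one.mp e')).trans
      (Subgroup.card_dvd_of_le (coreP_le _ F))
  have hconjb : ∀ (X : Subgroup G) (c : G) (k : ℕ), k ∈ Cfsg.beta X → k ∈ Cfsg.beta (MulAut.conj c • X) := by
    intro X c k hk
    by_contra h
    have := not_mem_beta_conj c⁻¹ h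
    rw [show (MulAut.conj c • X : Subgroup G) = X.map (MulAut.conj c).toMonoidHom from rfl, map_conj_inv_cancel] at this
    exact this hk
  rcases hFπ r r.2 hrd with h | h
  · left
    subst h
    have hU := le_sylowIn_of_normalized (isPGroup_coreP _ F) (coreP_le _ F) (le_normalizer_coreP _ F) hS
    have hFM : F ≤ MulAut.conj d • M := (le_normalizer_coreP _ F).trans
      (normalizer_le_of_beta hG (isCoatom_map_conj hM d) (hconjb M d _ htb) (isPGroup_coreP _ F) (hU.trans hSM) hr1)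
    have h2 := Basics.mem_conj_smul.mp (hFM (hS'.1 hyS))
    refine ⟨_, Subgroup.mem_inf.mpr ⟨h2, mul_mem (mul_mem (inv_mem hd) (mul_mem (mul_mem he hy.2) (inv_mem he))) hd⟩, ?_⟩
    rw [show d⁻¹ * (e * y * e⁻¹) * d = (d⁻¹ * e) * y * (d⁻¹ * e)⁻¹ by group, orderOf_conj_elt, hyo]
  · right
    subst h
    have hU := le_sylowIn_of_normalized (isPGroup_coreP _ F) (coreP_le _ F) (le_normalizer_coreP _ F) hS'
    have hFN : F ≤ MulAut.conj e • N := (le_normalizer_coreP _ F).trans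
      (normalizer_le_of_beta hG (isCoatom_map_conj hN e) (hconjb N e _ hsb) (isPGroup_coreP _ F) (hU.trans hSN) hr1)
    have h2 := Basics.mem_conj_smul.mp (hFN (hS.1 hxS))
    refine ⟨_, Subgroup.mem_inf.mpr ⟨h2, mul_mem (mul_mem (inv_mem he) (mul_mem (mul_mem hd hx.2) (inv_mem hd))) he⟩, ?_⟩
    rw [show e⁻¹ * (d * x * d⁻¹) * e = (e⁻¹ * d) * x * (e⁻¹ * d)⁻¹ by group, orderOf_conj_elt, hxo]

omit hp in
/-- BG 13.9: `σ(M)` and `σ(N)` are disjoint unless `M` and `N` are conjugate. -/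
theorem sigma_disjoint (hG : IsMinSimpleOddOrder G) {M N : Subgroup G} (hM : IsCoatom M) (hN : IsCoatom N)
    {q : ℕ} (hqM : q ∈ Cfsg.sigma M) (hqN : q ∈ Cfsg.sigma N) :
    ∃ g : G, N = M.map (MulAut.conj g).toMonoidHom := by
  by_contra hno
  push Not at hno
  haveI := Fact.mk hqM.1
  obtain ⟨g, T, hTM, hTN, hNTM, hNTN⟩ := exists_shared_sylow hG hM hN hqM hqN
  set N' := N.map (MulAut.conj g).toMonoidHom with hN'
  have hN'c : IsCoatom N' := isCoatom_map_conj hN g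
  have hqN' : q ∈ Cfsg.sigma N' := sigma_of_conj_inv rfl hqN
  have hconj : ∀ x : G, N' ≠ M.map (MulAut.conj x).toMonoidHom := fun x hx => hno (g⁻¹ * x) (by
    rw [← map_conj_map_conj, ← hx, hN', map_conj_inv_cancel])
  have hconj' : ∀ x : G, M ≠ N'.map (MulAut.conj x).toMonoidHom := fun x hx => hconj x⁻¹ (by
    rw [hx, map_conj_inv_cancel])
  have hqbN := not_beta_of_shared hG hM hN'c hqM hqN' hconj
  have hqbM := not_beta_of_shared hG hN'c hM hqN' hqM hconj'
  have hTc : IsMulCommutative (T : Subgroup G) := by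
    by_contra hna
    have h := (nonAb_inUniqueMaximal hG T.2 hna).unique ⟨hM, hTM⟩ ⟨hN'c, hTN⟩
    exact hconj 1 (by rw [map_conj_one]; exact h.symm)
  have hτ : ∀ {A B : Subgroup G}, IsCoatom A → IsCoatom B → q ∈ Cfsg.sigma A → q ∈ Cfsg.sigma B →
      (∀ x : G, B ≠ A.map (MulAut.conj x).toMonoidHom) → ∀ r : ℕ, r ∉ Cfsg.tau2 B := by
    intro A B hA hB hqA hqB hc r hr
    haveI := Fact.mk hr.1
    obtain ⟨E, hE⟩ := exists_compl hG hB
    obtain ⟨C, -, -, -, C₁, h⟩ := exists_ea_in_compl hG hB hE hr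
    exact not_shared_of_nilpotent hG hA hB (h.isNilpotent hG) hc hqA hqB
  have hT1 : (T : Subgroup G) ≠ ⊥ := fun e => by
    have h := T.card_eq_multiplicity
    rw [e, Subgroup.card_bot] at h
    have h' : 0 < (Nat.card G).factorization q := hqM.1.factorization_pos_of_dvd Nat.card_pos.ne'
      (hqM.2.1.trans (Subgroup.card_subgroup_dvd_card M))
    exact (Nat.one_lt_pow h'.ne' hqM.1.one_lt).ne h
  obtain ⟨p, hp, hpq, hp1, P, hP, hPT, hfpf⟩ :=
    exists_fpf_tau1 hG hM hqM hqbM T hT1 hTc hTM hNTM (hτ hN'c hM hqN' hqM hconj')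
  haveI := Fact.mk hp
  have hp1N : p ∈ Cfsg.tau1 N' := by
    refine tau1_of_noncentralizing hG hN'c hqN' hqbN T.2 hTN (hτ hM hN'c hqM hqN' hconj)
      (IsPGroup.of_card (n := 1) (hP.trans (pow_one p).symm)) (hPT.trans hNTN) hpq hPT fun h => hT1 ?_
    rw [← hfpf, Subgroup.commutator_comm, Subgroup.commutator_eq_bot_iff_le_centralizer]
    exact h
  obtain ⟨hnM, t, htb, x, hx, hxo⟩ :=
    exists_beta_fixed hG hM hN'c hconj hqM hqbM T hTM hNTM hNTN hp1.2.1 hpq hP hPT hfpf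
  obtain ⟨hnN, s, hsb, y, hy, hyo⟩ :=
    exists_beta_fixed hG hN'c hM hconj' hqN' hqbN T hTN hNTN hNTM hp1N.2.1 hpq hP hPT hfpf
  have hP1 : P ≠ ⊥ := fun e => by rw [e, Subgroup.card_bot] at hP; exact hp.one_lt.ne hP
  have hZ : Subgroup.centralizer (P : Set G) ≠ ⊤ := fun e =>
    normalizer_ne_top hG hP1 (fun e' => hM.1 (top_le_iff.mp (e' ▸ hPT.trans hNTM)))
      (top_le_iff.mp (e ▸ Subgroup.centralizer_le_normalizer _))
  haveI := Fact.mk htb.1.1
  haveI := Fact.mk hsb.1.1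
  rcases exists_crossed hG hM hN'c hZ htb hsb hx hxo hy hyo with ⟨y', hy', hyo'⟩ | ⟨x', hx', hxo'⟩
  · exact hnM (fixed_le_of_beta hG hM hN'c hconj hqM hqbM T hTM hNTM hNTN hp1 hP hPT hsb hy' hyo')
  · exact hnN (fixed_le_of_beta hG hN'c hM hconj' hqN' hqbN T hTN hNTN hNTM hp1N hP hPT htb hx' hxo')

omit hp in
/-- Every prime divisor of `|G|` lies in some `σ(M)`. -/
theorem exists_mem_sigma (hG : IsMinSimpleOddOrder G) {r : ℕ} (hr : r.Prime) (hd : r ∣ Nat.card G) :
    ∃ M : Subgroup G, IsCoatom M ∧ r ∈ Cfsg.sigma M := by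
  haveI := Fact.mk hr
  obtain ⟨T⟩ : Nonempty (Sylow r G) := inferInstance
  have hT1 : (T : Subgroup G) ≠ ⊥ := fun e => by
    have h := T.card_eq_multiplicity
    rw [e, Subgroup.card_bot] at h
    have h' : 0 < (Nat.card G).factorization r := hr.factorization_pos_of_dvd Nat.card_pos.ne' hd
    exact (Nat.one_lt_pow h'.ne' hr.one_lt).ne h
  have hTtop : (T : Subgroup G) ≠ ⊤ := pGroup_ne_top hG T.2
  obtain ⟨M, hM, hle⟩ := exists_maximal_ge (normalizer_ne_top hG hT1 hTtop)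
  refine ⟨M, hM, mem_sigma_of_normalizer_le (R := (T : Subgroup G)) ?_ hT1 hle⟩
  refine isSylowIn_of_not_dvd_relIndex T.2 (Subgroup.le_normalizer.trans hle) fun h => T.not_dvd_index ?_
  exact h.trans (Subgroup.relIndex_dvd_index_of_le (Subgroup.le_normalizer.trans hle))

end Cfsg.Agent.OddLocal
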