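import Cfsg.Agent.Lib.OddLocal.SigmaNeighbor

/-! The cosets `x R(x)` (BG 14.4, 14.5): regularity, disjointness and counting. -/

set_option autoImplicit false
set_option linter.unusedSectionVars false
set_option linter.style.haveILetI false

namespace Cfsg.Agent.OddLocal

open scoped commutatorElement Pointwise
open Cfsg
open Basics (IsSylowIn)

universe u

variable {G : Type u} [Group G] [Finite G]

theorem centralizer_map_conj (x y : G) :
    (Subgroup.centralizer ({x} : Set G)).map (MulAut.conj y).toMonoidHom =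
      Subgroup.centralizer ({y * x * y⁻¹} : Set G) := by
  ext c
  constructor
  · rintro ⟨d, hd, rfl⟩
    have h := Subgroup.mem_centralizer_singleton_iff.mp hd
    rw [Subgroup.mem_centralizer_singleton_iff]
    simp only [MulEquiv.coe_toMonoidHom, MulAut.conj_apply]
    calc y * d * y⁻¹ * (y * x * y⁻¹) = y * (d * x) * y⁻¹ := by group
      _ = y * (x * d) * y⁻¹ := by rw [h]
      _ = _ := by group
  · intro hc
    have h := Subgroup.mem_centralizer_singleton_iff.mp hc
    refine ⟨y⁻¹ * c * y, Subgroup.mem_centralizer_singleton_iff.mpr ?_, by simp [mul_assoc]⟩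
    calc y⁻¹ * c * y * x = y⁻¹ * (c * (y * x * y⁻¹)) * y := by group
      _ = y⁻¹ * ((y * x * y⁻¹) * c) * y := by rw [h]
      _ = _ := by group

theorem sigma_map (M : Subgroup G) (g : G) :
    Cfsg.sigma (M.map (MulAut.conj g).toMonoidHom) = Cfsg.sigma M :=
  Set.ext fun _ => ⟨sigma_of_conj, sigma_of_conj_inv rfl⟩

theorem sigmaCore_map (hG : IsMinSimpleOddOrder G) {M : Subgroup G} (hM : IsCoatom M) (g : G) :
    Cfsg.sigmaCore (M.map (MulAut.conj g).toMonoidHom) = (Cfsg.sigmaCore M).map (MulAut.conj g).toMonoidHom := by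
  have key : ∀ (H : Subgroup G) (y : G), IsCoatom H →
      (Cfsg.sigmaCore H).map (MulAut.conj y).toMonoidHom ≤ Cfsg.sigmaCore (H.map (MulAut.conj y).toMonoidHom) := by
    intro H y hH
    refine le_of_sylows fun q hq hd => ?_
    haveI := Fact.mk hq
    obtain ⟨S, hS⟩ := exists_sylowIn (q := q) ((Cfsg.sigmaCore H).map (MulAut.conj y).toMonoidHom)
    rw [Subgroup.card_map_of_injective (MulAut.conj y).injective] at hd
    refine ⟨S, hS, pGroup_le_sigmaCore hG (isCoatom_map_conj hH y) ?_ hS.isPGroup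
      (hS.1.trans (Subgroup.map_mono (sigmaCore_le H)))⟩
    rw [sigma_map]
    exact piCoreOf_primes _ H hq hd
  refine le_antisymm ?_ (key M g hM)
  have h := Subgroup.map_mono (f := (MulAut.conj g).toMonoidHom)
    (key (M.map (MulAut.conj g).toMonoidHom) g⁻¹ (isCoatom_map_conj hM g))
  rwa [map_conj_map_conj, map_conj_map_conj, mul_inv_cancel, map_conj_one, inv_mul_cancel, map_conj_one] at h

theorem sigma_eq_of_mem (hG : IsMinSimpleOddOrder G) {M N : Subgroup G} (hM : IsCoatom M) (hN : IsCoatom N)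
    {q : ℕ} (h1 : q ∈ Cfsg.sigma M) (h2 : q ∈ Cfsg.sigma N) : Cfsg.sigma N = Cfsg.sigma M := by
  haveI := Fact.mk h1.1
  obtain ⟨g, rfl⟩ := sigma_disjoint hG hM hN h1 h2
  exact sigma_map M g

/-- The data of `R(x)`. -/
theorem supportR_spec (hG : IsMinSimpleOddOrder G) {M : Subgroup G} (hM : IsCoatom M) {x : G}
    (hx : x ∈ Cfsg.sigmaCore M) (hx1 : x ≠ 1) :
    Subgroup.centralizer ({x} : Set G) ≤ Subgroup.normalizer (Cfsg.supportR M x : Set G) ∧
      IsComplIn (M ⊓ Subgroup.centralizer ({x} : Set G)) (Cfsg.supportR M x) (Subgroup.centralizer ({x} : Set G)) ∧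
      (Nat.card ↥(M ⊓ Subgroup.centralizer ({x} : Set G))).Coprime (Nat.card (Cfsg.supportR M x)) ∧
      ((Subgroup.centralizer ({x} : Set G) ≤ M ∧ Cfsg.supportR M x = ⊥) ∨
        ∃ N : Subgroup G, IsCoatom N ∧ ¬ Subgroup.centralizer ({x} : Set G) ≤ M ∧
          Subgroup.centralizer ({x} : Set G) ≤ N ∧
          Cfsg.supportR M x = Cfsg.sigmaCore N ⊓ Subgroup.centralizer ({x} : Set G)) := by
  by_cases hC : Subgroup.centralizer ({x} : Set G) ≤ M
  · rw [supportR_of_le hC, inf_eq_right.mpr hC]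
    refine ⟨fun c _ => mem_normalizer_of_conj_mem fun a ha => ?_, ⟨le_rfl, bot_le, inf_bot_eq _,
      fun c hc => ⟨c, hc, 1, one_mem _, (mul_one c).symm⟩⟩, by rw [Subgroup.card_bot]; exact Nat.coprime_one_right _,
      Or.inl ⟨hC, rfl⟩⟩
    rw [Subgroup.mem_bot] at ha ⊢
    simp [ha]
  obtain ⟨N, hN, hCN, hu, -, -, hF, hcompl, -, -, hC'⟩ := exists_neighbor hG hM hx hx1 hC
  have hR := supportR_of_neighbor hC hN hCN hu hF
  rw [hR]
  refine ⟨(le_inf (hCN.trans (le_normalizer_sigmaCore N)) Subgroup.le_normalizer).trans le_normalizer_inf', hC', ?_,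
    Or.inr ⟨N, hN, hC, hCN, rfl⟩⟩
  exact Nat.coprime_of_dvd fun q hq h1 h2 => compl_primes hG hN hcompl hq
    (h1.trans (Subgroup.card_dvd_of_le (inf_le_inf_left M hCN)))
    (piCoreOf_primes _ N hq (h2.trans (Subgroup.card_dvd_of_le inf_le_left)))

/-- `R(x)` is regular on the conjugates of `M` containing `x`. -/
theorem supportR_regular (hG : IsMinSimpleOddOrder G) {M : Subgroup G} (hM : IsCoatom M) {x : G}
    (hx : x ∈ Cfsg.sigmaCore M) (hx1 : x ≠ 1) {g : G} (hxg : x ∈ M.map (MulAut.conj g).toMonoidHom) :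
    ∃! r : G, r ∈ Cfsg.supportR M x ∧
      M.map (MulAut.conj r).toMonoidHom = M.map (MulAut.conj g).toMonoidHom := by
  obtain ⟨hn, hc, -, -⟩ := supportR_spec hG hM hx hx1
  obtain ⟨c, hcC, hcg⟩ := conj_of_mem hG hM hx hx1 hxg
  obtain ⟨e, he, b, hb, hceb⟩ := hc.2.2.2 c hcC
  subst hceb
  refine ⟨e * b * e⁻¹, ⟨(Subgroup.mem_normalizer_iff.mp (hn he.2) b).mp hb, ?_⟩, fun r hr => ?_⟩
  · rw [← hcg, ← map_conj_map_conj M e⁻¹ (e * b), map_conj_eq_self (inv_mem he.1)]
  · have h2 : M.map (MulAut.conj r).toMonoidHom = M.map (MulAut.conj (e * b * e⁻¹)).toMonoidHom := by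
      rw [hr.2, ← hcg, ← map_conj_map_conj M e⁻¹ (e * b), map_conj_eq_self (inv_mem he.1)]
    have h3 := inv_mul_mem_of_map_conj_eq hG hM h2
    have hbR : e * b * e⁻¹ ∈ Cfsg.supportR M x := (Subgroup.mem_normalizer_iff.mp (hn he.2) b).mp hb
    have hC : Cfsg.supportR M x ≤ Subgroup.centralizer ({x} : Set G) := hc.2.1
    have h4 : (e * b * e⁻¹)⁻¹ * r ∈ (M ⊓ Subgroup.centralizer ({x} : Set G)) ⊓ Cfsg.supportR M x :=
      Subgroup.mem_inf.mpr ⟨Subgroup.mem_inf.mpr ⟨by first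
        | exact h3
        | (have h5 := inv_mem h3; rwa [mul_inv_rev, inv_inv] at h5),
        mul_mem (inv_mem (hC hbR)) (hC hr.1)⟩, mul_mem (inv_mem hbR) hr.1⟩
    rw [hc.2.2.1, Subgroup.mem_bot, inv_mul_eq_one] at h4
    exact h4.symm

/-- `R(x)` is equivariant. -/
theorem supportR_conj (hG : IsMinSimpleOddOrder G) {M : Subgroup G} (hM : IsCoatom M) {x : G}
    (hx : x ∈ Cfsg.sigmaCore M) (hx1 : x ≠ 1) (y : G) :
    Cfsg.supportR (M.map (MulAut.conj y).toMonoidHom) (y * x * y⁻¹) =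
      (Cfsg.supportR M x).map (MulAut.conj y).toMonoidHom := by
  by_cases hC : Subgroup.centralizer ({x} : Set G) ≤ M
  · rw [supportR_of_le hC, Subgroup.map_bot, supportR_of_le]
    rw [← centralizer_map_conj]
    exact Subgroup.map_mono hC
  obtain ⟨N, hN, hCN, hu, -, hnil, hF, -⟩ := exists_neighbor hG hM hx hx1 hC
  rw [supportR_of_neighbor hC hN hCN hu hF,
    Subgroup.map_inf _ _ _ (MulAut.conj y).injective, centralizer_map_conj, ← sigmaCore_map hG hN y]
  have hback : ∀ L : Subgroup G, Subgroup.centralizer ({y * x * y⁻¹} : Set G) ≤ L →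
      Subgroup.centralizer ({x} : Set G) ≤ L.map (MulAut.conj y⁻¹).toMonoidHom := fun L hle => by
    have h := Subgroup.map_mono (f := (MulAut.conj y⁻¹).toMonoidHom) hle
    rwa [centralizer_map_conj, show y⁻¹ * (y * x * y⁻¹) * y⁻¹⁻¹ = x by group] at h
  refine supportR_of_neighbor (fun h => hC ?_) (isCoatom_map_conj hN y) ?_ (fun L hL hle => ?_) ?_
  · have h' := hback _ h
    rwa [map_conj_map_conj, inv_mul_cancel, map_conj_one] at h'
  · rw [← centralizer_map_conj]; exact Subgroup.map_mono hCN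
  · rw [← hu _ (isCoatom_map_conj hL y⁻¹) (hback L hle), map_conj_map_conj, mul_inv_cancel, map_conj_one]
  · refine fittingHallOf_eq_sigmaCore hG (isCoatom_map_conj hN y) ?_
    rw [sigmaCore_map hG hN y]
    haveI := hnil
    exact Group.nilpotent_of_mulEquiv ((Cfsg.sigmaCore N).equivMapOfInjective _ (MulAut.conj y).injective)

theorem mem_zpowers_mul_left {a r : G} (hc : Commute a r) (h : (orderOf a).Coprime (orderOf r)) :
    a ∈ Subgroup.zpowers (a * r) := by
  obtain ⟨m, hm⟩ := exists_pow_eq_self_of_coprime h.symm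
  have h1 : (a * r) ^ orderOf r = a ^ orderOf r := by rw [hc.mul_pow, pow_orderOf_eq_one, mul_one]
  have h2 : ((a * r) ^ orderOf r) ^ m ∈ Subgroup.zpowers (a * r) :=
    pow_mem (pow_mem (Subgroup.mem_zpowers _) _) _
  rwa [h1, hm] at h2

/-- Uniqueness of the parts of an element. -/
theorem part_unique {a r b s : G} (h : a * r = b * s) (har : Commute a r) (hbs : Commute b s)
    (h1 : (orderOf a).Coprime (orderOf r)) (h2 : (orderOf b).Coprime (orderOf s))
    (h3 : (orderOf a).Coprime (orderOf s)) (h4 : (orderOf b).Coprime (orderOf r)) : a = b := by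
  obtain ⟨i, hi⟩ := mem_zpowers_mul_left har h1
  obtain ⟨j, hj⟩ := mem_zpowers_mul_left hbs h2
  simp only at hi hj
  rw [← h] at hj
  have hab : Commute a b := by rw [← hi, ← hj]; exact (Commute.refl (a * r)).zpow_zpow i j
  have hbr : Commute b r := by
    rw [← hj]
    exact ((har.mul_left (Commute.refl r)).zpow_left j)
  have hu : b⁻¹ * a = s * r⁻¹ := by
    calc b⁻¹ * a = b⁻¹ * (a * r) * r⁻¹ := by group
      _ = b⁻¹ * (b * s) * r⁻¹ := by rw [h]
      _ = s * r⁻¹ := by group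
  have hsr : Commute s r := by
    have e : s = b⁻¹ * (a * r) := by rw [h]; group
    rw [e]
    exact (hbr.inv_left).mul_left (har.mul_left (Commute.refl r))
  have d1 : orderOf (b⁻¹ * a) ∣ orderOf b * orderOf a := by
    have := (hab.symm.inv_left).orderOf_mul_dvd_mul_orderOf
    rwa [orderOf_inv] at this
  have d2 : orderOf (s * r⁻¹) ∣ orderOf s * orderOf r := by
    have := (hsr.inv_right).orderOf_mul_dvd_mul_orderOf
    rwa [orderOf_inv] at this
  have hcop : (orderOf b * orderOf a).Coprime (orderOf s * orderOf r) :=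
    (h2.mul_right h4).mul_left (h3.mul_right h1)
  have := Nat.eq_one_of_dvd_coprimes hcop (hu ▸ d1 : orderOf (s * r⁻¹) ∣ _) d2
  rw [orderOf_eq_one_iff, ← hu, inv_mul_eq_one] at this
  exact this.symm

theorem orderOf_mul_of_coprime {a r : G} (har : Commute a r) (h : (orderOf a).Coprime (orderOf r)) :
    orderOf (a * r) = orderOf a * orderOf r := har.orderOf_mul_eq_mul_orderOf_of_coprime h

/-- The element `r` of `R(x)`: its order and commutation. -/
theorem supportR_elt (hG : IsMinSimpleOddOrder G) {M : Subgroup G} (hM : IsCoatom M) {x r : G}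
    (hx : x ∈ Cfsg.sigmaCore M) (hx1 : x ≠ 1) (hr : r ∈ Cfsg.supportR M x) (hr1 : r ≠ 1) :
    ∃ N : Subgroup G, IsCoatom N ∧ ¬ Subgroup.centralizer ({x} : Set G) ≤ M ∧
      Subgroup.centralizer ({x} : Set G) ≤ N ∧
      (∀ L : Subgroup G, IsCoatom L → Subgroup.centralizer ({x} : Set G) ≤ L → L = N) ∧
      r ∈ Cfsg.sigmaCore N ∧ r ∈ Subgroup.centralizer ({x} : Set G) ∧ Commute x r ∧
      (∀ q : ℕ, q ∈ Cfsg.sigma M → q ∉ Cfsg.sigma N) ∧
      (orderOf x).Coprime (orderOf r) := by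
  obtain ⟨-, -, -, ⟨-, h⟩ | ⟨N, hN, hC, hCN, h⟩⟩ := supportR_spec hG hM hx hx1
  · rw [h, Subgroup.mem_bot] at hr
    exact absurd hr hr1
  rw [h] at hr
  obtain ⟨N', hN', -, hu, hconj, -⟩ := exists_neighbor hG hM hx hx1 hC
  have hNN := hu N hN hCN
  subst hNN
  have hdis : ∀ q : ℕ, q ∈ Cfsg.sigma M → q ∉ Cfsg.sigma N := fun q h1 h2 => by
    haveI := Fact.mk h1.1
    obtain ⟨g, hg⟩ := sigma_disjoint hG hM hN h1 h2
    exact hconj g hg
  refine ⟨N, hN, hC, hCN, hu, hr.1, hr.2, (Subgroup.mem_centralizer_singleton_iff.mp hr.2).symm, hdis,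
    Nat.coprime_of_dvd fun q hq h1 h2 => hdis q ?_ ?_⟩
  · exact piCoreOf_primes _ M hq (h1.trans (Subgroup.orderOf_dvd_natCard _ hx))
  · exact piCoreOf_primes _ N hq (h2.trans (Subgroup.orderOf_dvd_natCard _ hr.1))

/-- BG 14.5: the cosets `x R(x)` are disjoint. -/
theorem coset_unique (hG : IsMinSimpleOddOrder G) {M M' : Subgroup G} (hM : IsCoatom M) (hM' : IsCoatom M')
    {x y r s : G} (hx : x ∈ Cfsg.sigmaCore M) (hy : y ∈ Cfsg.sigmaCore M') (hx1 : x ≠ 1) (hy1 : y ≠ 1)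
    (hr : r ∈ Cfsg.supportR M x) (hs : s ∈ Cfsg.supportR M' y) (h : x * r = y * s) : x = y := by
  have hpx : ∀ q : ℕ, q.Prime → q ∣ orderOf x → q ∈ Cfsg.sigma M := fun q hq hd =>
    piCoreOf_primes _ M hq (hd.trans (Subgroup.orderOf_dvd_natCard _ hx))
  have hpy : ∀ q : ℕ, q.Prime → q ∣ orderOf y → q ∈ Cfsg.sigma M' := fun q hq hd =>
    piCoreOf_primes _ M' hq (hd.trans (Subgroup.orderOf_dvd_natCard _ hy))
  -- one side trivial forces the other
  have one_side : ∀ {A B : Subgroup G} {a b t : G}, IsCoatom A → IsCoatom B → a ∈ Cfsg.sigmaCore A →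
      b ∈ Cfsg.sigmaCore B → b ≠ 1 → t ∈ Cfsg.supportR B b → a = b * t → t = 1 := by
    intro A B a b t hA hB ha hb hb1 ht e
    by_contra ht1
    obtain ⟨N, hN, -, -, -, htN, -, hcomm, hdis, hcop⟩ := supportR_elt hG hB hb hb1 ht ht1
    have ho : orderOf a = orderOf b * orderOf t := e ▸ orderOf_mul_of_coprime hcomm hcop
    obtain ⟨q, hq, hqd⟩ := Nat.exists_prime_and_dvd fun e => hb1 (orderOf_eq_one_iff.mp e)
    obtain ⟨q', hq', hqd'⟩ := Nat.exists_prime_and_dvd fun e => ht1 (orderOf_eq_one_iff.mp e)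
    have hqB : q ∈ Cfsg.sigma B := piCoreOf_primes _ B hq (hqd.trans (Subgroup.orderOf_dvd_natCard _ hb))
    have hqN : q' ∈ Cfsg.sigma N := piCoreOf_primes _ N hq' (hqd'.trans (Subgroup.orderOf_dvd_natCard _ htN))
    have h1 : q ∈ Cfsg.sigma A := piCoreOf_primes _ A hq
      ((hqd.trans (ho ▸ dvd_mul_right _ _)).trans (Subgroup.orderOf_dvd_natCard _ ha))
    have h2 : q' ∈ Cfsg.sigma A := piCoreOf_primes _ A hq'
      ((hqd'.trans (ho ▸ dvd_mul_left _ _)).trans (Subgroup.orderOf_dvd_natCard _ ha))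
    exact hdis q' (sigma_eq_of_mem hG hA hB h1 hqB ▸ h2) hqN
  by_cases hr1 : r = 1
  · subst hr1
    rw [mul_one] at h
    rw [h, one_side hM hM' hx hy hy1 hs h, mul_one]
  by_cases hs1 : s = 1
  · subst hs1
    rw [mul_one] at h
    exact absurd (one_side hM' hM hy hx hx1 hr h.symm) hr1
  obtain ⟨N, hN, hCM, hCN, huN, hrN, hrC, hxr, hdis, hcop⟩ := supportR_elt hG hM hx hx1 hr hr1
  obtain ⟨N', hN', hCM', hCN', huN', hsN, hsC, hys, hdis', hcop'⟩ := supportR_elt hG hM' hy hy1 hs hs1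
  have hpr : ∀ q : ℕ, q.Prime → q ∣ orderOf r → q ∈ Cfsg.sigma N := fun q hq hd =>
    piCoreOf_primes _ N hq (hd.trans (Subgroup.orderOf_dvd_natCard _ hrN))
  have hps' : ∀ q : ℕ, q.Prime → q ∣ orderOf s → q ∈ Cfsg.sigma N' := fun q hq hd =>
    piCoreOf_primes _ N' hq (hd.trans (Subgroup.orderOf_dvd_natCard _ hsN))
  by_cases hMM : Cfsg.sigma M' = Cfsg.sigma M
  · refine part_unique h hxr hys hcop hcop' (Nat.coprime_of_dvd fun q hq h1 h2 => ?_)
      (Nat.coprime_of_dvd fun q hq h1 h2 => ?_)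
    · exact hdis' q (hMM ▸ hpx q hq h1) (hps' q hq h2)
    · exact hdis q (hMM ▸ hpy q hq h1) (hpr q hq h2)
  exfalso
  have hxy : (orderOf x).Coprime (orderOf y) := Nat.coprime_of_dvd fun q hq h1 h2 =>
    hMM (sigma_eq_of_mem hG hM hM' (hpx q hq h1) (hpy q hq h2))
  have ho : orderOf x * orderOf r = orderOf y * orderOf s := by
    rw [← orderOf_mul_of_coprime hxr hcop, ← orderOf_mul_of_coprime hys hcop', h]
  obtain ⟨q, hq, hqd⟩ := Nat.exists_prime_and_dvd fun e => hx1 (orderOf_eq_one_iff.mp e)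
  have hqs : q ∣ orderOf s := (hq.dvd_mul.mp (ho ▸ dvd_mul_of_dvd_left hqd _)).resolve_left fun e =>
    hq.one_lt.ne' (Nat.eq_one_of_dvd_coprimes hxy hqd e)
  have hMN' : Cfsg.sigma N' = Cfsg.sigma M := sigma_eq_of_mem hG hM hN' (hpx q hq hqd) (hps' q hq hqs)
  -- `x = s` and `r = y`
  have hxs : x = s := by
    refine part_unique (h.trans hys.eq) hxr hys.symm hcop hcop'.symm hxy
      (Nat.coprime_of_dvd fun t ht h1 h2 => hdis t (hMN' ▸ hps' t ht h1) (hpr t ht h2))
  subst hxs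
  have hry : r = y := mul_left_cancel (h.trans hys.eq)
  subst hry
  by_cases hCx : Subgroup.centralizer ({x} : Set G) ≤ N'
  · obtain ⟨t, htd⟩ : ∃ t : ℕ, t.Prime ∧ t ∣ orderOf x := ⟨q, hq, hqd⟩
    haveI := Fact.mk hq
    obtain ⟨g, hg⟩ := sigma_disjoint hG hN' hM (hps' q hq hqd) (hpx q hq hqd)
    have hxM : x ∈ N'.map (MulAut.conj g).toMonoidHom := hg ▸ sigmaCore_le M hx
    exact hCM ((eq_of_mem_conj hG hN' hsN hx1 hxM hCx).symm.trans hg.symm ▸ hCx)
  obtain ⟨N₂, hN₂, hCN₂, hu₂, -, -, -, hcompl, -⟩ := exists_neighbor hG hN' hsN hx1 hCx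
  have hN2 := huN N₂ hN₂ hCN₂
  subst hN2
  have h1 : r ∈ (N' ⊓ N₂) ⊓ Cfsg.sigmaCore N₂ := Subgroup.mem_inf.mpr ⟨Subgroup.mem_inf.mpr
    ⟨hCN' (Subgroup.mem_centralizer_singleton_iff.mpr rfl), sigmaCore_le N₂ hrN⟩, hrN⟩
  rw [hcompl.2.2.1, Subgroup.mem_bot] at h1
  exact hr1 h1

/-- Different base subgroups give the same `R(x)`. -/
theorem supportR_indep (hG : IsMinSimpleOddOrder G) {M : Subgroup G} (hM : IsCoatom M) {x g : G}
    (hx : x ∈ Cfsg.sigmaCore M) (hx1 : x ≠ 1) (hxg : x ∈ M.map (MulAut.conj g).toMonoidHom) :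
    Cfsg.supportR (M.map (MulAut.conj g).toMonoidHom) x = Cfsg.supportR M x := by
  obtain ⟨c, hc, e⟩ := conj_of_mem hG hM hx hx1 hxg
  have hcx : c * x * c⁻¹ = x := by rw [Subgroup.mem_centralizer_singleton_iff.mp hc, mul_inv_cancel_right]
  have h := supportR_conj hG hM hx hx1 c
  rw [hcx] at h
  rw [← e, h]
  exact Subgroup.mem_normalizer_iff_map_conj_eq.mp ((supportR_spec hG hM hx hx1).1 hc)

/-- The number of elements of the tilde set of `M`. -/
theorem ncard_tilde (hG : IsMinSimpleOddOrder G) {M : Subgroup G} (hM : IsCoatom M) :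
    Set.ncard (Cfsg.tildeOf M ((Cfsg.sigmaCore M : Set G) \ {1})) =
      (Nat.card (Cfsg.sigmaCore M) - 1) * M.index := by
  classical
  let Ω := {v : G × Subgroup G // v.1 ≠ 1 ∧ ∃ g : G, v.2 = M.map (MulAut.conj g).toMonoidHom ∧
    v.1 ∈ (Cfsg.sigmaCore M).map (MulAut.conj g).toMonoidHom}
  have hcore : ∀ {g a : G}, a ∈ (Cfsg.sigmaCore M).map (MulAut.conj g).toMonoidHom →
      a ∈ Cfsg.sigmaCore (M.map (MulAut.conj g).toMonoidHom) := fun h => (sigmaCore_map hG hM _).symm ▸ h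
  -- the base subgroup of an element
  let P : G → G → Prop := fun a g => a ∈ (Cfsg.sigmaCore M).map (MulAut.conj g).toMonoidHom
  let base : G → G := fun a => if h : ∃ g, P a g then h.choose else 1
  have hbase : ∀ a g, P a g → P a (base a) := fun a g h => by
    show P a (if h : ∃ g, P a g then h.choose else 1)
    rw [dif_pos ⟨g, h⟩]
    exact Exists.choose_spec (⟨g, h⟩ : ∃ g, P a g)
  have hreg : ∀ v : Ω, ∃! r : G, r ∈ Cfsg.supportR (M.map (MulAut.conj (base v.1.1)).toMonoidHom) v.1.1 ∧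
      (M.map (MulAut.conj (base v.1.1)).toMonoidHom).map (MulAut.conj r).toMonoidHom = v.1.2 := by
    rintro ⟨⟨a, H⟩, ha1, g, hH, hag⟩
    simp only at hH hag
    subst hH
    have h := supportR_regular hG (isCoatom_map_conj hM (base a)) (g := g * (base a)⁻¹) (hcore (hbase a g hag)) ha1
      (by rw [map_conj_map_conj, inv_mul_cancel_right]; exact Subgroup.map_mono (sigmaCore_le M) hag)
    rw [map_conj_map_conj M (base a) (g * (base a)⁻¹), inv_mul_cancel_right] at h
    exact h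
  obtain ⟨rr, hF, hFu⟩ : ∃ rr : Ω → G,
      (∀ v : Ω, rr v ∈ Cfsg.supportR (M.map (MulAut.conj (base v.1.1)).toMonoidHom) v.1.1 ∧
        (M.map (MulAut.conj (base v.1.1)).toMonoidHom).map (MulAut.conj (rr v)).toMonoidHom = v.1.2) ∧
      ∀ (v : Ω) (r : G), r ∈ Cfsg.supportR (M.map (MulAut.conj (base v.1.1)).toMonoidHom) v.1.1 →
        (M.map (MulAut.conj (base v.1.1)).toMonoidHom).map (MulAut.conj r).toMonoidHom = v.1.2 → r = rr v :=
    ⟨fun v => (hreg v).choose, fun v => (hreg v).choose_spec.1, fun v r h1 h2 => (hreg v).choose_spec.2 r ⟨h1, h2⟩⟩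
  let F : Ω → G := fun v => v.1.1 * rr v
  have hmem : ∀ v : Ω, v.1.1 ∈ Cfsg.sigmaCore (M.map (MulAut.conj (base v.1.1)).toMonoidHom) := fun v => by
    obtain ⟨-, g, -, h⟩ := v.2
    exact hcore (hbase _ g h)
  have hinj : Function.Injective F := by
    intro v w e
    have e1 : v.1.1 = w.1.1 := coset_unique hG (isCoatom_map_conj hM _) (isCoatom_map_conj hM _) (hmem v) (hmem w)
      v.2.1 w.2.1 (hF v).1 (hF w).1 e
    have e2 : rr v = rr w := by
      simp only [F, e1] at e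
      exact mul_left_cancel e
    refine Subtype.ext (Prod.ext e1 ?_)
    rw [← (hF v).2, ← (hF w).2, e1, e2]
  have hrange : Set.range F = Cfsg.tildeOf M ((Cfsg.sigmaCore M : Set G) \ {1}) := by
    ext z
    constructor
    · rintro ⟨v, rfl⟩
      obtain ⟨g, -, hg⟩ := v.2.2
      obtain ⟨a, ha, hab⟩ : v.1.1 ∈ (Cfsg.sigmaCore M).map (MulAut.conj (base v.1.1)).toMonoidHom := hbase _ g hg
      simp only [MulEquiv.coe_toMonoidHom, MulAut.conj_apply] at hab
      have ha1 : a ≠ 1 := fun e => v.2.1 (by rw [← hab, e]; simp)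
      have hR := supportR_conj hG hM ha ha1 (base v.1.1)
      rw [hab] at hR
      have h0 := (hF v).1
      rw [hR] at h0
      obtain ⟨r, hr, hre⟩ := h0
      simp only [MulEquiv.coe_toMonoidHom, MulAut.conj_apply] at hre
      refine ⟨a, ⟨ha, ha1⟩, r, hr, base v.1.1, ?_⟩
      show v.1.1 * rr v = _
      rw [← hre]
      conv_lhs => arg 1; rw [← hab]
      group
    · rintro ⟨a, ⟨ha, ha1⟩, r, hr, y, rfl⟩
      have ha1' : y * a * y⁻¹ ≠ 1 := fun e => ha1 (conj_eq_one_iff.mp e)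
      have hay : P (y * a * y⁻¹) y := ⟨a, ha, rfl⟩
      set b := y * a * y⁻¹ with hb
      set r' := y * r * y⁻¹ with hr'
      have hR : r' ∈ Cfsg.supportR (M.map (MulAut.conj (base b)).toMonoidHom) b := by
        have h1 := supportR_indep hG (isCoatom_map_conj hM y) (g := base b * y⁻¹) (hcore hay) ha1'
          (by rw [map_conj_map_conj, inv_mul_cancel_right]; exact Subgroup.map_mono (sigmaCore_le M) (hbase b y hay))
        rw [map_conj_map_conj, inv_mul_cancel_right, supportR_conj hG hM ha ha1 y] at h1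
        rw [h1]
        exact ⟨r, hr, rfl⟩
      have hrb : r' ∈ Subgroup.centralizer ({b} : Set G) :=
        (supportR_spec hG (isCoatom_map_conj hM _) (hcore (hbase b y hay)) ha1').2.1.2.1 hR
      have hmemH : b ∈ (Cfsg.sigmaCore M).map (MulAut.conj (r' * base b)).toMonoidHom := by
        rw [← map_conj_map_conj]
        refine ⟨b, hbase b y hay, ?_⟩
        simp only [MulEquiv.coe_toMonoidHom, MulAut.conj_apply]
        rw [Subgroup.mem_centralizer_singleton_iff.mp hrb, mul_inv_cancel_right]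
      let v : Ω := ⟨(b, M.map (MulAut.conj (r' * base b)).toMonoidHom), ha1', _, rfl, hmemH⟩
      have hu : r' = rr v := hFu v r' hR (map_conj_map_conj _ _ _)
      refine ⟨v, ?_⟩
      show b * rr v = _
      rw [← hu, hb, hr']
      group
  rw [← hrange, Set.ncard_range_of_injective hinj, mul_comm]
  have e : (G ⧸ M) × ↥((Cfsg.sigmaCore M : Set G) \ {1}) ≃ Ω := Equiv.ofBijective
    (fun v => ⟨(v.1.out * v.2.1 * v.1.out⁻¹, M.map (MulAut.conj v.1.out).toMonoidHom),
      fun e => v.2.2.2 (conj_eq_one_iff.mp e), v.1.out, rfl, v.2.1, v.2.2.1, rfl⟩)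
    ⟨fun v w e => by
      replace e := congrArg Subtype.val e
      simp only [Prod.mk.injEq] at e
      have h := inv_mul_mem_of_map_conj_eq hG hM e.2
      have hq : v.1 = w.1 := by
        rw [← v.1.out_eq, ← w.1.out_eq]
        refine QuotientGroup.eq.mpr ?_
        first
          | exact h
          | (have h' := inv_mem h; rwa [mul_inv_rev, inv_inv] at h')
      refine Prod.ext hq (Subtype.ext ?_)
      have e1 := e.1
      rw [hq] at e1
      exact mul_left_cancel (mul_right_cancel e1),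
    fun ⟨⟨a, H⟩, ha1, g, hH, hag⟩ => by
      obtain ⟨m, hm, hgm⟩ : ∃ m ∈ M, (QuotientGroup.mk g : G ⧸ M).out = g * m :=
        ⟨g⁻¹ * (QuotientGroup.mk g : G ⧸ M).out, QuotientGroup.eq.mp (QuotientGroup.out_eq' _).symm,
          (mul_inv_cancel_left _ _).symm⟩
      simp only at hH hag ha1
      obtain ⟨a₀, ha₀, rfl⟩ := hag
      have hmem : m⁻¹ * a₀ * m ∈ Cfsg.sigmaCore M :=
        (Subgroup.mem_normalizer_iff''.mp (le_normalizer_sigmaCore M hm) a₀).mp ha₀
      refine ⟨(QuotientGroup.mk g, ⟨m⁻¹ * a₀ * m, hmem, fun e => ha1 ?_⟩), Subtype.ext (Prod.ext ?_ ?_)⟩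
      · have e1 : m⁻¹ * a₀ * m = 1 := e
        rw [show a₀ = m * (m⁻¹ * a₀ * m) * m⁻¹ by group, e1]
        simp
      · show (QuotientGroup.mk g : G ⧸ M).out * (m⁻¹ * a₀ * m) * (QuotientGroup.mk g : G ⧸ M).out⁻¹ = _
        rw [hgm]
        simp only [MulEquiv.coe_toMonoidHom, MulAut.conj_apply]
        group
      · show M.map (MulAut.conj (QuotientGroup.mk g : G ⧸ M).out).toMonoidHom = H
        rw [hgm, hH, ← map_conj_map_conj, map_conj_eq_self hm]⟩
  rw [← Nat.card_congr e, Nat.card_prod]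
  congr 1
  rw [Nat.card_coe_set_eq, Set.ncard_sdiff (by simp), Set.ncard_singleton, ← Nat.card_coe_set_eq]
  rfl

end Cfsg.Agent.OddLocal
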