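import Cfsg.Agent.Lib.OddLocal.QuadPair
import Cfsg.Agent.Lib.LocalEvenA.Core
import Cfsg.Agent.Lib.Basics.Cores
import Cfsg.Agent.Lib.Basics.SchurZassenhaus
import Cfsg.Agent.Lib.OddLocal.PiCore

/-! `p`-stability of solvable groups of odd order. -/

set_option autoImplicit false
set_option maxHeartbeats 800000

namespace Cfsg.Agent.OddLocal

open scoped commutatorElement IsMulCommutative

variable {p : ℕ}

/-- Odd-order solvable groups acting faithfully and irreducibly have no quadratic elements. -/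
theorem quadratic_eq_one_of_irreducible {H : Type*} [Group H] [Finite H] [Group.IsSolvable H] [hp : Fact p.Prime]
    (hodd : Odd (Nat.card H)) (hp2 : p ≠ 2) {M : Type*} [AddCommGroup M] [Finite M] [Nontrivial M]
    (hM : ∀ v : M, p • v = 0) (ρ : H →* AddMonoid.End M) (hfaith : ∀ h : H, ρ h = 1 → h = 1)
    (hirr : ∀ W : AddSubgroup M, (∀ k : H, ∀ v ∈ W, ρ k v ∈ W) → W = ⊥ ∨ W = ⊤)
    (b : H) (hb : (ρ b - 1) * (ρ b - 1) = 0) : b = 1 := by
  have hpM : (p : AddMonoid.End M) = 0 := AddMonoidHom.ext fun v => hM v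
  have hcore : Cfsg.pCore p H = ⊥ := by
    set P := Cfsg.pCore p H with hP
    let _ : MulAction P M :=
      { smul := fun x v => ρ x v
        one_smul := fun v => DFunLike.congr_fun (map_one ρ) v
        mul_smul := fun x y v => DFunLike.congr_fun (map_mul ρ (x : H) y) v }
    let W : AddSubgroup M :=
      { carrier := {v | ∀ x ∈ P, ρ x v = v}
        zero_mem' := fun x _ => map_zero (ρ x)
        add_mem' := fun {v w} hv hw x hx => (map_add (ρ x) v w).trans (by rw [hv x hx, hw x hx])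
        neg_mem' := fun {v} hv x hx => (map_neg (ρ x) v).trans (by rw [hv x hx]) }
    have hWk : ∀ k : H, ∀ v ∈ W, ρ k v ∈ W := by
      intro k v hv x hx
      have hx' : k⁻¹ * x * k ∈ P := by
        simpa using Subgroup.Normal.conj_mem (inferInstance : P.Normal) x hx k⁻¹
      have h := hv _ hx'
      calc ρ x (ρ k v) = ρ (x * k) v := (DFunLike.congr_fun (map_mul ρ x k) v).symm
        _ = ρ (k * (k⁻¹ * x * k)) v := by congr 2; group
        _ = ρ k (ρ (k⁻¹ * x * k) v) := DFunLike.congr_fun (map_mul ρ k _) v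
        _ = ρ k v := by rw [h]
    have hdvd : p ∣ Nat.card M := by
      obtain ⟨v, hv⟩ := exists_ne (0 : M)
      rw [← addOrderOf_eq_prime (hM v) hv]
      exact addOrderOf_dvd_natCard v
    obtain ⟨v, hv, hv0⟩ := (Basics.pCore_isPGroup (G := H) p).exists_fixed_point_of_prime_dvd_card_of_fixed_point
      M hdvd (a := (0 : M)) (fun x => map_zero (ρ x))
    have hW : W = ⊤ := by
      rcases hirr W hWk with h | h
      · exact absurd (AddSubgroup.mem_bot.mp (h ▸ (fun x hx => hv ⟨x, hx⟩ : v ∈ W))) hv0.symm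
      · exact h
    rw [eq_bot_iff]
    intro x hx
    exact Subgroup.mem_bot.mpr (hfaith x (AddMonoidHom.ext fun w => (hW ▸ AddSubgroup.mem_top w : w ∈ W) x hx))
  by_contra hb1
  have hbp : b ^ p = 1 := by
    refine hfaith _ ?_
    rw [map_pow, show ρ b = 1 + (ρ b - 1) by abel, one_add_pow_of_mul_self hb, nsmul_eq_mul, hpM, zero_mul,
      add_zero]
  have hcentral : b ∈ Subgroup.centralizer (Cfsg.fittingSubgroup H : Set H) := by
    rw [Basics.fittingSubgroup_eq_iSup_pCore, ← Subgroup.zpowers_le, Subgroup.le_centralizer_iff]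
    refine iSup_le fun q => ?_
    have hqf : Fact (q : ℕ).Prime := ⟨q.2⟩
    intro y hy
    rw [Subgroup.mem_centralizer_iff]
    rintro _ ⟨i, rfl⟩
    refine (Commute.zpow_left ?_ i).eq
    by_cases hqp : (q : ℕ) = p
    · rw [hqp, hcore, Subgroup.mem_bot] at hy; rw [hy]; exact Commute.one_right b
    by_cases hy1 : y = 1
    · rw [hy1]; exact Commute.one_right b
    have hQ : IsPGroup q (Cfsg.pCore (q : ℕ) H) := Basics.pCore_isPGroup _
    have hq2 : (q : ℕ) ≠ 2 := by
      intro h2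
      obtain ⟨j, hj⟩ := hQ ⟨y, hy⟩
      have hd : orderOf y ∣ (q : ℕ) ^ j := orderOf_dvd_of_pow_eq_one (congrArg Subtype.val hj)
      obtain ⟨i, -, hi⟩ := (Nat.dvd_prime_pow q.2).mp hd
      have hi0 : i ≠ 0 := fun h0 => hy1 (orderOf_eq_one_iff.mp (by rw [hi, h0, pow_zero]))
      have h3 : 2 ∣ Nat.card H := h2 ▸ ((dvd_pow_self (q : ℕ) hi0).trans (hi ▸ _root_.orderOf_dvd_natCard y))
      exact Nat.not_even_iff_odd.mpr hodd (even_iff_two_dvd.mpr h3)
    set b' := y * b * y⁻¹ with hb'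
    set K := Subgroup.closure ({b, b'} : Set H) with hK
    have hbK : b ∈ K := Subgroup.subset_closure (by simp)
    have hb'K : b' ∈ K := Subgroup.subset_closure (by simp)
    have hgen : Subgroup.closure ({⟨b, hbK⟩, ⟨b', hb'K⟩} : Set K) = ⊤ := by
      apply Subgroup.map_injective K.subtype_injective
      rw [MonoidHom.map_closure, ← MonoidHom.range_eq_map, Subgroup.range_subtype, Set.image_pair]
      rfl
    have hm : (ρ b' - 1) * (ρ b' - 1) = 0 := by
      have h1 : ρ b' - 1 = ρ y * (ρ b - 1) * ρ y⁻¹ := by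
        rw [mul_sub, sub_mul, mul_one, ← map_mul, ← map_mul, ← map_mul, mul_inv_cancel, map_one]
      rw [h1]
      calc ρ y * (ρ b - 1) * ρ y⁻¹ * (ρ y * (ρ b - 1) * ρ y⁻¹)
          = ρ y * (ρ b - 1) * (ρ y⁻¹ * ρ y) * (ρ b - 1) * ρ y⁻¹ := by simp only [mul_assoc]
        _ = 0 := by rw [← map_mul, inv_mul_cancel, map_one, mul_one, mul_assoc (ρ y), hb, mul_zero, zero_mul]
    have hc : b⁻¹ * b' ∈ Cfsg.pCore (q : ℕ) H := by
      have h1 := Subgroup.Normal.conj_mem (inferInstance : (Cfsg.pCore (q : ℕ) H).Normal) y hy b⁻¹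
      have h2 := mul_mem h1 (inv_mem hy)
      simpa [hb', mul_assoc] using h2
    have : ((Cfsg.pCore (q : ℕ) H).subgroupOf K).Normal := Subgroup.normal_subgroupOf
    have h := eq_one_of_quadratic_pair (p := p) hp2 hq2 hqp (⟨b, hbK⟩ : K) ⟨b', hb'K⟩ hgen
      (hQ.comap_subtype (K := K)) (Q := (Cfsg.pCore (q : ℕ) H).subgroupOf K) hc hM (ρ.comp K.subtype) hb hm
    have h2 : b⁻¹ * b' = 1 := hfaith _ h
    rw [inv_mul_eq_one, hb'] at h2
    exact eq_mul_inv_iff_mul_eq.mp h2
  -- the elements of order `p` of `C(F)` form a normal `p`-subgroup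
  set Cf := Subgroup.centralizer (Cfsg.fittingSubgroup H : Set H) with hCf
  have hcomm : ∀ x ∈ Cf, ∀ y ∈ Cf, Commute x y := fun x hx y hy =>
    (Subgroup.mem_centralizer_iff.mp hy x (Basics.centralizer_fittingSubgroup_le hx))
  have : Cf.Normal := Subgroup.normal_centralizer
  let N : Subgroup H :=
    { carrier := {z | z ∈ Cf ∧ z ^ p = 1}
      one_mem' := ⟨one_mem _, one_pow _⟩
      mul_mem' := fun {x y} hx hy => ⟨mul_mem hx.1 hy.1, by rw [(hcomm x hx.1 y hy.1).mul_pow, hx.2, hy.2, one_mul]⟩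
      inv_mem' := fun {x} hx => ⟨inv_mem hx.1, by rw [inv_pow, hx.2, inv_one]⟩ }
  have hNn : N.Normal := ⟨fun z hz g => ⟨Subgroup.Normal.conj_mem inferInstance z hz.1 g,
    by rw [conj_pow, hz.2]; group⟩⟩
  have h := Basics.le_pCore (N := N) (fun z => ⟨1, Subtype.ext (by rw [pow_one]; exact z.2.2)⟩)
    (show b ∈ N from ⟨hcentral, hbp⟩)
  rw [hcore, Subgroup.mem_bot] at h
  exact hb1 h

theorem isPGroup_map_mk'_of {G : Type*} [Group G] [Finite G] [hp : Fact p.Prime] {R C : Subgroup G} [C.Normal]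
    (h : ∀ x ∈ R, (orderOf x).Coprime p → x ∈ C) : IsPGroup p (R.map (QuotientGroup.mk' C)) := by
  rintro ⟨_, g, hg, rfl⟩
  obtain ⟨a, m, hm, he⟩ := Nat.exists_eq_pow_mul_and_not_dvd (orderOf_pos g).ne' p hp.out.ne_one
  refine ⟨a, Subtype.ext ?_⟩
  rw [Subgroup.coe_pow, Subgroup.coe_one]
  change QuotientGroup.mk' C g ^ p ^ a = 1
  rw [← map_pow]
  refine (QuotientGroup.eq_one_iff _).mpr (h _ (pow_mem hg _) ?_)
  refine Nat.Coprime.coprime_dvd_left ?_ (hp.out.coprime_iff_not_dvd.mpr hm).symm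
  exact orderOf_dvd_of_pow_eq_one (by rw [← pow_mul, ← he, pow_orderOf_eq_one])

/-- Quadratic elements lie in the `p`-core of the automizer. -/
theorem quadratic_mem_pCore {G : Type*} [Group G] [Finite G] [Group.IsSolvable G] [hp : Fact p.Prime]
    (hodd : Odd (Nat.card G)) (hp2 : p ≠ 2) (P : Subgroup G) [P.Normal] (hP : IsPGroup p P)
    (C : Subgroup G) [C.Normal] (hC : C = Subgroup.centralizer (P : Set G))
    (b : G) (hb : ∀ v ∈ P, Commute b (b * v * b⁻¹ * v⁻¹)) :
    QuotientGroup.mk' C b ∈ Cfsg.pCore p (G ⧸ C) := by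
  induction hcard : Nat.card P using Nat.strong_induction_on generalizing G with
  | _ d ih =>
  subst hcard
  by_cases hP1 : P = ⊥
  · have hCtop : C = ⊤ := by
      rw [hC, hP1, eq_top_iff]
      intro g _
      rw [Subgroup.mem_centralizer_iff]
      intro x hx
      rw [Subgroup.mem_bot.mp hx, one_mul, mul_one]
    rw [show QuotientGroup.mk' C b = 1 from (QuotientGroup.eq_one_iff b).mpr (hCtop ▸ Subgroup.mem_top b)]
    exact one_mem _
  obtain ⟨W, hWn, hWP, hW1, hWmin⟩ := Basics.exists_minimal_normal hP1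
  obtain ⟨hWc, r, hr, hWr, hWrp⟩ := Basics.minimal_normal_solvable hW1 (inferInstance : Group.IsSolvable W) hWmin
  have hrp : r = p := by
    obtain ⟨w, hw, hw1⟩ := (Subgroup.bot_or_exists_ne_one W).resolve_left hW1
    have : Fact r.Prime := ⟨hr⟩
    have e := orderOf_eq_prime (hWr w hw) hw1
    obtain ⟨j, hj⟩ := hP ⟨w, hWP hw⟩
    exact (Nat.prime_dvd_prime_iff_eq hr hp.out).mp
      (hr.dvd_of_dvd_pow (e ▸ orderOf_dvd_of_pow_eq_one (congrArg Subtype.val hj) : r ∣ p ^ j))
  subst hrp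
  set CW := Subgroup.centralizer (W : Set G) with hCW
  -- `b` centralizes `W`
  have hbW : b ∈ CW := by
    let φ : G →* AddMonoid.End (Additive W) := (Transfer.conjEnd W).comp
      ((Subgroup.inclusion (show (⊤ : Subgroup G) ≤ Subgroup.normalizer (W : Set G) by
        rw [Subgroup.normalizer_eq_top])).comp Subgroup.topEquiv.symm.toMonoidHom)
    have hφ : ∀ (g : G) (v : W), (((φ g (Additive.ofMul v)).toMul : W) : G) = g * v * g⁻¹ := fun g v => rfl
    have hker : ∀ g, g ∈ φ.ker ↔ g ∈ CW := by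
      intro g
      rw [MonoidHom.mem_ker, hCW, Subgroup.mem_centralizer_iff]
      constructor
      · intro h w hw
        have h1 := hφ g ⟨w, hw⟩
        rw [h] at h1
        change w = g * w * g⁻¹ at h1
        exact eq_mul_inv_iff_mul_eq.mp h1
      · intro h
        refine AddMonoidHom.ext fun v => Additive.toMul.injective (Subtype.ext ?_)
        refine (hφ g (Additive.toMul v)).trans ?_
        change _ = ((Additive.toMul v : W) : G)
        rw [← h _ (Additive.toMul v).2, mul_inv_cancel_right]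
    let ρ := QuotientGroup.lift φ.ker φ le_rfl
    have hWnt : Nontrivial W := (Subgroup.nontrivial_iff_ne_bot W).mpr hW1
    have hb' : QuotientGroup.mk' φ.ker b = 1 := by
      refine quadratic_eq_one_of_irreducible (p := r) (M := Additive W) ?_ hp2 ?_ ρ ?_ ?_ _ ?_
      · exact Odd.of_dvd_nat hodd (Subgroup.card_quotient_dvd_card _)
      · intro v
        exact Additive.toMul.injective (Subtype.ext (hWr _ v.toMul.2))
      · intro h
        induction h using QuotientGroup.induction_on with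
        | _ g => exact fun h1 => (QuotientGroup.eq_one_iff g).mpr h1
      · intro U hU
        set U' := (AddSubgroup.toSubgroup' U).map W.subtype with hU'
        have hUn : U'.Normal := ⟨fun x hx g => by
          obtain ⟨v, hv, rfl⟩ := hx
          exact ⟨_, hU (QuotientGroup.mk g) (Additive.ofMul v) hv, hφ g v⟩⟩
        rcases hWmin U' hUn (Subgroup.map_subtype_le _) with h | h
        · left
          rw [eq_bot_iff]
          intro v hv
          have : ((Additive.toMul v : W) : G) ∈ U' := ⟨_, hv, rfl⟩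
          rw [h, Subgroup.mem_bot] at this
          exact AddSubgroup.mem_bot.mpr (Additive.toMul.injective (Subtype.ext this))
        · right
          rw [eq_top_iff]
          intro v _
          obtain ⟨w, hw, e⟩ : ((Additive.toMul v : W) : G) ∈ U' := h.symm ▸ (Additive.toMul v).2
          rwa [Subtype.ext e] at hw
      · refine AddMonoidHom.ext fun v => Additive.toMul.injective (Subtype.ext ?_)
        have h1 := (hb _ (hWP (Additive.toMul v).2)).eq
        change b * (b * (Additive.toMul v : W).1 * b⁻¹ / (Additive.toMul v : W).1) * b⁻¹ /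
          (b * (Additive.toMul v : W).1 * b⁻¹ / (Additive.toMul v : W).1) = 1
        simp only [div_eq_mul_inv]
        rw [h1]; group
    exact (hker b).mp ((QuotientGroup.eq_one_iff b).mp hb')
  set π := QuotientGroup.mk' W with hπ
  set P' := P.map π with hP'
  have hP'n : P'.Normal := Subgroup.Normal.map inferInstance _ (QuotientGroup.mk'_surjective W)
  have : (Subgroup.centralizer (P' : Set (G ⧸ W))).Normal := Subgroup.normal_centralizer
  have hlt : Nat.card P' < Nat.card P := by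
    have h := Basics.card_map_mul_card_inf_ker π P
    rw [QuotientGroup.ker_mk', inf_eq_right.mpr hWP] at h
    rw [← h]
    exact lt_mul_of_one_lt_right Nat.card_pos ((Subgroup.one_lt_card_iff_ne_bot W).mpr hW1)
  have hih := ih _ hlt (G := G ⧸ W) (Odd.of_dvd_nat hodd (Subgroup.card_quotient_dvd_card _)) P'
    (hP.map π) (Subgroup.centralizer (P' : Set (G ⧸ W))) rfl (π b) (by
      rintro _ ⟨v, hv, rfl⟩
      have h := (hb v hv).map π
      simpa only [map_mul, map_inv] using h) rfl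
  set R := (((Cfsg.pCore r ((G ⧸ W) ⧸ Subgroup.centralizer (P' : Set (G ⧸ W)))).comap
    (QuotientGroup.mk' _)).comap π) ⊓ CW with hR
  have hCWn : CW.Normal := Subgroup.normal_centralizer
  have hRn : R.Normal := inferInstance
  have hRp : IsPGroup r (R.map (QuotientGroup.mk' C)) := by
    refine isPGroup_map_mk'_of fun x hx hxo => ?_
    obtain ⟨hx1, hx2⟩ := hx
    have hmem : QuotientGroup.mk' (Subgroup.centralizer (P' : Set (G ⧸ W))) (π x) = 1 := by
      obtain ⟨j, hj⟩ := Basics.pCore_isPGroup (G := (G ⧸ W) ⧸ Subgroup.centralizer (P' : Set (G ⧸ W))) r ⟨_, hx1⟩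
      have h1 : (QuotientGroup.mk' (Subgroup.centralizer (P' : Set (G ⧸ W))) (π x)) ^ r ^ j = 1 :=
        congrArg Subtype.val hj
      refine LocalEvenA.eq_one_of_pPow_of_coprime h1 (hxo.coprime_dvd_left ?_)
      exact (orderOf_map_dvd _ _).trans (orderOf_map_dvd _ _)
    rw [hC, Subgroup.mem_centralizer_iff]
    intro v hv
    have hxc := Subgroup.mem_centralizer_iff.mp
      (show π x ∈ Subgroup.centralizer (P' : Set (G ⧸ W)) from (QuotientGroup.eq_one_iff _).mp hmem) (π v) ⟨v, hv, rfl⟩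
    have hw : v⁻¹ * (x * v * x⁻¹) ∈ W := by
      rw [← QuotientGroup.eq_one_iff, ← QuotientGroup.mk'_apply, ← hπ, map_mul, map_mul, map_mul, map_inv,
        map_inv, ← hxc]
      group
    refine (LocalEvenA.comm_of_coprime_chain hxo ⟨1, ?_⟩ ?_).eq.symm
    · rw [pow_one]; exact hWr _ hw
    · exact (Subgroup.mem_centralizer_iff.mp hx2 _ hw).symm
  have : (R.map (QuotientGroup.mk' C)).Normal := hRn.map _ (QuotientGroup.mk'_surjective C)
  exact Basics.le_pCore hRp ⟨b, ⟨hih, hbW⟩, rfl⟩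

/-- With trivial `p'`-core, the centralizer of a normal `P ≥ O_p(G) ∩ C(P)` is a `p`-group. -/
theorem centralizer_isPGroup {G : Type*} [Group G] [Finite G] [Group.IsSolvable G] [hp : Fact p.Prime]
    (hO : Cfsg.pPrimeCore p G = ⊥) (P : Subgroup G) [P.Normal]
    (h : Cfsg.pCore p G ⊓ Subgroup.centralizer (P : Set G) ≤ P) :
    IsPGroup p (Subgroup.centralizer (P : Set G)) := by
  intro g
  obtain ⟨a, m, hm, he⟩ := Nat.exists_eq_pow_mul_and_not_dvd (orderOf_pos (g : G)).ne' p hp.out.ne_one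
  refine ⟨a, Subtype.ext ?_⟩
  rw [Subgroup.coe_pow, Subgroup.coe_one]
  set x := (g : G) ^ p ^ a with hx
  have hxC : x ∈ Subgroup.centralizer (P : Set G) := pow_mem g.2 _
  have hxo : (orderOf x).Coprime p :=
    (hp.out.coprime_iff_not_dvd.mpr hm).symm.coprime_dvd_left
      (orderOf_dvd_of_pow_eq_one (by rw [hx, ← pow_mul, ← he, pow_orderOf_eq_one]))
  have : (Subgroup.centralizer (P : Set G)).Normal := Subgroup.normal_centralizer
  have hxT : x ∈ Subgroup.centralizer (Cfsg.pCore p G : Set G) := by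
    rw [Subgroup.mem_centralizer_iff]
    intro t ht
    have hm1 : t⁻¹ * (x * t * x⁻¹) ∈ Cfsg.pCore p G :=
      mul_mem (inv_mem ht) (Subgroup.Normal.conj_mem inferInstance t ht x)
    have hm2 : t⁻¹ * (x * t * x⁻¹) ∈ Subgroup.centralizer (P : Set G) := by
      have h1 : (t⁻¹ * x * t⁻¹⁻¹) * x⁻¹ ∈ Subgroup.centralizer (P : Set G) :=
        mul_mem (Subgroup.Normal.conj_mem inferInstance x hxC t⁻¹) (inv_mem hxC)
      simpa [mul_assoc] using h1
    obtain ⟨j, hj⟩ := Basics.pCore_isPGroup (G := G) p ⟨_, hm1⟩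
    exact (LocalEvenA.comm_of_coprime_chain hxo ⟨j, congrArg Subtype.val hj⟩
      (Subgroup.mem_centralizer_iff.mp hxC _ (h ⟨hm1, hm2⟩)).symm).eq.symm
  obtain ⟨j, hj⟩ := Basics.pCore_isPGroup (G := G) p ⟨x, Basics.centralizer_pCore_le hO hxT⟩
  exact LocalEvenA.eq_one_of_pPow_of_coprime (congrArg Subtype.val hj) hxo

/-- Abelian subgroups normalized by a large normal `p`-subgroup lie in `O_p(G)`. -/
theorem le_pCore_of_normalized {G : Type*} [Group G] [Finite G] [Group.IsSolvable G] [hp : Fact p.Prime]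
    (hodd : Odd (Nat.card G)) (hp2 : p ≠ 2) (hO : Cfsg.pPrimeCore p G = ⊥) (P : Subgroup G) [P.Normal]
    (hP : IsPGroup p P) (h : Cfsg.pCore p G ⊓ Subgroup.centralizer (P : Set G) ≤ P)
    {B : Subgroup G} (hBc : IsMulCommutative B) (hPB : P ≤ Subgroup.normalizer (B : Set G)) :
    B ≤ Cfsg.pCore p G := by
  set C := Subgroup.centralizer (P : Set G) with hC
  have : C.Normal := Subgroup.normal_centralizer
  have hR : IsPGroup p ((Cfsg.pCore p (G ⧸ C)).comap (QuotientGroup.mk' C)) :=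
    (Basics.pCore_isPGroup p).comap_of_ker_isPGroup _ (by
      rw [QuotientGroup.ker_mk']; exact centralizer_isPGroup hO P h)
  refine le_trans (fun b hb => ?_) (Basics.le_pCore hR)
  refine quadratic_mem_pCore hodd hp2 P hP C rfl b fun v hv => ?_
  have hvb : v * b⁻¹ * v⁻¹ ∈ B := (Subgroup.mem_normalizer_iff.mp (hPB hv) b⁻¹).mp (inv_mem hb)
  have hmem : b * v * b⁻¹ * v⁻¹ ∈ B := by simpa [mul_assoc] using mul_mem hb hvb
  exact congrArg Subtype.val (hBc.is_comm.comm ⟨b, hb⟩ ⟨_, hmem⟩)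

theorem commute_quad_of_commutator_eq_bot {G : Type*} [Group G] {P A : Subgroup G} (h : ⁅⁅P, A⁆, A⁆ = ⊥)
    {b v : G} (hb : b ∈ A) (hv : v ∈ P) : Commute b (b * v * b⁻¹ * v⁻¹) := by
  have h1 : ⁅v, b⁆ ∈ ⁅P, A⁆ := Subgroup.commutator_mem_commutator hv hb
  have h2 := Subgroup.mem_centralizer_iff.mp ((Subgroup.commutator_eq_bot_iff_le_centralizer.mp h) h1) b hb
  have e : b * v * b⁻¹ * v⁻¹ = ⁅v, b⁆⁻¹ := by rw [commutatorElement_def]; group
  rw [e]
  exact (show Commute b ⁅v, b⁆ from h2).inv_right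

theorem eq_bot_of_two {G : Type*} [Group G] [Finite G] (hodd : Odd (Nat.card G)) {P : Subgroup G}
    (hP : IsPGroup 2 P) : P = ⊥ := by
  have : Fact (Nat.Prime 2) := ⟨Nat.prime_two⟩
  obtain ⟨n, hn⟩ := IsPGroup.iff_card.mp hP
  rcases n with - | n
  · exact Subgroup.eq_bot_of_card_eq P (by simpa using hn)
  · exact absurd (even_iff_two_dvd.mpr ((hn ▸ dvd_pow_self 2 n.succ_ne_zero).trans P.card_subgroup_dvd_card))
      (Nat.not_even_iff_odd.mpr hodd)

/-- An abelian normal subgroup of a Sylow `p`-subgroup lies in `O_{p',p}`. -/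
theorem le_pPrimePCore_of_abelian_normal {G : Type*} [Group G] [Finite G] [Group.IsSolvable G]
    (hodd : Odd (Nat.card G)) [hp : Fact p.Prime] (S : Sylow p G) {A : Subgroup G} (hA : A ≤ (S : Subgroup G))
    (hAc : IsMulCommutative A) (hAn : (S : Subgroup G) ≤ Subgroup.normalizer (A : Set G)) :
    A ≤ Cfsg.pPrimePCore p G := by
  rcases eq_or_ne p 2 with rfl | hp2
  · rw [eq_bot_of_two hodd (S.2.to_le hA)]; exact bot_le
  set π := QuotientGroup.mk' (Cfsg.pPrimeCore p G) with hπ
  rw [Cfsg.pPrimePCore, ← hπ, ← Subgroup.map_le_iff_le_comap]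
  have hodd' : Odd (Nat.card (G ⧸ Cfsg.pPrimeCore p G)) :=
    Odd.of_dvd_nat hodd (Subgroup.card_quotient_dvd_card _)
  have hS : Cfsg.pCore p (G ⧸ Cfsg.pPrimeCore p G) ≤ (S : Subgroup G).map π :=
    Basics.pCore_le_sylow p (S.mapSurjective (QuotientGroup.mk'_surjective _))
  have hAc' : IsMulCommutative (A.map π) := by
    refine ⟨⟨?_⟩⟩
    rintro ⟨_, a, ha, rfl⟩ ⟨_, a', ha', rfl⟩
    apply Subtype.ext
    change π a * π a' = π a' * π a
    rw [← map_mul, ← map_mul, show a * a' = a' * a from congrArg Subtype.val (hAc.is_comm.comm ⟨a, ha⟩ ⟨a', ha'⟩)]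
  exact le_pCore_of_normalized hodd' hp2 (Basics.pPrimeCore_quotient_eq_bot p) _ (Basics.pCore_isPGroup p)
    inf_le_left hAc' (hS.trans ((Subgroup.map_mono hAn).trans (Subgroup.le_normalizer_map π)))

end Cfsg.Agent.OddLocal
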