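import Cfsg.Agent.Lib.OddLocal.TwoElem

/-! The primes of `τ₂(M)` inside a complement to `M_σ` (BG 12.6). -/

set_option autoImplicit false
set_option linter.unusedSectionVars false
set_option linter.style.haveILetI false

namespace Cfsg.Agent.OddLocal

open scoped commutatorElement Pointwise
open Cfsg
open Basics (IsSylowIn)

universe u

variable {G : Type u} [Group G] [Finite G] {p : ℕ} [hp : Fact p.Prime]

namespace Exc

variable {M A A₀ E : Subgroup G}

theorem compl_le_normalizer (h : Exc p M A A₀) (hG : IsMinSimpleOddOrder G)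
    (hE : IsComplIn E (Cfsg.sigmaCore M) M) (hAE : A ≤ E) : E ≤ Subgroup.normalizer (A : Set G) := by
  intro e he
  refine mem_normalizer_of_conj_mem fun a ha => ?_
  have hxE : e * a * e⁻¹ ∈ E := mul_mem (mul_mem he (hAE ha)) (inv_mem he)
  have hx : e * a * e⁻¹ ∈ Cfsg.sigmaCore M ⊔ A :=
    (Subgroup.mem_normalizer_iff.mp (h.le_normalizer_sup hG (hE.1 he)) a).mp (Subgroup.mem_sup_right ha)
  obtain ⟨s, hs, b, hb, e'⟩ := (Basics.mem_sup_of_le_normalizer h.le_normalizer_core).mp hx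
  have hsE : s ∈ E := by
    have h1 := mul_mem hxE (inv_mem (hAE hb))
    rwa [e', mul_inv_cancel_right] at h1
  have hs1 : s = 1 := Subgroup.mem_bot.mp (hE.2.2.1 ▸ Subgroup.mem_inf.mpr ⟨hsE, hs⟩)
  rwa [e', hs1, one_mul]

theorem le_of_card_prime (h : Exc p M A A₀) (hG : IsMinSimpleOddOrder G)
    (hE : IsComplIn E (Cfsg.sigmaCore M) M) (hAE : A ≤ E) {X : Subgroup G} (hXE : X ≤ E) (hX : Nat.card X = p) :
    X ≤ A := by
  have hXp : IsPGroup p X := IsPGroup.of_card (n := 1) (hX.trans (pow_one p).symm)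
  have hsup : IsPGroup p (A ⊔ X : Subgroup G) :=
    h.isPGroup.to_sup_of_normal_left' hXp (hXE.trans (h.compl_le_normalizer hG hE hAE))
  obtain ⟨P, hP, hle⟩ := exists_sylowIn_ge hsup (sup_le h.le (hXE.trans hE.1))
  intro x hx
  refine h.omega_sylow hG hP (le_sup_left.trans hle) (hle (Subgroup.mem_sup_right hx)) ?_
  rw [← hX]
  exact congrArg Subtype.val (pow_card_eq_one' (x := (⟨x, hx⟩ : X)))

theorem inf_normalizer_eq (h : Exc p M A A₀) (hG : IsMinSimpleOddOrder G)
    (hE : IsComplIn E (Cfsg.sigmaCore M) M) (hAE : A ≤ E) : M ⊓ Subgroup.normalizer (A : Set G) = E := by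
  refine le_antisymm (fun m hm => ?_) (le_inf hE.1 (h.compl_le_normalizer hG hE hAE))
  obtain ⟨e, he, s, hs, rfl⟩ := hE.2.2.2 m hm.1
  have hsN : s ∈ Subgroup.normalizer (A : Set G) := by
    have h1 := mul_mem (inv_mem (h.compl_le_normalizer hG hE hAE he)) hm.2
    rwa [inv_mul_cancel_left] at h1
  have hsC : s ∈ Cfsg.sigmaCore M ⊓ Subgroup.centralizer (A : Set G) :=
    ⟨hs, Basics.mem_centralizer_of_mem_normalizer' h.le_normalizer_core
      (coprime_of_pGroup h.isPGroup h.not_dvd_sigma) hs hsN⟩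
  rw [h.centralizer_eq_bot hG, Subgroup.mem_bot] at hsC
  rwa [hsC, mul_one]

/-- A maximal subgroup above the centralizer of a line with fixed points on `M_σ` is `M`. -/
theorem unique_of_fixed (h : Exc p M A A₀) (hG : IsMinSimpleOddOrder G) {K : Subgroup G} (hK : K ≠ ⊤)
    (hAK : A ≤ K) (hne : Cfsg.sigmaCore M ⊓ K ≠ ⊥) : K ≤ M ∧ ∀ L : Subgroup G, IsCoatom L → K ≤ L → L = M := by
  have key : ∀ L : Subgroup G, IsCoatom L → K ≤ L → L = M := fun L hL hle => by
    by_contra hLM
    exact hne (le_bot_iff.mp ((inf_le_inf_left _ hle).trans (h.inf_maximal hG hL hLM (hAK.trans hle)).le))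
  obtain ⟨L, hL, hle⟩ := exists_maximal_ge hK
  exact ⟨hle.trans (key L hL hle).le, key⟩

end Exc

end Cfsg.Agent.OddLocal
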