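import Cfsg.Agent.Lib.OddLocal.SigmaPartition

/-! Elements of `M_σ` fixed by `τ₁ ∪ τ₃` subgroups (BG 13.6 and 13.13). -/

set_option autoImplicit false
set_option linter.unusedSectionVars false
set_option linter.style.haveILetI false

namespace Cfsg.Agent.OddLocal

open scoped commutatorElement Pointwise
open Cfsg
open Basics (IsSylowIn)

universe u

variable {G : Type u} [Group G] [Finite G] {p : ℕ} [hp : Fact p.Prime]

/-- The maximal subgroup over the normalizer of a line of `σ(M)` different from `M`. -/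
theorem sigma_line_cases (hG : IsMinSimpleOddOrder G) {M N X : Subgroup G} (hM : IsCoatom M) (hN : IsCoatom N)
    {q : ℕ} [hq : Fact q.Prime] (hqM : q ∈ Cfsg.sigma M) (hX : Nat.card X = q) (hXM : X ≤ M)
    (hNX : Subgroup.normalizer (X : Set G) ≤ N) (hne : N ≠ M) :
    q ∉ Cfsg.beta M ∧ ¬ X ≤ ⁅Cfsg.sigmaCore M, Cfsg.sigmaCore M⁆ ∧ q ∉ Cfsg.sigma N ∧ ¬ PRankLE q 1 N := by
  have hCN : Subgroup.centralizer (X : Set G) ≤ N := (Subgroup.centralizer_le_normalizer _).trans hNX
  obtain ⟨S, hS⟩ := exists_sylowIn (q := q) (Cfsg.sigmaCore M)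
  have hu : ¬ (q ∈ Cfsg.beta M ∨ X ≤ ⁅Cfsg.sigmaCore M, Cfsg.sigmaCore M⁆) := fun h =>
    hne ((sigma_element_unique hG hM hqM hS hXM hX h).1.2 N hN hCN)
  push Not at hu
  have hqN : q ∉ Cfsg.sigma N := fun h => by
    obtain ⟨g, hg⟩ := sigma_disjoint hG hM hN hqM h
    exact hne (conj_eq_of_centralizer_le hG hM hqM (IsPGroup.of_card (n := 1) (hX.trans (pow_one q).symm))
      (fun e => by rw [e, Subgroup.card_bot] at hX; exact hq.out.one_lt.ne hX) hXM hg
      (Subgroup.le_normalizer.trans hNX) hCN)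
  exact ⟨hu.1, hu.2, hqN, (rank_two_of_normalizer_le hG hN hqN hX hNX).1⟩

/-- The fixed points of a rank one `σ'` line have cyclic `σ`-Sylow subgroups. -/
theorem cyclic_fixed (hG : IsMinSimpleOddOrder G) {M P U : Subgroup G} (hM : IsCoatom M) (hps : p ∉ Cfsg.sigma M)
    (hp1 : PRankLE p 1 M) (hPM : P ≤ M) (hP : Nat.card P = p) {q : ℕ} [hq : Fact q.Prime]
    (hqM : q ∈ Cfsg.sigma M) (hU : IsPGroup q U) (hUM : U ≤ M)
    (hUP : U ≤ Subgroup.centralizer (P : Set G)) : IsCyclic U := by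
  by_contra hc
  obtain ⟨V, hV, hVc⟩ := exists_ea_two_of_not_isCyclic
    (prime_ne_two hG (hqM.2.1.trans (Subgroup.card_subgroup_dvd_card M))) hU hc
  obtain ⟨k, hk⟩ := IsPGroup.iff_card.mp (isPGroup_of_exponent hV.2)
  have hk2 : 2 ≤ k := by
    by_contra h
    rw [hk] at hVc
    exact absurd hVc (not_lt.mpr ((Nat.pow_le_pow_right hq.out.pos (show k ≤ 1 by omega)).trans (pow_one q).le))
  obtain ⟨V₂, hV₂⟩ := Sylow.exists_subgroup_card_pow_prime (G := V) q (hk ▸ pow_dvd_pow q hk2)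
  set B := (V₂.map V.subtype).map U.subtype with hB
  have hBc : Nat.card B = q ^ 2 := by
    rw [hB, Subgroup.card_map_of_injective U.subtype_injective, Subgroup.card_map_of_injective V.subtype_injective, hV₂]
  have hBV : V₂.map V.subtype ≤ V := Subgroup.map_subtype_le _
  have hBe : IsElementaryAbelian q B := ea_map (inf_eq_right.mpr hBV ▸ ea_inf hV) U.subtype
  have hBU : B ≤ U := Subgroup.map_subtype_le _
  have hBM : B ≤ M := hBU.trans hUM
  have hBP : B ≤ Subgroup.centralizer (P : Set G) := hBU.trans hUP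
  obtain ⟨L, hL, hNP⟩ := exists_maximal_ge (normalizer_ne_top hG
    (fun e => by rw [e, Subgroup.card_bot] at hP; exact hp.out.one_lt.ne hP) (fun e => hM.1 (top_le_iff.mp (e ▸ hPM))))
  obtain ⟨hpL, hconj⟩ := normalizer_sup_facts hG hL hps hp1 hP hNP
  have hBL : B ≤ L := hBP.trans ((Subgroup.centralizer_le_normalizer _).trans hNP)
  have hPL : P ≤ L := Subgroup.le_normalizer.trans hNP
  have hqL : q ∉ Cfsg.sigma L := fun h => by
    obtain ⟨g, hg⟩ := sigma_disjoint hG hM hL hqM h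
    exact hconj g hg
  obtain ⟨B₁, hB'⟩ := exists_exc hG hL hqL hBL hBe hBc
  have hPp : IsPGroup p P := IsPGroup.of_card (n := 1) (hP.trans (pow_one p).symm)
  rcases hpL with hs | hτ
  · have h0 := hB'.inf_maximal hG hM (fun e => hconj 1 (by rw [map_conj_one]; exact e.symm)) hBM
    have hle : P ≤ Cfsg.sigmaCore L ⊓ M := le_inf (pGroup_le_sigmaCore hG hL hs hPp hPL) hPM
    rw [h0, le_bot_iff] at hle
    rw [hle, Subgroup.card_bot] at hP
    exact hp.out.one_lt.ne hP
  · obtain ⟨E, hE, hBE⟩ := exists_compl_ge hG hL hBL fun t ht htd => by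
      rw [hBc] at htd
      rwa [(Nat.prime_dvd_prime_iff_eq ht hq.out).mp (ht.dvd_of_dvd_pow htd)]
    obtain ⟨Bp, hBpE, hBpe, hBp2, -⟩ := exists_ea_in_compl hG hL hE hτ
    have hle : Bp ≤ M := (hBpE.trans (hB'.compl_le_normalizer hG hE hBE)).trans
      (normalizer_le_of_noncyclic hG hM hqM hB'.isPGroup hBM
        (not_isCyclic_of_ea hBe (by rw [hBc]; nlinarith [hq.out.two_le])))
    have h3 := card_le_of_pRankLE hp1 hle hBpe
    rw [hBp2, pow_one] at h3
    nlinarith [hp.out.two_le]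

/-- BG 13.6: `M` is the only maximal subgroup over the normalizer. -/
theorem unique_of_tau1_fixed (hG : IsMinSimpleOddOrder G) {M P X : Subgroup G} (hM : IsCoatom M)
    (hp1 : p ∈ Cfsg.tau1 M) (hPM : P ≤ M) (hP : Nat.card P = p) {q : ℕ} [hq : Fact q.Prime] (hX : Nat.card X = q)
    (hXP : X ≤ Cfsg.sigmaCore M ⊓ Subgroup.centralizer (P : Set G)) :
    ∀ N : Subgroup G, IsCoatom N → Subgroup.normalizer (X : Set G) ≤ N → N = M := by
  have hps := hp1.2.1
  have hp1M := hp1.2.2.2.2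
  have hqM : q ∈ Cfsg.sigma M := piCoreOf_primes _ M hq.out (hX ▸ Subgroup.card_dvd_of_le (hXP.trans inf_le_left))
  obtain ⟨E, hE, hPE⟩ := exists_compl_ge hG hM hPM fun t ht hd => by
    rw [hP] at hd; rwa [(Nat.prime_dvd_prime_iff_eq ht hp.out).mp hd]
  have hMs : Cfsg.sigmaCore M ≤ M := sigmaCore_le M
  have hEn : E ≤ Subgroup.normalizer (Cfsg.sigmaCore M : Set G) := hE.1.trans (le_normalizer_sigmaCore M)
  have hsol : Group.IsSolvable E := Basics.isSolvable_of_le hE.1 (isSolvable_of_ne_top hG hM.1)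
  have hcop : (Nat.card E).Coprime (Nat.card (Cfsg.sigmaCore M)) := Nat.coprime_of_dvd fun t ht h1 h2 =>
    compl_primes hG hM hE ht h1 (piCoreOf_primes _ M ht h2)
  obtain ⟨T, hT, hET⟩ := Basics.exists_invariant_isSylowIn E (Cfsg.sigmaCore M) hEn hcop (Or.inl hsol) q
  have hTM : T ≤ M := hT.1.trans hMs
  have key : ∀ Y : Subgroup G, Nat.card Y = q → Y ≤ T ⊓ Subgroup.centralizer (P : Set G) →
      ∀ N : Subgroup G, IsCoatom N → Subgroup.normalizer (Y : Set G) ≤ N → N = M := by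
    intro Y hY hYT N hN hNY
    by_contra hne
    have hYM : Y ≤ M := hYT.trans (inf_le_left.trans hTM)
    obtain ⟨hqb, hYd, hqN, hqN1⟩ := sigma_line_cases hG hM hN hqM hY hYM hNY hne
    have hTd : T ≤ ⁅M, M⁆ := hT.1.trans (sigmaCore_le_derived hG hM)
    have hEd : ⁅E, E⁆ ≤ Subgroup.centralizer (T : Set G) :=
      commute_of_not_beta hG hM hqb hT.isPGroup hTd (Subgroup.commutator_mono hE.1 hE.1)
        (fun hd => compl_primes hG hM hE hq.out (hd.trans (Subgroup.card_dvd_of_le (Subgroup.commutator_le_self E))) hqM)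
        ((Subgroup.commutator_le_self E).trans hET)
    set C := T ⊓ Subgroup.centralizer (P : Set G) with hC
    have hCc : IsCyclic C := cyclic_fixed hG hM hps hp1M hPM hP hqM (hT.isPGroup.to_le inf_le_left)
      (inf_le_left.trans hTM) inf_le_right
    have hEC : E ≤ Subgroup.normalizer (C : Set G) := fun e he => mem_normalizer_of_conj_mem fun x hx => by
      refine Subgroup.mem_inf.mpr ⟨(Subgroup.mem_normalizer_iff.mp (hET he) x).mp hx.1, ?_⟩
      rw [Subgroup.mem_centralizer_iff]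
      intro a ha
      have hd : a⁻¹ * (e⁻¹ * a * e) ∈ ⁅E, E⁆ := by
        have h := Subgroup.commutator_mem_commutator (inv_mem (hPE ha)) (inv_mem he)
        rwa [commutatorElement_def, inv_inv, inv_inv,
          show a⁻¹ * e⁻¹ * a * e = a⁻¹ * (e⁻¹ * a * e) by group] at h
      have h1 : x * (a⁻¹ * (e⁻¹ * a * e)) = a⁻¹ * (e⁻¹ * a * e) * x :=
        Subgroup.mem_centralizer_iff.mp (hEd hd) x hx.1
      have h2 : a * x = x * a := Subgroup.mem_centralizer_iff.mp hx.2 a ha
      have h3 : (e⁻¹ * a * e) * x = x * (e⁻¹ * a * e) := by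
        calc (e⁻¹ * a * e) * x = a * (a⁻¹ * (e⁻¹ * a * e) * x) := by group
        _ = a * (x * (a⁻¹ * (e⁻¹ * a * e))) := by rw [h1]
        _ = a * x * (a⁻¹ * (e⁻¹ * a * e)) := by group
        _ = x * a * (a⁻¹ * (e⁻¹ * a * e)) := by rw [h2]
        _ = x * (e⁻¹ * a * e) := by group
      calc a * (e * x * e⁻¹) = e * ((e⁻¹ * a * e) * x) * e⁻¹ := by group
      _ = e * (x * (e⁻¹ * a * e)) * e⁻¹ := by rw [h3]
      _ = e * x * e⁻¹ * a := by group
    have hEY : E ≤ Subgroup.normalizer (Y : Set G) := fun e he => Subgroup.mem_normalizer_iff_map_conj_eq.mpr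
      (eq_of_le_cyclic hCc ((Subgroup.map_mono hYT).trans (Subgroup.mem_normalizer_iff_map_conj_eq.mp (hEC he)).le) hYT
        (Subgroup.card_map_of_injective (MulAut.conj e).injective))
    by_cases hτ : ∀ r : ℕ, r ∉ Cfsg.tau2 M
    · refine hYd (le_trans (le_inf (hYT.trans (inf_le_left.trans hT.1)) (Subgroup.le_centralizer_iff.mp ?_))
        (sigmaCore_commutator_eq hG hM hE).2)
      obtain ⟨K, hKE, hKπ, hKf⟩ := exists_hall_in hG (H := E) (fun e => hM.1 (top_le_iff.mp (e ▸ hE.1))) (Cfsg.tau1 M)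
      have hKc : IsMulCommutative K := by
        refine Subgroup.le_centralizer_iff_isMulCommutative.mp ?_
        rw [← Subgroup.commutator_eq_bot_iff_le_centralizer, ← Subgroup.card_eq_one]
        refine Nat.eq_one_iff_not_exists_prime_dvd.mpr fun s hs hd => ?_
        exact (hKπ s hs (hd.trans (Subgroup.card_dvd_of_le (Subgroup.commutator_le_self K)))).2.2.2.1
          (hd.trans (Subgroup.card_dvd_of_le (Subgroup.commutator_mono (hKE.trans hE.1) (hKE.trans hE.1))))
      have hpτ : p ∈ Cfsg.tau1 M := hp1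
      obtain ⟨S₀, hS₀, hPS⟩ := exists_sylowIn_ge (IsPGroup.of_card (n := 1) (hP.trans (pow_one p).symm)) hPE
      obtain ⟨S₁, hS₁⟩ := exists_sylowIn (q := p) K
      obtain ⟨d, hd, ed⟩ := hS₀.exists_conj (sylowIn_of_hall_in hKE (hKf p hp.out hpτ) hS₁)
      have hdK : MulAut.conj d • P ≤ K :=
        (ed ▸ Subgroup.pointwise_smul_le_pointwise_smul_iff.mpr hPS : _ ≤ S₁).trans hS₁.1
      have hYd' : Y ≤ Cfsg.sigmaCore M ⊓ Subgroup.centralizer ((MulAut.conj d • P : Subgroup G) : Set G) := by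
        refine le_inf (hYT.trans (inf_le_left.trans hT.1)) ?_
        rw [← Basics.conj_smul_eq_self_iff.mpr (hEY hd)]
        intro y hy
        rw [Subgroup.mem_centralizer_iff]
        intro a ha
        rw [Basics.mem_conj_smul] at hy
        rw [SetLike.mem_coe, Basics.mem_conj_smul] at ha
        have h := Subgroup.mem_centralizer_iff.mp (hYT hy).2 _ ha
        calc a * y = d * ((d⁻¹ * a * d) * (d⁻¹ * y * d)) * d⁻¹ := by group
        _ = d * ((d⁻¹ * y * d) * (d⁻¹ * a * d)) * d⁻¹ := by rw [h]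
        _ = y * a := by group
      refine le_of_sylows fun t ht htd => ?_
      haveI := Fact.mk ht
      have hts : t ∉ Cfsg.sigma M := compl_primes hG hM hE ht htd
      have htM : t ∣ Nat.card M := htd.trans (Subgroup.card_dvd_of_le hE.1)
      have ht1 : PRankLE t 1 M := by
        by_contra h
        exact hτ t ⟨ht, hts, pRankLE_two_of_not_mem_sigma hG hM hts, h⟩
      by_cases hd' : t ∣ Nat.card ↥⁅M, M⁆
      · obtain ⟨S, hS⟩ := exists_sylowIn (q := t) E
        exact ⟨S, hS, ((sylow_le_derived_of_rank_one hG hE.1 ht1 (dvd_card_derived_compl hG hM hE ht hts hd') hS).trans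
          hEd).trans (Subgroup.centralizer_le (hYT.trans inf_le_left))⟩
      · have htτ : t ∈ Cfsg.tau1 M := ⟨ht, hts, htM, hd', ht1⟩
        obtain ⟨S, hS⟩ := exists_sylowIn (q := t) K
        refine ⟨S, sylowIn_of_hall_in hKE (hKf t ht htτ) hS, Subgroup.le_centralizer_iff.mp ?_⟩
        refine hYd'.trans (fixed_le_of_commuting hG hM hpτ (hdK.trans (hKE.trans hE.1))
          (by rw [Basics.card_conj_smul, hP]) hts ht1 hS.isPGroup ((hS.1.trans hKE).trans hE.1) ?_)
        exact hS.1.trans ((Subgroup.le_centralizer_iff_isMulCommutative.mpr hKc).trans (Subgroup.centralizer_le hdK))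
    · push Not at hτ
      obtain ⟨r, hr⟩ := hτ
      haveI := Fact.mk hr.1
      obtain ⟨B, hBE, hBe, hB2, B₁, h⟩ := exists_ea_in_compl hG hM hE hr
      have hBN : B ≤ N := (hBE.trans hEY).trans hNY
      have hYN : Y ≤ N := Subgroup.le_normalizer.trans hNY
      have hYp : IsPGroup q Y := IsPGroup.of_card (n := 1) (hY.trans (pow_one q).symm)
      obtain ⟨S, hS, hYS⟩ := exists_sylowIn_ge hYp (le_inf hYM hYN)
      obtain ⟨S₀, hS₀⟩ := hS.exists_sylow
      obtain ⟨-, -, hSN'⟩ := S1424.result hG M hM q hqM Y hYp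
        (fun e => by rw [e, Subgroup.card_bot] at hY; exact hq.out.one_lt.ne hY) hYM N hN hne hNY S₀ (hS₀.symm ▸ hYS)
      rw [hS₀] at hSN'
      have hSN : IsSylowIn q N S := isSylowIn_of_not_dvd_relIndex hS.isPGroup (hS.1.trans inf_le_right) hSN'
      obtain ⟨A, hAS, hA, hA2⟩ := exists_ea_in_sylow hqN1 (pRankLE_two_of_not_mem_sigma hG hN hqN) hSN
      have hAM : A ≤ M := hAS.trans (hS.1.trans inf_le_left)
      obtain ⟨A₁, hA'⟩ := exists_exc hG hN hqN (hAS.trans hSN.1) hA hA2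
      have h0 := hA'.inf_maximal hG hM (Ne.symm hne) hAM
      obtain ⟨F, hF, hMNF⟩ := exists_compl_ge hG hN (inf_le_right : M ⊓ N ≤ N) fun t ht htd hts => by
        haveI := Fact.mk ht
        obtain ⟨z, hz⟩ := exists_prime_orderOf_dvd_card' t htd
        have hzp : IsPGroup t (Subgroup.zpowers (z : G)) :=
          IsPGroup.of_card (n := 1) (by rw [Nat.card_zpowers, Subgroup.orderOf_coe, hz, pow_one])
        have hz1 : (z : G) ∈ Cfsg.sigmaCore N ⊓ M :=
          ⟨pGroup_le_sigmaCore hG hN hts hzp (Subgroup.zpowers_le.mpr z.2.2) (Subgroup.mem_zpowers _), z.2.1⟩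
        rw [h0, Subgroup.mem_bot] at hz1
        rw [← Subgroup.orderOf_coe, hz1, orderOf_one] at hz
        exact ht.one_lt.ne hz
      have hAF : A ≤ F := (le_inf hAM (hAS.trans hSN.1)).trans hMNF
      have hrN : r ∉ Cfsg.sigma N := fun hs => by
        have hle : B ≤ Cfsg.sigmaCore N ⊓ M := le_inf (pGroup_le_sigmaCore hG hN hs h.isPGroup hBN) h.le
        exact h.ne_bot (le_bot_iff.mp (h0 ▸ hle))
      have hrN1 : ¬ PRankLE r 1 N := fun h1 => by
        have h3 := card_le_of_pRankLE h1 hBN hBe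
        rw [hB2, pow_one] at h3
        nlinarith [hr.1.two_le]
      have hBA : B ≤ Subgroup.centralizer (A : Set G) := fun x hx =>
        hA'.tau2_element_mem hG hF hAF (hMNF ⟨h.le hx, hBN hx⟩) fun t ht hd => by
          have hd' := hd.trans (Subgroup.orderOf_dvd_natCard B hx)
          rw [hB2] at hd'
          rw [(Nat.prime_dvd_prime_iff_eq ht hr.1).mp (ht.dvd_of_dvd_pow hd')]
          exact ⟨hr.1, hrN, pRankLE_two_of_not_mem_sigma hG hN hrN, hrN1⟩
      refine hA'.ne_bot (le_bot_iff.mp ((h.centralizer_eq_bot hG) ▸ le_inf ?_ (Subgroup.le_centralizer_iff.mp hBA)))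
      exact pGroup_le_sigmaCore hG hM hqM hA'.isPGroup hAM
  -- move `X` into `T`
  have hPn : P ≤ Subgroup.normalizer (X : Set G) :=
    (Subgroup.le_centralizer_iff.mp (hXP.trans inf_le_right)).trans (Subgroup.centralizer_le_normalizer _)
  have hcopP := hcop.coprime_dvd_left (Subgroup.card_dvd_of_le hPE)
  have hsolP : Group.IsSolvable P := Basics.isSolvable_of_le hPE hsol
  obtain ⟨T₁, hT₁, hXT, hPT₁⟩ := Basics.exists_invariant_isSylowIn_ge P (Cfsg.sigmaCore M) (hPE.trans hEn) hcopP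
    (Or.inl hsolP) q X (hXP.trans inf_le_left) (IsPGroup.of_card (n := 1) (hX.trans (pow_one q).symm)) hPn
  obtain ⟨c, hc, ec⟩ := Basics.invariant_isSylowIn_conj P (Cfsg.sigmaCore M) (hPE.trans hEn) hcopP (Or.inl hsolP) q
    hT₁ hT hPT₁ (hPE.trans hET)
  have hY : MulAut.conj c • X ≤ T ⊓ Subgroup.centralizer (P : Set G) := by
    refine le_inf (ec ▸ Subgroup.pointwise_smul_le_pointwise_smul_iff.mpr hXT) ?_
    intro y hy
    rw [Basics.mem_conj_smul] at hy
    have h : c * (c⁻¹ * y * c) * c⁻¹ ∈ Subgroup.centralizer (P : Set G) :=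
      mul_mem (mul_mem hc.2 (hXP hy).2) (inv_mem hc.2)
    rwa [show c * (c⁻¹ * y * c) * c⁻¹ = y by group] at h
  intro N hN hNX
  have hcM : c ∈ M := hMs hc.1
  have hle : Subgroup.normalizer ((MulAut.conj c • X : Subgroup G) : Set G) ≤
      N.map (MulAut.conj c).toMonoidHom := by
    rw [Basics.normalizer_conj_smul]
    exact Subgroup.map_mono hNX
  have hk := key _ (by rw [Basics.card_conj_smul, hX]) hY _ (isCoatom_map_conj hN c) hle
  rw [← map_conj_one N, show (1 : G) = c⁻¹ * c by group, ← map_conj_map_conj, hk, map_conj_eq_self (inv_mem hcM)]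

/-- BG 13.6 (weak form). -/
theorem normalizer_le_of_tau1_fixed (hG : IsMinSimpleOddOrder G) {M P X : Subgroup G} (hM : IsCoatom M)
    (hp1 : p ∈ Cfsg.tau1 M) (hPM : P ≤ M) (hP : Nat.card P = p) {q : ℕ} [hq : Fact q.Prime] (hX : Nat.card X = q)
    (hXP : X ≤ Cfsg.sigmaCore M ⊓ Subgroup.centralizer (P : Set G)) :
    Subgroup.normalizer (X : Set G) ≤ M := by
  obtain ⟨N, hN, hNX⟩ := exists_maximal_ge (normalizer_ne_top hG
    (fun e => by rw [e, Subgroup.card_bot] at hX; exact hq.out.one_lt.ne hX)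
    (fun e => hM.1 (top_le_iff.mp (e ▸ hXP.trans (inf_le_left.trans (sigmaCore_le M))))))
  exact unique_of_tau1_fixed hG hM hp1 hPM hP hX hXP N hN hNX ▸ hNX

/-- BG 13.6 (weak form) for `τ₁ ∪ τ₃`. -/
theorem normalizer_le_of_fixed (hG : IsMinSimpleOddOrder G) {M P X : Subgroup G} (hM : IsCoatom M)
    (hps : p ∉ Cfsg.sigma M) (hp1 : PRankLE p 1 M) (hPM : P ≤ M) (hP : Nat.card P = p) {q : ℕ}
    [hq : Fact q.Prime] (hX : Nat.card X = q) (hXP : X ≤ Cfsg.sigmaCore M ⊓ Subgroup.centralizer (P : Set G)) :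
    Subgroup.normalizer (X : Set G) ≤ M := by
  have hpd : p ∣ Nat.card M := hP ▸ Subgroup.card_dvd_of_le hPM
  by_cases hd : p ∣ Nat.card ↥⁅M, M⁆
  swap
  · exact normalizer_le_of_tau1_fixed hG hM ⟨hp.out, hps, hpd, hd, hp1⟩ hPM hP hX hXP
  have hqM : q ∈ Cfsg.sigma M := piCoreOf_primes _ M hq.out (hX ▸ Subgroup.card_dvd_of_le (hXP.trans inf_le_left))
  have hXM : X ≤ M := hXP.trans (inf_le_left.trans (sigmaCore_le M))
  obtain ⟨N, hN, hNX⟩ := exists_maximal_ge (normalizer_ne_top hG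
    (fun e => by rw [e, Subgroup.card_bot] at hX; exact hq.out.one_lt.ne hX) (fun e => hM.1 (top_le_iff.mp (e ▸ hXM))))
  by_cases hne : N = M
  · exact hne ▸ hNX
  exfalso
  obtain ⟨hqb, -, -, hqN1⟩ := sigma_line_cases hG hM hN hqM hX hXM hNX hne
  have hPp : IsPGroup p P := IsPGroup.of_card (n := 1) (hP.trans (pow_one p).symm)
  obtain ⟨E, hE, hPE⟩ := exists_compl_ge hG hM hPM fun t ht hd' => by
    rw [hP] at hd'; rwa [(Nat.prime_dvd_prime_iff_eq ht hp.out).mp hd']
  have hPd : P ≤ ⁅M, M⁆ := by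
    obtain ⟨S, hS, hPS⟩ := exists_sylowIn_ge hPp hPE
    exact hPS.trans ((sylow_le_derived_of_rank_one hG hE.1 hp1 (dvd_card_derived_compl hG hM hE hp.out hps hd) hS).trans
      (Subgroup.commutator_mono hE.1 hE.1))
  have hcop : (Nat.card P).Coprime (Nat.card (Cfsg.sigmaCore M)) :=
    coprime_of_pGroup hPp (not_dvd_sigmaCore hp.out hps)
  obtain ⟨T, hT, hPT⟩ := Basics.exists_invariant_isSylowIn P (Cfsg.sigmaCore M)
    (hPM.trans (le_normalizer_sigmaCore M)) hcop (Or.inl (by haveI := hPp.isNilpotent; infer_instance)) q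
  have hPC : P ≤ Subgroup.centralizer (T : Set G) :=
    commute_of_not_beta hG hM hqb hT.isPGroup (hT.1.trans (sigmaCore_le_derived hG hM)) hPd
      (fun h => by rw [hP] at h; exact hps ((Nat.prime_dvd_prime_iff_eq hq.out hp.out).mp h ▸ hqM)) hPT
  have hTc : IsCyclic T := cyclic_fixed hG hM hps hp1 hPM hP hqM hT.isPGroup (hT.1.trans (sigmaCore_le M))
    (Subgroup.le_centralizer_iff.mp hPC)
  obtain ⟨T₀, hT₀⟩ := hT.exists_sylow_top hG hM hqM
  obtain ⟨A, hAN, hA, hAc⟩ := exists_ea_of_not_pRankLE_one hqN1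
  obtain ⟨T₂, hAT⟩ := (isPGroup_of_exponent hA.2).exists_le_sylow
  haveI : IsCyclic (T₀ : Subgroup G) := hT₀ ▸ hTc
  haveI : IsCyclic (T₂ : Subgroup G) := (T₀.equiv T₂).isCyclic.mp inferInstance
  exact not_isCyclic_of_ea hA hAc (Subgroup.isCyclic_of_le hAT)

/-- BG 13.13: the prime of a line with fixed points in `M_σ` lies in `σ` of the maximal subgroup over its normalizer. -/
theorem sigma_of_fixed (hG : IsMinSimpleOddOrder G) {M L P Y : Subgroup G} (hM : IsCoatom M) (hL : IsCoatom L)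
    (hps : p ∉ Cfsg.sigma M) (hp1 : PRankLE p 1 M) (hPM : P ≤ M) (hP : Nat.card P = p)
    (hNP : Subgroup.normalizer (P : Set G) ≤ L) {q : ℕ} [hq : Fact q.Prime] (hY : Nat.card Y = q)
    (hYP : Y ≤ Cfsg.sigmaCore M ⊓ Subgroup.centralizer (P : Set G)) : p ∈ Cfsg.sigma L := by
  obtain ⟨hpL, hconj⟩ := normalizer_sup_facts hG hL hps hp1 hP hNP
  rcases hpL with h | hpτ
  · exact h
  exfalso
  have hpsL := hpτ.2.1
  have hNY := normalizer_le_of_fixed hG hM hps hp1 hPM hP hY hYP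
  have hqM : q ∈ Cfsg.sigma M := piCoreOf_primes _ M hq.out (hY ▸ Subgroup.card_dvd_of_le (hYP.trans inf_le_left))
  have hqL : q ∉ Cfsg.sigma L := fun h => by
    obtain ⟨g, hg⟩ := sigma_disjoint hG hM hL hqM h
    exact hconj g hg
  have hPY : P ≤ Subgroup.centralizer (Y : Set G) := Subgroup.le_centralizer_iff.mp (hYP.trans inf_le_right)
  have hPL : P ≤ L := Subgroup.le_normalizer.trans hNP
  have hYL : Y ≤ L := (hYP.trans inf_le_right).trans ((Subgroup.centralizer_le_normalizer _).trans hNP)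
  have hcd : Nat.card ↥(P ⊔ Y : Subgroup G) ∣ Nat.card P * Nat.card Y := by
    rw [sup_comm, mul_comm]
    exact ⟨_, Basics.card_mul_card_eq_card_sup_mul_card_inf (hPY.trans (Subgroup.centralizer_le_normalizer _))⟩
  obtain ⟨E, hE, hPYE⟩ := exists_compl_ge hG hL (sup_le hPL hYL) fun t ht htd => by
    rcases ht.dvd_mul.mp (htd.trans hcd) with h | h
    · rw [hP] at h; rwa [(Nat.prime_dvd_prime_iff_eq ht hp.out).mp h]
    · rw [hY] at h; rw [(Nat.prime_dvd_prime_iff_eq ht hq.out).mp h]; exact hqL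
  obtain ⟨B, hBE, hBe, hB2, B₁, h⟩ := exists_ea_in_compl hG hL hE hpτ
  have hPB : P ≤ B := h.le_of_card_prime hG hE hBE (le_sup_left.trans hPYE) hP
  have hnc : ¬ Y ≤ Subgroup.centralizer (B : Set G) := fun hc => by
    have h3 := card_le_of_pRankLE hp1
      ((Subgroup.le_centralizer_iff.mp hc).trans ((Subgroup.centralizer_le_normalizer _).trans hNY)) hBe
    rw [hB2, pow_one] at h3
    nlinarith [hp.out.two_le]
  obtain ⟨T, hBT⟩ := h.isPGroup.exists_le_sylow
  have hT1 : (T : Subgroup G) ≠ ⊥ := fun e => h.ne_bot (le_bot_iff.mp (e ▸ hBT))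
  obtain ⟨H, hH, hNT⟩ := exists_maximal_ge (normalizer_ne_top hG hT1 (pGroup_ne_top hG T.2))
  have hTH : (T : Subgroup G) ≤ H := Subgroup.le_normalizer.trans hNT
  have hpH : p ∈ Cfsg.sigma H := by
    refine mem_sigma_of_normalizer_le (R := (T : Subgroup G)) ?_ hT1 hNT
    exact isSylowIn_of_not_dvd_relIndex T.2 hTH fun hd =>
      T.not_dvd_index (hd.trans (Subgroup.relIndex_dvd_index_of_le hTH))
  have hBH : B ≤ H := hBT.trans hTH
  have hPH : P ≤ H := hPB.trans hBH
  have hPp : IsPGroup p P := IsPGroup.of_card (n := 1) (hP.trans (pow_one p).symm)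
  have hPσ : P ≤ Cfsg.sigmaCore H := pGroup_le_sigmaCore hG hH hpH hPp hPH
  have hNB : Subgroup.normalizer (B : Set G) ≤ H := normalizer_le_of_noncyclic hG hH hpH h.isPGroup hBH
    (not_isCyclic_of_ea hBe (by rw [hB2]; nlinarith [hp.out.two_le]))
  have hYB : Y ≤ Subgroup.normalizer (B : Set G) := (le_sup_right.trans hPYE).trans (h.compl_le_normalizer hG hE hBE)
  have hYH : Y ≤ H := hYB.trans hNB
  have hHM : ∀ g : G, H ≠ M.map (MulAut.conj g).toMonoidHom := fun g hg => hps (sigma_of_conj (hg ▸ hpH))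
  have hqH : q ∉ Cfsg.sigma H := fun h' => by
    obtain ⟨g, hg⟩ := sigma_disjoint hG hM hH hqM h'
    exact hHM g hg
  have hYp : IsPGroup q Y := IsPGroup.of_card (n := 1) (hY.trans (pow_one q).symm)
  obtain ⟨F, hF, hYF⟩ := exists_compl_ge hG hH hYH fun t ht htd => by
    rw [hY] at htd; rwa [(Nat.prime_dvd_prime_iff_eq ht hq.out).mp htd]
  have hq1 : PRankLE q 1 H := by
    by_contra h1
    obtain ⟨A, hAF, hAe, hA2, A₁, hA⟩ :=
      exists_ea_in_compl hG hH hF ⟨hq.out, hqH, pRankLE_two_of_not_mem_sigma hG hH hqH, h1⟩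
    have hYA : Y ≤ A := hA.le_of_card_prime hG hF hAF hYF hY
    have hAM : A ≤ M := ((Subgroup.le_centralizer_iff_isMulCommutative.mpr hAe.1).trans
      (Subgroup.centralizer_le hYA)).trans ((Subgroup.centralizer_le_normalizer _).trans hNY)
    have h0 := hA.inf_maximal hG hM (fun e => hHM 1 (by rw [map_conj_one]; exact e.symm)) hAM
    have hle : P ≤ Cfsg.sigmaCore H ⊓ M := le_inf hPσ hPM
    rw [h0, le_bot_iff] at hle
    rw [hle, Subgroup.card_bot] at hP
    exact hp.out.one_lt.ne hP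
  have hqd : ¬ q ∣ Nat.card ↥⁅H, H⁆ := fun hd => by
    obtain ⟨S, hS, hYS⟩ := exists_sylowIn_ge hYp hYF
    have hYd : Y ≤ ⁅H, H⁆ := hYS.trans ((sylow_le_derived_of_rank_one hG hF.1 hq1
      (dvd_card_derived_compl hG hH hF hq.out hqH hd) hS).trans (Subgroup.commutator_mono hF.1 hF.1))
    refine hnc (commute_of_not_beta hG hH (fun hb => not_isIdealPrime_of_not_sigma hG hL hpsL hpτ.2.2.2 hb.2)
      h.isPGroup ((pGroup_le_sigmaCore hG hH hpH h.isPGroup hBH).trans (sigmaCore_le_derived hG hH)) hYd ?_ hYB)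
    rw [hY]
    exact fun hd' => hps ((Nat.prime_dvd_prime_iff_eq hp.out hq.out).mp hd' ▸ hqM)
  have hNPH : Subgroup.normalizer (P : Set G) ≤ H :=
    normalizer_le_of_tau1_fixed (p := q) hG hH ⟨hq.out, hqH, hY ▸ Subgroup.card_dvd_of_le hYH, hqd, hq1⟩ hYH hY hP
      (le_inf hPσ hPY)
  have hHL : H ≠ L := fun e => hpsL (e ▸ hpH)
  have hgood : Cfsg.sigmaCore L ⊓ Subgroup.centralizer (P : Set G) = ⊥ :=
    le_bot_iff.mp ((h.inf_maximal hG hH hHL hBH) ▸
      inf_le_inf_left _ ((Subgroup.centralizer_le_normalizer _).trans hNPH))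
  by_cases hab : ∀ S : Sylow p G, IsMulCommutative (S : Subgroup G)
  · obtain ⟨n, hn, hnL⟩ := h.exists_notMem hG
    refine hnL (hNP ?_)
    have hder := h.derived_normalizer_le hG hab
    have hPC : P ≤ B ⊓ Subgroup.centralizer (Y : Set G) := le_inf hPB hPY
    have hcard : Nat.card ↥(B ⊓ Subgroup.centralizer (Y : Set G)) ≤ p := by
      obtain ⟨i, hi, hic⟩ := (Nat.dvd_prime_pow hp.out).mp
        (hB2 ▸ Subgroup.card_dvd_of_le (inf_le_left : B ⊓ Subgroup.centralizer (Y : Set G) ≤ B))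
      rcases Nat.lt_or_ge i 2 with h2 | h2
      · rw [hic]; exact (Nat.pow_le_pow_right hp.out.pos (show i ≤ 1 by omega)).trans (pow_one p).le
      · exfalso
        have heq : B ⊓ Subgroup.centralizer (Y : Set G) = B := Subgroup.eq_of_le_of_card_ge inf_le_left
          (by rw [hic, hB2, show i = 2 by omega])
        exact hnc (Subgroup.le_centralizer_iff.mp (heq ▸ inf_le_right))
    refine Subgroup.mem_normalizer_iff_map_conj_eq.mpr (Subgroup.eq_of_le_of_card_ge ?_ ?_)
    · have heq : B ⊓ Subgroup.centralizer (Y : Set G) = P :=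
        (Subgroup.eq_of_le_of_card_ge hPC (hP.symm ▸ hcard)).symm
      refine le_of_le_of_eq ?_ heq
      rintro _ ⟨x, hx, rfl⟩
      change n * x * n⁻¹ ∈ _
      refine Subgroup.mem_inf.mpr ⟨(Subgroup.mem_normalizer_iff.mp hn x).mp (hPB hx), ?_⟩
      rw [Subgroup.mem_centralizer_iff]
      intro y hy
      have hd : y⁻¹ * (n⁻¹ * y * n) ∈ Subgroup.centralizer (B : Set G) := by
        have h := hder (Subgroup.commutator_mem_commutator (inv_mem (hYB hy)) (inv_mem hn))
        rwa [commutatorElement_def, inv_inv, inv_inv,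
          show y⁻¹ * n⁻¹ * y * n = y⁻¹ * (n⁻¹ * y * n) by group] at h
      have h1 : x * (y⁻¹ * (n⁻¹ * y * n)) = y⁻¹ * (n⁻¹ * y * n) * x :=
        Subgroup.mem_centralizer_iff.mp hd x (hPB hx)
      have h2 : y * x = x * y := Subgroup.mem_centralizer_iff.mp (hPY hx) y hy
      have h3 : (n⁻¹ * y * n) * x = x * (n⁻¹ * y * n) := by
        calc (n⁻¹ * y * n) * x = y * (y⁻¹ * (n⁻¹ * y * n) * x) := by group
        _ = y * (x * (y⁻¹ * (n⁻¹ * y * n))) := by rw [h1]
        _ = y * x * (y⁻¹ * (n⁻¹ * y * n)) := by group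
        _ = x * y * (y⁻¹ * (n⁻¹ * y * n)) := by rw [h2]
        _ = x * (n⁻¹ * y * n) := by group
      calc y * (n * x * n⁻¹) = n * ((n⁻¹ * y * n) * x) * n⁻¹ := by group
      _ = n * (x * (n⁻¹ * y * n)) * n⁻¹ := by rw [h3]
      _ = n * x * n⁻¹ * y := by group
    · rw [Subgroup.card_map_of_injective (MulAut.conj n).injective]
  · push Not at hab
    obtain ⟨S, hS⟩ := hab
    have hna : ∀ S' : Sylow p G, ¬ IsMulCommutative (S' : Subgroup G) := fun S' hc =>
      hS (sylow_commutative_of_one hc S)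
    have hPB₁ : P = B₁ := by
      by_contra hne
      exact (h.nonAb_line hG hna hPB hP hne).2 ((Subgroup.centralizer_le_normalizer _).trans hNP)
    obtain ⟨-, -, -, -, -, -, -, -, -, -, -, -, -, -, -, -, -, hA₀⟩ := h.nonAb_data hG hna
    have hPc : P ≤ Subgroup.centralizer (Cfsg.sigmaCore L : Set G) := by
      rw [hPB₁, ← hA₀]; exact inf_le_right
    rw [inf_eq_left.mpr (Subgroup.le_centralizer_iff.mp hPc)] at hgood
    exact sigmaCore_ne_bot hG hL hgood

end Cfsg.Agent.OddLocal
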