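import Cfsg.Agent.Lib.OddLocal.TauTwoCore
import Cfsg.Agent.Lib.OddLocal.InvariantLift
import Cfsg.Agent.Lib.OddLocal.CyclicSylow
import Cfsg.Agent.Lib.OddLocal.NonAbUnique

/-! A subgroup of full exponent acting freely on `M_σ` (BG 12.12(b)). -/

set_option autoImplicit false
set_option linter.unusedSectionVars false
set_option linter.style.haveILetI false

namespace Cfsg.Agent.OddLocal

open scoped commutatorElement Pointwise
open Cfsg
open Basics (IsSylowIn)

universe u

variable {G : Type u} [Group G] [Finite G] {p : ℕ} [hp : Fact p.Prime]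

theorem mem_sigma_of_normalizer_le {M R : Subgroup G} (hR : IsSylowIn p M R) (hR1 : R ≠ ⊥)
    (hN : Subgroup.normalizer (R : Set G) ≤ M) : p ∈ Cfsg.sigma M := by
  obtain ⟨P, hP⟩ := hR.exists_sylow
  refine ⟨hp.out, ?_, P, by rwa [hP]⟩
  exact (hR.isPGroup.card_eq_or_dvd.resolve_left fun e => hR1 (Subgroup.card_eq_one.mp e)).trans
    (Subgroup.card_dvd_of_le hR.1)

/-- Elements centralizing a subgroup and of order dividing `p` in it. -/
theorem sylow_eq_abelian_ne_bot {M A A₀ R : Subgroup G} (h : Exc p M A A₀) (hAR : A ≤ R) : R ≠ ⊥ :=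
  fun e => h.ne_bot (eq_bot_iff.mpr (e ▸ hAR))

namespace Exc

variable {M A A₀ E : Subgroup G}

/-- BG 12.?: with abelian Sylow subgroups `N(A)' ≤ C(A)`. -/
theorem derived_normalizer_le (h : Exc p M A A₀) (hG : IsMinSimpleOddOrder G)
    (hab : ∀ S : Sylow p G, IsMulCommutative (S : Subgroup G)) :
    ⁅Subgroup.normalizer (A : Set G), Subgroup.normalizer (A : Set G)⁆ ≤ Subgroup.centralizer (A : Set G) := by
  set N := Subgroup.normalizer (A : Set G) with hN
  have hAN : A ≤ N := Subgroup.le_normalizer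
  haveI : Group.IsSolvable N := isSolvable_of_ne_top hG (normalizer_ne_top hG h.ne_bot
    (fun e => h.max.1 (top_le_iff.mp (e ▸ h.le))))
  refine le_of_sylows fun q hq hd => ?_
  haveI := Fact.mk hq
  obtain ⟨S, hS⟩ := exists_sylowIn (q := q) ⁅N, N⁆
  refine ⟨S, hS, fun g hg => ?_⟩
  have hgN : g ∈ N := Subgroup.commutator_le_self N (hS.1 hg)
  rcases eq_or_ne q p with rfl | hqp
  · have hw : IsPGroup q (A ⊔ Subgroup.zpowers g : Subgroup G) := IsPGroup.to_sup_of_normal_left' h.isPGroup
      (hS.isPGroup.to_le (Subgroup.zpowers_le.mpr hg)) (Subgroup.zpowers_le.mpr hgN)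
    obtain ⟨T, hT⟩ := hw.exists_le_sylow
    rw [Subgroup.mem_centralizer_iff]
    intro a ha
    exact congrArg Subtype.val ((hab T).is_comm.comm ⟨a, hT (Subgroup.mem_sup_left ha)⟩
      ⟨g, hT (Subgroup.mem_sup_right (Subgroup.mem_zpowers g))⟩)
  · obtain ⟨g', hg', hgv⟩ : g ∈ (commutator N).map N.subtype := by
      rw [N.map_subtype_commutator]; exact hS.1 hg
    haveI : (A.subgroupOf N).Normal := (Subgroup.normal_subgroupOf_iff_le_normalizer hAN).mpr le_rfl
    have hgo : (orderOf g').Coprime p := by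
      obtain ⟨n, hn⟩ := hS.isPGroup ⟨g, hg⟩
      have h1 : g ^ q ^ n = 1 := congrArg Subtype.val hn
      rw [← hgv, ← map_pow, map_eq_one_iff _ N.subtype_injective] at h1
      exact Nat.Coprime.coprime_dvd_left (orderOf_dvd_of_pow_eq_one h1)
        (((Nat.coprime_primes hq hp.out).mpr hqp).pow_left n)
    have hc := derived_pPower_centralizes (odd_card_subgroup hG N) (prime_ne_two hG h.dvd_cardG)
      (T := A.subgroupOf N) (isPGroup_of_exponent fun a ha => Subtype.ext (h.ea.2 _ ha))
      (fun X _ => (Nat.le_of_dvd Nat.card_pos (Subgroup.card_subgroup_dvd_card X)).trans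
        (by rw [Basics.card_subgroupOf hAN, h.card])) hg' hgo
    rw [Subgroup.mem_centralizer_iff]
    intro a ha
    exact hgv ▸ congrArg Subtype.val (Subgroup.mem_centralizer_iff.mp hc ⟨a, hAN ha⟩ ha)

/-- A prime power element of `E` fixes a line of `A`. -/
theorem exists_fixed_line (h : Exc p M A A₀) (hG : IsMinSimpleOddOrder G) (hE : IsComplIn E (Cfsg.sigmaCore M) M)
    (hAE : A ≤ E) (hab : ∀ S : Sylow p G, IsMulCommutative (S : Subgroup G)) {s : ℕ} [hs : Fact s.Prime] {k : G}
    (hk : k ∈ E) (hks : IsPGroup s (Subgroup.zpowers k))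
    (hfree : ∀ w ∈ Subgroup.zpowers k, orderOf w = s → s ∉ Cfsg.tau2 M →
      Cfsg.sigmaCore M ⊓ Subgroup.centralizer ({w} : Set G) = ⊥) :
    ∃ X : Subgroup G, X ≤ A ∧ Nat.card X = p ∧ k ∈ Subgroup.normalizer (X : Set G) := by
  by_contra hno
  push Not at hno
  have hkA : k ∈ Subgroup.normalizer (A : Set G) := h.compl_le_normalizer hG hE hAE hk
  have hkC : k ∉ Subgroup.centralizer (A : Set G) := fun hc => hno A₀ h.line_le h.line_card
    (Subgroup.centralizer_le_normalizer _ (Subgroup.centralizer_le h.line_le hc))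
  have hinv : ∀ V : Subgroup G, V ≤ A → V ≠ ⊥ → k ∈ Subgroup.normalizer (V : Set G) → V = A := by
    intro V hVA hV1 hkV
    obtain ⟨i, hi, hVi⟩ := (Nat.dvd_prime_pow hp.out).mp (h.card ▸ Subgroup.card_dvd_of_le hVA)
    interval_cases i
    · exact absurd (Subgroup.card_eq_one.mp (by rw [hVi, pow_zero])) hV1
    · exact absurd hkV (hno V hVA (by rw [hVi, pow_one]))
    · exact Subgroup.eq_of_le_of_card_ge hVA (by rw [hVi, h.card])
  obtain ⟨j, hj⟩ := IsPGroup.iff_card.mp hks
  rw [Nat.card_zpowers] at hj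
  have hj1 : k ≠ 1 := fun e => hkC (e ▸ one_mem _)
  have hsdvd : s ∣ orderOf k := by
    rcases Nat.eq_zero_or_pos j with rfl | h0
    · exact absurd (orderOf_eq_one_iff.mp (by rw [hj, pow_zero])) hj1
    · exact hj ▸ dvd_pow_self s h0.ne'
  have hsE : s ∣ Nat.card E := hsdvd.trans (Subgroup.orderOf_dvd_natCard E hk)
  have hss : s ∉ Cfsg.sigma M := compl_primes hG h.max hE hs.out hsE
  have hsτ : s ∉ Cfsg.tau2 M := fun hτ => hkC (h.tau2_element_mem hG hE hAE hk fun r hr hd => by
    rw [hj] at hd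
    rwa [(Nat.prime_dvd_prime_iff_eq hr hs.out).mp (hr.dvd_of_dvd_pow hd)])
  have hs1 : PRankLE s 1 M := by
    by_contra h1
    exact hsτ ⟨hs.out, hss, pRankLE_two_of_not_mem_sigma hG h.max hss, h1⟩
  have hpτ : p ∈ Cfsg.tau2 M := ⟨hp.out, h.notσ, pRankLE_two_of_not_mem_sigma hG h.max h.notσ, fun h1 => by
    have := card_le_of_pRankLE h1 h.le h.ea
    rw [h.card, pow_one] at this
    nlinarith [hp.out.two_le]⟩
  have hsp : s ≠ p := fun e => hsτ (e ▸ hpτ)
  have hs2 : s ≠ 2 := prime_ne_two hG (hsdvd.trans (orderOf_dvd_natCard k))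
  -- the last power acting nontrivially
  classical
  have hex : ∃ i, k ^ s ^ i ∈ Subgroup.centralizer (A : Set G) := ⟨j, by rw [← hj, pow_orderOf_eq_one]; exact one_mem _⟩
  obtain ⟨m, hm⟩ : ∃ m, Nat.find hex = m + 1 := by
    refine ⟨Nat.find hex - 1, ?_⟩
    have : Nat.find hex ≠ 0 := fun e => hkC (by simpa [e] using Nat.find_spec hex)
    omega
  set u := k ^ s ^ m with hu
  have huC : u ∉ Subgroup.centralizer (A : Set G) := Nat.find_min hex (by omega)
  have husC : u ^ s ∈ Subgroup.centralizer (A : Set G) := by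
    rw [hu, ← pow_mul, ← pow_succ, ← hm]; exact Nat.find_spec hex
  have huk : Commute k u := (Commute.refl k).pow_right _
  have hkinv : ∀ v : G, Commute k v → k ∈ Subgroup.normalizer ((A ⊓ Subgroup.centralizer ({v} : Set G) : Subgroup G) : Set G) := by
    intro v hv
    refine mem_normalizer_of_conj_mem fun a ha => ⟨(Subgroup.mem_normalizer_iff.mp hkA a).mp ha.1,
      Subgroup.mem_centralizer_singleton_iff.mpr ?_⟩
    have ha2 : a * v = v * a := Subgroup.mem_centralizer_singleton_iff.mp ha.2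
    calc k * a * k⁻¹ * v = k * a * (k⁻¹ * v) := by group
      _ = k * a * (v * k⁻¹) := by rw [hv.inv_left.eq]
      _ = k * (a * v) * k⁻¹ := by group
      _ = k * (v * a) * k⁻¹ := by rw [ha2]
      _ = (k * v) * a * k⁻¹ := by group
      _ = (v * k) * a * k⁻¹ := by rw [hv.eq]
      _ = _ := by group
  have hfix : ∀ v : G, Commute k v → A ⊓ Subgroup.centralizer ({v} : Set G) ≠ ⊥ →
      v ∈ Subgroup.centralizer (A : Set G) := by
    intro v hv hne
    have hle : A ≤ Subgroup.centralizer ({v} : Set G) :=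
      (hinv _ inf_le_left hne (hkinv v hv)).symm.le.trans inf_le_right
    exact Subgroup.mem_centralizer_iff.mpr fun a ha => Subgroup.mem_centralizer_singleton_iff.mp (hle ha)
  have hAu : A ⊓ Subgroup.centralizer ({u} : Set G) = ⊥ := by
    by_contra hne
    exact huC (hfix u huk hne)
  have huE : u ∈ E := pow_mem hk _
  by_cases hus : u ^ s = 1
  · -- `u` of order `s` acts without fixed points on `A` and on `M_σ`
    have huo : orderOf u = s := orderOf_eq_prime hus (fun e => huC (e ▸ one_mem _))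
    have hX : Nat.card (Subgroup.zpowers u) = s := by rw [Nat.card_zpowers, huo]
    have hMσ := hfree u (pow_mem (Subgroup.mem_zpowers k) _) huo hsτ
    have hM : Subgroup.zpowers u ≤ M := Subgroup.zpowers_le.mpr (hE.1 huE)
    have hcomm : ⁅Subgroup.zpowers u, A⁆ ≤ Subgroup.centralizer (Cfsg.sigmaCore M : Set G) :=
      fpf_centralizes_nilpotent (h.isNilpotent hG) (odd_card_subgroup hG _) hX hs2
        (not_dvd_sigmaCore hs.out hss) (odd_card_subgroup hG A)
        (by rw [h.card]; exact fun e => hsp ((Nat.prime_dvd_prime_iff_eq hs.out hp.out).mp (hs.out.dvd_of_dvd_pow e)))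
        (coprime_of_pGroup h.isPGroup h.not_dvd_sigma)
        ((Subgroup.zpowers_le.mpr huE).trans (h.compl_le_normalizer hG hE hAE)) h.le_normalizer_core
        (hM.trans (le_normalizer_sigmaCore M))
        (by rw [Subgroup.zpowers_eq_closure, Subgroup.centralizer_closure]; exact hMσ)
    obtain ⟨a, ha, ha1⟩ := (Subgroup.bot_or_exists_ne_one A).resolve_left h.ne_bot
    set c := ⁅u, a⁆ with hc
    have hcA : c ∈ A := by
      rw [hc, commutatorElement_def]
      exact mul_mem ((Subgroup.mem_normalizer_iff.mp (h.compl_le_normalizer hG hE hAE huE) a).mp ha) (inv_mem ha)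
    have hc1 : c ≠ 1 := fun e => ha1 (Subgroup.mem_bot.mp (hAu ▸ ⟨ha,
      Subgroup.mem_centralizer_singleton_iff.mpr (commutatorElement_eq_one_iff_mul_comm.mp e).symm⟩))
    have hV : A ⊓ Subgroup.centralizer (Cfsg.sigmaCore M : Set G) = A := by
      refine hinv _ inf_le_left (fun e => hc1 (Subgroup.mem_bot.mp (e ▸
        ⟨hcA, hcomm (Subgroup.commutator_mem_commutator (Subgroup.mem_zpowers u) ha)⟩))) ?_
      exact (le_inf (h.compl_le_normalizer hG hE hAE) (le_normalizer_centralizer
        (hE.1.trans (le_normalizer_sigmaCore M)))).trans le_normalizer_inf' hk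
    refine sigmaCore_ne_bot hG h.max (eq_bot_iff.mpr ?_)
    rw [← h.centralizer_eq_bot hG]
    exact le_inf le_rfl (Subgroup.le_centralizer_iff.mp (hV.symm.le.trans inf_le_right))
  · -- `u ^ s` centralizes `A`
    obtain ⟨R, hR⟩ := exists_sylowIn (q := p) E
    have hAR := h.le_sylow_compl hG hE hAE hR
    have hRM := compl_sylow hE h.notσ hR
    obtain ⟨T, hRT⟩ := hR.isPGroup.exists_le_sylow
    have hTR := h.sylow_eq_of_abelian hRM hAR hab hRT
    have hNRA : Subgroup.normalizer (R : Set G) ≤ Subgroup.normalizer (A : Set G) := h.normalizer_le hG hRM hAR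
    obtain ⟨H, hH, hNH⟩ := exists_maximal_ge (normalizer_ne_top hG h.ne_bot
      (fun e => h.max.1 (top_le_iff.mp (e ▸ h.le))))
    have hEH : E ≤ H := (h.compl_le_normalizer hG hE hAE).trans hNH
    have hTH : (T : Subgroup G) ≤ H := hTR ▸ (hR.1.trans hEH)
    have hpH : p ∈ Cfsg.sigma H := by
      refine ⟨hp.out, (h.card ▸ dvd_pow_self p two_ne_zero).trans (Subgroup.card_dvd_of_le (hAE.trans hEH)),
        T.subtype hTH, ?_⟩
      rw [Sylow.coe_subtype, Subgroup.subgroupOf_map_subtype, inf_eq_left.mpr hTH, hTR]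
      exact hNRA.trans hNH
    have hAσ : A ≤ Cfsg.sigmaCore H := pGroup_le_sigmaCore hG hH hpH h.isPGroup (hAE.trans hEH)
    have hkH : Subgroup.zpowers k ≤ H := Subgroup.zpowers_le.mpr (hEH hk)
    by_cases hsH : s ∈ Cfsg.sigma H
    · have hkσ : Subgroup.zpowers k ≤ Cfsg.sigmaCore H := pGroup_le_sigmaCore hG hH hsH hks hkH
      have hpb : p ∉ Cfsg.beta H := fun hb => not_isIdealPrime_of_not_sigma hG h.max h.notσ hpτ.2.2.2 hb.2
      refine hkC ((le_centralizer_of_commutator_le hG hH hpb h.isPGroup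
        (Subgroup.commutator_mono (hAE.trans hEH) hkH) (hkσ.trans (sigmaCore_le_derived hG hH)) (fun e => ?_)
        (Subgroup.zpowers_le.mpr hkA) h.solvable) (Subgroup.mem_zpowers k))
      rw [Nat.card_zpowers, hj] at e
      exact hsp ((Nat.prime_dvd_prime_iff_eq hp.out hs.out).mp (hp.out.dvd_of_dvd_pow e)).symm
    · have hus1 : u ^ s ∈ Subgroup.zpowers k := pow_mem (pow_mem (Subgroup.mem_zpowers k) _) _
      by_cases h1H : PRankLE s 1 H
      · obtain ⟨E', hE', hkE'⟩ := exists_compl_ge hG hH hkH fun q hq hd => by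
          rw [Nat.card_zpowers, hj] at hd
          rwa [(Nat.prime_dvd_prime_iff_eq hq hs.out).mp (hq.dvd_of_dvd_pow hd)]
        obtain ⟨S, hS, hkS⟩ := exists_sylowIn_ge hks hkE'
        have hS1 : S ≠ ⊥ := fun e => hj1 (Subgroup.mem_bot.mp (e ▸ hkS (Subgroup.mem_zpowers k)))
        haveI hSc : IsCyclic S := isCyclic_of_pRankLE_one hs2 h1H (hS.1.trans hE'.1) hS.isPGroup
        have heq := cyclic_sylow_centralizer hG hH hE' hS hS1 hSc (hkS hus1) hus
        have hA' : A ≤ Cfsg.sigmaCore H ⊓ Subgroup.centralizer ({u ^ s} : Set G) := le_inf hAσ fun a ha =>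
          Subgroup.mem_centralizer_singleton_iff.mpr (Subgroup.mem_centralizer_iff.mp husC a ha)
        rw [heq] at hA'
        exact hkC (Subgroup.le_centralizer_iff.mp (hA'.trans inf_le_right) (hkS (Subgroup.mem_zpowers k)))
      · -- `s ∈ τ₂(H)`
        obtain ⟨B₀, hB₀H, hB₀, hB₀c⟩ := exists_ea_of_not_pRankLE_one h1H
        have hB₀2 := ea_card_eq_sq (pRankLE_two_of_not_mem_sigma hG hH hsH) hB₀ hB₀H hB₀c
        obtain ⟨B₁, hB⟩ := exists_exc hG hH hsH hB₀H hB₀ hB₀2
        have hHT := le_normalizer_of_nilpotent hG hH hpH T hTH (hB.isNilpotent hG)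
        rw [hTR] at hHT
        have hHA : H ≤ Subgroup.normalizer (A : Set G) := hHT.trans hNRA
        obtain ⟨S, hS, hkS⟩ := exists_sylowIn_ge hks hkH
        obtain ⟨S₀, hS₀, hB₀S⟩ := exists_sylowIn_ge hB.isPGroup hB₀H
        obtain ⟨c, hc, ec⟩ := hS₀.exists_conj hS
        set B := MulAut.conj c • B₀ with hBdef
        have hBS : B ≤ S := ec ▸ Subgroup.pointwise_smul_le_pointwise_smul_iff.mpr hB₀S
        have hSc : IsMulCommutative S := pGroup_commutative hG hH hS.isPGroup hS.1 hsH
        have hBnM : ¬ B ≤ M := fun hle => by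
          have := card_le_of_pRankLE hs1 hle (ea_map hB₀ _)
          rw [Basics.card_conj_smul, hB₀2, pow_one] at this
          nlinarith [hs.out.two_le]
        obtain ⟨b, hbB, hbM⟩ := SetLike.not_le_iff_exists.mp hBnM
        have hbs : b ^ s = 1 := (ea_map hB₀ (MulAut.conj c).toMonoidHom).2 b hbB
        have hbk : Commute k b :=
          congrArg Subtype.val (hSc.is_comm.comm ⟨k, hkS (Subgroup.mem_zpowers k)⟩ ⟨b, hBS hbB⟩)
        haveI := hSc
        obtain ⟨n, hn⟩ := IsPGroup.iff_card.mp hS.isPGroup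
        have hcop : (Nat.card S).Coprime (Nat.card A) := by
          rw [hn, h.card]; exact Nat.Coprime.pow _ _ ((Nat.coprime_primes hs.out hp.out).mpr hsp)
        have hgen := Basics.le_genCent S s b u (hBS hbB) (pow_mem (hkS (Subgroup.mem_zpowers k)) _) A
          (hS.1.trans hHA) hcop (by rw [h.card]; exact Nat.Coprime.pow_right _ ((Nat.coprime_primes hs.out hp.out).mpr hsp))
          (by rw [hbs]; exact one_mem _) husC
        refine h.ne_bot (eq_bot_iff.mpr (hgen.trans (sup_le (iSup_le fun i => ?_) hAu.le)))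
        by_contra hne
        have hc' := hfix (b * u ^ i) (hbk.mul_right (huk.pow_right i)) fun e => hne (e ▸ le_rfl)
        have hbu : b * u ^ i ∈ M := h.centralizer_le hc'
        exact hbM (by simpa using mul_mem hbu (inv_mem (pow_mem (hE.1 huE) i)))

end Exc

end Cfsg.Agent.OddLocal
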