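import Cfsg.Agent.Lib.OddLocal.TauTwoFree

/-! Free cyclic subgroups of maximal order (BG 12.12(b), continued). -/

set_option autoImplicit false
set_option linter.unusedSectionVars false
set_option linter.style.haveILetI false

namespace Cfsg.Agent.OddLocal

open scoped commutatorElement Pointwise
open Cfsg
open Basics (IsSylowIn)

universe u

variable {G : Type u} [Group G] [Finite G] {p : ℕ} [hp : Fact p.Prime]

/-- The exponent of an abelian `p`-subgroup is attained. -/
theorem exists_max_order {R : Subgroup G} (hR : IsPGroup p R) (hRc : IsMulCommutative R) (hR1 : R ≠ ⊥) :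
    ∃ (e : ℕ) (x : G), x ∈ R ∧ (∀ g ∈ R, g ^ p ^ (e + 1) = 1) ∧ orderOf (x ^ p ^ e) = p := by
  letI : CommGroup R := { (inferInstance : Group R) with mul_comm := hRc.is_comm.comm }
  obtain ⟨x, hx⟩ := Monoid.exists_orderOf_eq_exponent (Monoid.ExponentExists.of_finite (G := R))
  obtain ⟨n, hn⟩ := hR x
  obtain ⟨i, -, hi⟩ := (Nat.dvd_prime_pow hp.out).mp (orderOf_dvd_of_pow_eq_one hn)
  obtain ⟨e, rfl⟩ : ∃ e, i = e + 1 := by
    refine ⟨i - 1, ?_⟩
    rcases Nat.eq_zero_or_pos i with rfl | h0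
    · obtain ⟨g, hg, hg1⟩ := (Subgroup.bot_or_exists_ne_one R).resolve_left hR1
      have h1 := Monoid.pow_exponent_eq_one (⟨g, hg⟩ : R)
      rw [← hx, hi, pow_zero, pow_one] at h1
      exact absurd (congrArg Subtype.val h1) hg1
    · omega
  refine ⟨e, x, x.2, fun g hg => ?_, ?_⟩
  · have h1 := Monoid.pow_exponent_eq_one (⟨g, hg⟩ : R)
    rw [← hx, hi] at h1
    exact congrArg Subtype.val h1
  · rw [← SubgroupClass.coe_pow, Subgroup.orderOf_coe,
      orderOf_pow_of_dvd (pow_ne_zero _ hp.out.ne_zero) (hi ▸ pow_dvd_pow p (Nat.le_succ e)), hi,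
      Nat.pow_div (Nat.le_succ e) hp.out.pos, show e.succ - e = 1 by omega, pow_one]

/-- Elements of order `p` in a cyclic group generated by `z` all lie in one line. -/
theorem zpowers_eq_of_root {e : ℕ} {z y w : G} (hz : orderOf z = p ^ (e + 1)) (hzy : z ^ p ^ e ∈ Subgroup.zpowers y)
    (hy : orderOf y = p) (hw : w ∈ Subgroup.zpowers z) (hwo : orderOf w = p) :
    Subgroup.zpowers w = Subgroup.zpowers y := by
  have hc : Nat.card (Subgroup.zpowers (z ^ p ^ e)) = p := by
    rw [Nat.card_zpowers, orderOf_pow_of_dvd (pow_ne_zero _ hp.out.ne_zero) (hz ▸ pow_dvd_pow p (Nat.le_succ e)), hz,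
      Nat.pow_div (Nat.le_succ e) hp.out.pos, show e.succ - e = 1 by omega, pow_one]
  rw [← Subgroup.eq_of_le_of_card_ge (Subgroup.zpowers_le.mpr hzy) (by rw [hc, Nat.card_zpowers, hy])]
  exact eq_of_le_cyclic (S := Subgroup.zpowers z) inferInstance (Subgroup.zpowers_le.mpr hw)
    (Subgroup.zpowers_le.mpr (pow_mem (Subgroup.mem_zpowers z) _)) (by rw [hc, Nat.card_zpowers, hwo])

theorem inf_centralizer_zpowers (M : Subgroup G) (w : G) :
    Cfsg.sigmaCore M ⊓ Subgroup.centralizer ((Subgroup.zpowers w : Subgroup G) : Set G) =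
      Cfsg.sigmaCore M ⊓ Subgroup.centralizer ({w} : Set G) := by
  rw [Subgroup.zpowers_eq_closure, Subgroup.centralizer_closure]

namespace Exc

variable {M A A₀ E : Subgroup G}

/-- The normalizer of a line with fixed points lies in `M`. -/
theorem normalizer_le_of_bad (h : Exc p M A A₀) (hG : IsMinSimpleOddOrder G) {X : Subgroup G} (hXA : X ≤ A)
    (hX : Nat.card X = p) (hne : Cfsg.sigmaCore M ⊓ Subgroup.centralizer (X : Set G) ≠ ⊥) :
    Subgroup.normalizer (X : Set G) ≤ M := by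
  refine (h.unique_of_fixed hG (normalizer_ne_top hG (fun e => ?_) (fun e => h.max.1 (top_le_iff.mp
    (e ▸ (hXA.trans h.le))))) (fun a ha => Subgroup.centralizer_le_normalizer _
      (Subgroup.mem_centralizer_iff.mpr fun v hv => (ea_commute h.ea (hXA hv) ha).eq))
    (fun e => hne (eq_bot_iff.mpr (le_trans (inf_le_inf_left _ (Subgroup.centralizer_le_normalizer _)) e.le)))).1
  rw [e, Subgroup.card_bot] at hX
  exact hp.out.one_lt.ne hX

/-- A line without fixed points invariant under a subgroup of `E`. -/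
theorem exists_good_line (h : Exc p M A A₀) (hG : IsMinSimpleOddOrder G) (hE : IsComplIn E (Cfsg.sigmaCore M) M)
    (hAE : A ≤ E) (hab : ∀ S : Sylow p G, IsMulCommutative (S : Subgroup G)) {F : Subgroup G} (hFE : F ≤ E)
    (hfree : ∀ x ∈ F, (orderOf x).Prime → orderOf x ∉ Cfsg.tau2 M →
      Cfsg.sigmaCore M ⊓ Subgroup.centralizer ({x} : Set G) = ⊥) :
    ∃ X : Subgroup G, X ≤ A ∧ Nat.card X = p ∧ F ≤ Subgroup.normalizer (X : Set G) ∧
      Cfsg.sigmaCore M ⊓ Subgroup.centralizer (X : Set G) = ⊥ := by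
  have hEA := h.compl_le_normalizer hG hE hAE
  have hder := h.derived_normalizer_le hG hab
  set S : Set G := {g | g ∈ F ∧ ∃ s : ℕ, s.Prime ∧ IsPGroup s (Subgroup.zpowers g)} with hS
  obtain ⟨X, hXA, hX, hSX⟩ := exists_common_line h.ea h.card hG.1 (S := S) (fun l hl => hEA (hFE hl.1))
    (fun k hk l hl => hder (Subgroup.commutator_mem_commutator (hEA (hFE hk.1)) (hEA (hFE hl.1))))
    (fun k hk => by
      obtain ⟨hkF, s, hs, hks⟩ := hk
      haveI := Fact.mk hs
      refine h.exists_fixed_line hG hE hAE hab (hFE hkF) hks fun w hw hwo hsτ => ?_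
      exact hfree w ((Subgroup.zpowers_le.mpr hkF) hw) (hwo ▸ hs) (hwo ▸ hsτ))
    h.line_le h.line_card
  have hFX : F ≤ Subgroup.normalizer (X : Set G) := le_of_sylows fun q hq hd => by
    haveI := Fact.mk hq
    obtain ⟨U, hU⟩ := exists_sylowIn (q := q) F
    exact ⟨U, hU, fun g hg => hSX g ⟨hU.1 hg, q, hq, hU.isPGroup.to_le (Subgroup.zpowers_le.mpr hg)⟩⟩
  by_cases hgood : Cfsg.sigmaCore M ⊓ Subgroup.centralizer (X : Set G) = ⊥
  · exact ⟨X, hXA, hX, hFX, hgood⟩
  have hX' : Exc p M A X := ⟨h.max, h.notσ, h.le, h.ea, h.card, hXA, hX, h.normalizer_le_of_bad hG hXA hX hgood⟩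
  obtain ⟨n, hn, hnM⟩ := hX'.exists_notMem hG
  obtain ⟨h1, h2, -, h4⟩ := hX'.conj_line hG hn hnM
  refine ⟨_, h1, h2, fun f hf => mem_normalizer_of_conj_mem ?_, h4⟩
  rintro _ ⟨v, hv, rfl⟩
  have hc : ⁅f⁻¹, n⁻¹⁆ ∈ Subgroup.centralizer (A : Set G) :=
    hder (Subgroup.commutator_mem_commutator (inv_mem (hEA (hFE hf))) (inv_mem hn))
  have hm : n⁻¹ * f * n ∈ Subgroup.normalizer (X : Set G) := by
    rw [show n⁻¹ * f * n = f * ⁅f⁻¹, n⁻¹⁆ by rw [commutatorElement_def]; group]
    exact mul_mem (hFX hf) (Subgroup.centralizer_le_normalizer _ (Subgroup.centralizer_le hXA hc))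
  refine ⟨(n⁻¹ * f * n) * v * (n⁻¹ * f * n)⁻¹, (Subgroup.mem_normalizer_iff.mp hm v).mp hv, ?_⟩
  simp only [MulEquiv.coe_toMonoidHom, MulAut.conj_apply]
  group

/-- A free invariant cyclic subgroup of maximal order: abelian case. -/
theorem exists_free_root_abelian (h : Exc p M A A₀) (hG : IsMinSimpleOddOrder G)
    (hE : IsComplIn E (Cfsg.sigmaCore M) M) (hAE : A ≤ E) (hab : ∀ S : Sylow p G, IsMulCommutative (S : Subgroup G))
    {R F K : Subgroup G} (hR : IsSylowIn p E R) (hFE : F ≤ E) (hKF : K ≤ F) (hpK : ¬ p ∣ Nat.card K)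
    (hKR : K ≤ Subgroup.normalizer (R : Set G))
    (hfree : ∀ x ∈ F, (orderOf x).Prime → orderOf x ∉ Cfsg.tau2 M →
      Cfsg.sigmaCore M ⊓ Subgroup.centralizer ({x} : Set G) = ⊥) :
    ∃ (e : ℕ) (z : G), z ∈ R ∧ K ≤ Subgroup.normalizer (Subgroup.zpowers z : Set G) ∧ orderOf z = p ^ (e + 1) ∧
      (∀ g ∈ R, g ^ p ^ (e + 1) = 1) ∧
      ∀ w ∈ Subgroup.zpowers z, orderOf w = p → Cfsg.sigmaCore M ⊓ Subgroup.centralizer ({w} : Set G) = ⊥ := by
  have hRM := compl_sylow hE h.notσ hR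
  have hAR := h.le_sylow_compl hG hE hAE hR
  have hRc := h.sylow_abelian hG hRM hAR
  have hR1 := sylow_eq_abelian_ne_bot h hAR
  obtain ⟨e, x, hx, hexp, hxo⟩ := exists_max_order hR.isPGroup hRc hR1
  have hωA : ∀ g ∈ R, g ^ p ^ e ∈ A := fun g hg => h.omega_sylow hG hRM hAR (pow_mem hg _)
    (by rw [← pow_mul, ← pow_succ, hexp g hg])
  obtain ⟨x', hx', hy', hKy, hgood⟩ : ∃ x' ∈ R, orderOf (x' ^ p ^ e) = p ∧
      K ≤ Subgroup.normalizer (Subgroup.zpowers (x' ^ p ^ e) : Set G) ∧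
      Cfsg.sigmaCore M ⊓ Subgroup.centralizer ({x' ^ p ^ e} : Set G) = ⊥ := by
    by_cases himg : ∀ g ∈ R, g ^ p ^ e ∈ Subgroup.zpowers (x ^ p ^ e)
    · have hn : Subgroup.normalizer (R : Set G) ≤ Subgroup.normalizer (Subgroup.zpowers (x ^ p ^ e) : Set G) :=
        fun g hg => mem_normalizer_of_conj_mem fun a ha => by
          obtain ⟨i, rfl⟩ := ha
          dsimp only
          rw [← conj_zpow, ← conj_pow]
          exact zpow_mem (himg _ ((Subgroup.mem_normalizer_iff.mp hg x).mp hx)) i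
      refine ⟨x, hx, hxo, hKR.trans hn, ?_⟩
      by_contra hbad
      rw [← inf_centralizer_zpowers] at hbad
      exact h.notσ (mem_sigma_of_normalizer_le hRM hR1 (hn.trans (h.normalizer_le_of_bad hG
        (Subgroup.zpowers_le.mpr (hωA x hx)) (by rw [Nat.card_zpowers, hxo]) hbad)))
    · push Not at himg
      obtain ⟨g, hg, hgx⟩ := himg
      obtain ⟨X, hXA, hX, hFX, hgood⟩ := h.exists_good_line hG hE hAE hab hFE hfree
      have hYA : Subgroup.zpowers (x ^ p ^ e) ≤ A := Subgroup.zpowers_le.mpr (hωA x hx)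
      have hgA := hωA g hg
      have hg1 : g ^ p ^ e ≠ 1 := fun e' => hgx (e' ▸ one_mem _)
      have hsup := sup_eq_of_lines (p := p) h.card hYA (Subgroup.zpowers_le.mpr hgA) (by rw [Nat.card_zpowers, hxo])
        (card_zpowers_of_ea h.ea hgA hg1) (fun e' => hgx (e' ▸ Subgroup.mem_zpowers _))
      obtain ⟨a, ha, ha1, hXa⟩ := exists_ne_one_of_card hX
      have hnn : Subgroup.zpowers (g ^ p ^ e) ≤ Subgroup.normalizer (Subgroup.zpowers (x ^ p ^ e) : Set G) :=
        Subgroup.zpowers_le.mpr (Subgroup.centralizer_le_normalizer _ (Subgroup.mem_centralizer_iff.mpr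
          fun v hv => (ea_commute h.ea (hYA hv) hgA).eq))
      obtain ⟨u, ⟨i, rfl⟩, v, ⟨j, rfl⟩, huv⟩ := (Basics.mem_sup_of_le_normalizer hnn).mp (hsup.symm ▸ hXA ha)
      have hpow : (x ^ i * g ^ j) ^ p ^ e = a := by
        have hc : Commute x g := congrArg Subtype.val (hRc.is_comm.comm ⟨x, hx⟩ ⟨g, hg⟩)
        rw [(hc.zpow_zpow i j).mul_pow, huv]
        simp only [← zpow_natCast, ← zpow_mul, mul_comm]
      refine ⟨x ^ i * g ^ j, mul_mem (zpow_mem hx i) (zpow_mem hg j), ?_, ?_, ?_⟩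
      · rw [hpow]; exact orderOf_eq_prime (h.ea.2 a (hXA ha)) ha1
      · rw [hpow, hXa]; exact hKF.trans hFX
      · rw [hpow, ← inf_centralizer_zpowers, hXa]; exact hgood
  obtain ⟨z, hz, hKz, hzo, hzy⟩ := exists_invariant_lift hRc hexp hKR hpK hx' hy' hKy
  refine ⟨e, z, hz, hKz, hzo, hexp, fun w hw hwo => ?_⟩
  rw [← inf_centralizer_zpowers, zpowers_eq_of_root hzo hzy hy' hw hwo, inf_centralizer_zpowers]
  exact hgood

/-- A free invariant cyclic subgroup of maximal order: nonabelian case. -/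
theorem exists_free_root_nonAb (h : Exc p M A A₀) (hG : IsMinSimpleOddOrder G)
    (hE : IsComplIn E (Cfsg.sigmaCore M) M) (hAE : A ≤ E)
    (hna : ∀ S : Sylow p G, ¬ IsMulCommutative (S : Subgroup G))
    {R K : Subgroup G} (hR : IsSylowIn p E R) (hKE : K ≤ E) (hpK : ¬ p ∣ Nat.card K)
    (hKR : K ≤ Subgroup.normalizer (R : Set G)) :
    ∃ (e : ℕ) (z : G), z ∈ R ∧ K ≤ Subgroup.normalizer (Subgroup.zpowers z : Set G) ∧ orderOf z = p ^ (e + 1) ∧
      (∀ g ∈ R, g ^ p ^ (e + 1) = 1) ∧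
      ∀ w ∈ Subgroup.zpowers z, orderOf w = p → Cfsg.sigmaCore M ⊓ Subgroup.centralizer ({w} : Set G) = ⊥ := by
  have hRM := compl_sylow hE h.notσ hR
  have hAR := h.le_sylow_compl hG hE hAE hR
  have hRc := h.sylow_abelian hG hRM hAR
  have hR1 := sylow_eq_abelian_ne_bot h hAR
  obtain ⟨e, x, hx, hexp, hxo⟩ := exists_max_order hR.isPGroup hRc hR1
  have hωA : ∀ g ∈ R, g ^ p ^ e ∈ A := fun g hg => h.omega_sylow hG hRM hAR (pow_mem hg _)
    (by rw [← pow_mul, ← pow_succ, hexp g hg])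
  have hEA₀ : E ≤ Subgroup.normalizer (A₀ : Set G) := by
    obtain ⟨T, P, Z, n, hd⟩ := h.nonAb_data hG hna
    rw [← hd.2.2.2.2.2.2.2.2.2.2.2.2.2]
    exact (le_inf (h.compl_le_normalizer hG hE hAE) (le_normalizer_centralizer
      (hE.1.trans (le_normalizer_sigmaCore M)))).trans le_normalizer_inf'
  obtain ⟨a, haA₀, ha1, hA₀a⟩ := exists_ne_one_of_card h.line_card
  obtain ⟨x', hx', hy', hKy, hne⟩ : ∃ x' ∈ R, orderOf (x' ^ p ^ e) = p ∧
      K ≤ Subgroup.normalizer (Subgroup.zpowers (x' ^ p ^ e) : Set G) ∧ Subgroup.zpowers (x' ^ p ^ e) ≠ A₀ := by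
    rcases Nat.eq_zero_or_pos e with rfl | he
    · -- `R` is elementary abelian
      obtain ⟨Y, hYA, hY, hYne, -⟩ := h.exists_fpf_line_ne hG A₀
      set N := Subgroup.normalizer (A : Set G) ⊓ Subgroup.normalizer (A₀ : Set G) with hN
      have hAN : A ≤ N := le_inf Subgroup.le_normalizer fun u hu => Subgroup.centralizer_le_normalizer _
        (Subgroup.mem_centralizer_iff.mpr fun v hv => (ea_commute h.ea (h.line_le hv) hu).eq)
      haveI : (A.subgroupOf N).Normal := (Subgroup.normal_subgroupOf_iff_le_normalizer hAN).mpr inf_le_left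
      haveI : (A₀.subgroupOf N).Normal :=
        (Subgroup.normal_subgroupOf_iff_le_normalizer (h.line_le.trans hAN)).mpr inf_le_right
      have hKN : K ≤ N := le_inf (hKE.trans (h.compl_le_normalizer hG hE hAE)) (hKE.trans hEA₀)
      obtain ⟨W, hWA, hWd, hWs, hWn⟩ := LocalEvenA.exists_invariant_complement (A.subgroupOf N) (A₀.subgroupOf N)
        (Y.subgroupOf N) (K.subgroupOf N) (fun v hv => h.line_le hv)
        (fun u hu v hv => Subtype.ext (ea_commute h.ea (h.line_le hu) (h.line_le hv)).eq) (fun v hv => hYA hv)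
        (by
          rw [eq_bot_iff]
          rintro ⟨v, hvN⟩ ⟨hvY, hv0⟩
          rw [Subgroup.mem_bot, ← Subtype.coe_inj]
          change v = 1
          by_contra hv1
          replace hvY : v ∈ Y := hvY
          replace hv0 : v ∈ A₀ := hv0
          refine hYne (((Subgroup.eq_of_le_of_card_ge (Subgroup.zpowers_le.mpr (hvY : v ∈ Y)) ?_)).symm.trans
            (Subgroup.eq_of_le_of_card_ge (Subgroup.zpowers_le.mpr (hv0 : v ∈ A₀)) ?_))
          · rw [hY, card_zpowers_of_ea h.ea (hYA hvY) hv1]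
          · rw [h.line_card, card_zpowers_of_ea h.ea (hYA hvY) hv1])
        (by rw [← Subgroup.subgroupOf_sup (h.line_le.trans hAN) (hYA.trans hAN),
          sup_eq_of_lines h.card h.line_le hYA h.line_card hY (Ne.symm hYne)])
        (by rw [Basics.card_subgroupOf (h.line_le.trans hAN), Basics.card_subgroupOf hKN, h.line_card]
            exact hp.out.coprime_iff_not_dvd.mpr hpK)
      set X := W.map N.subtype with hX
      have hXA : X ≤ A := by
        rintro _ ⟨v, hv, rfl⟩
        exact hWA hv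
      have hXd : ∀ v, v ∈ X → v ∈ A₀ → v = 1 := by
        rintro _ ⟨v, hv, rfl⟩ hv0
        have h0 : v ∈ W ⊓ A₀.subgroupOf N := ⟨hv, hv0⟩
        rw [hWd, Subgroup.mem_bot] at h0
        simp [h0]
      have hXne : X ≠ ⊥ := fun e' => by
        have hW : W = ⊥ := (Subgroup.map_eq_bot_iff_of_injective _ N.subtype_injective).mp e'
        rw [hW, sup_bot_eq] at hWs
        have h1 := congrArg (fun S : Subgroup N => Nat.card S) hWs
        simp only [Basics.card_subgroupOf (h.line_le.trans hAN), Basics.card_subgroupOf hAN, h.line_card, h.card] at h1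
        nlinarith [hp.out.two_le]
      obtain ⟨v, hvX, hv1⟩ := (Subgroup.bot_or_exists_ne_one X).resolve_left hXne
      have hvX' : Subgroup.zpowers v = X := by
        obtain ⟨i, hi, hXi⟩ := (Nat.dvd_prime_pow hp.out).mp (h.card ▸ Subgroup.card_dvd_of_le hXA)
        refine Subgroup.eq_of_le_of_card_ge (Subgroup.zpowers_le.mpr hvX) ?_
        rw [card_zpowers_of_ea h.ea (hXA hvX) hv1, hXi]
        have hXnA : X ≠ A := fun e' => ha1 (hXd a (e' ▸ h.line_le haA₀) haA₀)
        interval_cases i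
        · simpa using hp.out.one_le
        · simp
        · exact absurd (Subgroup.eq_of_le_of_card_ge hXA (by rw [hXi, h.card])) hXnA
      refine ⟨v, hAR (hXA hvX), ?_, ?_, ?_⟩
      · rw [pow_zero, pow_one]; exact orderOf_eq_prime (h.ea.2 v (hXA hvX)) hv1
      · rw [pow_zero, pow_one, hvX']
        intro k hk
        refine mem_normalizer_of_conj_mem ?_
        rintro _ ⟨u, hu, rfl⟩
        exact ⟨⟨k, hKN hk⟩ * u * (⟨k, hKN hk⟩ : N)⁻¹,
          (Subgroup.mem_normalizer_iff.mp (hWn (hk : (⟨k, hKN hk⟩ : N) ∈ K.subgroupOf N)) u).mp hu, rfl⟩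
      · rw [pow_zero, pow_one, hvX']
        exact fun e' => hv1 (hXd v hvX (e' ▸ hvX))
    · -- the line of `p ^ e`-th powers
      have hnot : ∀ g ∈ R, g ^ p ^ e ∈ A₀ → g ^ p ^ e = 1 := by
        intro g hg hga
        obtain ⟨T, hT⟩ := hR.isPGroup.exists_le_sylow
        have hnc : ¬ (T : Subgroup G) ≤ Subgroup.centralizer ({a} : Set G) := fun hle => hna T <| by
          have hTM : (T : Subgroup G) ≤ M := by
            refine hle.trans (le_trans (fun u hu => ?_) h.line_norm)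
            rw [← Subgroup.centralizer_closure, ← Subgroup.zpowers_eq_closure, hA₀a] at hu
            exact Subgroup.centralizer_le_normalizer _ hu
          rw [hRM.eq_of_le T.2 hTM hT]
          exact hRc
        have hroot := pow_eq_one_of_root hG T (hna T) (hAR.trans hT) h.ea h.card (fun w hw hwp => by
            have hwG : IsPGroup p (Subgroup.zpowers w) := isPGroup_of_exponent fun u hu => by
              obtain ⟨i, rfl⟩ := hu
              rw [← zpow_natCast, ← zpow_mul, mul_comm, zpow_mul, zpow_natCast, hwp, one_zpow]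
            have hAw : IsPGroup p (A ⊔ Subgroup.zpowers w : Subgroup G) := IsPGroup.to_sup_of_normal_left'
              h.isPGroup hwG (Subgroup.zpowers_le.mpr (Subgroup.centralizer_le_normalizer _ hw))
            obtain ⟨P, hP, hle⟩ := exists_sylowIn_ge hAw
              (sup_le h.le (Subgroup.zpowers_le.mpr (h.centralizer_le hw)))
            exact h.omega_sylow hG hP (le_sup_left.trans hle)
              (hle (Subgroup.mem_sup_right (Subgroup.mem_zpowers w))) hwp)
          (h.line_le haA₀) hnc (hT (pow_mem hg (p ^ (e - 1))))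
          (congrArg Subtype.val (hRc.is_comm.comm ⟨_, pow_mem hg (p ^ (e - 1))⟩ ⟨a, hAR (h.line_le haA₀)⟩))
          (by rw [hA₀a, ← pow_mul, ← pow_succ, Nat.sub_add_cancel he]; exact hga)
        rwa [← pow_mul, ← pow_succ, Nat.sub_add_cancel he] at hroot
      have hy1 : x ^ p ^ e ≠ 1 := fun e' => by rw [e', orderOf_one] at hxo; exact hp.out.one_lt.ne hxo
      have hne : Subgroup.zpowers (x ^ p ^ e) ≠ A₀ := fun e' =>
        hy1 (hnot x hx (e' ▸ Subgroup.mem_zpowers _))
      have himg : ∀ g ∈ R, g ^ p ^ e ∈ Subgroup.zpowers (x ^ p ^ e) := by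
        intro g hg
        by_contra hgx
        have hgA := hωA g hg
        have hg1 : g ^ p ^ e ≠ 1 := fun e' => hgx (e' ▸ one_mem _)
        have hYA : Subgroup.zpowers (x ^ p ^ e) ≤ A := Subgroup.zpowers_le.mpr (hωA x hx)
        have hsup := sup_eq_of_lines (p := p) h.card hYA (Subgroup.zpowers_le.mpr hgA)
          (by rw [Nat.card_zpowers, hxo]) (card_zpowers_of_ea h.ea hgA hg1)
          (fun e' => hgx (e' ▸ Subgroup.mem_zpowers _))
        have hnn : Subgroup.zpowers (g ^ p ^ e) ≤ Subgroup.normalizer (Subgroup.zpowers (x ^ p ^ e) : Set G) :=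
          Subgroup.zpowers_le.mpr (Subgroup.centralizer_le_normalizer _ (Subgroup.mem_centralizer_iff.mpr
            fun v hv => (ea_commute h.ea (hYA hv) hgA).eq))
        obtain ⟨u, ⟨i, rfl⟩, v, ⟨j, rfl⟩, huv⟩ :=
          (Basics.mem_sup_of_le_normalizer hnn).mp (hsup.symm ▸ h.line_le haA₀)
        have hpow : (x ^ i * g ^ j) ^ p ^ e = a := by
          have hc : Commute x g := congrArg Subtype.val (hRc.is_comm.comm ⟨x, hx⟩ ⟨g, hg⟩)
          rw [(hc.zpow_zpow i j).mul_pow, huv]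
          simp only [← zpow_natCast, ← zpow_mul, mul_comm]
        have h1 := hnot _ (mul_mem (zpow_mem hx i) (zpow_mem hg j)) (hpow ▸ haA₀)
        exact ha1 (hpow ▸ h1)
      refine ⟨x, hx, hxo, fun k hk => mem_normalizer_of_conj_mem fun u hu => ?_, hne⟩
      obtain ⟨i, rfl⟩ := hu
      dsimp only
      rw [← conj_zpow, ← conj_pow]
      exact zpow_mem (himg _ ((Subgroup.mem_normalizer_iff.mp (hKR hk) x).mp hx)) i
  obtain ⟨z, hz, hKz, hzo, hzy⟩ := exists_invariant_lift hRc hexp hKR hpK hx' hy' hKy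
  refine ⟨e, z, hz, hKz, hzo, hexp, fun w hw hwo => ?_⟩
  rw [← inf_centralizer_zpowers, zpowers_eq_of_root hzo hzy hy' hw hwo]
  exact (h.nonAb_line hG hna (Subgroup.zpowers_le.mpr (hωA x' hx')) (by rw [Nat.card_zpowers, hy']) hne).1

end Exc

end Cfsg.Agent.OddLocal
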