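import Cfsg.Agent.Lib.OddLocal.KappaTypes
import Cfsg.Agent.S1357

/-! Type `I` and conjugation of standard factorisations. -/

set_option autoImplicit false
set_option linter.unusedSectionVars false
set_option linter.style.haveILetI false

namespace Cfsg.Agent.OddLocal

open scoped commutatorElement Pointwise
open Cfsg
open Basics (IsSylowIn)

universe u

variable {G : Type u} [Group G] [Finite G]

/-- Type `I` has `κ(M) = ∅` and `M_F = M_σ`. -/
theorem typeI_kappa (hG : IsMinSimpleOddOrder G) {M K U : Subgroup G} (hM : IsCoatom M)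
    (hKU : IsSigmaDecomposition M K U) (h : Cfsg.IsOfTypeI M) :
    K = ⊥ ∧ U ≠ ⊥ ∧ Cfsg.fittingHallOf M = Cfsg.sigmaCore M := by
  obtain ⟨⟨-, -, -, hH1, V, -, hVc, -, U₀, -, hexp, hfree⟩, -⟩ := h
  have hK : K = ⊥ := by
    by_contra hK1
    obtain ⟨r, hr, hrd⟩ := Nat.exists_prime_and_dvd fun e => hK1 (Subgroup.card_eq_one.mp e)
    haveI := Fact.mk hr
    have hrk := hKU.hall.2.1 r hr hrd
    have hrV : r ∣ Nat.card V := by
      have h1 : r ∣ Nat.card (Cfsg.fittingHall M) * Nat.card V := hVc.card_mul.symm ▸ hrk.2.1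
      refine (hr.dvd_mul.mp h1).resolve_left fun h2 => hrk.2.2.1 (piCoreOf_primes _ M hr ?_)
      refine h2.trans ?_
      rw [← Subgroup.card_map_of_injective M.subtype_injective]
      exact Subgroup.card_dvd_of_le (fittingHallOf_le_sigmaCore hG hM)
    obtain ⟨v, hv⟩ := exists_prime_orderOf_dvd_card' r hrV
    have hr0 : r ∣ Nat.card U₀ := by
      refine dvd_trans ?_ Group.exponent_dvd_nat_card
      rw [hexp, ← hv]
      exact Monoid.order_dvd_exponent v
    obtain ⟨u₀, hu₀⟩ := exists_prime_orderOf_dvd_card' r hr0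
    rw [← Subgroup.orderOf_coe, ← Subgroup.orderOf_coe] at hu₀
    set u : G := ((u₀ : M) : G) with hu
    have hu1 : u ≠ 1 := fun e => hr.one_lt.ne (by rw [← hu₀, e, orderOf_one])
    obtain ⟨m, hm, hmK⟩ := exists_conj_le_kappa hG hM hKU.hall (Subgroup.zpowers_le.mpr (u₀ : M).2) fun q hq hd => by
      rw [Nat.card_zpowers, hu₀] at hd
      rwa [(Nat.prime_dvd_prime_iff_eq hq hr).mp hd]
    have hk : m * u * m⁻¹ ∈ K := hmK (Basics.conj_mem_conj_smul (Subgroup.mem_zpowers u))
    obtain ⟨y, hy, hy1⟩ := (Subgroup.bot_or_exists_ne_one _).resolve_left (kappa_fixed_ne_bot hG hM hKU.hall hK1)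
    obtain ⟨-, -, hAF, -⟩ := S1364.result hG M hM K U hKU hK1
    obtain ⟨z, hz, hze⟩ := (Subgroup.mem_normalizer_iff.mp (le_normalizer_fittingHallOf M (inv_mem hm)) y).mp (hAF hy)
    have hne : (u₀ : M) ≠ 1 := fun e => hu1 (by rw [hu, e, Subgroup.coe_one])
    have hcom : (u₀ : M) * z = z * (u₀ : M) := Subtype.ext (by
      change u * (z : G) = (z : G) * u
      rw [show (z : G) = m⁻¹ * y * m⁻¹⁻¹ from hze]
      have h := Subgroup.mem_centralizer_iff.mp hy.2 _ hk
      calc u * (m⁻¹ * y * m⁻¹⁻¹) = m⁻¹ * ((m * u * m⁻¹) * y) * m := by group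
        _ = m⁻¹ * (y * (m * u * m⁻¹)) * m := by rw [h]
        _ = _ := by group)
    have hz1 := hfree _ u₀.2 hne z hz hcom
    rw [hz1] at hze
    exact hy1 (conj_eq_one_iff.mp hze.symm)
  have hH : Cfsg.fittingHallOf M = Cfsg.sigmaCore M := by
    by_contra hne
    have := (S1357.result hG M hM K U hKU hne).2.2
    rw [hK, Subgroup.card_bot] at this
    exact Nat.not_prime_one this
  refine ⟨hK, fun hU => hH1 (top_le_iff.mp fun m _ => ?_), hH⟩
  obtain ⟨a, ha, b, hb, e⟩ := hKU.compl.2.2.2 m m.2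
  rw [hK, bot_sup_eq, ← hH] at hb
  rw [hU, Subgroup.mem_bot] at ha
  rw [ha, one_mul] at e
  obtain ⟨z, hz, hze⟩ := hb
  rwa [show m = z from Subtype.ext (e.trans hze.symm)]

/-- A conjugate of a standard factorisation is a standard factorisation. -/
theorem decomp_conj {M K U : Subgroup G} (h : IsSigmaDecomposition M K U) {m : G} (hm : m ∈ M) :
    IsSigmaDecomposition M (K.map (MulAut.conj m).toMonoidHom) (U.map (MulAut.conj m).toMonoidHom) := by
  have hMm : M.map (MulAut.conj m).toMonoidHom = M := map_conj_eq_self hm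
  have hWm : (Cfsg.sigmaCore M).map (MulAut.conj m).toMonoidHom = Cfsg.sigmaCore M :=
    Subgroup.mem_normalizer_iff_map_conj_eq.mp (le_normalizer_sigmaCore M hm)
  have hinj : Function.Injective (MulAut.conj m).toMonoidHom := (MulAut.conj m).injective
  refine ⟨(K.equivMapOfInjective _ hinj).isCyclic.mp h.cyclic,
    ⟨(Subgroup.map_mono h.hall.1).trans hMm.le, fun q hq hd => ?_, fun q hq hqk hd => ?_⟩, ?_,
    (Subgroup.map_mono le_rfl).trans ((Subgroup.map_mono h.normal).trans ?_)⟩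
  · rw [Subgroup.card_map_of_injective hinj] at hd
    exact h.hall.2.1 q hq hd
  · refine h.hall.2.2 q hq hqk ?_
    rwa [← hMm, Subgroup.relIndex_map_map_of_injective _ _ hinj] at hd
  · rw [show K.map (MulAut.conj m).toMonoidHom ⊔ Cfsg.sigmaCore M = (K ⊔ Cfsg.sigmaCore M).map
      (MulAut.conj m).toMonoidHom by rw [Subgroup.map_sup, hWm]]
    refine ⟨(Subgroup.map_mono h.compl.1).trans hMm.le, (Subgroup.map_mono h.compl.2.1).trans hMm.le, ?_,
      fun v hv => ?_⟩
    · rw [← Subgroup.map_inf _ _ _ hinj, h.compl.2.2.1, Subgroup.map_bot]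
    · rw [← hMm] at hv
      obtain ⟨w, hw, rfl⟩ := hv
      obtain ⟨a, ha, b, hb, rfl⟩ := h.compl.2.2.2 w hw
      exact ⟨_, Subgroup.mem_map_of_mem _ ha, _, Subgroup.mem_map_of_mem _ hb, map_mul _ _ _⟩
  · exact conj_le_normalizer_conj le_rfl m

end Cfsg.Agent.OddLocal
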