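import Cfsg.Agent.Lib.OddLocal.MaxP
import Cfsg.Agent.Lib.OddLocal.TransHyp
import Cfsg.Agent.Lib.Basics.CoprimeGen
import Cfsg.Agent.S1393
import Cfsg.Agent.S1395

/-! A noncyclic elementary abelian subgroup confining its invariant `p'`-subgroups to `M`. -/

set_option autoImplicit false
set_option maxHeartbeats 800000

namespace Cfsg.Agent.OddLocal

open scoped commutatorElement

variable {G : Type*} [Group G] [Finite G] {p : ℕ}

theorem primesNotDvd_iff [hp : Fact p.Prime] {Y : Subgroup G} :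
    (∀ r : ℕ, r.Prime → r ∣ Nat.card Y → r ∈ primesNotDvd p) ↔ ¬ p ∣ Nat.card Y :=
  ⟨fun h hd => (h p hp.out hd).2 dvd_rfl,
    fun h r hr hd => ⟨hr, fun hrp => h ((Nat.prime_dvd_prime_iff_eq hr hp.out).mp hrp ▸ hd)⟩⟩

/-- Invariant `p'`-subgroups of an SCN₃ subgroup lie in the `p'`-core over the Sylow subgroup. -/
theorem invariant_le_of_scn_three (hG : IsMinSimpleOddOrder G) [hp : Fact p.Prime] (P : Sylow p G)
    {A : Subgroup G} (hA : IsSCN (P : Subgroup G) A) (hA3 : ¬ PRankLE p 2 A) {K : Subgroup G}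
    (hK : ∀ Y : Subgroup G, ¬ p ∣ Nat.card Y → (P : Subgroup G) ≤ Subgroup.normalizer (Y : Set G) → Y ≤ K)
    {Y : Subgroup G} (hY : ¬ p ∣ Nat.card Y) (hAY : A ≤ Subgroup.normalizer (Y : Set G)) : Y ≤ K := by
  have hAp : IsPGroup p A := P.2.to_le hA.1
  have hAc := isMulCommutative_of_isSCN hA
  have hA1 : A ≠ ⊥ := by
    rintro rfl
    refine hA3 fun X hXc hX => ?_
    have : Subsingleton (⊥ : Subgroup G) := ⟨fun a b => Subtype.ext ((Subgroup.mem_bot.mp a.2).trans (Subgroup.mem_bot.mp b.2).symm)⟩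
    rw [Subsingleton.elim X ⊥, Subgroup.card_bot]
    exact Nat.one_le_pow _ _ hp.out.pos
  have hpG : p ∣ Nat.card G := by
    rcases hAp.card_eq_or_dvd with h | h
    · exact absurd (Subgroup.eq_bot_of_card_eq A h) hA1
    · exact h.trans A.card_subgroup_dvd_card
  have htr : TransitivityHypothesis A := transitivityHypothesis_of_omega hG hpG hAp hA1 hAc
    fun x hx hxo => mem_of_isSCN P hA hx (IsPGroup.of_card (n := 1) (by rw [pow_one, Nat.card_zpowers, hxo]))
  have hπ : primesNotDvd (Nat.card A) = primesNotDvd p := primesNotDvd_card_pGroup hAp hA1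
  have hAA : A ⊓ Subgroup.centralizer (A : Set G) = A :=
    inf_eq_left.mpr (Subgroup.le_centralizer_iff_isMulCommutative.mpr hAc)
  set D := piCoreOf (primesNotDvd (Nat.card A)) (Subgroup.centralizer (A : Set G)) with hD
  have hDK : D ≤ K := by
    refine hK D (primesNotDvd_iff.mp fun r hr hd => ?_) (hA.2.1.trans ?_)
    · exact hπ ▸ piCoreOf_primes _ _ hr hd
    refine le_trans (fun g hg => ?_) (normalizer_le_normalizer_piCoreOf _ _)
    rw [Subgroup.mem_normalizer_iff]
    intro n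
    have hgA := Subgroup.mem_normalizer_iff.mp hg
    rw [Subgroup.mem_centralizer_iff, Subgroup.mem_centralizer_iff]
    constructor
    · intro h b hb
      have := h _ ((hgA (g⁻¹ * b * g)).mpr (by simpa [mul_assoc] using hb))
      calc b * (g * n * g⁻¹) = g * (g⁻¹ * b * g * n) * g⁻¹ := by group
        _ = g * (n * (g⁻¹ * b * g)) * g⁻¹ := by rw [this]
        _ = g * n * g⁻¹ * b := by group
    · intro h b hb
      have := h _ ((hgA b).mp hb)
      calc b * n = g⁻¹ * (g * b * g⁻¹ * (g * n * g⁻¹)) * g := by group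
        _ = g⁻¹ * (g * n * g⁻¹ * (g * b * g⁻¹)) * g := by rw [this]
        _ = n * b := by group
  have hqK : ∀ q : ℕ, q.Prime → q ≠ p → ∀ S : Subgroup G, IsPGroup q S →
      A ≤ Subgroup.normalizer (S : Set G) → S ≤ K := by
    intro q hq hqp S hS hAS
    have : Fact q.Prime := ⟨hq⟩
    have hqA : ¬ q ∣ Nat.card A := by
      obtain ⟨n, hn⟩ := IsPGroup.iff_card.mp hAp
      exact fun h => hqp ((Nat.prime_dvd_prime_iff_eq hq hp.out).mp (hq.dvd_of_dvd_pow (hn ▸ h)))
    have hq' : q ∈ primesNotDvd p := ⟨hq, fun h => hqp ((Nat.prime_dvd_prime_iff_eq hq hp.out).mp h)⟩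
    have htrans := Cfsg.Agent.S1393.result hG A htr (by
      rw [hAA]; exact fun h => hA3 (h p hp.out)) q hq hqA
    have hsn : (A.subgroupOf (P : Subgroup G)).IsSubnormal :=
      ((Subgroup.normal_subgroupOf_iff_le_normalizer hA.1).mpr hA.2.1).isSubnormal
    obtain ⟨-, -, hsub, -⟩ := Cfsg.Agent.S1395.result hG A htr q hq hqA (P : Subgroup G)
      (pGroup_ne_top hG P.2) (fun r hr hd => by
        obtain ⟨n, hn⟩ := IsPGroup.iff_card.mp P.2
        obtain ⟨m, hm⟩ := IsPGroup.iff_card.mp hAp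
        have hm0 : m ≠ 0 := fun e => hA1 (Subgroup.eq_bot_of_card_eq A (by rw [hm, e, pow_zero]))
        rw [(Nat.prime_dvd_prime_iff_eq hr hp.out).mp (hr.dvd_of_dvd_pow (hn ▸ hd)), hm]
        exact dvd_pow_self p hm0) hA.1 hsn htrans
    obtain ⟨Q, hQ, -⟩ := exists_maxInv_ge (A := (P : Subgroup G)) (q := q) (Y := ⊥) IsPGroup.of_bot
      (by rw [Subgroup.normalizer_eq_top]; exact le_top)
    obtain ⟨hQq, hQP⟩ := mem_invSubgroups_singleton.mp hQ.1
    obtain ⟨R, hR, hSR⟩ := exists_maxInv_ge hS hAS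
    obtain ⟨k, hk, e⟩ := htrans Q (hsub hQ) R hR
    have hQK : Q ≤ K := hK Q (fun h => by
      obtain ⟨n, hn⟩ := IsPGroup.iff_card.mp hQq
      exact hqp ((Nat.prime_dvd_prime_iff_eq hp.out hq).mp (hp.out.dvd_of_dvd_pow (hn ▸ h))).symm) hQP
    refine hSR.trans ?_
    rw [e]
    rintro _ ⟨x, hx, rfl⟩
    exact K.mul_mem (K.mul_mem (hDK hk) (hQK hx)) (K.inv_mem (hDK hk))
  have hcop : (Nat.card A).Coprime (Nat.card Y) := by
    obtain ⟨n, hn⟩ := IsPGroup.iff_card.mp hAp
    rw [hn]; exact (hp.out.coprime_iff_not_dvd.mpr hY).pow_left n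
  have hle : Nat.card Y ∣ Nat.card ↥(Y ⊓ K) := by
    rw [← Nat.factorization_le_iff_dvd Nat.card_pos.ne' Nat.card_pos.ne']
    intro q
    by_cases hq : q.Prime
    swap; · simp [Nat.factorization_eq_zero_of_not_prime _ hq]
    by_cases hqY : q ∣ Nat.card Y
    swap; · simp [Nat.factorization_eq_zero_of_not_dvd hqY]
    have : Fact q.Prime := ⟨hq⟩
    have hqp : q ≠ p := fun e => hY (e ▸ hqY)
    obtain ⟨S, hS, hAS⟩ := Basics.exists_invariant_isSylowIn A Y hAY hcop
      (Or.inl (isSolvable_of_ne_top hG (ne_top_of_isMulCommutative hG hAc))) q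
    have h1 := Subgroup.card_dvd_of_le (le_inf hS.1 (hqK q hq hqp S hS.isPGroup hAS))
    rw [hS.2] at h1
    exact (hq.pow_dvd_iff_le_factorization Nat.card_pos.ne').mp h1
  have := Subgroup.eq_of_le_of_card_ge (inf_le_left : Y ⊓ K ≤ Y) (Nat.le_of_dvd Nat.card_pos hle)
  exact this.ge.trans inf_le_right

theorem inUniqueMaximal_of_noncyclic (hG : IsMinSimpleOddOrder G) {M : Subgroup G} (hM : IsCoatom M)
    [hp : Fact p.Prime] {B : Subgroup G} (hBM : B ≤ M) (hBe : IsElementaryAbelian p B) (hBnc : ¬ IsCyclic B)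
    (h : (∀ b ∈ B, b ≠ 1 → Subgroup.centralizer ({b} : Set G) ≤ M) ∨
      ∀ Y ∈ invSubgroups ⊤ B (primesNotDvd p), Y ≤ M) :
    InUniqueMaximal B := by
  have hBc := hBe.1
  have hBp : IsPGroup p B := isPGroup_of_exponent hBe.2
  have hB1 : B ≠ ⊥ := by rintro rfl; exact hBnc inferInstance
  have hpG : p ∣ Nat.card G := by
    rcases hBp.card_eq_or_dvd with e | e
    · exact absurd (Subgroup.eq_bot_of_card_eq B e) hB1
    · exact e.trans B.card_subgroup_dvd_card
  have hp2 : p ≠ 2 := prime_ne_two hG hpG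
  have hY : ∀ Y : Subgroup G, ¬ p ∣ Nat.card Y → B ≤ Subgroup.normalizer (Y : Set G) → Y ≤ M := by
    intro Y hYp hBY
    rcases h with h | h
    · have hcop : (Nat.card B).Coprime (Nat.card Y) := by
        obtain ⟨n, hn⟩ := IsPGroup.iff_card.mp hBp
        rw [hn]; exact (hp.out.coprime_iff_not_dvd.mpr hYp).pow_left n
      rw [← Basics.iSup_inf_centralizer_eq B Y hBnc hBY hcop]
      exact iSup₂_le fun b hb => inf_le_right.trans (h b hb.1 hb.2)
    · exact h Y ⟨le_top, primesNotDvd_iff.mpr hYp, hBY⟩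
  refine ⟨M, ⟨hM, hBM⟩, ?_⟩
  rintro H₀ ⟨hH₀, hBH₀⟩
  by_contra hne
  -- a maximal `p`-subgroup of `M` lying in some other maximal subgroup
  obtain ⟨R, -, ⟨hRp, hBR, hRM, H, hH, hHM, hRH⟩, hmax⟩ := Finite.exists_le_maximal
    (p := fun R : Subgroup G => IsPGroup p R ∧ B ≤ R ∧ R ≤ M ∧ ∃ H : Subgroup G, IsCoatom H ∧ H ≠ M ∧ R ≤ H)
    (a := B) ⟨hBp, le_rfl, hBM, H₀, hH₀, hne, hBH₀⟩
  have hmax' : ∀ Q : Subgroup G, IsPGroup p Q → R < Q → Q ≤ M →
      ∀ L : Subgroup G, IsCoatom L → Q ≤ L → L = M := by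
    intro Q hQ hlt hQM L hL hQL
    by_contra hLM
    exact not_le_of_gt hlt (hmax ⟨hQ, hBR.trans hlt.le, hQM, L, hL, hLM, hQL⟩ hlt.le)
  have hR1 : R ≠ ⊥ := fun e => hB1 (le_bot_iff.mp (e ▸ hBR))
  set Z := zPuig R with hZdef
  have hZ1 : Z ≠ ⊥ := zPuig_ne_bot hRp hR1
  have hNZ : Subgroup.normalizer (Z : Set G) ≠ ⊤ :=
    normalizer_ne_top hG hZ1 (pGroup_ne_top hG (hRp.to_le (zPuig_le R)))
  have hNRZ : Subgroup.normalizer (R : Set G) ≤ Subgroup.normalizer (Z : Set G) := normalizer_le_normalizer_zPuig R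
  obtain ⟨L, hL, hNL⟩ := exists_maximal_ge hNZ
  have hsolM := isSolvable_of_ne_top hG hM.1
  have hsolH := isSolvable_of_ne_top hG hH.1
  have hHnot : ¬ H ≤ M := fun hle => by
    rcases lt_or_eq_of_le hle with h1 | h1
    · exact hM.1 (hH.2 M h1)
    · exact hHM h1
  have hKH : pPrimeCoreIn p H ≤ M := hY _ (not_dvd_card_pPrimeCoreIn H)
    ((hBR.trans hRH).trans (le_normalizer_pPrimeCoreIn H))
  have hMax_H : Subgroup.normalizer (R : Set G) ≤ M → IsMaxPIn p R H := by
    intro hN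
    refine ⟨hRp, hRH, fun Q hQ hRQ hQH => ?_⟩
    by_contra hne'
    have hlt := lt_inf_normalizer_of_lt (q := p) hQ (lt_of_le_of_ne hRQ (Ne.symm hne'))
    exact hHM (hmax' _ (hQ.to_le inf_le_left) hlt (inf_le_right.trans hN) H hH (inf_le_left.trans hQH))
  -- `R` is a Sylow subgroup of `M`
  have hMaxM : IsMaxPIn p R M := by
    refine ⟨hRp, hRM, fun Q hQ hRQ hQM => ?_⟩
    by_contra hne'
    have hlt := lt_inf_normalizer_of_lt (q := p) hQ (lt_of_le_of_ne hRQ (Ne.symm hne'))
    have hLM : L = M := hmax' _ (hQ.to_le inf_le_left) hlt (inf_le_left.trans hQM) L hL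
      ((inf_le_right.trans hNRZ).trans hNL)
    rw [hLM] at hNL
    refine hHnot ((hMax_H (hNRZ.trans hNL)).le_core_sup_normalizer_zPuig hp2 hsolH (odd_card_subgroup hG H) |>.trans ?_)
    exact sup_le hKH (inf_le_right.trans hNL)
  set K := pPrimeCoreIn p M with hK
  have hRinv : ∀ Y : Subgroup G, ¬ p ∣ Nat.card Y → R ≤ Subgroup.normalizer (Y : Set G) → Y ≤ K :=
    fun Y hYp hRY => hMaxM.invariant_le hp2 hsolM (hY Y hYp (hBR.trans hRY)) hYp hRY
  by_cases hK1 : K = ⊥
  · have hle := hMaxM.le_core_sup_normalizer_zPuig hp2 hsolM (odd_card_subgroup hG M)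
    rw [← hK, hK1, bot_sup_eq] at hle
    have hMN : Subgroup.normalizer (Z : Set G) = M := by
      rcases lt_or_eq_of_le (hle.trans inf_le_right) with h1 | h1
      · exact absurd (hM.2 _ h1) hNZ
      · exact h1.symm
    refine hHnot ((hMax_H (hNRZ.trans hMN.le)).le_core_sup_normalizer_zPuig hp2 hsolH (odd_card_subgroup hG H)
      |>.trans ?_)
    exact sup_le hKH (inf_le_right.trans hMN.le)
  have hNK : Subgroup.normalizer (K : Set G) = M := by
    rcases lt_or_eq_of_le (le_normalizer_pPrimeCoreIn (p := p) M) with h1 | h1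
    · exact absurd (hM.2 _ h1) (normalizer_ne_top hG hK1
        fun e => hM.1 (top_le_iff.mp (e ▸ pPrimeCoreIn_le p M)))
    · exact h1.symm
  have hnorm : ∀ (S : Subgroup G), (∀ Y : Subgroup G, ¬ p ∣ Nat.card Y → S ≤ Subgroup.normalizer (Y : Set G) → Y ≤ K) →
      S ≤ R → Subgroup.normalizer (S : Set G) ≤ M := by
    intro S hS hSR g hg
    rw [← hNK]
    have hgS : S.map (MulAut.conj g).toMonoidHom = S := Subgroup.mem_normalizer_iff_map_conj_eq.mp hg
    have hcard : Nat.card (K.map (MulAut.conj g).toMonoidHom) = Nat.card K :=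
      Subgroup.card_map_of_injective (MulEquiv.injective _)
    have hle : K.map (MulAut.conj g).toMonoidHom ≤ K := by
      refine hS _ (hcard ▸ not_dvd_card_pPrimeCoreIn M) ?_
      exact (hgS.ge.trans (Subgroup.map_mono (((hSR.trans hRM)).trans (le_normalizer_pPrimeCoreIn M)))).trans
        (Subgroup.le_normalizer_map _)
    rw [Subgroup.mem_normalizer_iff_map_conj_eq]
    exact Subgroup.eq_of_le_of_card_ge hle hcard.ge
  have hNR : Subgroup.normalizer (R : Set G) ≤ M := hnorm R hRinv le_rfl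
  have hMaxH := hMax_H hNR
  let P : Sylow p G :=
    { toSubgroup := R
      isPGroup' := hRp
      is_maximal' := fun {Q} hQ hRQ => by
        by_contra hne'
        have hlt := lt_inf_normalizer_of_lt (q := p) hQ (lt_of_le_of_ne hRQ (Ne.symm hne'))
        exact hlt.ne' (hMaxM.2.2 _ (hQ.to_le inf_le_left) hlt.le (inf_le_right.trans hNR)) }
  set O := (Cfsg.pPrimePCore p H).map H.subtype with hO
  refine hHnot (hMaxH.le_core_sup_normalizer_inf.trans (sup_le hKH (inf_le_right.trans ?_)))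
  by_cases hrank : ∀ X : Subgroup G, X ≤ R → IsElementaryAbelian p X → Nat.card X ≤ p ^ 2
  · -- rank two: `R ≤ O_{p',p}(H)`
    suffices hRO : R ≤ O by rw [inf_eq_left.mpr hRO]; exact hNR
    set KH := Cfsg.pPrimeCore p H
    set π := QuotientGroup.mk' KH
    let S := hMaxH.toSylow.mapSurjective (f := π) (QuotientGroup.mk'_surjective KH)
    have hcop : Disjoint (R.subgroupOf H) KH := by
      refine Subgroup.disjoint_of_coprime_natCard ?_
      obtain ⟨n, hn⟩ := IsPGroup.iff_card.mp (hRp.comap_subtype (K := H))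
      change (Nat.card (R.subgroupOf H)).Coprime _
      rw [show Nat.card (R.subgroupOf H) = p ^ n from hn]
      exact ((Basics.pPrimeCore_coprime (G := H) p).symm).pow_left n
    have hS := sylow_normal_of_rank_two (G := H ⧸ KH) (Odd.of_dvd_nat (odd_card_subgroup hG H)
      (Subgroup.card_quotient_dvd_card _)) hp2 (Basics.pPrimeCore_quotient_eq_bot p) S (by
      intro X hX hXe
      set X' := X.comap π ⊓ R.subgroupOf H
      have hinj : ∀ a ∈ R.subgroupOf H, π a = 1 → a = 1 := fun a ha h1 =>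
        Subgroup.disjoint_def.mp hcop ha ((QuotientGroup.eq_one_iff a).mp h1)
      have hX'map : X'.map π = X := by
        refine le_antisymm (Subgroup.map_le_iff_le_comap.mpr inf_le_left) fun x hx => ?_
        obtain ⟨r, hr, e⟩ := hX hx
        exact ⟨r, ⟨Subgroup.mem_comap.mpr (e.symm ▸ hx), hr⟩, e⟩
      have hX'e : IsElementaryAbelian p X' := by
        refine ⟨⟨⟨fun a b => Subtype.ext ?_⟩⟩, fun a ha => hinj _ (pow_mem ha.2 _) ?_⟩
        · have hc : ⁅(a : H), (b : H)⁆ ∈ R.subgroupOf H := by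
            rw [commutatorElement_def]
            exact mul_mem (mul_mem (mul_mem a.2.2 b.2.2) (inv_mem a.2.2)) (inv_mem b.2.2)
          refine commutatorElement_eq_one_iff_mul_comm.mp (hinj _ hc ?_)
          rw [map_commutatorElement, commutatorElement_eq_one_iff_mul_comm]
          exact (ea_commute hXe a.2.1 b.2.1).eq
        · rw [map_pow]; exact hXe.2 _ ha.1
      rw [← hX'map]
      refine (Nat.le_of_dvd Nat.card_pos (Subgroup.card_map_dvd _ _)).trans ?_
      rw [← Subgroup.card_map_of_injective H.subtype_injective]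
      refine hrank _ ((Subgroup.map_mono inf_le_right).trans ((Subgroup.map_subgroupOf_eq_of_le hRH).le)) ⟨?_, ?_⟩
      · exact isMulCommutative_map hX'e.1 _
      · rintro _ ⟨a, ha, rfl⟩
        rw [← map_pow, hX'e.2 a ha, map_one])
    intro x hx
    refine ⟨⟨x, hRH hx⟩, ?_, rfl⟩
    change π ⟨x, hRH hx⟩ ∈ Cfsg.pCore p _
    rw [← hS]
    exact ⟨_, hx, rfl⟩
  · push Not at hrank
    obtain ⟨X, hXR, hXe, hX3⟩ := hrank
    have hX'e : IsElementaryAbelian p (X.subgroupOf R) :=
      ⟨⟨⟨fun a b => Subtype.ext (Subtype.ext (ea_commute hXe a.2 b.2).eq)⟩⟩, fun a ha => Subtype.ext (hXe.2 _ ha)⟩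
    obtain ⟨E, hEn, hEe, hE3⟩ := exists_normal_ea_three hp2 hRp hX'e
      (by rw [Basics.card_subgroupOf hXR]; exact hX3)
    obtain ⟨A', hEA, hA'n, hA'c, hA'C⟩ := exists_scn_ge hRp hEe.1
    set A := A'.map R.subtype with hAdef
    have hAR : A ≤ R := Subgroup.map_subtype_le _
    have hRA : R ≤ Subgroup.normalizer (A : Set G) := by
      have h1 := Subgroup.le_normalizer_map (H := A') R.subtype
      rwa [Subgroup.normalizer_eq_top, ← MonoidHom.range_eq_map, Subgroup.range_subtype] at h1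
    have hSCN : IsSCN (P : Subgroup G) A := by
      refine ⟨hAR, hRA, le_antisymm ?_ (le_inf hAR ?_)⟩
      · rintro x ⟨hxR, hxC⟩
        refine ⟨⟨x, hxR⟩, ?_, rfl⟩
        rw [SetLike.mem_coe, ← hA'C, Subgroup.mem_centralizer_iff]
        exact fun a ha => Subtype.ext (Subgroup.mem_centralizer_iff.mp hxC _ ⟨a, ha, rfl⟩)
      · exact Subgroup.le_centralizer_iff_isMulCommutative.mpr (isMulCommutative_map hA'c _)
    have hA3 : ¬ PRankLE p 2 A := by
      intro hle
      have hEA' : E.map R.subtype ≤ A := Subgroup.map_mono hEA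
      have h1 := hle ((E.map R.subtype).subgroupOf A) ⟨⟨fun a b => Subtype.ext (Subtype.ext ?_)⟩⟩ ?_
      · rw [Basics.card_subgroupOf hEA', Subgroup.card_map_of_injective R.subtype_injective] at h1
        exact absurd h1 (not_le.mpr hE3)
      · exact (ea_commute (p := p) ⟨isMulCommutative_map hEe.1 R.subtype, by
          rintro _ ⟨e, he, rfl⟩; rw [← map_pow, hEe.2 e he, map_one]⟩ a.2 b.2).eq
      · rintro ⟨a, ha⟩ ⟨e, he, hea⟩
        refine Subtype.ext ?_
        change a ^ p = 1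
        have hea' : (e : G) = a := hea
        rw [← hea', ← Subgroup.coe_pow, hEe.2 e he]; rfl
    refine hnorm _ (fun Y hYp hSY => ?_) inf_le_left
    refine invariant_le_of_scn_three hG P hSCN hA3 hRinv hYp (le_trans (le_inf hAR ?_) hSY)
    have hA'H : A.subgroupOf H ≤ Cfsg.pPrimePCore p H := by
      refine le_pPrimePCore_of_abelian_normal (odd_card_subgroup hG H) hMaxH.toSylow
        (Subgroup.comap_mono hAR) ⟨⟨fun a b => Subtype.ext (Subtype.ext ?_)⟩⟩ (fun r hr => ?_)
      · have h2 := (isMulCommutative_of_isSCN hSCN).is_comm.comm (⟨((a : H) : G), a.2⟩ : A) ⟨((b : H) : G), b.2⟩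
        exact (congrArg (fun z : A => (z : G)) h2 :)
      · rw [Subgroup.mem_normalizer_iff]
        exact fun n => Subgroup.mem_normalizer_iff.mp (hRA hr) n
    rw [← Subgroup.map_subgroupOf_eq_of_le (hAR.trans hRH)]
    exact Subgroup.map_mono hA'H

end Cfsg.Agent.OddLocal
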