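import Cfsg.Agent.Lib.Invol.BenderMax
import Cfsg.Agent.S1312
import Cfsg.Agent.Lib.OddLocal.MinSimple
import Cfsg.Agent.Lib.OddLocal.FitFacts
import Cfsg.Agent.Lib.ClassK.AxB
import Cfsg.Agent.Lib.OddLocal.Transitivity
import Cfsg.Agent.Lib.Components.PConstrained

/-! A subgroup of the Fitting subgroup lying in a single maximal subgroup. -/

set_option autoImplicit false

namespace Cfsg.Agent.OddLocal

open Cfsg

theorem fStar_eq_fitting_of_solvable {X : Type*} [Group X] [Finite X] [Group.IsSolvable X] :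
    Cfsg.generalizedFittingSubgroup X = Cfsg.fittingSubgroup X := by
  have h : Cfsg.layer X = ⊥ := by
    refine le_bot_iff.mp (Components.layer_le_iff.mpr fun L hL => ?_)
    exact absurd (inferInstance : Group.IsSolvable L) (Components.qs_not_isSolvable hL.2)
  rw [Cfsg.generalizedFittingSubgroup, h, bot_sup_eq]

variable {G : Type*} [Group G] [Finite G]

/-- Each `O_p` of a maximal subgroup containing the centres of two cores lies in the first maximal subgroup. -/
theorem coreP_le_of_centres (hG : Cfsg.IsMinSimpleOddOrder G) {H L : Subgroup G} (hH : IsCoatom H)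
    (hL : IsCoatom L) {p r : ℕ} [hp : Fact p.Prime] [hr : Fact r.Prime] (hrp : r ≠ p)
    (hrne : coreP r H ≠ ⊥) (hpne : coreP p H ≠ ⊥)
    (hrL : coreP r H ⊓ Subgroup.centralizer (coreP r H : Set G) ≤ L)
    (hpL : coreP p H ⊓ Subgroup.centralizer (coreP p H : Set G) ≤ L) :
    coreP p L ≤ Subgroup.centralizer ((coreP r H ⊓ Subgroup.centralizer (coreP r H : Set G) : Subgroup G) : Set G) ∧
      coreP p L ≤ H := by
  haveI : IsSimpleGroup G := hG.2.1
  set Zr := coreP r H ⊓ Subgroup.centralizer (coreP r H : Set G) with hZr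
  set Zp := coreP p H ⊓ Subgroup.centralizer (coreP p H : Set G) with hZp
  have centre_facts : ∀ (s : ℕ) [Fact s.Prime], coreP s H ≠ ⊥ →
      (coreP s H ⊓ Subgroup.centralizer (coreP s H : Set G) : Subgroup G) ≠ ⊥ ∧
      H ≤ Subgroup.normalizer ((coreP s H ⊓ Subgroup.centralizer (coreP s H : Set G) : Subgroup G) : Set G) := by
    intro s _ hs
    refine ⟨fun h => ?_, ?_⟩
    · haveI : Nontrivial (coreP s H) := (Subgroup.nontrivial_iff_ne_bot _).mpr hs
      haveI := (isPGroup_coreP s H).center_nontrivial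
      obtain ⟨z, hz⟩ := exists_ne (1 : Subgroup.center (coreP s H))
      have : ((z : coreP s H) : G) ∈ coreP s H ⊓ Subgroup.centralizer (coreP s H : Set G) :=
        Subgroup.mem_inf.mpr ⟨(z : coreP s H).2, Subgroup.mem_centralizer_iff.mpr fun w hw =>
          congrArg Subtype.val (Subgroup.mem_center_iff.mp z.2 ⟨w, hw⟩)⟩
      rw [h, Subgroup.mem_bot] at this
      exact hz (Subtype.ext (Subtype.ext this))
    · intro g hg
      have h1 := le_normalizer_coreP s H hg
      have h2 := Components.normalizer_le_normalizer_centralizer _ h1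
      refine Subgroup.mem_normalizer_iff.mpr fun x => ?_
      simp only [Subgroup.mem_inf]
      rw [← Subgroup.mem_normalizer_iff.mp h1 x, ← Subgroup.mem_normalizer_iff.mp h2 x]
  have hCle : ∀ (s : ℕ) [Fact s.Prime], coreP s H ≠ ⊥ →
      Subgroup.centralizer ((coreP s H ⊓ Subgroup.centralizer (coreP s H : Set G) : Subgroup G) : Set G) ≤ H := by
    intro s _ hs
    obtain ⟨h1, h2⟩ := centre_facts s hs
    exact (Subgroup.centralizer_le_normalizer _).trans
      (S1312.normalizer_le_of_coatom hH (inf_le_left.trans (coreP_le s H)) h2 h1)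
  obtain ⟨-, hrn⟩ := centre_facts r hrne
  have hPn := le_normalizer_coreP p L
  have hPp := isPGroup_coreP p L
  have hZrp : IsPGroup r Zr := (isPGroup_coreP r H).to_le inf_le_left
  -- elements of `O_p(L) ∩ H` centralize `Zr`
  have hinH : ∀ x ∈ coreP p L, x ∈ H → ∀ z ∈ Zr, Commute z x := by
    intro x hx hxH z hz
    have h1 : z * x * z⁻¹ * x⁻¹ ∈ coreP p L :=
      mul_mem ((Subgroup.mem_normalizer_iff.mp (hPn (hrL hz)) x).mp hx) (inv_mem hx)
    have h2 : z * x * z⁻¹ * x⁻¹ ∈ Zr := by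
      rw [show z * x * z⁻¹ * x⁻¹ = z * (x * z⁻¹ * x⁻¹) by group]
      exact mul_mem hz ((Subgroup.mem_normalizer_iff.mp (hrn hxH) _).mp (inv_mem hz))
    have hdis := IsPGroup.disjoint_of_ne r p hrp _ _ hZrp hPp
    have h3 : z * x * z⁻¹ * x⁻¹ = 1 := Subgroup.mem_bot.mp (hdis.eq_bot ▸ Subgroup.mem_inf.mpr ⟨h2, h1⟩)
    exact mul_inv_eq_iff_eq_mul.mp (mul_inv_eq_one.mp h3)
  have key : ∀ z ∈ Zr, ∀ x ∈ coreP p L, Commute z x := by
    intro z hz
    refine ClassK.axb_lemma (p := p) (U := Zp) ((isPGroup_coreP p H).to_le inf_le_left) hPp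
      (hpL.trans hPn) (hPn (hrL hz)) ?_ (fun u hu a ha => ?_) (fun a ha hau => ?_)
    · obtain ⟨k, hk⟩ := hZrp ⟨z, hz⟩
      exact (((Nat.coprime_primes hr.out hp.out).mpr hrp).pow_left k).coprime_dvd_left
        (orderOf_dvd_of_pow_eq_one (congrArg Subtype.val hk))
    · have hzu : Commute z u := commute_coreP hrp hz.1 hu.1
      rw [hzu.eq, mul_inv_cancel_right, mul_inv_cancel]
      exact Commute.one_left a
    · refine hinH a ha (hCle p hpne (Subgroup.mem_centralizer_iff.mpr fun u hu => (hau u hu).eq)) z hz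
  have hc : coreP p L ≤ Subgroup.centralizer (Zr : Set G) := fun x hx =>
    Subgroup.mem_centralizer_iff.mpr fun z hz => (key z hz x hx).eq
  exact ⟨hc, hc.trans (hCle r hrne)⟩

theorem eq_of_le_fitting (hG : Cfsg.IsMinSimpleOddOrder G) {H : Subgroup G} (hH : IsCoatom H)
    (hF2 : 2 ≤ (Nat.card (Cfsg.fittingOf H)).primeFactors.card) {M : Subgroup G} (hM : M ≤ Cfsg.fittingOf H)
    (hZM : Cfsg.fittingOf H ⊓ Subgroup.centralizer (Cfsg.fittingOf H : Set G) ≤ M)
    (hinv : ∀ Y ∈ Cfsg.invSubgroups ⊤ M (Cfsg.primesNotDvd (Nat.card (Cfsg.fittingOf H))), Y = ⊥)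
    {L : Subgroup G} (hL : IsCoatom L) (hML : M ≤ L) : L = H := by
  haveI : IsSimpleGroup G := hG.2.1
  by_contra hne
  haveI : Group.IsSolvable H := isSolvable_of_ne_top hG hH.1
  haveI : Group.IsSolvable L := isSolvable_of_ne_top hG hL.1
  have hcore : ∀ (s : ℕ) [Fact s.Prime], s ∣ Nat.card (Cfsg.fittingOf H) → coreP s H ≠ ⊥ := by
    intro s _ hd h
    obtain ⟨x, hx⟩ := exists_prime_orderOf_dvd_card' (G := Cfsg.fittingOf H) s hd
    have h1 : (x : G) ∈ coreP s H := mem_coreP_of_mem_fittingOf x.2 ⟨1, by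
      have := pow_orderOf_eq_one (x : G)
      rw [Subgroup.orderOf_coe, hx] at this
      rw [pow_one]; exact this⟩
    rw [h, Subgroup.mem_bot] at h1
    exact (Fact.out : s.Prime).one_lt.ne (by rw [← hx, ← Subgroup.orderOf_coe, h1, orderOf_one])
  have hZ : ∀ (s : ℕ) [Fact s.Prime], coreP s H ⊓ Subgroup.centralizer (coreP s H : Set G) ≤ M := by
    intro s _
    refine le_trans (fun z hz => Subgroup.mem_inf.mpr ⟨coreP_le_fittingOf s H hz.1,
      mem_centralizer_fittingOf fun r hr f hf => ?_⟩) hZM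
    haveI := Fact.mk hr
    by_cases hrs : r = s
    · subst hrs; exact (Subgroup.mem_centralizer_iff.mp hz.2 f hf).symm
    · exact (commute_coreP hrs hf hz.1).symm
  have hnondvd : ∀ (q : ℕ) [Fact q.Prime], ¬ q ∣ Nat.card (Cfsg.fittingOf H) → coreP q L = ⊥ := by
    intro q _ hq
    refine hinv _ ⟨le_top, fun r hr hd => ?_, hML.trans (le_normalizer_coreP q L)⟩
    obtain ⟨n, hn⟩ := (isPGroup_coreP q L).exists_card_eq
    rw [(Nat.prime_dvd_prime_iff_eq hr Fact.out).mp (hr.dvd_of_dvd_pow (hn ▸ hd))]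
    exact ⟨Fact.out, hq⟩
  have htwo : ∀ p : ℕ, ∃ r, r.Prime ∧ r ≠ p ∧ r ∣ Nat.card (Cfsg.fittingOf H) := by
    intro p
    obtain ⟨r, hr, hne'⟩ := Finset.exists_mem_ne (s := (Nat.card (Cfsg.fittingOf H)).primeFactors) (by omega) p
    exact ⟨r, Nat.prime_of_mem_primeFactors hr, hne', Nat.dvd_of_mem_primeFactors hr⟩
  have hLH : Cfsg.fittingOf L ≤ H := by
    rw [fittingOf_eq_iSup]
    refine iSup_le fun p => ?_
    haveI : Fact (p : ℕ).Prime := ⟨p.2⟩
    by_cases hp : (p : ℕ) ∣ Nat.card (Cfsg.fittingOf H)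
    · obtain ⟨r, hr, hrp, hrd⟩ := htwo p
      haveI := Fact.mk hr
      exact (coreP_le_of_centres hG hH hL hrp (hcore r hrd) (hcore p hp) ((hZ r).trans hML) ((hZ _).trans hML)).2
    · rw [hnondvd _ hp]; exact bot_le
  haveI : Group.IsNilpotent (Cfsg.fittingOf L) := isNilpotent_fittingOf L
  have eH := fStar_eq_fitting_of_solvable (X := H)
  have eL := fStar_eq_fitting_of_solvable (X := L)
  obtain ⟨hb1, hb2⟩ := Invol.BenderMax.bender_main hL (Cfsg.fittingOf L) (by rw [eL]; exact le_rfl)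
    (by
      have h : (Cfsg.fittingOf L).subgroupOf ((Cfsg.generalizedFittingSubgroup ↥L).map L.subtype) = ⊤ := by
        rw [eL]; exact Subgroup.subgroupOf_self _
      rw [h]; exact Subgroup.IsSubnormal.top)
    (by rw [eL]; exact inf_le_left) H hLH
  have hHL : Cfsg.fittingOf H ≤ L := by
    rw [fittingOf_eq_iSup]
    refine iSup_le fun r => ?_
    haveI : Fact (r : ℕ).Prime := ⟨r.2⟩
    by_cases hr : (r : ℕ) ∣ Nat.card (Cfsg.fittingOf H)
    swap
    · refine le_trans (le_of_eq ?_) bot_le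
      by_contra h
      obtain ⟨n, hn⟩ := (isPGroup_coreP (r : ℕ) H).exists_card_eq
      rcases Nat.eq_zero_or_pos n with rfl | hn0
      · exact h (Subgroup.card_eq_one.mp (hn.trans (pow_zero _)))
      · exact hr ((dvd_pow_self (r : ℕ) hn0.ne').trans (hn ▸ Subgroup.card_dvd_of_le (coreP_le_fittingOf _ _)))
    have hrL : (r : ℕ) ∣ Nat.card (Cfsg.fittingSubgroup L) := by
      by_contra hnd
      have h1 := hb1 r r.2 hnd
      refine hcore r hr ?_
      by_contra hne'
      have hzle : coreP (r : ℕ) H ⊓ Subgroup.centralizer (coreP (r : ℕ) H : Set G) ≤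
          coreP (r : ℕ) H ⊓ L := le_inf inf_le_left ((hZ _).trans hML)
      haveI : Nontrivial (coreP (r : ℕ) H) := (Subgroup.nontrivial_iff_ne_bot _).mpr hne'
      haveI := (isPGroup_coreP (r : ℕ) H).center_nontrivial
      obtain ⟨z, hz⟩ := exists_ne (1 : Subgroup.center (coreP (r : ℕ) H))
      have h2 : ((z : coreP (r : ℕ) H) : G) ∈ (⊥ : Subgroup G) := h1 ▸ hzle (Subgroup.mem_inf.mpr
        ⟨(z : coreP (r : ℕ) H).2, Subgroup.mem_centralizer_iff.mpr fun w hw =>
          congrArg Subtype.val (Subgroup.mem_center_iff.mp z.2 ⟨w, hw⟩)⟩)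
      exact hz (Subtype.ext (Subtype.ext (Subgroup.mem_bot.mp h2)))
    -- a nontrivial core of `L` at another prime
    obtain ⟨p, hp, hpr, hpd⟩ := htwo r
    haveI := Fact.mk hp
    have hpL : coreP p L ≠ ⊥ := by
      intro hbot
      have hnd : ¬ p ∣ Nat.card (Cfsg.fittingSubgroup L) := by
        intro hd
        obtain ⟨x, hx⟩ := exists_prime_orderOf_dvd_card' (G := Cfsg.fittingSubgroup L) p hd
        have hxo : orderOf ((x : L) : G) = p := by rw [Subgroup.orderOf_coe, Subgroup.orderOf_coe]; exact hx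
        have h1 : ((x : L) : G) ∈ coreP p L := mem_coreP_of_mem_fittingOf ⟨(x : L), x.2, rfl⟩
          ⟨1, by rw [pow_one, ← hxo]; exact pow_orderOf_eq_one _⟩
        rw [hbot, Subgroup.mem_bot] at h1
        exact hp.one_lt.ne (by rw [← hxo, h1, orderOf_one])
      refine hcore p hpd ?_
      by_contra hne'
      haveI : Nontrivial (coreP p H) := (Subgroup.nontrivial_iff_ne_bot _).mpr hne'
      haveI := (isPGroup_coreP p H).center_nontrivial
      obtain ⟨z, hz⟩ := exists_ne (1 : Subgroup.center (coreP p H))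
      have h2 : ((z : coreP p H) : G) ∈ (⊥ : Subgroup G) := (hb1 p hp hnd) ▸ Subgroup.mem_inf.mpr
        ⟨(z : coreP p H).2, hML (hZ p (Subgroup.mem_inf.mpr
          ⟨(z : coreP p H).2, Subgroup.mem_centralizer_iff.mpr fun w hw =>
            congrArg Subtype.val (Subgroup.mem_center_iff.mp z.2 ⟨w, hw⟩)⟩))⟩
      exact hz (Subtype.ext (Subtype.ext (Subgroup.mem_bot.mp h2)))
    refine le_trans ?_ ((Subgroup.centralizer_le_normalizer _).trans
      (S1312.normalizer_le_of_coatom hL (coreP_le p L) (le_normalizer_coreP p L) hpL))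
    intro x hx
    refine Subgroup.mem_centralizer_iff.mpr fun f hf => ?_
    obtain ⟨a, ha, rfl⟩ := hf
    have haF : a ∈ Cfsg.generalizedFittingSubgroup ↥L := by rw [eL]; exact Basics.pCore_le_fittingSubgroup p ha
    have hres : (⟨a, haF⟩ : Cfsg.generalizedFittingSubgroup ↥L) ∈ Cfsg.pResidual (r : ℕ) ↥(Cfsg.generalizedFittingSubgroup ↥L) := by
      refine Subgroup.subset_closure ?_
      obtain ⟨k, hk⟩ := Basics.pCore_isPGroup (G := L) p ⟨a, ha⟩
      change (orderOf (⟨a, haF⟩ : Cfsg.generalizedFittingSubgroup ↥L)).Coprime r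
      rw [Subgroup.orderOf_mk]
      exact (((Nat.coprime_primes hp r.2).mpr hpr).pow_left k).coprime_dvd_left
        (orderOf_dvd_of_pow_eq_one (congrArg Subtype.val hk))
    exact (hb2 r r.2 hrL x hx a ⟨_, hres, rfl⟩).symm
  have hna : ¬ IsMulCommutative G := hG.2.2.1
  obtain ⟨q, hq, hqH, -⟩ := S1312.result hna H L hH hL (Ne.symm hne) (by rw [eH]; exact hHL) (by rw [eL]; exact hLH)
  obtain ⟨r, hr, hrq, hrd⟩ := htwo q
  have hcard : Nat.card (Cfsg.fittingOf H) = Nat.card ↥(Cfsg.generalizedFittingSubgroup ↥H) := by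
    rw [eH]; exact Subgroup.card_map_of_injective H.subtype_injective
  haveI := Fact.mk hq
  obtain ⟨n, hn⟩ := hqH.exists_card_eq
  rw [hcard, hn] at hrd
  exact hrq ((Nat.prime_dvd_prime_iff_eq hr hq).mp (hr.dvd_of_dvd_pow hrd))

end Cfsg.Agent.OddLocal
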