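import Cfsg.Agent.Lib.OddLocal.UniqueF

/-! The uniqueness theorem when `F(M)` is a `p`-group, and its consequences. -/

set_option autoImplicit false
set_option maxHeartbeats 800000

namespace Cfsg.Agent.OddLocal

variable {G : Type*} [Group G] [Finite G] {p : ℕ} [hp : Fact p.Prime]

omit hp in
/-- With trivial core, invariant `r`-subgroups are trivial. -/
theorem invariant_eq_bot_of_unique (hG : IsMinSimpleOddOrder G) {M A F : Subgroup G} (hM : IsCoatom M)
    (hTH : TransitivityHypothesis A) (hrank : ¬ RankLE 2 ↥(A ⊓ Subgroup.centralizer (A : Set G)))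
    (hFM : F ≤ M) (hFn : M ≤ Subgroup.normalizer (F : Set G)) (hAF : A ≤ F)
    (hsn : (A.subgroupOf F).IsSubnormal)
    (hFπ : ∀ r : ℕ, r.Prime → r ∣ Nat.card F → r ∣ Nat.card A)
    (hcore : piCoreOf (primesNotDvd (Nat.card A)) (Subgroup.centralizer (A : Set G)) = ⊥)
    (hinvM : ∀ Y : Subgroup G, Y ≤ M → (∀ r : ℕ, r.Prime → r ∣ Nat.card Y → ¬ r ∣ Nat.card A) →
      F ≤ Subgroup.normalizer (Y : Set G) → Y = ⊥)
    {r : ℕ} (hr : r.Prime) (hrA : ¬ r ∣ Nat.card A) {Y : Subgroup G} (hYr : IsPGroup r Y)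
    (hAY : A ≤ Subgroup.normalizer (Y : Set G)) : Y = ⊥ := by
  have : Fact r.Prime := ⟨hr⟩
  have hFtop : F ≠ ⊤ := fun e => hM.1 (top_le_iff.mp (e ▸ hFM))
  have htr := Cfsg.Agent.S1393.result hG A hTH hrank r hr hrA
  obtain ⟨-, -, hsub, -⟩ := Cfsg.Agent.S1395.result hG A hTH r hr hrA F hFtop hFπ hAF hsn htr
  obtain ⟨Q, hQ, hYQ⟩ := exists_maxInv_ge hYr hAY
  have huniq : ∀ Q' ∈ maxInvSubgroups ⊤ A {r}, Q' = Q := by
    intro Q' hQ'
    obtain ⟨k, hk, e⟩ := htr Q hQ Q' hQ'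
    rw [hcore, Subgroup.mem_bot] at hk
    rw [e, hk, map_one]
    exact Subgroup.map_id Q
  obtain ⟨Q', hQ', -⟩ := exists_maxInv_ge (A := F) (q := r) (Y := ⊥) IsPGroup.of_bot
    (by rw [Subgroup.normalizer_eq_top]; exact le_top)
  have hQF : Q ∈ maxInvSubgroups ⊤ F {r} := huniq Q' (hsub hQ') ▸ hQ'
  obtain ⟨hQr, hFQ⟩ := mem_invSubgroups_singleton.mp hQF.1
  by_contra hY1
  have hQ1 : Q ≠ ⊥ := fun e => hY1 (le_bot_iff.mp (e ▸ hYQ))
  have hMQ : M ≤ Subgroup.normalizer (Q : Set G) := by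
    intro g hg
    rw [Subgroup.mem_normalizer_iff_map_conj_eq]
    change Q.map (MulAut.conj g).toMonoidHom = Q
    refine huniq _ (hsub ⟨mem_invSubgroups_singleton.mpr ⟨hQr.map _, ?_⟩, fun R hR hle => ?_⟩)
    · have hgF : F.map (MulAut.conj g).toMonoidHom = F := Subgroup.mem_normalizer_iff_map_conj_eq.mp (hFn hg)
      exact (hgF.ge.trans (Subgroup.map_mono hFQ)).trans (Subgroup.le_normalizer_map _)
    · obtain ⟨hRr, hFR⟩ := mem_invSubgroups_singleton.mp hR
      have hgF : F.map (MulAut.conj g⁻¹).toMonoidHom = F :=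
        Subgroup.mem_normalizer_iff_map_conj_eq.mp (hFn (inv_mem hg))
      have h := hQF.2 (R.map (MulAut.conj g⁻¹).toMonoidHom) (mem_invSubgroups_singleton.mpr
        ⟨hRr.map _, (hgF.ge.trans (Subgroup.map_mono hFR)).trans (Subgroup.le_normalizer_map _)⟩) (by
          refine le_trans (le_of_eq ?_) (Subgroup.map_mono (f := (MulAut.conj g⁻¹).toMonoidHom) hle)
          rw [map_conj_map_conj, inv_mul_cancel, map_one]
          exact (Subgroup.map_id Q).symm)
      rw [← h, map_conj_map_conj, mul_inv_cancel, map_one]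
      exact (Subgroup.map_id R).symm
  have hQM : Q ≤ M := by
    rcases lt_or_eq_of_le hMQ with h1 | h1
    · exact absurd (hM.2 _ h1) (normalizer_ne_top hG hQ1 (pGroup_ne_top hG hQr))
    · exact h1 ▸ Subgroup.le_normalizer
  exact hQ1 (hinvM Q hQM (fun t ht hd => (primes_of_isPGroup hrA hQr ht hd).2)
    hFQ)

/-- When `F(M)` is a `p`-group the core of `M` is trivial. -/
theorem pPrimeCore_eq_bot_of_fitting {M : Subgroup G} (hM : Group.IsSolvable M)
    (hF : IsPGroup p (Cfsg.fittingOf M)) :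
    Cfsg.pPrimeCore p M = ⊥ ∧ Cfsg.fittingOf M = coreP p M := by
  have hle : Cfsg.fittingSubgroup M ≤ Cfsg.pCore p M := by
    intro x hx
    obtain ⟨y, hy, e⟩ := mem_coreP_of_mem_fittingOf (r := p) (⟨x, hx, rfl⟩ : (x : G) ∈ Cfsg.fittingOf M)
      (by obtain ⟨j, hj⟩ := hF ⟨x, ⟨x, hx, rfl⟩⟩; exact ⟨j, congrArg Subtype.val hj⟩)
    exact (Subtype.ext e : y = x) ▸ hy
  refine ⟨?_, le_antisymm (Subgroup.map_mono hle) (coreP_le_fittingOf p M)⟩
  set K := Cfsg.pPrimeCore p M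
  have hdisj : Disjoint K (Cfsg.pCore p M) := by
    obtain ⟨n, hn⟩ := IsPGroup.iff_card.mp (Basics.pCore_isPGroup (G := M) p)
    refine Subgroup.disjoint_of_coprime_natCard ?_
    rw [hn]
    exact (Basics.pPrimeCore_coprime p).pow_right n
  have hKC : K ≤ Subgroup.centralizer (Cfsg.fittingSubgroup M : Set M) := fun k hk => by
    rw [Subgroup.mem_centralizer_iff]
    exact fun f hf =>
      (Subgroup.commute_of_normal_of_disjoint K (Cfsg.pCore p M) inferInstance inferInstance hdisj k f hk (hle hf)).eq.symm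
  rw [eq_bot_iff]
  exact fun k hk =>
    Subgroup.disjoint_def.mp hdisj hk (hle (Basics.centralizer_fittingSubgroup_le (hKC hk))) ▸ Subgroup.one_mem _

theorem dvd_card_of_ea {E : Subgroup G} (hE : IsElementaryAbelian p E) (h : 1 < Nat.card E) : p ∣ Nat.card G := by
  rcases (isPGroup_of_exponent hE.2).card_eq_or_dvd with e | e
  · omega
  · exact e.trans E.card_subgroup_dvd_card

/-- The case where `F(M)` is a `p`-group. -/
theorem fitting_pGroup_case (hG : IsMinSimpleOddOrder G) {M : Subgroup G} (hM : IsCoatom M)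
    (hpG : p ∣ Nat.card G) (hF : IsPGroup p (Cfsg.fittingOf M)) {R : Subgroup G} (hR : IsMaxPIn p R M)
    (hR1 : R ≠ ⊥) :
    ¬ p ∣ R.index ∧ ∀ A : Subgroup G, IsSCN R A → ¬ PRankLE p 2 A →
      A ≤ Cfsg.fittingOf M ∧ InUniqueMaximal A := by
  have hp2 := prime_ne_two hG hpG
  have hsol := isSolvable_of_ne_top hG hM.1
  have hodd := odd_card_subgroup hG M
  obtain ⟨hO, hFc⟩ := pPrimeCore_eq_bot_of_fitting hsol hF
  have hK : pPrimeCoreIn p M = ⊥ := by rw [pPrimeCoreIn, hO, Subgroup.map_bot]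
  have hzn : ∀ {S : Subgroup G}, IsMaxPIn p S M → Subgroup.normalizer (zPuig S : Set G) = M := by
    intro S hS
    have hS1 : S ≠ ⊥ := fun e => hR1 (hS.2.2 R hR.1 (e ▸ bot_le) hR.2.1 ▸ e)
    have hle := hS.le_core_sup_normalizer_zPuig hp2 hsol hodd
    rw [hK, bot_sup_eq] at hle
    rcases lt_or_eq_of_le (hle.trans inf_le_right) with h1 | h1
    · exact absurd (hM.2 _ h1) (normalizer_ne_top hG (zPuig_ne_bot hS.1 hS1) (pGroup_ne_top hG (hS.1.to_le (zPuig_le S))))
    · exact h1.symm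
  have hNR : Subgroup.normalizer (R : Set G) ≤ M := (normalizer_le_normalizer_zPuig R).trans (hzn hR).le
  let P : Sylow p G :=
    { toSubgroup := R
      isPGroup' := hR.1
      is_maximal' := fun {Q} hQ hRQ => by
        by_contra hne'
        have hlt := lt_inf_normalizer_of_lt (q := p) hQ (lt_of_le_of_ne hRQ (Ne.symm hne'))
        exact hlt.ne' (hR.2.2 _ (hQ.to_le inf_le_left) hlt.le (inf_le_right.trans hNR)) }
  refine ⟨P.not_dvd_index, fun A hA hA3 => ?_⟩
  have hAp : IsPGroup p A := hR.1.to_le hA.1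
  have hAc := isMulCommutative_of_isSCN hA
  have hAM : A ≤ M := hA.1.trans hR.2.1
  have hA1 : A ≠ ⊥ := by
    rintro rfl
    refine hA3 fun X hXc hX => ?_
    have : Subsingleton (⊥ : Subgroup G) :=
      ⟨fun a b => Subtype.ext ((Subgroup.mem_bot.mp a.2).trans (Subgroup.mem_bot.mp b.2).symm)⟩
    rw [Subsingleton.elim X ⊥, Subgroup.card_bot]
    exact Nat.one_le_pow _ _ hp.out.pos
  set F := Cfsg.fittingOf M with hFdef
  have hAF : A ≤ F := by
    rw [hFc, coreP, ← Subgroup.map_subgroupOf_eq_of_le hAM]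
    refine Subgroup.map_mono (le_pCore_of_normalized hodd hp2 hO (Cfsg.pCore p M) (Basics.pCore_isPGroup p)
      inf_le_left ⟨⟨fun a b => Subtype.ext (Subtype.ext ?_)⟩⟩ ?_)
    · exact (congrArg (fun z : A => (z : G)) (hAc.is_comm.comm ⟨((a : M) : G), a.2⟩ ⟨((b : M) : G), b.2⟩) :)
    · intro x hx
      rw [Subgroup.mem_normalizer_iff]
      have hxR : (x : G) ∈ R := (Basics.pCore_le_sylow p hR.toSylow hx : x ∈ R.subgroupOf M)
      exact fun n => Subgroup.mem_normalizer_iff.mp (hA.2.1 hxR) n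
  refine ⟨hAF, ?_⟩
  have hTH : TransitivityHypothesis A := transitivityHypothesis_of_omega hG hpG hAp hA1 hAc
    fun x hx hxo => mem_of_isSCN P hA hx (IsPGroup.of_card (n := 1) (by rw [pow_one, Nat.card_zpowers, hxo]))
  have hAA : A ⊓ Subgroup.centralizer (A : Set G) = A :=
    inf_eq_left.mpr (Subgroup.le_centralizer_iff_isMulCommutative.mpr hAc)
  have hπ := primesNotDvd_card_pGroup hAp hA1
  have hA_dvd : p ∣ Nat.card A := hAp.card_eq_or_dvd.resolve_left fun e => hA1 (Subgroup.eq_bot_of_card_eq A e)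
  have hFR : F ≤ R := by
    rw [hFc, coreP]
    exact (Subgroup.map_mono (Basics.pCore_le_sylow p hR.toSylow)).trans (Subgroup.map_subgroupOf_eq_of_le hR.2.1).le
  have hinvM : ∀ Y : Subgroup G, Y ≤ M → (∀ r : ℕ, r.Prime → r ∣ Nat.card Y → ¬ r ∣ Nat.card A) →
      F ≤ Subgroup.normalizer (Y : Set G) → Y = ⊥ := by
    intro Y hYM hYπ hFY
    have hle : Y ≤ pPrimeCoreIn p M := by
      refine invariant_le_pPrimeCoreIn hp2 hsol hF (fittingOf_le M) (fun x hx hxC _ => ?_) hYM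
        (fun h => hYπ p hp.out h hA_dvd) hFY
      exact centralizer_fittingOf_le hsol ⟨hx, hxC⟩
    rw [hK] at hle
    exact le_bot_iff.mp hle
  have hcore : piCoreOf (primesNotDvd (Nat.card A)) (Subgroup.centralizer (A : Set G)) = ⊥ := by
    set D := piCoreOf (primesNotDvd (Nat.card A)) (Subgroup.centralizer (A : Set G))
    have hF1 : F ≠ ⊥ := fun e => hA1 (le_bot_iff.mp (e ▸ hAF))
    set Z := F ⊓ Subgroup.centralizer (F : Set G) with hZ
    have hZA : Z ≤ A := fun z hz => hA.2.2.le ⟨hFR hz.1, Subgroup.centralizer_le hAF hz.2⟩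
    have hZ1 : Z ≠ ⊥ := by
      have : Nontrivial F := (Subgroup.nontrivial_iff_ne_bot _).mpr hF1
      have := hF.center_nontrivial
      obtain ⟨z, hz⟩ := exists_ne (1 : Subgroup.center F)
      intro e
      have hmem : ((z : F) : G) ∈ Z := ⟨(z : F).2, Subgroup.mem_centralizer_iff.mpr fun w hw =>
        congrArg Subtype.val (Subgroup.mem_center_iff.mp z.2 ⟨w, hw⟩)⟩
      rw [e, Subgroup.mem_bot] at hmem
      exact hz (Subtype.ext (Subtype.ext hmem))
    have hMZ : M ≤ Subgroup.normalizer (Z : Set G) := (le_inf (le_normalizer_fittingOf M)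
      ((le_normalizer_fittingOf M).trans (normalizer_le_normalizer_centralizer _))).trans le_normalizer_inf'
    have hCA : Subgroup.centralizer (A : Set G) ≤ M := by
      refine (Subgroup.centralizer_le hZA).trans ((Subgroup.centralizer_le_normalizer _).trans ?_)
      rcases lt_or_eq_of_le hMZ with h1 | h1
      · exact absurd (hM.2 _ h1) (normalizer_ne_top hG hZ1 fun e => hM.1 (top_le_iff.mp (e ▸ inf_le_left.trans (fittingOf_le M))))
      · exact h1.symm.le
    refine hinvM D ((piCoreOf_le _ _).trans hCA) (fun r hr hd => (piCoreOf_primes _ _ hr hd).2) ?_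
    exact hFR.trans (hA.2.1.trans ((normalizer_le_normalizer_centralizer A).trans
      (normalizer_le_normalizer_piCoreOf _ _)))
  have hFn : (A.subgroupOf F).IsSubnormal := by
    have : Group.IsNilpotent F := isNilpotent_fittingOf M
    exact isSubnormal_of_isNilpotent _
  have hnoinv : ∀ r : ℕ, r.Prime → r ≠ p → ∀ Y : Subgroup G, IsPGroup r Y →
      A ≤ Subgroup.normalizer (Y : Set G) → Y = ⊥ := fun r hr hrp Y hY hAY =>
    invariant_eq_bot_of_unique hG hM hTH (by rw [hAA]; exact fun h => hA3 (h p hp.out)) (fittingOf_le M)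
      (le_normalizer_fittingOf M) hAF hFn (fun t ht hd => by
        obtain ⟨n, hn⟩ := IsPGroup.iff_card.mp hF
        rw [(Nat.prime_dvd_prime_iff_eq ht hp.out).mp (ht.dvd_of_dvd_pow (hn ▸ hd))]
        exact hA_dvd) hcore hinvM hr (fun h => by
        obtain ⟨n, hn⟩ := IsPGroup.iff_card.mp hAp
        exact hrp ((Nat.prime_dvd_prime_iff_eq hr hp.out).mp (hr.dvd_of_dvd_pow (hn ▸ h)))) hY hAY
  refine ⟨M, ⟨hM, hAM⟩, ?_⟩
  rintro H₀ ⟨hH₀, hAH₀⟩
  by_contra hne
  obtain ⟨S, -, ⟨hSp, hAS, hSM, H, hH, hHM, hSH⟩, hmax⟩ := Finite.exists_le_maximal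
    (p := fun S : Subgroup G => IsPGroup p S ∧ A ≤ S ∧ S ≤ M ∧ ∃ H : Subgroup G, IsCoatom H ∧ H ≠ M ∧ S ≤ H)
    (a := A) ⟨hAp, le_rfl, hAM, H₀, hH₀, hne, hAH₀⟩
  have hKH : pPrimeCoreIn p H = ⊥ := by
    set K := pPrimeCoreIn p H
    have hcop : (Nat.card A).Coprime (Nat.card K) := by
      obtain ⟨n, hn⟩ := IsPGroup.iff_card.mp hAp
      rw [hn]; exact (hp.out.coprime_iff_not_dvd.mpr (not_dvd_card_pPrimeCoreIn H)).pow_left n
    by_contra hK1
    obtain ⟨r, hr, hrK⟩ := Nat.exists_prime_and_dvd (fun e => hK1 (Subgroup.eq_bot_of_card_eq K e))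
    have : Fact r.Prime := ⟨hr⟩
    have hrp : r ≠ p := fun e => not_dvd_card_pPrimeCoreIn H (e ▸ hrK)
    obtain ⟨T, hT, hAT⟩ := Basics.exists_invariant_isSylowIn A K
      ((hAS.trans hSH).trans (le_normalizer_pPrimeCoreIn H)) hcop
      (Or.inl (isSolvable_of_ne_top hG (ne_top_of_isMulCommutative hG hAc))) r
    have hT1 := hnoinv r hr hrp T hT.isPGroup hAT
    have h := hT.2
    rw [hT1, Subgroup.card_bot] at h
    exact (Nat.one_lt_pow (hr.factorization_pos_of_dvd Nat.card_pos.ne' hrK).ne' hr.one_lt).ne h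
  have hHnot : ¬ H ≤ M := fun hle => by
    rcases lt_or_eq_of_le hle with h1 | h1
    · exact hM.1 (hH.2 M h1)
    · exact hHM h1
  have hS1 : S ≠ ⊥ := fun e => hA1 (le_bot_iff.mp (e ▸ hAS))
  have hNZ : Subgroup.normalizer (zPuig S : Set G) ≠ ⊤ :=
    normalizer_ne_top hG (zPuig_ne_bot hSp hS1) (pGroup_ne_top hG (hSp.to_le (zPuig_le S)))
  obtain ⟨L, hL, hNL⟩ := exists_maximal_ge hNZ
  have hgrow : ∀ Q : Subgroup G, IsPGroup p Q → S < Q → Q ≤ M → ∀ H' : Subgroup G, IsCoatom H' → Q ≤ H' → H' = M := by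
    intro Q hQ hlt hQM H' hH' hQH'
    by_contra hne'
    exact not_le_of_gt hlt (hmax ⟨hQ, hAS.trans hlt.le, hQM, H', hH', hne', hQH'⟩ hlt.le)
  have hfin : Subgroup.normalizer (zPuig S : Set G) ≤ M → False := by
    intro hN
    have hmaxH : IsMaxPIn p S H := by
      refine ⟨hSp, hSH, fun Q hQ hSQ hQH => ?_⟩
      by_contra hne'
      have hlt := lt_inf_normalizer_of_lt (q := p) hQ (lt_of_le_of_ne hSQ (Ne.symm hne'))
      exact hHM (hgrow _ (hQ.to_le inf_le_left) hlt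
        (inf_le_right.trans ((normalizer_le_normalizer_zPuig S).trans hN)) H hH (inf_le_left.trans hQH))
    have hle := hmaxH.le_core_sup_normalizer_zPuig hp2 (isSolvable_of_ne_top hG hH.1) (odd_card_subgroup hG H)
    rw [hKH, bot_sup_eq] at hle
    exact hHnot (hle.trans (inf_le_right.trans hN))
  by_cases hSmax : IsMaxPIn p S M
  · exact hfin (hzn hSmax).le
  · simp only [IsMaxPIn, not_and, not_forall] at hSmax
    obtain ⟨Q, hQ, hSQ, hQM, hne'⟩ := hSmax hSp hSM
    have hlt := lt_inf_normalizer_of_lt (q := p) hQ (lt_of_le_of_ne hSQ (Ne.symm hne'))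
    have hLM := hgrow _ (hQ.to_le inf_le_left) hlt (inf_le_left.trans hQM) L hL
      ((inf_le_right.trans (normalizer_le_normalizer_zPuig S)).trans hNL)
    exact hfin (hLM ▸ hNL)

theorem pRankLE_not_iff {K : Subgroup G} :
    ¬ PRankLE p 2 K → ∃ X : Subgroup G, X ≤ K ∧ IsElementaryAbelian p X ∧ p ^ 2 < Nat.card X := by
  intro h
  simp only [PRankLE, not_forall, not_le] at h
  obtain ⟨X, hXc, hXp, hX⟩ := h
  exact ⟨X.map K.subtype, Subgroup.map_subtype_le X, ea_map ⟨hXc, hXp⟩ K.subtype,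
    by rwa [Subgroup.card_map_of_injective K.subtype_injective]⟩

theorem exists_normal_ea_three_in (hp2 : p ≠ 2) {P X : Subgroup G} (hP : IsPGroup p P) (hXP : X ≤ P)
    (hX : IsElementaryAbelian p X) (h : p ^ 2 < Nat.card X) :
    ∃ E A : Subgroup G, E ≤ A ∧ IsSCN P A ∧ P ≤ Subgroup.normalizer (E : Set G) ∧
      IsElementaryAbelian p E ∧ p ^ 2 < Nat.card E ∧ ¬ PRankLE p 2 A := by
  have hX' : IsElementaryAbelian p (X.subgroupOf P) :=
    ⟨⟨⟨fun a b => Subtype.ext (Subtype.ext (ea_commute hX a.2 b.2).eq)⟩⟩, fun a ha => Subtype.ext (hX.2 _ ha)⟩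
  obtain ⟨E', hEn, hEe, hE3⟩ := exists_normal_ea_three hp2 hP hX' (by rwa [Basics.card_subgroupOf hXP])
  obtain ⟨A', hEA, hA'n, hA'c, hA'C⟩ := exists_scn_ge hP hEe.1
  set E := E'.map P.subtype
  set A := A'.map P.subtype with hAdef
  have hE3' : p ^ 2 < Nat.card E := by rwa [Subgroup.card_map_of_injective P.subtype_injective]
  have hEe' : IsElementaryAbelian p E := ea_map hEe _
  have hEA' : E ≤ A := Subgroup.map_mono hEA
  refine ⟨E, A, hEA', ⟨Subgroup.map_subtype_le _, le_normalizer_map_subtype _, ?_⟩,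
    le_normalizer_map_subtype _, hEe', hE3', fun hle => ?_⟩
  · refine le_antisymm ?_ (le_inf (Subgroup.map_subtype_le _)
      (Subgroup.le_centralizer_iff_isMulCommutative.mpr (isMulCommutative_map hA'c _)))
    rintro x ⟨hxR, hxC⟩
    refine ⟨⟨x, hxR⟩, ?_, rfl⟩
    rw [SetLike.mem_coe, ← hA'C, Subgroup.mem_centralizer_iff]
    exact fun a ha => Subtype.ext (Subgroup.mem_centralizer_iff.mp hxC _ ⟨a, ha, rfl⟩)
  · have h1 := hle (E.subgroupOf A) ⟨⟨fun a b => Subtype.ext (Subtype.ext (ea_commute hEe' a.2 b.2).eq)⟩⟩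
      (fun a ha => Subtype.ext (hEe'.2 _ ha))
    rw [Basics.card_subgroupOf hEA'] at h1
    exact absurd h1 (not_le.mpr hE3')

theorem lt_of_sq_lt {n : ℕ} (h : p ^ 2 < n) : p < n := lt_of_le_of_lt (Nat.le_self_pow two_ne_zero p) h

/-- Rank three in some `F(M)` gives a uniqueness subgroup. -/
theorem inUniqueMaximal_of_fitting_rank_three (hG : IsMinSimpleOddOrder G) {M : Subgroup G} (hM : IsCoatom M)
    {X : Subgroup G} (hXF : X ≤ Cfsg.fittingOf M) (hXe : IsElementaryAbelian p X) (hX3 : p ^ 2 < Nat.card X) :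
    InUniqueMaximal X := by
  have hpG := dvd_card_of_ea hXe (lt_of_le_of_lt (Nat.one_le_pow _ _ hp.out.pos) hX3)
  have hp2 := prime_ne_two hG hpG
  have hXp : X ≤ coreP p M := fun x hx =>
    mem_coreP_of_mem_fittingOf (hXF hx) ⟨1, by rw [pow_one]; exact hXe.2 x hx⟩
  suffices ∃ E : Subgroup G, IsElementaryAbelian p E ∧ p ^ 2 < Nat.card E ∧ InUniqueMaximal E by
    obtain ⟨E, hEe, hE3, hEU⟩ := this
    exact inUniqueMaximal_rank_three hG hEe hE3 hEU hXe hX3
  by_cases hFp : IsPGroup p (Cfsg.fittingOf M)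
  · obtain ⟨R, hXR, ⟨hRp, hRM⟩, hRmax⟩ := Finite.exists_le_maximal
      (p := fun R : Subgroup G => IsPGroup p R ∧ R ≤ M) (a := X)
      ⟨isPGroup_of_exponent hXe.2, hXF.trans (fittingOf_le M)⟩
    have hR : IsMaxPIn p R M := ⟨hRp, hRM, fun Q hQ hle hQM => le_antisymm (hRmax ⟨hQ, hQM⟩ hle) hle⟩
    obtain ⟨E, A, hEA, hSCN, -, hEe, hE3, hA3⟩ := exists_normal_ea_three_in hp2 hRp hXR hXe hX3
    have hR1 : R ≠ ⊥ := fun e => by
      rw [e, le_bot_iff] at hXR
      rw [hXR, Subgroup.card_bot] at hX3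
      exact absurd hX3 (not_lt.mpr (Nat.one_le_pow _ _ hp.out.pos))
    obtain ⟨-, hAU⟩ := (fitting_pGroup_case hG hM hpG hFp hR hR1).2 A hSCN hA3
    exact ⟨E, hEe, hE3, inUniqueMaximal_of_centralizes hG hAU hEe (lt_of_sq_lt hE3)
      (hEA.trans (Subgroup.le_centralizer_iff_isMulCommutative.mpr (isMulCommutative_of_isSCN hSCN)))⟩
  · obtain ⟨q, hq, hqp, hq1⟩ : ∃ q : ℕ, q.Prime ∧ q ≠ p ∧ coreP q M ≠ ⊥ := by
      by_contra h
      push Not at h
      refine hFp ((isPGroup_coreP p M).to_le ?_)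
      rw [fittingOf_eq_iSup]
      refine iSup_le fun r => ?_
      by_cases hr : (r : ℕ) = p
      · rw [hr]
      · rw [h r r.2 hr]; exact bot_le
    obtain ⟨E, A, hEA, hSCN, hEn, hEe, hE3, -⟩ := exists_normal_ea_three_in hp2 (isPGroup_coreP p M) hXp hXe hX3
    have hU := inUniqueMaximal_fitC hG hM (hEA.trans hSCN.1) hEe hE3 hEn hq hqp hq1
    exact ⟨E, hEe, hE3, inUniqueMaximal_of_centralizes hG hU hEe (lt_of_sq_lt hE3)
      (Subgroup.le_centralizer_iff.mp inf_le_right)⟩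

end Cfsg.Agent.OddLocal
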