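import Cfsg.Agent.Lib.OddLocal.HighLow
import Mathlib.Algebra.Polynomial.Roots

/-! An elementary abelian `p`-group of rank three holding the central `p`-elements lies in a unique maximal
subgroup. -/

set_option autoImplicit false
set_option maxHeartbeats 800000

namespace Cfsg.Agent.OddLocal

open scoped commutatorElement

variable {G : Type*} [Group G] [Finite G] {p : ℕ}

namespace Setting

variable [hp : Fact p.Prime] {E : Subgroup G}

section high

variable {q : ℕ} {M W : Subgroup G}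

theorem isPGroup_high [hq : Fact q.Prime] (h : IsHigh p E q M W) : IsPGroup q W :=
  (isPGroup_coreP q M).to_le h.sub

theorem not_dvd_card_high [hq : Fact q.Prime] (h : IsHigh p E q M W) : ¬ p ∣ Nat.card W :=
  not_dvd_of_isPGroup h.ne (isPGroup_high h)

omit hp in
theorem le_of_high (h : IsHigh p E q M W) : W ≤ M := h.sub.trans (coreP_le q M)

theorem inter_cyclic (S : Setting p E) (h : IsHigh p E q M W) {B : Subgroup G} (hB : B ≤ E)
    (hBc : p < Nat.card B) : IsCyclic ↥(W ⊓ Subgroup.centralizer (B : Set G)) := by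
  by_contra hc
  exact S.not_centralizes hB hBc (h.unique _ inf_le_left hc) inf_le_right

theorem inter_card_le (S : Setting p E) (h : IsHigh p E q M W) {B : Subgroup G} (hB : B ≤ E)
    (hBc : p < Nat.card B) : Nat.card ↥(W ⊓ Subgroup.centralizer (B : Set G)) ≤ q :=
  card_le_of_cyclic_exponent h.prime.pos (S.inter_cyclic h hB hBc) fun x hx => h.exponent x hx.1

theorem fixed_eq_bot (S : Setting p E) (h : IsHigh p E q M W) :
    W ⊓ Subgroup.centralizer (E : Set G) = ⊥ := by
  have : Fact q.Prime := ⟨h.prime⟩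
  by_contra hne
  refine h.nc ?_
  have hEc : p < Nat.card E := lt_of_sq_lt S.three
  have hcard : Nat.card ↥(W ⊓ Subgroup.centralizer (E : Set G)) = q := by
    refine le_antisymm (S.inter_card_le h le_rfl hEc) ?_
    rcases ((isPGroup_high h).to_le inf_le_left).card_eq_or_dvd with e | e
    · exact absurd (Subgroup.eq_bot_of_card_eq _ e) hne
    · exact Nat.le_of_dvd Nat.card_pos e
  have hWle : W ≤ W ⊓ Subgroup.centralizer (E : Set G) := by
    refine (S.le_iSup_planes (not_dvd_card_high h) (h.le.trans h.norm)).trans (iSup_le fun B => ?_)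
    have hle : W ⊓ Subgroup.centralizer (E : Set G) ≤ W ⊓ Subgroup.centralizer ((B : Subgroup G) : Set G) :=
      inf_le_inf_left _ (Subgroup.centralizer_le (SetLike.coe_subset_coe.mpr B.2.1))
    exact (Subgroup.eq_of_le_of_card_ge hle
      ((S.inter_card_le h B.2.1 (S.lt_card_plane B.2)).trans hcard.ge)).ge
  rw [le_antisymm hWle inf_le_left]
  exact S.inter_cyclic h le_rfl hEc

theorem exists_two_lines (S : Setting p E) (h : IsHigh p E q M W) : ∃ B₁ B₂ : Subgroup G,
    IsPlane p E B₁ ∧ IsPlane p E B₂ ∧ B₁ ≠ B₂ ∧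
      W ⊓ Subgroup.centralizer (B₁ : Set G) ≠ ⊥ ∧ W ⊓ Subgroup.centralizer (B₂ : Set G) ≠ ⊥ := by
  have : Fact q.Prime := ⟨h.prime⟩
  by_contra hcon
  push Not at hcon
  have hle := S.le_iSup_planes (not_dvd_card_high h) (h.le.trans h.norm)
  by_cases hex : ∃ B : Subgroup G, IsPlane p E B ∧ W ⊓ Subgroup.centralizer (B : Set G) ≠ ⊥
  · obtain ⟨B, hB, hB1⟩ := hex
    refine h.nc ?_
    have hW : W ≤ W ⊓ Subgroup.centralizer (B : Set G) := hle.trans (iSup_le fun C => by
      by_cases hCB : (C : Subgroup G) = B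
      · rw [hCB]
      · rw [hcon B C hB C.2 (Ne.symm hCB) hB1]; exact bot_le)
    rw [le_antisymm hW inf_le_left]
    exact S.inter_cyclic h hB.1 (S.lt_card_plane hB)
  · push Not at hex
    refine h.nc ?_
    have hW : W = ⊥ := le_bot_iff.mp (hle.trans (iSup_le fun C => (hex C C.2).le))
    rw [hW]; infer_instance

/-- The group spanned by the fixed points of two different planes is a uniqueness subgroup. -/
theorem lines_unique (S : Setting p E) (h : IsHigh p E q M W) {B₁ B₂ : Subgroup G} (h1 : IsPlane p E B₁)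
    (h2 : IsPlane p E B₂) (hne : B₁ ≠ B₂) (hl1 : W ⊓ Subgroup.centralizer (B₁ : Set G) ≠ ⊥)
    (hl2 : W ⊓ Subgroup.centralizer (B₂ : Set G) ≠ ⊥) :
    InUniqueMaximal ((W ⊓ Subgroup.centralizer (B₁ : Set G)) ⊔ (W ⊓ Subgroup.centralizer (B₂ : Set G))) := by
  have : Fact q.Prime := ⟨h.prime⟩
  set L₁ := W ⊓ Subgroup.centralizer (B₁ : Set G) with hL₁
  set L₂ := W ⊓ Subgroup.centralizer (B₂ : Set G) with hL₂
  refine h.unique _ (sup_le inf_le_left inf_le_left) fun hc => ?_
  have hle := card_le_of_cyclic_exponent h.prime.pos hc fun x hx => h.exponent x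
    ((sup_le inf_le_left inf_le_left : L₁ ⊔ L₂ ≤ W) hx)
  have hge : ∀ {L : Subgroup G}, L ≤ W → L ≠ ⊥ → q ≤ Nat.card L := by
    intro L hL hL1
    rcases ((isPGroup_high h).to_le hL).card_eq_or_dvd with e | e
    · exact absurd (Subgroup.eq_bot_of_card_eq _ e) hL1
    · exact Nat.le_of_dvd Nat.card_pos e
  have e1 : L₁ = L₁ ⊔ L₂ := Subgroup.eq_of_le_of_card_ge le_sup_left (hle.trans (hge inf_le_left hl1))
  have e2 : L₂ = L₁ ⊔ L₂ := Subgroup.eq_of_le_of_card_ge le_sup_right (hle.trans (hge inf_le_left hl2))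
  refine hl1 (le_bot_iff.mp ((le_inf inf_le_left ?_).trans (S.fixed_eq_bot h).le))
  rw [← S.sup_planes h1 h2 hne, Subgroup.le_centralizer_iff]
  refine sup_le (Subgroup.le_centralizer_iff.mp inf_le_right) ?_
  rw [Subgroup.le_centralizer_iff]
  exact (e1.trans e2.symm).le.trans inf_le_right

theorem card_eq (S : Setting p E) (h : IsHigh p E q M W) : Nat.card E = p ^ 3 := by
  obtain ⟨n, hn⟩ := IsPGroup.iff_card.mp S.isPGroup
  have h3 := S.three
  rw [hn] at h3 ⊢
  have hn3 : 3 ≤ n := (Nat.pow_lt_pow_iff_right hp.out.one_lt).mp h3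
  rcases eq_or_lt_of_le hn3 with e | e
  · rw [← e]
  exfalso
  obtain ⟨B₁, B₂, h1, h2, hne, hl1, hl2⟩ := S.exists_two_lines h
  refine S.not_centralizes (B := B₁ ⊓ B₂) (inf_le_left.trans h1.1) ?_ (S.lines_unique h h1 h2 hne hl1 hl2)
    (sup_le (inf_le_right.trans (Subgroup.centralizer_le (SetLike.coe_subset_coe.mpr inf_le_left)))
      (inf_le_right.trans (Subgroup.centralizer_le (SetLike.coe_subset_coe.mpr inf_le_right))))
  by_contra hle
  have h4 : (B₁ ⊓ B₂).relIndex E ≤ p * p := Subgroup.relIndex_inf_le.trans (le_of_eq (by rw [h1.2, h2.2]))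
  have h5 := card_mul_relIndex (inf_le_left.trans h1.1 : B₁ ⊓ B₂ ≤ E)
  have h6 : p ^ n ≤ p ^ 3 := by
    rw [← hn, ← h5, pow_succ p 2, pow_two, mul_comm]
    exact Nat.mul_le_mul h4 (not_lt.mp hle)
  exact absurd ((Nat.pow_le_pow_iff_right hp.out.one_lt).mp h6) (not_le.mpr e)

theorem centralizer_le_high (S : Setting p E) (h : IsHigh p E q M W) :
    Subgroup.centralizer (E : Set G) ≤ M := by
  obtain ⟨B₁, B₂, h1, h2, hne, hl1, hl2⟩ := S.exists_two_lines h
  obtain ⟨c, hc, hc1⟩ := (Subgroup.bot_or_exists_ne_one _).resolve_left (S.plane_inter_ne_bot h1 h2)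
  refine (le_centralizer_singleton_of_mem (h1.1 hc.1)).trans (le_of_unique (S.lines_unique h h1 h2 hne hl1 hl2)
    h.coatom (sup_le (inf_le_left.trans (le_of_high h)) (inf_le_left.trans (le_of_high h)))
    (centralizer_ne_top S.mss rfl hc1 (s := ({c} : Set G))) (sup_le ?_ ?_))
  · exact inf_le_right.trans (le_centralizer_singleton_of_mem hc.1)
  · exact inf_le_right.trans (le_centralizer_singleton_of_mem hc.2)

theorem qmember_le (S : Setting p E) (h : IsHigh p E q M W) {Y : Subgroup G} (hY : IsPGroup q Y)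
    (hEY : E ≤ Subgroup.normalizer (Y : Set G)) : Y ≤ M := by
  have : Fact q.Prime := ⟨h.prime⟩
  obtain ⟨Q, hQ, hWQ⟩ := exists_maxInv_ge (isPGroup_high h) (h.le.trans h.norm)
  obtain ⟨R, hR, hYR⟩ := exists_maxInv_ge hY hEY
  have hQM : Q ≤ M := le_of_unique (h.unique W le_rfl h.nc) h.coatom (le_of_high h)
    (pGroup_ne_top S.mss (mem_invSubgroups_singleton.mp hQ.1).1) hWQ
  obtain ⟨k, hk, rfl⟩ := S.conjugate h.ne hQ hR
  refine hYR.trans ?_
  rintro _ ⟨x, hx, rfl⟩
  have hkM := S.centralizer_le_high h hk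
  exact mul_mem (mul_mem hkM (hQM hx)) (inv_mem hkM)

theorem high_unique (S : Setting p E) {M' W' : Subgroup G} (h : IsHigh p E q M W) (h' : IsHigh p E q M' W') :
    M' = M := by
  have : Fact q.Prime := ⟨h.prime⟩
  exact eq_of_unique (h'.unique W' le_rfl h'.nc) h.coatom h'.coatom
    (S.qmember_le h (isPGroup_high h') (h'.le.trans h'.norm)) (le_of_high h')

end high

/-- Subgroups with all Fitting ranks at most two. -/
theorem commutator_le_fittingOf (S : Setting p E) {H : Subgroup G} (hH : IsCoatom H) (hEH : E ≤ H)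
    (hlow : ∀ t W, ¬ IsHigh p E t H W) : ⁅H, H⁆ ≤ Cfsg.fittingOf H := by
  have hsol := isSolvable_of_ne_top S.mss hH.1
  have key := commutator_le_fittingSubgroup (G := H) (odd_card_subgroup S.mss H) (by
    intro r hr X hX hXe
    have : Fact r.Prime := ⟨hr⟩
    by_contra hbig
    obtain ⟨W, hW⟩ := S.exists_high_of_rank hH hEH (q := r) (X := X.map H.subtype) (Subgroup.map_mono hX)
      (ea_map hXe H.subtype) (by rw [Subgroup.card_map_of_injective H.subtype_injective]; exact not_le.mp hbig)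
    exact hlow r W hW)
  rw [← H.map_subtype_commutator]
  exact Subgroup.map_mono key

section line

variable {q : ℕ} {M W B : Subgroup G}

theorem commutator_line (S : Setting p E) (h : IsHigh p E q M W) (hB : IsPlane p E B)
    (hL : W ⊓ Subgroup.centralizer (B : Set G) ≠ ⊥) :
    ⁅W ⊓ Subgroup.centralizer (B : Set G), E⁆ = W ⊓ Subgroup.centralizer (B : Set G) := by
  have : Fact q.Prime := ⟨h.prime⟩
  set L := W ⊓ Subgroup.centralizer (B : Set G) with hLdef
  have hEL : E ≤ Subgroup.normalizer (L : Set G) :=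
    le_normalizer_inf_centralizer (h.le.trans h.norm) (S.le_centralizer_of_le hB.1)
  have hle : ⁅L, E⁆ ≤ L := Subgroup.le_normalizer_iff_commutator_le_left.mp hEL
  refine Subgroup.eq_of_le_of_card_ge hle ((S.inter_card_le h hB.1 (S.lt_card_plane hB)).trans ?_)
  rcases ((isPGroup_high h).to_le (hle.trans inf_le_left)).card_eq_or_dvd with e | e
  · refine absurd ?_ hL
    exact le_bot_iff.mp ((le_inf inf_le_left (Subgroup.commutator_eq_bot_iff_le_centralizer.mp
      (Subgroup.eq_bot_of_card_eq _ e))).trans (S.fixed_eq_bot h).le)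
  · exact Nat.le_of_dvd Nat.card_pos e

/-- A maximal subgroup of low rank containing a line of a high `M` has its `p'`-core in `M`. -/
theorem low_le (S : Setting p E) (h : IsHigh p E q M W) {H : Subgroup G} (hH : IsCoatom H) (hEH : E ≤ H)
    (hlow : ∀ t V, ¬ IsHigh p E t H V) (hB : IsPlane p E B)
    (hL : W ⊓ Subgroup.centralizer (B : Set G) ≠ ⊥) (hLH : W ⊓ Subgroup.centralizer (B : Set G) ≤ H) :
    pPrimeCoreIn p H ≤ M := by
  have : Fact q.Prime := ⟨h.prime⟩
  set L := W ⊓ Subgroup.centralizer (B : Set G) with hLdef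
  set O := pPrimeCoreIn p H with hO
  have hder := S.commutator_le_fittingOf hH hEH hlow
  have hLq : IsPGroup q L := (isPGroup_high h).to_le inf_le_left
  have hLcore : L ≤ coreP q H := by
    intro l hl
    refine mem_coreP_of_mem_fittingOf (hder ?_) ?_
    · exact (Subgroup.commutator_mono hLH hEH) ((S.commutator_line h hB hL).ge hl)
    · obtain ⟨j, hj⟩ := hLq ⟨l, hl⟩
      exact ⟨j, congrArg Subtype.val hj⟩
  obtain ⟨x, hx, hx1⟩ := (Subgroup.bot_or_exists_ne_one L).resolve_left hL
  have hEO : E ≤ Subgroup.normalizer (O : Set G) := hEH.trans (le_normalizer_pPrimeCoreIn H)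
  have hOM : ⁅O, E⁆ ≤ M := by
    refine le_of_pElements_mem fun s hs b hb hbo => ?_
    have : Fact s.Prime := ⟨hs⟩
    have hbO : b ∈ O := Subgroup.le_normalizer_iff_commutator_le_left.mp hEO hb
    have hbc : b ∈ coreP s H := mem_coreP_of_mem_fittingOf
      (hder ((Subgroup.commutator_mono (pPrimeCoreIn_le p H) hEH) hb)) hbo
    by_cases hsp : s = p
    · obtain ⟨j, hj⟩ := hbo
      have h1 : orderOf b ∣ p ^ j := orderOf_dvd_of_pow_eq_one (hsp ▸ hj)
      have h2 : orderOf b ∣ Nat.card O := Subgroup.orderOf_dvd_natCard O hbO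
      have hcop : (p ^ j).Coprime (Nat.card O) :=
        (hp.out.coprime_iff_not_dvd.mpr (not_dvd_card_pPrimeCoreIn H)).pow_left j
      rw [orderOf_eq_one_iff.mp (Nat.eq_one_of_dvd_coprimes hcop h1 h2)]
      exact one_mem M
    by_cases hsq : s = q
    · subst hsq
      exact S.qmember_le h (isPGroup_coreP s H) (hEH.trans (le_normalizer_coreP s H)) hbc
    · exact h.cent x hx.1 hx1 (Subgroup.mem_centralizer_singleton_iff.mpr
        (commute_coreP hsq hbc (hLcore hx)).eq)
  rw [← Basics.commutator_sup_inf_centralizer E O hEO (S.coprime_card (not_dvd_card_pPrimeCoreIn H))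
    (Or.inl (Group.isSolvable_of_comm S.ea.1.is_comm.comm))]
  exact sup_le hOM (inf_le_right.trans (S.centralizer_le_high h))

/-- The pencil: a line `L` of `M` in another high `H` produces `p` planes with lines of `H` outside `M`. -/
theorem pencil (S : Setting p E) (h : IsHigh p E q M W) {t : ℕ} {H V : Subgroup G} (hH : IsHigh p E t H V)
    (hne : H ≠ M) (hB : IsPlane p E B) (hL : W ⊓ Subgroup.centralizer (B : Set G) ≠ ⊥)
    (hLH : W ⊓ Subgroup.centralizer (B : Set G) ≤ H) :
    q ∣ t ^ p - 1 ∧ t ≠ q ∧ ∃ (k : Subgroup G) (f : Fin p → Subgroup G), k ≤ B ∧ k ≠ ⊥ ∧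
      (∃ U : Subgroup G, U ≤ V ∧ ¬ IsCyclic U ∧ U ≤ Subgroup.centralizer (k : Set G)) ∧
      Function.Injective f ∧ ∀ i, IsPlane p E (f i) ∧ k ≤ f i ∧
        ∃ u ∈ V ⊓ Subgroup.centralizer (f i : Set G), u ∉ M := by
  have : Fact q.Prime := ⟨h.prime⟩
  have : Fact t.Prime := ⟨hH.prime⟩
  set L := W ⊓ Subgroup.centralizer (B : Set G) with hLdef
  have htq : t ≠ q := by
    rintro rfl
    exact hne (S.high_unique h hH)
  have hLq : IsPGroup q L := (isPGroup_high h).to_le inf_le_left
  have hLcard : Nat.card L = q := by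
    refine le_antisymm (S.inter_card_le h hB.1 (S.lt_card_plane hB)) ?_
    rcases hLq.card_eq_or_dvd with e | e
    · exact absurd (Subgroup.eq_bot_of_card_eq _ e) hL
    · exact Nat.le_of_dvd Nat.card_pos e
  obtain ⟨x, hx, hx1⟩ := (Subgroup.bot_or_exists_ne_one L).resolve_left hL
  have hEL : E ≤ Subgroup.normalizer (L : Set G) :=
    le_normalizer_inf_centralizer (h.le.trans h.norm) (S.le_centralizer_of_le hB.1)
  have hLB : L ≤ Subgroup.centralizer (B : Set G) := inf_le_right
  -- a cyclic invariant subgroup is centralized by `L`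
  have hcyc : ∀ C : Subgroup G, IsCyclic C → L ≤ Subgroup.normalizer (C : Set G) →
      E ≤ Subgroup.normalizer (C : Set G) → C ≤ Subgroup.centralizer (L : Set G) := by
    intro C hC hLC hEC
    rw [Subgroup.le_centralizer_iff, hLdef, ← S.commutator_line h hB hL, ← hLdef, Subgroup.commutator_le]
    intro l hl e he
    rw [Subgroup.mem_centralizer_iff]
    exact fun c hc => (commute_of_normalizes_cyclic hC (hLC hl) (hEC he) hc).eq.symm
  have hVp := not_dvd_card_high hH
  have hEV : E ≤ Subgroup.normalizer (V : Set G) := hH.le.trans hH.norm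
  have hLV : L ≤ Subgroup.normalizer (V : Set G) := hLH.trans hH.norm
  have hnV : ¬ V ≤ Subgroup.centralizer (L : Set G) := fun hle =>
    hne (eq_of_unique (hH.unique V le_rfl hH.nc) h.coatom hH.coatom
      ((hle.trans (le_centralizer_singleton_of_mem hx)).trans (h.cent x hx.1 hx1)) (le_of_high hH))
  obtain ⟨B', hB', hB'n⟩ : ∃ B' : Subgroup G, IsPlane p E B' ∧
      ¬ V ⊓ Subgroup.centralizer (B' : Set G) ≤ Subgroup.centralizer (L : Set G) := by
    by_contra hcon
    push Not at hcon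
    exact hnV ((S.le_iSup_planes hVp hEV).trans (iSup_le fun C => hcon C C.2))
  have hBne : B ≠ B' := by
    rintro rfl
    exact hB'n (hcyc _ (S.inter_cyclic hH hB.1 (S.lt_card_plane hB))
      (le_normalizer_inf_centralizer hLV hLB)
      (le_normalizer_inf_centralizer hEV (S.le_centralizer_of_le hB.1)))
  set k := B ⊓ B' with hk
  have hkE : k ≤ E := inf_le_left.trans hB.1
  have hE3 := S.card_eq h
  have hB2 : Nat.card B = p ^ 2 := by
    have h1 := card_plane_mul hB
    rw [hE3, pow_succ p 2] at h1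
    exact Nat.eq_of_mul_eq_mul_right hp.out.pos h1
  have hB'2 : Nat.card B' = p ^ 2 := by
    have h1 := card_plane_mul hB'
    rw [hE3, pow_succ p 2] at h1
    exact Nat.eq_of_mul_eq_mul_right hp.out.pos h1
  have hk1 : k ≠ ⊥ := S.plane_inter_ne_bot hB hB'
  have hkp : Nat.card k = p := by
    obtain ⟨n, hn⟩ := IsPGroup.iff_card.mp (S.isPGroup.to_le hkE)
    have hd : p ^ n ∣ p ^ 2 := by rw [← hn, ← hB2]; exact Subgroup.card_dvd_of_le inf_le_left
    have hn2 : n ≤ 2 := (Nat.pow_dvd_pow_iff_le_right hp.out.one_lt).mp hd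
    interval_cases n
    · exact absurd (Subgroup.eq_bot_of_card_eq k (by rw [hn, pow_zero])) hk1
    · rw [hn, pow_one]
    · have e1 : k = B := Subgroup.eq_of_le_of_card_ge inf_le_left (by rw [hB2, hn])
      have e2 : k = B' := Subgroup.eq_of_le_of_card_ge inf_le_right (by rw [hB'2, hn])
      exact absurd (e1.symm.trans e2) hBne
  set U := V ⊓ Subgroup.centralizer (k : Set G) with hU
  have hLk : L ≤ Subgroup.centralizer (k : Set G) :=
    hLB.trans (Subgroup.centralizer_le (SetLike.coe_subset_coe.mpr inf_le_left))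
  have hLU : L ≤ Subgroup.normalizer (U : Set G) := le_normalizer_inf_centralizer hLV hLk
  have hEU : E ≤ Subgroup.normalizer (U : Set G) :=
    le_normalizer_inf_centralizer hEV (S.le_centralizer_of_le hkE)
  have hUn : ¬ U ≤ Subgroup.centralizer (L : Set G) := fun hle => hB'n ((inf_le_inf_left _
    (Subgroup.centralizer_le (SetLike.coe_subset_coe.mpr inf_le_right))).trans hle)
  have hUnc : ¬ IsCyclic U := fun hc => hUn (hcyc U hc hLU hEU)
  -- a generator `b` of `B` over `k` and `e` of `E` over `B`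
  obtain ⟨b, hbB, hbk⟩ : ∃ b ∈ B, b ∉ k := SetLike.not_le_iff_exists.mp fun hle => by
    have h1 := Subgroup.card_le_of_le hle
    rw [hB2, hkp] at h1
    exact absurd h1 (not_le.mpr (by rw [pow_two]; exact lt_mul_of_one_lt_right hp.out.pos hp.out.one_lt))
  obtain ⟨e, heE, heB⟩ : ∃ e ∈ E, e ∉ B := SetLike.not_le_iff_exists.mp fun hle => by
    have h1 := Subgroup.card_le_of_le hle
    rw [hB2] at h1
    exact absurd h1 (not_le.mpr S.three)
  have hbE : b ∈ E := hB.1 hbB
  have hb1 : b ≠ 1 := fun e1 => hbk (e1 ▸ one_mem k)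
  have hcardsup : ∀ c ∈ E, c ∉ k → p < Nat.card ↥(k ⊔ Subgroup.zpowers c) := fun c _ hck => by
    rw [← hkp]
    exact Basics.card_lt_of_lt (lt_of_le_of_ne le_sup_left fun e1 =>
      hck (e1.ge (Subgroup.mem_sup_right (Subgroup.mem_zpowers c))))
  have hBgen : B = k ⊔ Subgroup.zpowers b := by
    refine (Subgroup.eq_of_le_of_card_ge (sup_le inf_le_left (Subgroup.zpowers_le.mpr hbB)) ?_).symm
    obtain ⟨n, hn⟩ := IsPGroup.iff_card.mp
      (S.isPGroup.to_le (sup_le hkE (Subgroup.zpowers_le.mpr hbE) : k ⊔ Subgroup.zpowers b ≤ E))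
    have h1 := hcardsup b hbE hbk
    rw [hn] at h1 ⊢
    rw [hB2]
    refine Nat.pow_le_pow_right hp.out.pos ((Nat.pow_lt_pow_iff_right hp.out.one_lt).mp ?_)
    rwa [pow_one]
  have hEgen : E = B ⊔ Subgroup.zpowers e := by
    refine (Subgroup.eq_of_le_of_card_ge (sup_le hB.1 (Subgroup.zpowers_le.mpr heE)) ?_).symm
    obtain ⟨n, hn⟩ := IsPGroup.iff_card.mp
      (S.isPGroup.to_le (sup_le hB.1 (Subgroup.zpowers_le.mpr heE) : B ⊔ Subgroup.zpowers e ≤ E))
    have h1 : p ^ 2 < Nat.card ↥(B ⊔ Subgroup.zpowers e) := by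
      rw [← hB2]
      exact Basics.card_lt_of_lt (lt_of_le_of_ne le_sup_left fun e1 =>
        heB (e1.ge (Subgroup.mem_sup_right (Subgroup.mem_zpowers e))))
    rw [hn] at h1 ⊢
    rw [hE3]
    exact Nat.pow_le_pow_right hp.out.pos ((Nat.pow_lt_pow_iff_right hp.out.one_lt).mp h1)
  -- the pencil lemma at `e * b ^ i`
  have hpen : ∀ i : ℕ, (∃ u ∈ U, Commute u (e * b ^ i) ∧ u ∉ Subgroup.centralizer (L : Set G)) ∧
      q ∣ t ^ p - 1 := by
    intro i
    have hiE : e * b ^ i ∈ E := mul_mem heE (pow_mem hbE i)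
    have hiB : e * b ^ i ∉ B := fun hm => heB (by
      have := mul_mem hm (inv_mem (pow_mem hbB i))
      rwa [mul_inv_cancel_right] at this)
    refine pencil_aux (p := p) (q := q) (t := t) h.ne.symm hH.ne.symm htq.symm _ U L (e * b ^ i) b rfl
      ((isPGroup_high hH).to_le inf_le_left) hLcard hLU (hEU hiE) (hEU hbE) (hEL hiE) (S.ea.2 _ hiE)
      (S.ea.2 _ hbE) hb1 (ea_commute S.ea hiE hbE)
      (fun l hl => (Subgroup.mem_centralizer_iff.mp (hLB hl) b hbB)) ?_ ?_ hUn
    · intro l hl hc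
      refine Subgroup.mem_bot.mp ((S.fixed_eq_bot h).le ⟨hl.1, ?_⟩)
      change l ∈ Subgroup.centralizer (E : Set G)
      have h1 : E ≤ Subgroup.centralizer ({l} : Set G) := by
        rw [hEgen, sup_le_iff, Subgroup.zpowers_le]
        refine ⟨fun c hc' => Subgroup.mem_centralizer_singleton_iff.mpr
          (Subgroup.mem_centralizer_iff.mp (hLB hl) c hc'), ?_⟩
        rw [Subgroup.mem_centralizer_singleton_iff]
        have h2 : Commute (b ^ i) l := (show Commute b l from Subgroup.mem_centralizer_iff.mp (hLB hl) b hbB).pow_left i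
        have := hc.mul_left h2.inv_left
        rwa [mul_inv_cancel_right] at this
      exact Subgroup.mem_centralizer_iff.mpr fun c hc' => Subgroup.mem_centralizer_singleton_iff.mp (h1 hc')
    · intro c hc hc1
      set E2 := Subgroup.zpowers (e * b ^ i) ⊔ Subgroup.zpowers b with hE2
      have hE2E : E2 ≤ E := sup_le (Subgroup.zpowers_le.mpr hiE) (Subgroup.zpowers_le.mpr hbE)
      have hck : c ∉ k := by
        intro hck
        have hz : Subgroup.zpowers c = k :=
          Subgroup.eq_of_le_of_card_ge (Subgroup.zpowers_le.mpr hck)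
            (by rw [Nat.card_zpowers, hkp, orderOf_eq_prime (S.ea.2 c (hE2E hc)) hc1])
        have hEle : E ≤ E2 := by
          rw [hEgen, hBgen, ← hz]
          refine sup_le (sup_le (Subgroup.zpowers_le.mpr hc) le_sup_right) (Subgroup.zpowers_le.mpr ?_)
          have := mul_mem (Subgroup.mem_sup_left (Subgroup.mem_zpowers (e * b ^ i)) : e * b ^ i ∈ E2)
            (inv_mem (pow_mem (Subgroup.mem_sup_right (Subgroup.mem_zpowers b)) i))
          rwa [mul_inv_cancel_right] at this
        have h1 := (Subgroup.card_le_of_le hEle).trans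
          (card_zpowers_sup_le (ea_commute S.ea hiE hbE) (S.ea.2 _ hiE) (S.ea.2 _ hbE) hp.out.pos)
        exact absurd h1 (not_le.mpr (by rw [← pow_two]; exact S.three))
      have hle : U ⊓ Subgroup.centralizer ({c} : Set G) ≤
          V ⊓ Subgroup.centralizer ((k ⊔ Subgroup.zpowers c : Subgroup G) : Set G) := by
        refine le_inf (inf_le_left.trans inf_le_left) ?_
        rw [Subgroup.le_centralizer_iff]
        refine sup_le (Subgroup.le_centralizer_iff.mp (inf_le_left.trans inf_le_right)) ?_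
        rw [Subgroup.zpowers_le, Subgroup.mem_centralizer_iff]
        exact fun y hy => Subgroup.mem_centralizer_singleton_iff.mp hy.2
      exact (Subgroup.card_le_of_le hle).trans (S.inter_card_le hH
        (sup_le hkE (Subgroup.zpowers_le.mpr (hE2E hc))) (hcardsup c (hE2E hc) hck))
  refine ⟨(hpen 0).2, htq, k, fun i => k ⊔ Subgroup.zpowers (e * b ^ (i : ℕ)), inf_le_left, hk1,
    ⟨U, inf_le_left, hUnc, inf_le_right⟩, ?_, fun i => ⟨?_, le_sup_left, ?_⟩⟩
  · intro i j hij
    by_contra hne'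
    have hij' : k ⊔ Subgroup.zpowers (e * b ^ (i : ℕ)) = k ⊔ Subgroup.zpowers (e * b ^ (j : ℕ)) := hij
    set F := k ⊔ Subgroup.zpowers (e * b ^ (i : ℕ)) with hF
    have hi : e * b ^ (i : ℕ) ∈ F := Subgroup.mem_sup_right (Subgroup.mem_zpowers _)
    have hj : e * b ^ (j : ℕ) ∈ F := hij'.ge (Subgroup.mem_sup_right (Subgroup.mem_zpowers _))
    have hd : b ^ ((j : ℤ) - (i : ℕ)) ∈ F := by
      have := mul_mem (inv_mem hi) hj
      have e1 : (e * b ^ (i : ℕ))⁻¹ * (e * b ^ (j : ℕ)) = b ^ ((j : ℤ) - (i : ℕ)) := by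
        rw [mul_inv_rev, zpow_sub, zpow_natCast, zpow_natCast,
          show b ^ (j : ℕ) * (b ^ (i : ℕ))⁻¹ = (b ^ (i : ℕ))⁻¹ * b ^ (j : ℕ) from
            (((Commute.refl b).pow_pow _ _).inv_right).eq]
        group
      rwa [e1] at this
    have hcop : IsCoprime ((j : ℤ) - (i : ℕ)) (p : ℤ) := by
      refine ((Nat.prime_iff_prime_int.mp hp.out).coprime_iff_not_dvd.mpr fun hd' => hne' ?_).symm
      obtain ⟨c, hc⟩ := hd'
      have hj2 := j.2
      have hi2 := i.2
      rcases eq_or_ne c 0 with rfl | h0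
      · rw [mul_zero] at hc; exact Fin.ext (by omega)
      · exfalso
        have : (p : ℤ) ≤ |(j : ℤ) - (i : ℕ)| := by
          rw [hc, abs_mul, Nat.abs_cast]
          exact le_mul_of_one_le_right (Int.natCast_nonneg p) (Int.one_le_abs h0)
        rw [le_abs] at this
        omega
    obtain ⟨r, s, hrs⟩ := hcop
    have hbF : b ∈ F := by
      have : b = (b ^ ((j : ℤ) - (i : ℕ))) ^ r := by
        calc b = b ^ (r * ((j : ℤ) - (i : ℕ)) + s * (p : ℤ)) := by rw [hrs, zpow_one]
          _ = (b ^ ((j : ℤ) - (i : ℕ))) ^ r := by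
            rw [zpow_add, mul_comm r, zpow_mul, mul_comm s, zpow_mul, zpow_natCast, S.ea.2 b hbE, one_zpow, mul_one]
      rw [this]
      exact zpow_mem hd r
    have hEF : E ≤ F := by
      rw [hEgen, hBgen]
      refine sup_le (sup_le le_sup_left (Subgroup.zpowers_le.mpr hbF)) (Subgroup.zpowers_le.mpr ?_)
      have := mul_mem hi (inv_mem (pow_mem hbF (i : ℕ)))
      rwa [mul_inv_cancel_right] at this
    have hkc : ∀ z ∈ k, z ^ p = 1 := fun z hz => S.ea.2 z (hkE hz)
    obtain ⟨z, hz, hz1⟩ := (Subgroup.bot_or_exists_ne_one k).resolve_left hk1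
    have hzk : Subgroup.zpowers z = k := Subgroup.eq_of_le_of_card_ge (Subgroup.zpowers_le.mpr hz)
      (by rw [Nat.card_zpowers, hkp, orderOf_eq_prime (hkc z hz) hz1])
    have h1 := Subgroup.card_le_of_le hEF
    rw [hF, ← hzk] at h1
    have h2 := h1.trans (card_zpowers_sup_le (ea_commute S.ea (hkE hz) (mul_mem heE (pow_mem hbE _)))
      (hkc z hz) (S.ea.2 _ (mul_mem heE (pow_mem hbE _))) hp.out.pos)
    exact absurd h2 (not_le.mpr (by rw [← pow_two]; exact S.three))
  · refine ⟨sup_le hkE (Subgroup.zpowers_le.mpr (mul_mem heE (pow_mem hbE _))), ?_⟩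
    set F := k ⊔ Subgroup.zpowers (e * b ^ (i : ℕ)) with hF
    have hFE : F ≤ E := sup_le hkE (Subgroup.zpowers_le.mpr (mul_mem heE (pow_mem hbE _)))
    have hnk : e * b ^ (i : ℕ) ∉ k := fun hm => heB (by
      have := mul_mem ((inf_le_left : k ≤ B) hm) (inv_mem (pow_mem hbB (i : ℕ)))
      rwa [mul_inv_cancel_right] at this)
    have hF2 : Nat.card F = p ^ 2 := by
      obtain ⟨z, hz, hz1⟩ := (Subgroup.bot_or_exists_ne_one k).resolve_left hk1
      have hzk : Subgroup.zpowers z = k := Subgroup.eq_of_le_of_card_ge (Subgroup.zpowers_le.mpr hz)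
        (by rw [Nat.card_zpowers, hkp, orderOf_eq_prime (S.ea.2 z (hkE hz)) hz1])
      refine le_antisymm ?_ ?_
      · rw [hF, ← hzk, pow_two]
        exact card_zpowers_sup_le (ea_commute S.ea (hkE hz) (mul_mem heE (pow_mem hbE _)))
          (S.ea.2 z (hkE hz)) (S.ea.2 _ (mul_mem heE (pow_mem hbE _))) hp.out.pos
      · obtain ⟨n, hn⟩ := IsPGroup.iff_card.mp (S.isPGroup.to_le hFE)
        have h1 : p < Nat.card F := hcardsup _ (mul_mem heE (pow_mem hbE _)) hnk
        rw [hn] at h1 ⊢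
        refine Nat.pow_le_pow_right hp.out.pos ((Nat.pow_lt_pow_iff_right hp.out.one_lt).mp ?_)
        rwa [pow_one]
    have h1 := card_mul_relIndex hFE
    rw [hF2, hE3, pow_succ p 2] at h1
    exact Nat.eq_of_mul_eq_mul_left (pow_pos hp.out.pos 2) h1
  · obtain ⟨u, hu, huc, hun⟩ := (hpen (i : ℕ)).1
    refine ⟨u, ⟨hu.1, ?_⟩, fun huM => hun ?_⟩
    · change u ∈ Subgroup.centralizer _
      rw [Subgroup.mem_centralizer_iff]
      intro c hc
      have h1 : k ⊔ Subgroup.zpowers (e * b ^ (i : ℕ)) ≤ Subgroup.centralizer ({u} : Set G) := by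
        refine sup_le (fun z hz => ?_) (Subgroup.zpowers_le.mpr ?_)
        · exact Subgroup.mem_centralizer_singleton_iff.mpr (Subgroup.mem_centralizer_iff.mp hu.2 z hz)
        · exact Subgroup.mem_centralizer_singleton_iff.mpr huc.eq.symm
      exact Subgroup.mem_centralizer_singleton_iff.mp (h1 hc)
    · rw [Subgroup.mem_centralizer_iff]
      intro l hl
      have hlq : l ∈ coreP q M := h.sub hl.1
      have hut : u ∈ coreP t H := hH.sub hu.1
      have h1 : ⁅l, u⁆ ∈ coreP q M := by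
        have := mul_mem hlq ((Subgroup.mem_normalizer_iff.mp (le_normalizer_coreP q M huM) _).mp (inv_mem hlq))
        rw [commutatorElement_def]
        simpa [mul_assoc] using this
      have h2 : ⁅l, u⁆ ∈ coreP t H := by
        have := mul_mem ((Subgroup.mem_normalizer_iff.mp (le_normalizer_coreP t H (hLH hl)) _).mp hut) (inv_mem hut)
        rw [commutatorElement_def]
        exact this
      have h3 : Disjoint (coreP q M) (coreP t H) :=
        IsPGroup.disjoint_of_ne _ _ htq.symm _ _ (isPGroup_coreP q M) (isPGroup_coreP t H)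
      exact commutatorElement_eq_one_iff_mul_comm.mp (Subgroup.disjoint_def.mp h3 h1 h2)

end line

/-- No foreign high subgroup holds a line of the high subgroup of the largest prime. -/
theorem no_foreign_high (S : Setting p E) {q : ℕ} {M W B : Subgroup G} (h : IsHigh p E q M W)
    (hmax : ∀ t H V, IsHigh p E t H V → t ≤ q) {t : ℕ} {H V : Subgroup G} (hH : IsHigh p E t H V) (hne : H ≠ M)
    (hB : IsPlane p E B) (hL : W ⊓ Subgroup.centralizer (B : Set G) ≠ ⊥) :
    ¬ W ⊓ Subgroup.centralizer (B : Set G) ≤ H := by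
  intro hLH
  have : Fact q.Prime := ⟨h.prime⟩
  obtain ⟨-, -, k, f, hkB, hk1, ⟨U, hUV, hUnc, hUk⟩, hfinj, hf⟩ := S.pencil h hH hne hB hL hLH
  obtain ⟨B₁, B₂, h1, h2, hne12, hl1, hl2⟩ := S.exists_two_lines h
  obtain ⟨Bj, hBj, hjne, hLj⟩ : ∃ Bj, IsPlane p E Bj ∧ B ≠ Bj ∧ W ⊓ Subgroup.centralizer (Bj : Set G) ≠ ⊥ := by
    by_cases e : B = B₁
    · exact ⟨B₂, h2, e ▸ hne12, hl2⟩
    · exact ⟨B₁, h1, e, hl1⟩
  have hpair := S.lines_unique h hB hBj hjne hL hLj
  have hpairM : (W ⊓ Subgroup.centralizer (B : Set G)) ⊔ (W ⊓ Subgroup.centralizer (Bj : Set G)) ≤ M :=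
    sup_le (inf_le_left.trans (le_of_high h)) (inf_le_left.trans (le_of_high h))
  have hkj : ¬ k ≤ Bj := by
    intro hle
    obtain ⟨c, hc, hc1⟩ := (Subgroup.bot_or_exists_ne_one k).resolve_left hk1
    have hCM : Subgroup.centralizer ({c} : Set G) ≤ M := le_of_unique hpair h.coatom hpairM
      (centralizer_ne_top S.mss rfl hc1 (s := ({c} : Set G)))
      (sup_le (inf_le_right.trans (le_centralizer_singleton_of_mem (hkB hc)))
        (inf_le_right.trans (le_centralizer_singleton_of_mem (hle hc))))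
    exact hne (eq_of_unique (hH.unique U hUV hUnc) h.coatom hH.coatom
      ((hUk.trans (le_centralizer_singleton_of_mem hc)).trans hCM) (hUV.trans (le_of_high hH)))
  -- a high subgroup for each plane of the pencil
  have hex : ∀ i : Fin p, ∃ (r : ℕ) (K X : Subgroup G), IsHigh p E r K X ∧ K ≠ M ∧ K ≠ H ∧
      W ⊓ Subgroup.centralizer (Bj : Set G) ≤ K ∧ V ⊓ Subgroup.centralizer (f i : Set G) ≤ K := by
    intro i
    obtain ⟨hfi, hkf, u, hu, huM⟩ := hf i
    obtain ⟨c, hc, hc1⟩ := (Subgroup.bot_or_exists_ne_one _).resolve_left (S.plane_inter_ne_bot hBj hfi)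
    obtain ⟨K, hK, hCK⟩ := exists_maximal_ge (centralizer_ne_top S.mss rfl hc1 (s := ({c} : Set G)))
    have hjK : W ⊓ Subgroup.centralizer (Bj : Set G) ≤ K :=
      (inf_le_right.trans (le_centralizer_singleton_of_mem hc.1)).trans hCK
    have huK : V ⊓ Subgroup.centralizer (f i : Set G) ≤ K :=
      (inf_le_right.trans (le_centralizer_singleton_of_mem hc.2)).trans hCK
    have hEK : E ≤ K := (S.le_centralizer.trans (le_centralizer_singleton_of_mem (hBj.1 hc.1))).trans hCK
    have hKM : K ≠ M := fun e => huM (e ▸ huK hu)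
    have hKH : K ≠ H := fun e => hne (eq_of_unique hpair h.coatom hH.coatom hpairM
      (sup_le hLH (e ▸ hjK)))
    by_cases hlow : ∀ r X, ¬ IsHigh p E r K X
    · exfalso
      refine huM (S.low_le h hK hEK hlow hBj hLj hjK ?_)
      have : Fact t.Prime := ⟨hH.prime⟩
      exact S.member_le hK.1 hEK huK
        (not_dvd_of_isPGroup hH.ne ((isPGroup_high hH).to_le inf_le_left))
        (le_normalizer_inf_centralizer (hH.le.trans hH.norm) (S.le_centralizer_of_le hfi.1)) hu
    · push Not at hlow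
      obtain ⟨r, X, hX⟩ := hlow
      exact ⟨r, K, X, hX, hKM, hKH, hjK, huK⟩
  choose r K X hX hKM hKH hjK huK using hex
  have hroot : ∀ i, q ∣ r i ^ p - 1 ∧ r i ≠ q := fun i =>
    ⟨(S.pencil h (hX i) (hKM i) hBj hLj (hjK i)).1, (S.pencil h (hX i) (hKM i) hBj hLj (hjK i)).2.1⟩
  have hrinj : Function.Injective r := by
    intro i j hij
    by_contra hne'
    have hKK : K j = K i := by
      have h' := hX j
      rw [← hij] at h'
      exact S.high_unique (hX i) h'
    obtain ⟨hfi, -, ui, hui, huiM⟩ := hf i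
    obtain ⟨hfj, -, uj, huj, hujM⟩ := hf j
    have hU2 := S.lines_unique hH hfi hfj (fun e => hne' (hfinj e))
      (fun e => huiM ((Subgroup.mem_bot.mp (e.le hui)).symm ▸ one_mem M))
      (fun e => hujM ((Subgroup.mem_bot.mp (e.le huj)).symm ▸ one_mem M))
    exact hKH i (eq_of_unique hU2 hH.coatom (hX i).coatom
      (sup_le (inf_le_left.trans (le_of_high hH)) (inf_le_left.trans (le_of_high hH)))
      (sup_le (huK i) (hKK ▸ huK j)))
  classical
  let g : Option (Fin p) → ZMod q := fun o => o.elim 1 fun i => (r i : ZMod q)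
  have hlt : ∀ i, r i < q := fun i => lt_of_le_of_ne (hmax _ _ _ (hX i)) (hroot i).2
  have hginj : Function.Injective g := by
    have h1 : ∀ i, (r i : ZMod q) ≠ 1 := fun i e => by
      have e' := (ZMod.natCast_eq_natCast_iff' (r i) 1 q).mp (e.trans Nat.cast_one.symm)
      rw [Nat.mod_eq_of_lt (hlt i), Nat.mod_eq_of_lt h.prime.one_lt] at e'
      exact (hX i).prime.one_lt.ne' e'
    rintro (_ | i) (_ | j) e
    · rfl
    · exact absurd e.symm (h1 j)
    · exact absurd e (h1 i)
    · have e' := (ZMod.natCast_eq_natCast_iff' (r i) (r j) q).mp e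
      rw [Nat.mod_eq_of_lt (hlt i), Nat.mod_eq_of_lt (hlt j)] at e'
      exact congrArg some (hrinj e')
  have hsub : Finset.univ.image g ⊆ (Polynomial.nthRoots p (1 : ZMod q)).toFinset := by
    intro a ha
    obtain ⟨o, -, rfl⟩ := Finset.mem_image.mp ha
    rw [Multiset.mem_toFinset, Polynomial.mem_nthRoots hp.out.pos]
    cases o with
    | none => exact one_pow p
    | some i =>
      have h1 := (ZMod.natCast_eq_zero_iff _ q).mpr (hroot i).1
      rw [Nat.cast_sub (Nat.one_le_pow _ _ (hX i).prime.pos), sub_eq_zero, Nat.cast_pow, Nat.cast_one] at h1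
      exact h1
  have h1 := Finset.card_le_card hsub
  rw [Finset.card_image_of_injective _ hginj, Finset.card_univ, Fintype.card_option, Fintype.card_fin] at h1
  exact absurd (h1.trans ((Multiset.toFinset_card_le _).trans (Polynomial.card_nthRoots p 1))) (by omega)

/-- A rank three elementary abelian group on a group of order at most `s ^ 2` has a kernel. -/
theorem exists_centralizing {X : Type*} [Group X] [Finite X] {E V : Subgroup X} {s : ℕ} [Fact s.Prime]
    (hsp : s ≠ p) (hE : IsElementaryAbelian p E) (hE3 : p ^ 2 < Nat.card E) (hVc : IsMulCommutative V)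
    (hVs : IsPGroup s V) (hV : Nat.card V ≤ s ^ 2) (hEV : E ≤ Subgroup.normalizer (V : Set X)) :
    ∃ a ∈ E, a ≠ 1 ∧ V ≤ Subgroup.centralizer ({a} : Set X) := by
  have hcop : ∀ {D : Subgroup X}, D ≤ V → (Nat.card E).Coprime (Nat.card D) := fun hD =>
    coprime_pGroups hsp.symm (isPGroup_of_exponent hE.2) (hVs.to_le hD)
  have hgen : ∀ {D : Subgroup X}, D ≤ V → E ≤ Subgroup.normalizer (D : Set X) →
      D ≤ ⨆ B : {B : Subgroup X // IsPlane p E B}, D ⊓ Subgroup.centralizer ((B : Subgroup X) : Set X) :=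
    fun hD hn => Components.le_iSup_centralizer_index_eq hE hE3.le
      (not_dvd_of_isPGroup hsp (hVs.to_le hD)) hn
  have hge : ∀ {D : Subgroup X}, D ≤ V → D ≠ ⊥ → s ≤ Nat.card D := by
    intro D hD hD1
    rcases (hVs.to_le hD).card_eq_or_dvd with e | e
    · exact absurd (Subgroup.eq_bot_of_card_eq _ e) hD1
    · exact Nat.le_of_dvd Nat.card_pos e
  obtain ⟨a₀, ha₀, ha₁⟩ := (Subgroup.bot_or_exists_ne_one E).resolve_left fun e => by
    rw [e, Subgroup.card_bot] at hE3
    exact absurd hE3 (not_lt.mpr (Nat.one_le_pow _ _ hp.out.pos))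
  have hinter : ∀ B B' : Subgroup X, IsPlane p E B → IsPlane p E B' → B ⊓ B' ≠ ⊥ := by
    intro B B' hB hB' h
    have h1 : (B ⊓ B').relIndex E ≤ p * p :=
      Subgroup.relIndex_inf_le.trans (le_of_eq (by rw [hB.2, hB'.2]))
    have h2 := card_mul_relIndex (inf_le_left.trans hB.1 : B ⊓ B' ≤ E)
    rw [h, Subgroup.card_bot, one_mul] at h2
    rw [h] at h1
    rw [h2, ← pow_two] at h1
    exact absurd h1 (not_le.mpr hE3)
  by_cases hV1 : V = ⊥
  · exact ⟨a₀, ha₀, ha₁, hV1 ▸ bot_le⟩
  obtain ⟨B, hB, hB1⟩ : ∃ B, IsPlane p E B ∧ V ⊓ Subgroup.centralizer (B : Set X) ≠ ⊥ := by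
    by_contra hc
    push Not at hc
    exact hV1 (le_bot_iff.mp ((hgen le_rfl hEV).trans (iSup_le fun C => (hc C C.2).le)))
  have hBV : B ≤ Subgroup.normalizer (V : Set X) := hB.1.trans hEV
  set D := ⁅V, B⁆ with hD
  have hDV : D ≤ V := Subgroup.le_normalizer_iff_commutator_le_left.mp hBV
  have hcopB : (Nat.card B).Coprime (Nat.card V) := (hcop le_rfl).coprime_dvd_left (Subgroup.card_dvd_of_le hB.1)
  have hdisj := Basics.inf_centralizer_inf_commutator_eq_bot B V hBV hcopB
  have hEB : E ≤ Subgroup.centralizer (B : Set X) :=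
    (Subgroup.le_centralizer_iff_isMulCommutative.mpr hE.1).trans
      (Subgroup.centralizer_le (SetLike.coe_subset_coe.mpr hB.1))
  have hsup : D ⊔ (V ⊓ Subgroup.centralizer (B : Set X)) = V :=
    Basics.commutator_sup_inf_centralizer B V hBV hcopB (Or.inl (Group.isSolvable_of_comm fun u v =>
      Subtype.ext (ea_commute hE (hB.1 u.2) (hB.1 v.2)).eq))
  have hDs : Nat.card D ≤ s := by
    set C₁ := V ⊓ Subgroup.centralizer (B : Set X)
    have hinj : Function.Injective (fun z : C₁ × D => (⟨(z.1 : X) * z.2, mul_mem z.1.2.1 (hDV z.2.2)⟩ : V)) := by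
      rintro ⟨u, d⟩ ⟨u', d'⟩ h
      have h' : (u : X) * d = u' * d' := congrArg Subtype.val h
      have h1 : (u' : X)⁻¹ * u ∈ C₁ ⊓ D := by
        refine Subgroup.mem_inf.mpr ⟨mul_mem (inv_mem u'.2) u.2, ?_⟩
        have e : (u' : X)⁻¹ * u = d' * (d : X)⁻¹ := by
          rw [inv_mul_eq_iff_eq_mul, ← mul_assoc, ← h', mul_inv_cancel_right]
        rw [e]; exact mul_mem d'.2 (inv_mem d.2)
      rw [hdisj, Subgroup.mem_bot, inv_mul_eq_one] at h1
      exact Prod.ext (Subtype.ext h1.symm) (Subtype.ext (mul_left_cancel (h1 ▸ h')))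
    have h1 := Nat.card_le_card_of_injective _ hinj
    rw [Nat.card_prod] at h1
    have h2 := (Nat.mul_le_mul_right (Nat.card D) (hge (inf_le_left : C₁ ≤ V) hB1)).trans (h1.trans hV)
    rw [pow_two] at h2
    exact Nat.le_of_mul_le_mul_left h2 (Fact.out : s.Prime).pos
  obtain ⟨B', hB', hB'D⟩ : ∃ B', IsPlane p E B' ∧ D ≤ Subgroup.centralizer (B' : Set X) := by
    by_cases hD1 : D = ⊥
    · exact ⟨B, hB, hD1 ▸ bot_le⟩
    have hED : E ≤ Subgroup.normalizer (D : Set X) := le_normalizer_commutator hEV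
      (hEB.trans (Subgroup.centralizer_le_normalizer (B : Set X)))
    obtain ⟨B', hB', hB'1⟩ : ∃ B', IsPlane p E B' ∧ D ⊓ Subgroup.centralizer (B' : Set X) ≠ ⊥ := by
      by_contra hc
      push Not at hc
      exact hD1 (le_bot_iff.mp ((hgen hDV hED).trans (iSup_le fun C => (hc C C.2).le)))
    refine ⟨B', hB', ?_⟩
    exact (Subgroup.eq_of_le_of_card_ge inf_le_left (hDs.trans (hge (inf_le_left.trans hDV) hB'1))).ge.trans
      inf_le_right
  obtain ⟨a, ha, ha1⟩ := (Subgroup.bot_or_exists_ne_one _).resolve_left (hinter B B' hB hB')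
  refine ⟨a, hB.1 ha.1, ha1, ?_⟩
  rw [← hsup]
  exact sup_le (hB'D.trans (le_centralizer_singleton_of_mem ha.2))
    (inf_le_right.trans (le_centralizer_singleton_of_mem ha.1))

theorem exists_centralized_contradiction (S : Setting p E) {s : ℕ} [hs : Fact s.Prime] (hsp : s ≠ p)
    {K : Subgroup G} (hKs : IsPGroup s K) (hEK : E ≤ Subgroup.normalizer (K : Set G)) {H : Subgroup G}
    (hKc : K ≤ coreP s H) (hH : IsCoatom H) (hEH : E ≤ H) (hlow : ∀ t W, ¬ IsHigh p E t H W) (hK1 : K ≠ ⊥)
    (hfix : ∀ a ∈ E, a ≠ 1 → Nat.card ↥(K ⊓ Subgroup.centralizer ({a} : Set G)) < Nat.card K) : False := by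
  have hs2 : s ≠ 2 := by
    refine prime_ne_two S.mss ?_
    rcases hKs.card_eq_or_dvd with e | e
    · exact absurd (Subgroup.eq_bot_of_card_eq _ e) hK1
    · exact e.trans K.card_subgroup_dvd_card
  set N := Subgroup.normalizer (K : Set G) with hN
  set T := K.subgroupOf N with hT
  have hTn : T.Normal := Subgroup.normal_in_normalizer
  obtain ⟨WW, hWWn, P, hPn, hPs, hPcard, hPc, -, hkill⟩ :=
    exists_small_section hs2 (T := T) (hKs.comap_subtype (K := N)) (by
      intro X hX
      by_contra hbig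
      obtain ⟨W, hW⟩ := S.exists_high_of_rank hH hEH (q := s) (X := (X.map T.subtype).map N.subtype)
        (le_trans (by
          rintro _ ⟨_, ⟨x, hx, rfl⟩, rfl⟩
          exact x.2) hKc)
        (ea_map (ea_map hX T.subtype) N.subtype)
        (by
          rw [Subgroup.card_map_of_injective N.subtype_injective, Subgroup.card_map_of_injective T.subtype_injective]
          exact not_le.mp hbig)
      exact hlow s W hW)
  set π := QuotientGroup.mk' WW
  set E' := (E.subgroupOf N).map π with hE'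
  have key : ∀ a : N, (a : G) ∈ E → π a ∈ Subgroup.centralizer (P : Set (N ⧸ WW)) → a = 1 := by
    intro a ha hc
    by_contra ha1
    have ha1' : (a : G) ≠ 1 := fun e => ha1 (Subtype.ext e)
    have hcop : (orderOf a).Coprime s := by
      rw [← Subgroup.orderOf_coe, orderOf_eq_prime (S.ea.2 _ ha) ha1']
      exact (Nat.coprime_primes hp.out hs.out).mpr hsp.symm
    have h1 := hkill a hcop hc
    refine absurd (hfix a ha ha1') (not_lt.mpr (Subgroup.card_le_of_le (le_inf le_rfl fun y hy => ?_)))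
    exact Subgroup.mem_centralizer_singleton_iff.mpr
      (congrArg Subtype.val (Subgroup.mem_centralizer_iff.mp h1 ⟨y, Subgroup.le_normalizer hy⟩ hy))
  have hE'e : IsElementaryAbelian p E' := ea_map
    ⟨⟨⟨fun a b => Subtype.ext (Subtype.ext (ea_commute S.ea a.2 b.2).eq)⟩⟩,
      fun a ha => Subtype.ext (S.ea.2 _ ha)⟩ π
  have hE'3 : p ^ 2 < Nat.card E' := by
    have h := Basics.card_map_mul_card_inf_ker π (E.subgroupOf N)
    have hbot : E.subgroupOf N ⊓ π.ker = ⊥ := by
      rw [eq_bot_iff]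
      rintro a ⟨ha, hk⟩
      refine Subgroup.mem_bot.mpr (key a ha ?_)
      rw [MonoidHom.mem_ker.mp hk]
      exact one_mem _
    rw [hbot, Subgroup.card_bot, mul_one, Basics.card_subgroupOf hEK] at h
    rw [hE', h]
    exact S.three
  obtain ⟨a, ⟨b, hb, rfl⟩, ha1, hPa⟩ := exists_centralizing (E := E') (V := P) hsp hE'e hE'3 hPc hPs hPcard
    (by rw [Subgroup.normalizer_eq_top]; exact le_top)
  refine ha1 ?_
  rw [key b hb (Subgroup.mem_centralizer_iff.mpr fun y hy => Subgroup.mem_centralizer_singleton_iff.mp (hPa hy)), map_one]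

/-- Some maximal subgroup over `E` is high. -/
theorem exists_high (S : Setting p E) : ∃ q M W, IsHigh p E q M W := by
  by_contra hcon
  push Not at hcon
  have hlow : ∀ {H : Subgroup G}, IsCoatom H → E ≤ H → ⁅H, H⁆ ≤ Cfsg.fittingOf H := fun hH hEH =>
    S.commutator_le_fittingOf hH hEH fun t W => hcon t _ W
  have hnc : ¬ IsCyclic E := fun hc => by
    have h1 := card_le_of_cyclic_exponent hp.out.pos hc S.ea.2
    have h2 := lt_of_sq_lt S.three
    omega
  by_cases hall : ∀ Y : Subgroup G, ¬ p ∣ Nat.card Y → E ≤ Subgroup.normalizer (Y : Set G) →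
      Y ≤ Subgroup.centralizer (E : Set G)
  · obtain ⟨x, hx, hx1⟩ := (Subgroup.bot_or_exists_ne_one E).resolve_left S.ne_bot
    obtain ⟨M, hM, hle⟩ := exists_maximal_ge (centralizer_ne_top S.mss hx hx1 (s := (E : Set G)))
    exact S.not_unique (inUniqueMaximal_of_noncyclic S.mss hM (S.le_centralizer.trans hle) S.ea hnc
      (Or.inr fun Y hY => (hall Y (primesNotDvd_iff.mp hY.2.1) hY.2.2).trans hle))
  push Not at hall
  obtain ⟨Y₀, hY₀p, hEY₀, hY₀n⟩ := hall
  have hY₀t : Y₀ ≠ ⊤ := by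
    intro e
    refine hY₀p ?_
    rw [e, Subgroup.card_top]
    exact S.dvd_card
  have hY₀1 : Y₀ ≠ ⊥ := fun e => hY₀n (e ▸ bot_le)
  -- a prime `s` and a nontrivial moved `s`-subgroup
  obtain ⟨N₀, hN₀, hle₀⟩ := exists_maximal_ge (normalizer_ne_top S.mss hY₀1 hY₀t)
  have hEN₀ : E ≤ N₀ := hEY₀.trans hle₀
  have hY₀N : ⁅Y₀, E⁆ ≤ Cfsg.fittingOf N₀ :=
    (Subgroup.commutator_mono (Subgroup.le_normalizer.trans hle₀) hEN₀).trans (hlow hN₀ hEN₀)
  obtain ⟨s, hs, hsp, hsn⟩ : ∃ s : ℕ, s.Prime ∧ s ≠ p ∧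
      ¬ coreP s N₀ ≤ Subgroup.centralizer (E : Set G) := by
    by_contra hc
    push Not at hc
    have h1 : ⁅Y₀, E⁆ ≤ Subgroup.centralizer (E : Set G) := by
      refine le_of_pElements_mem fun r hr b hb hbo => ?_
      have : Fact r.Prime := ⟨hr⟩
      by_cases hrp : r = p
      · obtain ⟨j, hj⟩ := hbo
        have hbY : b ∈ Y₀ := Subgroup.le_normalizer_iff_commutator_le_left.mp hEY₀ hb
        have hcop : (p ^ j).Coprime (Nat.card Y₀) := (hp.out.coprime_iff_not_dvd.mpr hY₀p).pow_left j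
        rw [orderOf_eq_one_iff.mp (Nat.eq_one_of_dvd_coprimes hcop (orderOf_dvd_of_pow_eq_one (hrp ▸ hj))
          (Subgroup.orderOf_dvd_natCard Y₀ hbY))]
        exact one_mem _
      · exact hc r hr hrp (mem_coreP_of_mem_fittingOf (hY₀N hb) hbo)
    have h2 : ⁅⁅Y₀, E⁆, E⁆ = ⊥ := Subgroup.commutator_eq_bot_iff_le_centralizer.mpr h1
    exact hY₀n (Subgroup.le_centralizer_iff.mp (Basics.le_centralizer_of_commutator_commutator_eq_bot E Y₀ hEY₀
      (S.coprime_card hY₀p) (Or.inl (Group.isSolvable_of_comm S.ea.1.is_comm.comm)) h2))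
  have : Fact s.Prime := ⟨hs⟩
  have hcopS : ∀ {X : Subgroup G}, IsPGroup s X → (Nat.card E).Coprime (Nat.card X) := fun hX =>
    S.coprime_card (not_dvd_of_isPGroup hsp hX)
  have hsolE : Group.IsSolvable E := Group.isSolvable_of_comm S.ea.1.is_comm.comm
  obtain ⟨Q, hQ, hcQ⟩ := exists_maxInv_ge (isPGroup_coreP s N₀) (hEN₀.trans (le_normalizer_coreP s N₀))
  obtain ⟨hQs, hEQ⟩ := mem_invSubgroups_singleton.mp hQ.1
  set K := ⁅Q, E⁆ with hK
  have hKQ : K ≤ Q := Subgroup.le_normalizer_iff_commutator_le_left.mp hEQ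
  have hKs : IsPGroup s K := hQs.to_le hKQ
  have hK1 : K ≠ ⊥ := fun e => hsn (hcQ.trans (Subgroup.commutator_eq_bot_iff_le_centralizer.mp e))
  have hKE : ⁅K, E⁆ = K := Basics.commutator_commutator_eq E Q hEQ (hcopS hQs) (Or.inl hsolE)
  have hEK : E ≤ Subgroup.normalizer (K : Set G) :=
    le_normalizer_commutator hEQ Subgroup.le_normalizer
  -- `C(E)` normalizes `K`, and `K` absorbs all moved `s`-subgroups
  obtain ⟨c, hcE, hc1, hcK⟩ : ∃ c ∈ E, c ≠ 1 ∧ K ≤ Subgroup.centralizer ({c} : Set G) := by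
    have hQ1 : Q ≠ ⊥ := fun e => hK1 (le_bot_iff.mp (e ▸ hKQ))
    obtain ⟨H, hH, hNH⟩ := exists_maximal_ge (normalizer_ne_top S.mss hQ1 (pGroup_ne_top S.mss hQs))
    have hKc : K ≤ coreP s H := by
      intro y hy
      refine mem_coreP_of_mem_fittingOf
        (hlow hH (hEQ.trans hNH) ((Subgroup.commutator_mono (Subgroup.le_normalizer.trans hNH) (hEQ.trans hNH)) hy)) ?_
      obtain ⟨j, hj⟩ := hKs ⟨y, hy⟩
      exact ⟨j, congrArg Subtype.val hj⟩
    by_contra hcon'
    push Not at hcon'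
    have hfix : ∀ a ∈ E, a ≠ 1 → Nat.card ↥(K ⊓ Subgroup.centralizer ({a} : Set G)) < Nat.card K :=
      fun a ha ha1 => Basics.card_lt_of_lt (lt_of_le_of_ne inf_le_left fun e =>
        hcon' a ha ha1 (e ▸ inf_le_right))
    exact exists_centralized_contradiction S hsp hKs hEK hKc hH (hEQ.trans hNH)
      (fun t W => hcon t H W) hK1 hfix
  obtain ⟨Hc, hHc, hCHc⟩ := exists_maximal_ge (centralizer_ne_top S.mss rfl hc1 (s := ({c} : Set G)))
  have hCEc : Subgroup.centralizer (E : Set G) ≤ Hc := (le_centralizer_singleton_of_mem hcE).trans hCHc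
  have hEHc : E ≤ Hc := S.le_centralizer.trans hCEc
  have habs : ∀ {X : Subgroup G}, IsPGroup s X → E ≤ Subgroup.normalizer (X : Set G) →
      ∃ k ∈ Subgroup.centralizer (E : Set G), ⁅X, E⁆ ≤ K.map (MulAut.conj k).toMonoidHom := by
    intro X hX hEX
    obtain ⟨R, hR, hXR⟩ := exists_maxInv_ge hX hEX
    obtain ⟨k, hk, rfl⟩ := S.conjugate hsp hQ hR
    refine ⟨k, hk, ?_⟩
    have hEk : E.map (MulAut.conj k).toMonoidHom = E := by
      ext y
      constructor
      · rintro ⟨a, ha, rfl⟩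
        change k * a * k⁻¹ ∈ E
        rw [← Subgroup.mem_centralizer_iff.mp hk a ha, mul_inv_cancel_right]
        exact ha
      · intro hy
        refine ⟨y, hy, ?_⟩
        change k * y * k⁻¹ = y
        rw [← Subgroup.mem_centralizer_iff.mp hk y hy, mul_inv_cancel_right]
    calc ⁅X, E⁆ ≤ ⁅Q.map (MulAut.conj k).toMonoidHom, E.map (MulAut.conj k).toMonoidHom⁆ := by
          rw [hEk]; exact Subgroup.commutator_mono hXR le_rfl
      _ = K.map (MulAut.conj k).toMonoidHom := (Subgroup.map_commutator _ _ _).symm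
  have hKJ : K = ⁅coreP s Hc, E⁆ := by
    obtain ⟨k, -, hle⟩ := habs (isPGroup_coreP s Hc) (hEHc.trans (le_normalizer_coreP s Hc))
    have hKc : K ≤ coreP s Hc := by
      intro y hy
      refine mem_coreP_of_mem_fittingOf
        (hlow hHc hEHc ((Subgroup.commutator_mono (hcK.trans hCHc) hEHc) (hKE.ge hy))) ?_
      obtain ⟨j, hj⟩ := hKs ⟨y, hy⟩
      exact ⟨j, congrArg Subtype.val hj⟩
    refine Subgroup.eq_of_le_of_card_ge (hKE.ge.trans (Subgroup.commutator_mono hKc le_rfl)) ?_
    refine (Subgroup.card_le_of_le hle).trans (le_of_eq ?_)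
    exact Subgroup.card_map_of_injective (MulAut.conj k).injective
  have hCK : Subgroup.centralizer (E : Set G) ≤ Subgroup.normalizer (K : Set G) := by
    rw [hKJ]
    exact le_normalizer_commutator (hCEc.trans (le_normalizer_coreP s Hc))
      (Subgroup.centralizer_le_normalizer (E : Set G))
  have habsK : ∀ {X : Subgroup G}, IsPGroup s X → E ≤ Subgroup.normalizer (X : Set G) → ⁅X, E⁆ ≤ K := by
    intro X hX hEX
    obtain ⟨k, hk, hle⟩ := habs hX hEX
    exact hle.trans (Subgroup.mem_normalizer_iff_map_conj_eq.mp (hCK hk)).le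
  -- `K` is generated by its moved plane pieces
  set P' := ⨆ B : {B : Subgroup G // IsPlane p E B}, ⁅K ⊓ Subgroup.centralizer ((B : Subgroup G) : Set G), E⁆
    with hP'
  have hKB : ∀ B : {B : Subgroup G // IsPlane p E B},
      E ≤ Subgroup.normalizer ((K ⊓ Subgroup.centralizer ((B : Subgroup G) : Set G) : Subgroup G) : Set G) :=
    fun B => le_normalizer_inf_centralizer hEK (S.le_centralizer_of_le B.2.1)
  have hgen : K ≤ P' := by
    set C := K ⊓ Subgroup.centralizer (E : Set G) with hC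
    have hnorm : ∀ x ∈ Subgroup.normalizer (K : Set G), x ∈ Subgroup.centralizer (E : Set G) →
        x ∈ Subgroup.normalizer (P' : Set G) := by
      intro x hx hxE
      rw [Subgroup.mem_normalizer_iff_map_conj_eq, hP']
      change Subgroup.map (MulAut.conj x).toMonoidHom _ = _
      rw [Subgroup.map_iSup]
      refine iSup_congr fun B => ?_
      refine Subgroup.mem_normalizer_iff_map_conj_eq.mp
        (le_normalizer_commutator (H := Subgroup.normalizer (K : Set G) ⊓ Subgroup.centralizer (E : Set G))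
          (le_normalizer_inf_centralizer inf_le_left (inf_le_right.trans (Subgroup.centralizer_le
            (SetLike.coe_subset_coe.mpr B.2.1))))
          (inf_le_right.trans (Subgroup.centralizer_le_normalizer (E : Set G))) ⟨hx, hxE⟩)
    have hEP : E ≤ Subgroup.normalizer (P' : Set G) := fun x hx => hnorm x (hEK hx) (S.le_centralizer hx)
    have hCP : C ≤ Subgroup.normalizer (P' : Set G) := fun x hx => hnorm x (Subgroup.le_normalizer hx.1) hx.2
    have h1 : K ≤ P' ⊔ C := by
      refine (S.le_iSup_planes (not_dvd_of_isPGroup hsp hKs) hEK).trans (iSup_le fun B => ?_)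
      conv_lhs => rw [← Basics.commutator_sup_inf_centralizer E _ (hKB B) (hcopS (hKs.to_le inf_le_left))
        (Or.inl hsolE)]
      exact sup_le (le_sup_of_le_left (le_iSup (fun B : {B : Subgroup G // IsPlane p E B} =>
        ⁅K ⊓ Subgroup.centralizer ((B : Subgroup G) : Set G), E⁆) B))
        (le_sup_of_le_right (inf_le_inf_right _ inf_le_left))
    rw [← hKE, Subgroup.commutator_le]
    intro y hy a ha
    obtain ⟨u, hu, v, hv, rfl⟩ := (Basics.mem_sup_of_le_normalizer hCP).mp (h1 hy)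
    have hva : v * a = a * v := (Subgroup.mem_centralizer_iff.mp hv.2 a ha).symm
    have e : ⁅u * v, a⁆ = u * (a * u⁻¹ * a⁻¹) := by
      calc ⁅u * v, a⁆ = u * (v * a) * v⁻¹ * u⁻¹ * a⁻¹ := by rw [commutatorElement_def]; group
        _ = u * (a * v) * v⁻¹ * u⁻¹ * a⁻¹ := by rw [hva]
        _ = u * (a * u⁻¹ * a⁻¹) := by group
    rw [e]
    exact mul_mem hu ((Subgroup.mem_normalizer_iff.mp (hEP ha) _).mp (inv_mem hu))
  -- every invariant `p'`-subgroup normalizes `K`
  have hall : ∀ Y : Subgroup G, ¬ p ∣ Nat.card Y → E ≤ Subgroup.normalizer (Y : Set G) →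
      Y ≤ Subgroup.normalizer (K : Set G) := by
    intro Y hY hEY
    refine (S.le_iSup_planes hY hEY).trans (iSup_le fun B => ?_)
    set YB := Y ⊓ Subgroup.centralizer ((B : Subgroup G) : Set G)
    intro y hy
    suffices h1 : ∀ z ∈ YB, K.map (MulAut.conj z).toMonoidHom ≤ K by
      rw [Subgroup.mem_normalizer_iff_map_conj_eq]
      exact Subgroup.eq_of_le_of_card_ge (h1 y hy)
        (le_of_eq (Subgroup.card_map_of_injective (MulAut.conj y).injective).symm)
    intro z hz
    refine (Subgroup.map_mono hgen).trans ?_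
    rw [hP', Subgroup.map_iSup]
    refine iSup_le fun B' => ?_
    obtain ⟨d, hd, hd1⟩ := (Subgroup.bot_or_exists_ne_one _).resolve_left (S.plane_inter_ne_bot B.2 B'.2)
    obtain ⟨Hd, hHd, hCHd⟩ := exists_maximal_ge (centralizer_ne_top S.mss rfl hd1 (s := ({d} : Set G)))
    have hCEd : Subgroup.centralizer (E : Set G) ≤ Hd :=
      (le_centralizer_singleton_of_mem (B.2.1 hd.1)).trans hCHd
    have hEHd : E ≤ Hd := S.le_centralizer.trans hCEd
    set KB := K ⊓ Subgroup.centralizer ((B' : Subgroup G) : Set G)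
    set J := ⁅coreP s Hd, E⁆ with hJ
    have hJK : J ≤ K := habsK (isPGroup_coreP s Hd) (hEHd.trans (le_normalizer_coreP s Hd))
    have hKBH : KB ≤ Hd := (inf_le_right.trans (le_centralizer_singleton_of_mem hd.2)).trans hCHd
    have hKBc : ⁅KB, E⁆ ≤ J := by
      have hKBs : IsPGroup s KB := hKs.to_le inf_le_left
      rw [← Basics.commutator_commutator_eq E KB (hKB B') (hcopS hKBs) (Or.inl hsolE)]
      refine Subgroup.commutator_mono (fun w hw => ?_) le_rfl
      refine mem_coreP_of_mem_fittingOf (hlow hHd hEHd (Subgroup.commutator_mono hKBH hEHd hw)) ?_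
      obtain ⟨j, hj⟩ := hKBs ⟨w, Subgroup.le_normalizer_iff_commutator_le_left.mp (hKB B') hw⟩
      exact ⟨j, congrArg Subtype.val hj⟩
    have hnJ : Cfsg.fittingOf Hd ≤ Subgroup.normalizer (J : Set G) := by
      rw [fittingOf_eq_iSup]
      refine iSup_le fun r => ?_
      have : Fact (r : ℕ).Prime := ⟨r.2⟩
      by_cases hrs : (r : ℕ) = s
      · rw [hrs, hJ]; exact Subgroup.normalizer_commutator_ge_left _ _
      · intro w hw
        refine Subgroup.centralizer_le_normalizer (J : Set G) (Subgroup.mem_centralizer_iff.mpr fun v hv => ?_)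
        exact (commute_coreP (Ne.symm hrs) (Subgroup.le_normalizer_iff_commutator_le_left.mp
          (hEHd.trans (le_normalizer_coreP s Hd)) hv) hw).eq
    have hzJ : z ∈ Subgroup.normalizer (J : Set G) := by
      have hYBH : YB ≤ Hd := (inf_le_right.trans (le_centralizer_singleton_of_mem hd.1)).trans hCHd
      have hYBn : E ≤ Subgroup.normalizer (YB : Set G) :=
        le_normalizer_inf_centralizer hEY (S.le_centralizer_of_le B.2.1)
      have hle : YB ≤ Subgroup.normalizer (J : Set G) := by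
        rw [← Basics.commutator_sup_inf_centralizer E YB hYBn
          (S.coprime_card fun hd' => hY (hd'.trans (Subgroup.card_dvd_of_le inf_le_left))) (Or.inl hsolE)]
        refine sup_le (((Subgroup.commutator_mono hYBH hEHd).trans (hlow hHd hEHd)).trans hnJ) ?_
        refine inf_le_right.trans ?_
        rw [hJ]
        exact le_normalizer_commutator (hCEd.trans (le_normalizer_coreP s Hd))
          (Subgroup.centralizer_le_normalizer (E : Set G))
      exact hle hz
    calc (⁅KB, E⁆).map (MulAut.conj z).toMonoidHom ≤ J.map (MulAut.conj z).toMonoidHom := Subgroup.map_mono hKBc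
      _ = J := Subgroup.mem_normalizer_iff_map_conj_eq.mp hzJ
      _ ≤ K := hJK
  obtain ⟨M, hM, hle⟩ := exists_maximal_ge (normalizer_ne_top S.mss hK1 (pGroup_ne_top S.mss hKs))
  exact S.not_unique (inUniqueMaximal_of_noncyclic S.mss hM (hEK.trans hle) S.ea hnc
    (Or.inr fun Y hY => (hall Y (primesNotDvd_iff.mp hY.2.1) hY.2.2).trans hle))

/-- The main contradiction. -/
theorem false_of_setting (S : Setting p E) : False := by
  obtain ⟨q₀, M₀, W₀, h₀⟩ := S.exists_high
  have hb : ∀ q, (∃ M W, IsHigh p E q M W) → q ≤ Nat.card G := by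
    rintro q ⟨M, W, h⟩
    have : Fact q.Prime := ⟨h.prime⟩
    rcases (isPGroup_high h).card_eq_or_dvd with e | e
    · exact absurd (Subgroup.eq_bot_of_card_eq _ e) fun e' => h.nc (by rw [e']; infer_instance)
    · exact Nat.le_of_dvd Nat.card_pos (e.trans W.card_subgroup_dvd_card)
  classical
  obtain ⟨q, ⟨M, W, h⟩, hmax⟩ : ∃ q, (∃ M W, IsHigh p E q M W) ∧ ∀ t, (∃ M W, IsHigh p E t M W) → t ≤ q :=
    ⟨Nat.findGreatest (fun q => ∃ M W, IsHigh p E q M W) (Nat.card G),
      Nat.findGreatest_spec (P := fun q => ∃ M W, IsHigh p E q M W) (hb q₀ ⟨M₀, W₀, h₀⟩) ⟨M₀, W₀, h₀⟩,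
      fun t ht => Nat.le_findGreatest (hb t ht) ht⟩
  obtain ⟨B₀, -, hB, -, -, hL, -⟩ := S.exists_two_lines h
  have hnc : ¬ IsCyclic E := fun hc => by
    have h1 := card_le_of_cyclic_exponent hp.out.pos hc S.ea.2
    have h2 := lt_of_sq_lt S.three
    omega
  refine S.not_unique (inUniqueMaximal_of_noncyclic S.mss h.coatom h.le S.ea hnc (Or.inr fun Y hY => ?_))
  have hYp := primesNotDvd_iff.mp hY.2.1
  refine (S.le_iSup_planes hYp hY.2.2).trans (iSup_le fun B => ?_)
  obtain ⟨c, hc, hc1⟩ := (Subgroup.bot_or_exists_ne_one _).resolve_left (S.plane_inter_ne_bot hB B.2)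
  obtain ⟨H, hH, hCH⟩ := exists_maximal_ge (centralizer_ne_top S.mss rfl hc1 (s := ({c} : Set G)))
  have hEH : E ≤ H := (S.le_centralizer.trans (le_centralizer_singleton_of_mem (hB.1 hc.1))).trans hCH
  have hYH : Y ⊓ Subgroup.centralizer ((B : Subgroup G) : Set G) ≤ H :=
    (inf_le_right.trans (le_centralizer_singleton_of_mem hc.2)).trans hCH
  have hLH : W ⊓ Subgroup.centralizer (B₀ : Set G) ≤ H :=
    (inf_le_right.trans (le_centralizer_singleton_of_mem hc.1)).trans hCH
  by_cases hHM : H = M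
  · exact hHM ▸ hYH
  by_cases hlow : ∀ r X, ¬ IsHigh p E r H X
  · exact (S.member_le hH.1 hEH hYH (fun hd => hYp (hd.trans (Subgroup.card_dvd_of_le inf_le_left)))
      (le_normalizer_inf_centralizer hY.2.2 (S.le_centralizer_of_le B.2.1))).trans
      (S.low_le h hH hEH hlow hB hL hLH)
  · push Not at hlow
    obtain ⟨r, X, hX⟩ := hlow
    exact absurd hLH (S.no_foreign_high h (fun t H' V hV => hmax t ⟨H', V, hV⟩) hX hHM hB hL)

end Setting

end Cfsg.Agent.OddLocal
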