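import Cfsg.Agent.Lib.OddLocal.FixPoint

/-! Weights of an abelian normal subgroup in a representation where a prime order element has at most a line of
fixed vectors. -/

set_option autoImplicit false
set_option maxHeartbeats 800000

namespace Cfsg.Agent.OddLocal

universe u v

variable {k : Type v} [Field k] {W : Type u} [AddCommGroup W] [Module k W] [FiniteDimensional k W]
variable {X : Type*} [Group X]
open scoped Classical

/-- The conjugate of a weight. -/
def conjWeight (A : Subgroup X) [A.Normal] (g : X) (χ : A → k) : A → k := fun a => χ ((MulAut.conjNormal g⁻¹ : MulAut A) a)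

theorem conjWeight_one (A : Subgroup X) [A.Normal] (χ : A → k) : conjWeight A 1 χ = χ := by
  funext a
  simp [conjWeight]

theorem conjWeight_mul (A : Subgroup X) [A.Normal] (g h : X) (χ : A → k) :
    conjWeight A (g * h) χ = conjWeight A g (conjWeight A h χ) := by
  funext a
  simp [conjWeight, mul_inv_rev, map_mul, MulAut.mul_apply]

/-- The action of the group on weights. -/
@[instance_reducible]
def weightAction (A : Subgroup X) [A.Normal] : MulAction X (A → k) where
  smul g χ := conjWeight A g χ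
  one_smul χ := conjWeight_one A χ
  mul_smul g h χ := conjWeight_mul A g h χ

variable (ρ : X →* Module.End k W) (A : Subgroup X)

/-- The weight space. -/
def weightSpace (χ : A → k) : Submodule k W := ⨅ a : A, Module.End.eigenspace (ρ (a : X)) (χ a)

omit [FiniteDimensional k W] in
theorem mem_weightSpace {χ : A → k} {w : W} : w ∈ weightSpace ρ A χ ↔ ∀ a : A, ρ a w = χ a • w := by
  simp [weightSpace, Submodule.mem_iInf]

omit [FiniteDimensional k W] in
theorem map_weightSpace [A.Normal] {χ : A → k} {w : W} (hw : w ∈ weightSpace ρ A χ) (g : X) :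
    ρ g w ∈ weightSpace ρ A (conjWeight A g χ) := by
  rw [mem_weightSpace] at hw ⊢
  intro a
  have h := hw ((MulAut.conjNormal g⁻¹ : MulAut A) a)
  rw [MulAut.conjNormal_apply] at h
  rw [← Module.End.mul_apply, ← map_mul, show (a : X) * g = g * (g⁻¹ * a * g⁻¹⁻¹) by group, map_mul,
    Module.End.mul_apply, h, map_smul]
  rfl

omit [FiniteDimensional k W] in
theorem weight_mul {χ : A → k} (hχ : weightSpace ρ A χ ≠ ⊥) (a b : A) : χ (a * b) = χ a * χ b := by
  obtain ⟨w, hw, hw0⟩ := Submodule.exists_mem_ne_zero_of_ne_bot hχ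
  rw [mem_weightSpace] at hw
  have h := hw (a * b)
  rw [Subgroup.coe_mul, map_mul, Module.End.mul_apply, hw b, map_smul, hw a, smul_smul] at h
  have := smul_left_injective k hw0 h
  rw [← this, mul_comm]

omit [FiniteDimensional k W] in
theorem weight_one {χ : A → k} (hχ : weightSpace ρ A χ ≠ ⊥) : χ 1 = 1 := by
  obtain ⟨w, hw, hw0⟩ := Submodule.exists_mem_ne_zero_of_ne_bot hχ
  have h := (mem_weightSpace ρ A).mp hw 1
  rw [Subgroup.coe_one, map_one, Module.End.one_apply] at h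
  exact (smul_left_injective k hw0 (h.symm.trans (one_smul k w).symm))

/-- The weights of a commutative subgroup acting nontrivially include a nontrivial one. -/
theorem exists_weight [IsAlgClosed k] [Finite A] (hA : IsMulCommutative A) (h0 : (Nat.card A : k) ≠ 0)
    {a0 : A} (ha0 : ρ a0 ≠ 1) : ∃ χ : A → k, weightSpace ρ A χ ≠ ⊥ ∧ ∃ a, χ a ≠ 1 := by
  have hf : ρ a0 ^ Nat.card A = 1 := by
    rw [← map_pow, ← Subgroup.coe_pow, pow_card_eq_one', Subgroup.coe_one, map_one]
  obtain ⟨μ, hμ, hμ1⟩ : ∃ μ : k, Module.End.eigenspace (ρ a0) μ ≠ ⊥ ∧ μ ≠ 1 := by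
    by_contra h
    push Not at h
    refine ha0 (LinearMap.ext fun w => ?_)
    have hle : (⊤ : Submodule k W) ≤ Module.End.eigenspace (ρ a0) 1 := by
      rw [← iSup_eigenspace_eq_top (ρ a0) h0 hf, iSup_le_iff]
      intro μ
      rcases eq_or_ne (Module.End.eigenspace (ρ a0) μ) ⊥ with e | e
      · rw [e]; exact bot_le
      · rw [h μ e]
    simpa using Module.End.mem_eigenspace_iff.mp (hle (Submodule.mem_top : w ∈ ⊤))
  have hinv : ∀ a : A, ∀ w ∈ Module.End.eigenspace (ρ a0) μ, ρ a w ∈ Module.End.eigenspace (ρ a0) μ := by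
    intro a w hw
    rw [Module.End.mem_eigenspace_iff] at hw ⊢
    rw [← Module.End.mul_apply, ← map_mul, ← Subgroup.coe_mul, hA.is_comm.comm, Subgroup.coe_mul, map_mul,
      Module.End.mul_apply, hw, map_smul]
  obtain ⟨U, ⟨hU0, hUle, hUinv⟩, hUmin⟩ := exists_minimal_of_wellFoundedLT
    (fun U : Submodule k W => U ≠ ⊥ ∧ U ≤ Module.End.eigenspace (ρ a0) μ ∧ ∀ a : A, ∀ w ∈ U, ρ a w ∈ U)
    ⟨_, hμ, le_rfl, hinv⟩
  have : Nontrivial U := Submodule.nontrivial_iff_ne_bot.mpr hU0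
  have hsc : ∀ a : A, ∃ c : k, ∀ w ∈ U, ρ a w = c • w := by
    intro a
    obtain ⟨c, hc⟩ := Module.End.exists_eigenvalue (LinearMap.restrict (ρ a) (hUinv a))
    obtain ⟨v, hv, hv0⟩ := hc.exists_hasEigenvector
    rw [Module.End.mem_eigenspace_iff] at hv
    have h1 : U ⊓ Module.End.eigenspace (ρ a) c = U := le_antisymm inf_le_left (hUmin
      ⟨Submodule.ne_bot_iff _ |>.mpr ⟨v, ⟨v.2, Module.End.mem_eigenspace_iff.mpr (congrArg Subtype.val hv)⟩,
          fun e => hv0 (Subtype.ext e)⟩, inf_le_left.trans hUle, fun b w hw => ⟨hUinv b w hw.1, by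
        have hw2 := Module.End.mem_eigenspace_iff.mp hw.2
        rw [SetLike.mem_coe, Module.End.mem_eigenspace_iff, ← Module.End.mul_apply, ← map_mul, ← Subgroup.coe_mul,
          hA.is_comm.comm, Subgroup.coe_mul, map_mul, Module.End.mul_apply, hw2, map_smul]⟩⟩ inf_le_left)
    exact ⟨c, fun w hw => Module.End.mem_eigenspace_iff.mp (h1.ge hw).2⟩
  choose χ hχ using hsc
  obtain ⟨w, hw, hw0⟩ := Submodule.exists_mem_ne_zero_of_ne_bot hU0
  refine ⟨χ, Submodule.ne_bot_iff _ |>.mpr ⟨w, (mem_weightSpace ρ A).mpr fun a => hχ a w hw, hw0⟩, a0, ?_⟩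
  have h := hχ a0 w hw
  rw [Module.End.mem_eigenspace_iff.mp (hUle hw)] at h
  exact smul_left_injective k hw0 h ▸ hμ1

omit [FiniteDimensional k W] in
/-- Projection to a weight space. -/
theorem sum_weight [Fintype A] {χ ψ : A → k} (hχ : weightSpace ρ A χ ≠ ⊥) {w : W} (hw : w ∈ weightSpace ρ A ψ) :
    ∑ a : A, (χ a⁻¹) • ρ a w = if ψ = χ then (Fintype.card A : k) • w else 0 := by
  classical
  rw [mem_weightSpace] at hw
  simp only [hw, smul_smul, ← Finset.sum_smul]
  split_ifs with h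
  · subst h
    simp [← weight_mul ρ A hχ, weight_one ρ A hχ]
  · rcases eq_or_ne w 0 with rfl | hw0
    · simp
    have hψ : weightSpace ρ A ψ ≠ ⊥ := Submodule.ne_bot_iff _ |>.mpr ⟨w, (mem_weightSpace ρ A).mpr hw, hw0⟩
    obtain ⟨b, hb⟩ : ∃ b, χ b⁻¹ * ψ b ≠ 1 := by
      by_contra hne
      push Not at hne
      refine h (funext fun b => ?_)
      have h1 := hne b
      have h2 : χ b * χ b⁻¹ = 1 := by rw [← weight_mul ρ A hχ, mul_inv_cancel, weight_one ρ A hχ]
      calc ψ b = (χ b * χ b⁻¹) * ψ b := by rw [h2, one_mul]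
        _ = χ b := by rw [mul_assoc, h1, mul_one]
    have h1 : ∑ a : A, χ a⁻¹ * ψ a = (χ b⁻¹ * ψ b) * ∑ a : A, χ a⁻¹ * ψ a := by
      conv_lhs => rw [← Equiv.sum_comp (Equiv.mulRight b) (fun a : A => χ a⁻¹ * ψ a)]
      rw [Finset.mul_sum]
      refine Finset.sum_congr rfl fun a _ => ?_
      rw [Equiv.coe_mulRight, mul_inv_rev, weight_mul ρ A hχ, weight_mul ρ A hψ]
      ring
    have h2 : (χ b⁻¹ * ψ b - 1) * ∑ a : A, χ a⁻¹ * ψ a = 0 := by rw [sub_mul, one_mul, ← h1, sub_self]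
    rw [(mul_eq_zero.mp h2).resolve_left (sub_ne_zero.mpr hb), zero_smul]

section Line

variable [A.Normal] {t : X} {r : ℕ} [hr : Fact r.Prime] (htr : t ^ r = 1) {u : W}
  (hline : ∀ v : W, ρ t v = v → v ∈ Submodule.span k {u})

include htr

omit [FiniteDimensional k W] in
theorem fixed_of_pow {χ : A → k} {i : ℕ} (hi : ¬ r ∣ i) (h : conjWeight A (t ^ i) χ = χ) : conjWeight A t χ = χ := by
  let _ := weightAction (k := k) A
  have hs : t ^ i ∈ MulAction.stabilizer X χ := h
  obtain ⟨m, hm⟩ := exists_pow_eq_self_of_coprime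
    (((hr.out.coprime_iff_not_dvd.mpr hi).symm.coprime_dvd_right (orderOf_dvd_of_pow_eq_one htr)))
  have hst : t ∈ MulAction.stabilizer X χ := hm ▸ pow_mem hs m
  exact hst

omit [FiniteDimensional k W] in
theorem sum_pow_fixed (w : W) :
    ρ t (∑ i ∈ Finset.range r, ρ (t ^ i) w) = ∑ i ∈ Finset.range r, ρ (t ^ i) w := by
  simp only [map_sum, ← Module.End.mul_apply, ← map_mul, ← pow_succ']
  have h1 := Finset.sum_range_succ' (fun i => ρ (t ^ i) w) r
  rw [Finset.sum_range_succ, htr, pow_zero] at h1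
  exact (add_right_cancel h1).symm

omit [FiniteDimensional k W] in
/-- Projection of an orbit sum onto the first weight. -/
theorem proj_sum [Fintype A] {χ : A → k} (hfree : conjWeight A t χ ≠ χ) (hχ : weightSpace ρ A χ ≠ ⊥) {w : W}
    (hw : w ∈ weightSpace ρ A χ) :
    ∑ a : A, (χ a⁻¹) • ρ a (∑ i ∈ Finset.range r, ρ (t ^ i) w) = (Fintype.card A : k) • w := by
  simp only [map_sum, Finset.smul_sum]
  rw [Finset.sum_comm, Finset.sum_eq_single 0]
  · simp [sum_weight ρ A hχ hw]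
  · intro i hi hi0
    rw [sum_weight ρ A hχ (map_weightSpace ρ A hw (t ^ i)), if_neg]
    intro e
    exact hfree (fixed_of_pow A htr (fun hd => (Finset.mem_range.mp hi).not_ge
      (Nat.le_of_dvd (Nat.pos_of_ne_zero hi0) hd)) e)
  · exact fun h => absurd (Finset.mem_range.mpr hr.out.pos) h

omit [FiniteDimensional k W] in
theorem proj_sum_zero [Fintype A] {χ ψ : A → k} (hχ : weightSpace ρ A χ ≠ ⊥) {w : W}
    (hw : w ∈ weightSpace ρ A ψ) (hne : ∀ i : ℕ, conjWeight A (t ^ i) ψ ≠ χ) :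
    ∑ a : A, (χ a⁻¹) • ρ a (∑ i ∈ Finset.range r, ρ (t ^ i) w) = 0 := by
  simp only [map_sum, Finset.smul_sum]
  rw [Finset.sum_comm]
  refine Finset.sum_eq_zero fun i _ => ?_
  rw [sum_weight ρ A hχ (map_weightSpace ρ A hw (t ^ i)), if_neg (hne i)]

include hline

omit [FiniteDimensional k W] in
/-- A moved weight space is a line. -/
theorem free_weight_line [Finite A] (h0 : (Nat.card A : k) ≠ 0) {χ : A → k} (hfree : conjWeight A t χ ≠ χ)
    {w w' : W} (hw : w ∈ weightSpace ρ A χ) (hw' : w' ∈ weightSpace ρ A χ) (hw0 : w ≠ 0) :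
    w' ∈ Submodule.span k {w} := by
  have := Fintype.ofFinite A
  have h0' : (Fintype.card A : k) ≠ 0 := by rwa [← Nat.card_eq_fintype_card]
  have hχ : weightSpace ρ A χ ≠ ⊥ := Submodule.ne_bot_iff _ |>.mpr ⟨w, hw, hw0⟩
  obtain ⟨c, hc⟩ := Submodule.mem_span_singleton.mp (hline _ (sum_pow_fixed ρ htr w))
  obtain ⟨c', hc'⟩ := Submodule.mem_span_singleton.mp (hline _ (sum_pow_fixed ρ htr w'))
  have h1 := proj_sum ρ A htr hfree hχ hw
  have h2 := proj_sum ρ A htr hfree hχ hw'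
  simp only [← hc, map_smul, smul_comm _ c, ← Finset.smul_sum] at h1
  simp only [← hc', map_smul, smul_comm _ c', ← Finset.smul_sum] at h2
  have hcne : c ≠ 0 := by
    intro e
    rw [e, zero_smul] at h1
    exact hw0 ((smul_eq_zero.mp h1.symm).resolve_left h0')
  refine Submodule.mem_span_singleton.mpr ⟨c' * c⁻¹, ?_⟩
  refine (smul_right_injective W h0') ?_
  simp only []
  rw [smul_comm, ← h1, smul_smul, mul_assoc, inv_mul_cancel₀ hcne, mul_one, h2]

omit [FiniteDimensional k W] in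
/-- There is only one orbit of moved weights. -/
theorem free_orbit_unique [Finite A] (h0 : (Nat.card A : k) ≠ 0) {χ ψ : A → k} (hfree : conjWeight A t χ ≠ χ)
    (hfree' : conjWeight A t ψ ≠ ψ) (hχ : weightSpace ρ A χ ≠ ⊥) (hψ : weightSpace ρ A ψ ≠ ⊥) :
    ∃ i : ℕ, conjWeight A (t ^ i) ψ = χ := by
  by_contra hne
  push Not at hne
  have := Fintype.ofFinite A
  have h0' : (Fintype.card A : k) ≠ 0 := by rwa [← Nat.card_eq_fintype_card]
  obtain ⟨w, hw, hw0⟩ := Submodule.exists_mem_ne_zero_of_ne_bot hχ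
  obtain ⟨v, hv, hv0⟩ := Submodule.exists_mem_ne_zero_of_ne_bot hψ
  obtain ⟨c, hc⟩ := Submodule.mem_span_singleton.mp (hline _ (sum_pow_fixed ρ htr w))
  obtain ⟨d, hd⟩ := Submodule.mem_span_singleton.mp (hline _ (sum_pow_fixed ρ htr v))
  have h1 := proj_sum ρ A htr hfree hχ hw
  have h3 := proj_sum ρ A htr hfree' hψ hv
  have h2 := proj_sum_zero ρ A htr hχ hv hne
  simp only [← hc, map_smul, smul_comm _ c, ← Finset.smul_sum] at h1
  simp only [← hd, map_smul, smul_comm _ d, ← Finset.smul_sum] at h2 h3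
  rcases smul_eq_zero.mp h2 with e | e
  · rw [e, zero_smul] at h3
    exact hv0 ((smul_eq_zero.mp h3.symm).resolve_left h0')
  · rw [e, smul_zero] at h1
    exact hw0 ((smul_eq_zero.mp h1.symm).resolve_left h0')

omit [FiniteDimensional k W] in
/-- A `p`-group without fixed weights cannot exist. -/
theorem false_of_no_fixed_weight [Finite X] [Finite A] (h0 : (Nat.card A : k) ≠ 0) {p : ℕ} [hp : Fact p.Prime]
    (hp2 : p ≠ 2) (hr2 : r ≠ 2) (hpr : p ≠ r) {P : Subgroup X} (hP : IsPGroup p P)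
    (htP : t ∈ Subgroup.normalizer (P : Set X)) (hfpf : ∀ a ∈ P, t * a = a * t → a = 1)
    {χ : A → k} (hχ : weightSpace ρ A χ ≠ ⊥) (hχ1 : ∃ a, χ a ≠ 1)
    (hPfix : ∀ ψ : A → k, weightSpace ρ A ψ ≠ ⊥ → (∀ a ∈ P, conjWeight A a ψ = ψ) → ∀ a, ψ a = 1) : False := by
  classical
  let _ := weightAction (k := k) A
  -- nontrivial weights
  have hsp : ∀ (g : X) (ψ : A → k), weightSpace ρ A ψ ≠ ⊥ → weightSpace ρ A (g • ψ) ≠ ⊥ := by
    intro g ψ hψ
    obtain ⟨w, hw, hw0⟩ := Submodule.exists_mem_ne_zero_of_ne_bot hψ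
    refine Submodule.ne_bot_iff _ |>.mpr ⟨ρ g w, map_weightSpace ρ A hw g, fun e => hw0 ?_⟩
    have := congrArg (ρ g⁻¹) e
    rwa [← Module.End.mul_apply, ← map_mul, inv_mul_cancel, map_one, map_zero] at this
  have hnt : ∀ (g : X) (ψ : A → k), (∃ a, ψ a ≠ 1) → ∃ a, (g • ψ) a ≠ 1 := by
    rintro g ψ ⟨a, ha⟩
    exact ⟨(MulAut.conjNormal g : MulAut A) a, by
      change ψ ((MulAut.conjNormal g⁻¹ : MulAut A) ((MulAut.conjNormal g : MulAut A) a)) ≠ 1
      rw [← MulAut.mul_apply, ← map_mul, inv_mul_cancel, map_one, MulAut.one_apply]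
      exact ha⟩
  -- some moved weight
  obtain ⟨ψ, hψ, hψ1, hψfree⟩ : ∃ ψ : A → k, weightSpace ρ A ψ ≠ ⊥ ∧ (∃ a, ψ a ≠ 1) ∧ t • ψ ≠ ψ := by
    by_contra h
    push Not at h
    refine hχ1.elim fun a0 ha0 => ha0 (hPfix χ hχ (fun a ha => ?_) a0)
    change a • χ = χ
    -- `a⁻¹ t a t⁻¹` fixes `χ`
    have h1 : ∀ b : X, b • χ = χ → b ∈ MulAction.stabilizer X χ := fun b hb => hb
    let S := (MulAction.stabilizer X χ).subgroupOf P
    have ht : t • χ = χ := h χ hχ hχ1
    let g : S → S := fun b => ⟨⟨((b : P) : X)⁻¹ * (t * (b : P) * t⁻¹), mul_mem (inv_mem (b : P).2)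
      ((Subgroup.mem_normalizer_iff.mp htP _).mp (b : P).2)⟩, by
        rw [Subgroup.mem_subgroupOf, MulAction.mem_stabilizer_iff]
        have hb : ((b : P) : X) • χ = χ := b.2
        rw [mul_smul, mul_smul, mul_smul, inv_smul_eq_iff.mpr ht.symm, hb, ht, inv_smul_eq_iff.mpr hb.symm]⟩
    have hg : Function.Injective g := by
      intro b c e
      have e1 : ((b : P) : X)⁻¹ * (t * (b : P) * t⁻¹) = ((c : P) : X)⁻¹ * (t * (c : P) * t⁻¹) :=
        congrArg (fun x : S => ((x : P) : X)) e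
      have h2 : t * (((c : P) : X) * ((b : P) : X)⁻¹) = ((c : P) : X) * ((b : P) : X)⁻¹ * t := by
        calc t * (((c : P) : X) * ((b : P) : X)⁻¹)
            = (c : P) * (((c : P) : X)⁻¹ * (t * (c : P) * t⁻¹)) * (((b : P) : X)⁻¹ * (t * (b : P) * t⁻¹))⁻¹ *
              ((b : P) : X)⁻¹ * t := by group
          _ = _ := by rw [e1]; group
      have h3 := hfpf _ (mul_mem (c : P).2 (inv_mem (b : P).2)) h2
      exact (Subtype.ext (Subtype.ext (mul_inv_eq_one.mp h3))).symm
    have hfix : t • (a • χ) = a • χ := h _ (hsp a χ hχ) (hnt a χ hχ1)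
    obtain ⟨b, hb⟩ := (Finite.injective_iff_surjective.mp hg)
      ⟨⟨a⁻¹ * (t * a * t⁻¹), mul_mem (inv_mem ha) ((Subgroup.mem_normalizer_iff.mp htP _).mp ha)⟩, by
        rw [Subgroup.mem_subgroupOf, MulAction.mem_stabilizer_iff]
        simp only [mul_smul]
        rw [inv_smul_eq_iff.mpr ht.symm, hfix, inv_smul_smul]⟩
    have e1 : ((b : P) : X)⁻¹ * (t * (b : P) * t⁻¹) = a⁻¹ * (t * a * t⁻¹) := congrArg (fun x : S => ((x : P) : X)) hb
    have h2 : t * (a * ((b : P) : X)⁻¹) = a * ((b : P) : X)⁻¹ * t := by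
      calc t * (a * ((b : P) : X)⁻¹)
          = a * (a⁻¹ * (t * a * t⁻¹)) * (((b : P) : X)⁻¹ * (t * (b : P) * t⁻¹))⁻¹ * ((b : P) : X)⁻¹ * t := by group
        _ = _ := by rw [e1]; group
    rw [mul_inv_eq_one.mp (hfpf _ (mul_mem ha (inv_mem (b : P).2)) h2)]
    exact b.2
  -- the moved weights form one orbit
  let T := Subgroup.zpowers t
  have huniq : ∀ φ : A → k, weightSpace ρ A φ ≠ ⊥ → (∃ a, φ a ≠ 1) → t • φ ≠ φ → φ ∈ MulAction.orbit T ψ := by
    intro φ h1 _ h3
    obtain ⟨i, hi⟩ := free_orbit_unique ρ A htr hline h0 h3 hψfree h1 hψ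
    exact ⟨⟨t ^ i, Subgroup.npow_mem_zpowers t i⟩, hi⟩
  have ht1 : t ≠ 1 := fun e => hψfree (by rw [e, one_smul])
  have hT : Nat.card T = r := by rw [Nat.card_zpowers, orderOf_eq_prime htr ht1]
  have horb : Nat.card (MulAction.orbit T ψ) = r := by
    have h1 := (MulAction.index_stabilizer T ψ).trans (Nat.card_coe_set_eq _).symm
    have h2 : (MulAction.stabilizer T ψ).index ∣ r := hT ▸ Subgroup.index_dvd_card _
    rcases hr.out.eq_one_or_self_of_dvd _ h2 with e | e
    · exfalso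
      apply hψfree
      have h3 : (⟨t, Subgroup.mem_zpowers t⟩ : T) ∈ MulAction.stabilizer T ψ :=
        (Subgroup.index_eq_one.mp e).symm ▸ Subgroup.mem_top _
      exact h3
    · rw [← h1, e]
  have hmem : ∀ φ ∈ MulAction.orbit T ψ, weightSpace ρ A φ ≠ ⊥ ∧ (∃ a, φ a ≠ 1) ∧ t • φ ≠ φ := by
    rintro φ ⟨⟨s, hs⟩, rfl⟩
    refine ⟨hsp s ψ hψ, hnt s ψ hψ1, fun e => hψfree ?_⟩
    have hcomm : Commute t s := by
      obtain ⟨n, rfl⟩ := hs
      exact (Commute.refl t).zpow_right n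
    change t • (s • ψ) = s • ψ at e
    rw [← mul_smul, hcomm.eq, mul_smul] at e
    exact smul_left_cancel s e
  by_cases hall : ∀ a ∈ P, ∀ φ ∈ MulAction.orbit T ψ, a • φ ∈ MulAction.orbit T ψ
  · let _ : MulAction P (MulAction.orbit T ψ) :=
      { smul := fun a φ => ⟨(a : X) • φ.1, hall a a.2 φ φ.2⟩
        one_smul := fun φ => Subtype.ext (one_smul X φ.1)
        mul_smul := fun a b φ => Subtype.ext (mul_smul (a : X) b φ.1) }
    have : Finite (MulAction.orbit T ψ) := Nat.finite_of_card_ne_zero (horb ▸ hr.out.ne_zero)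
    have hmod := hP.card_modEq_card_fixedPoints (MulAction.orbit T ψ)
    rw [horb] at hmod
    have hempty : MulAction.fixedPoints P (MulAction.orbit T ψ) = ∅ := by
      ext φ
      simp only [MulAction.mem_fixedPoints, Set.mem_empty_iff_false, iff_false]
      intro hf
      obtain ⟨h1, ⟨a, ha⟩, -⟩ := hmem φ φ.2
      exact ha (hPfix φ.1 h1 (fun b hb => congrArg Subtype.val (hf ⟨b, hb⟩)) a)
    rw [hempty] at hmod
    simp at hmod
    exact hpr ((Nat.prime_dvd_prime_iff_eq hp.out hr.out).mp ((Nat.modEq_zero_iff_dvd).mp hmod))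
  · push Not at hall
    obtain ⟨a, ha, φ, hφ, hnot⟩ := hall
    obtain ⟨h1, h2, -⟩ := hmem φ hφ
    set χ0 := a • φ
    have hf : t • χ0 = χ0 := by
      by_contra e
      exact hnot (huniq _ (hsp a φ h1) (hnt a φ h2) e)
    have hχ0 : weightSpace ρ A χ0 ≠ ⊥ ∧ (∃ b, χ0 b ≠ 1) := ⟨hsp a φ h1, hnt a φ h2⟩
    -- the `P`-orbit of the fixed weight
    have hO : MulAction.orbit P χ0 = insert χ0 (MulAction.orbit T ψ) := by
      refine Set.Subset.antisymm ?_ (Set.insert_subset (MulAction.mem_orbit_self χ0) ?_)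
      · rintro _ ⟨⟨b, hb⟩, rfl⟩
        change b • χ0 ∈ _
        by_cases e : t • (b • χ0) = b • χ0
        · left
          -- `b⁻¹ t b t⁻¹` fixes `χ0`
          let S := (MulAction.stabilizer X χ0).subgroupOf P
          let g : S → S := fun c => ⟨⟨((c : P) : X)⁻¹ * (t * (c : P) * t⁻¹), mul_mem (inv_mem (c : P).2)
            ((Subgroup.mem_normalizer_iff.mp htP _).mp (c : P).2)⟩, by
              rw [Subgroup.mem_subgroupOf, MulAction.mem_stabilizer_iff]
              have hc : ((c : P) : X) • χ0 = χ0 := c.2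
              rw [mul_smul, mul_smul, mul_smul, inv_smul_eq_iff.mpr hf.symm, hc, hf, inv_smul_eq_iff.mpr hc.symm]⟩
          have hg : Function.Injective g := by
            intro c d e'
            have e1 : ((c : P) : X)⁻¹ * (t * (c : P) * t⁻¹) = ((d : P) : X)⁻¹ * (t * (d : P) * t⁻¹) :=
              congrArg (fun x : S => ((x : P) : X)) e'
            have h2 : t * (((d : P) : X) * ((c : P) : X)⁻¹) = ((d : P) : X) * ((c : P) : X)⁻¹ * t := by
              calc t * (((d : P) : X) * ((c : P) : X)⁻¹)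
                  = (d : P) * (((d : P) : X)⁻¹ * (t * (d : P) * t⁻¹)) * (((c : P) : X)⁻¹ * (t * (c : P) * t⁻¹))⁻¹ *
                    ((c : P) : X)⁻¹ * t := by group
                _ = _ := by rw [e1]; group
            have h3 := hfpf _ (mul_mem (d : P).2 (inv_mem (c : P).2)) h2
            exact (Subtype.ext (Subtype.ext (mul_inv_eq_one.mp h3))).symm
          obtain ⟨c, hc⟩ := (Finite.injective_iff_surjective.mp hg)
            ⟨⟨b⁻¹ * (t * b * t⁻¹), mul_mem (inv_mem hb) ((Subgroup.mem_normalizer_iff.mp htP _).mp hb)⟩, by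
              rw [Subgroup.mem_subgroupOf, MulAction.mem_stabilizer_iff]
              simp only [mul_smul]
              rw [inv_smul_eq_iff.mpr hf.symm, e, inv_smul_smul]⟩
          have e1 : ((c : P) : X)⁻¹ * (t * (c : P) * t⁻¹) = b⁻¹ * (t * b * t⁻¹) :=
            congrArg (fun x : S => ((x : P) : X)) hc
          have h2 : t * (b * ((c : P) : X)⁻¹) = b * ((c : P) : X)⁻¹ * t := by
            calc t * (b * ((c : P) : X)⁻¹)
                = b * (b⁻¹ * (t * b * t⁻¹)) * (((c : P) : X)⁻¹ * (t * (c : P) * t⁻¹))⁻¹ * ((c : P) : X)⁻¹ * t := by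
                  group
              _ = _ := by rw [e1]; group
          rw [mul_inv_eq_one.mp (hfpf _ (mul_mem hb (inv_mem (c : P).2)) h2)]
          exact c.2
        · exact Or.inr (huniq _ (hsp b χ0 hχ0.1) (hnt b χ0 hχ0.2) e)
      · rintro _ ⟨⟨s, hs⟩, rfl⟩
        change s • ψ ∈ _
        -- a non fixed member of the `P`-orbit exists
        obtain ⟨b, hb, hbne⟩ : ∃ b ∈ P, b • χ0 ≠ χ0 := by
          by_contra hcon
          push Not at hcon
          obtain ⟨c, hc⟩ := hχ0.2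
          exact hc (hPfix χ0 hχ0.1 hcon c)
        obtain ⟨c, hc⟩ := hχ0.2
        have hmove : t • (b • χ0) ≠ b • χ0 ∨ t • (b • χ0) = b • χ0 := (em _).symm.imp id id
        have hstab : ∀ y : X, y ∈ T → ∀ d ∈ P, y • (d • χ0) ∈ MulAction.orbit P χ0 := by
          intro y hy d hd
          have hyP : y ∈ Subgroup.normalizer (P : Set X) := Subgroup.zpowers_le.mpr htP hy
          have hyf : y • χ0 = χ0 := Subgroup.zpowers_le.mpr (show t ∈ MulAction.stabilizer X χ0 from hf) hy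
          refine ⟨⟨y * d * y⁻¹, (Subgroup.mem_normalizer_iff.mp hyP d).mp hd⟩, ?_⟩
          change (y * d * y⁻¹) • χ0 = _
          rw [mul_smul, inv_smul_eq_iff.mpr hyf.symm, mul_smul]
        have hφO : φ ∈ MulAction.orbit P χ0 := ⟨⟨a⁻¹, inv_mem ha⟩, inv_smul_smul a φ⟩
        obtain ⟨⟨s', hs'⟩, rfl⟩ := hφ
        obtain ⟨⟨d, hd⟩, hdφ⟩ := hφO
        have h3 := hstab (s * s'⁻¹) (mul_mem hs (inv_mem hs')) d hd
        have e : d • χ0 = s' • ψ := hdφ
        rwa [e, ← mul_smul, inv_mul_cancel_right] at h3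
    have hχ0n : χ0 ∉ MulAction.orbit T ψ := hnot
    have hfinO : (MulAction.orbit T ψ).Finite := Set.finite_of_ncard_pos (by
      rw [← Nat.card_coe_set_eq, horb]; exact hr.out.pos)
    have hcard : (MulAction.orbit P χ0).ncard = r + 1 := by
      rw [hO, Set.ncard_insert_of_notMem hχ0n hfinO, ← Nat.card_coe_set_eq, horb]
    have hdvd : (MulAction.orbit P χ0).ncard ∣ Nat.card P := by
      rw [← MulAction.index_stabilizer]
      exact Subgroup.index_dvd_card _
    obtain ⟨n, hn⟩ := IsPGroup.iff_card.mp hP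
    rw [hn, hcard] at hdvd
    have hodd : Odd (r + 1) := ((hp.out.odd_of_ne_two hp2).pow).of_dvd_nat hdvd
    exact (Nat.not_odd_iff_even.mpr ((hr.out.odd_of_ne_two hr2).add_one)) hodd

end Line

end Cfsg.Agent.OddLocal
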